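import Groth.Agent.Lib.ModM1.Coh
import Groth.Agent.Lib.ModM1.Stalk
import Groth.Agent.Lib.ModM1.Exact
import Groth.Prelude.Def_Cyc
import Mathlib.RingTheory.HopkinsLevitzki
import Mathlib.AlgebraicGeometry.Morphisms.ClosedImmersion

/-! # Stalks of coherent modules and their lengths -/

universe u v

open CategoryTheory AlgebraicGeometry TopologicalSpace Opposite

namespace Groth.Agent.Cyc26

open Groth.Agent.M1

variable {X : Scheme.{u}}

/-- In a locally Noetherian scheme the maximal points of a closed set lying in a given affine open are finitely many. -/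
theorem finite_maximal_points [IsLocallyNoetherian X] {S : Set X} (hS : IsClosed S) {U : X.Opens} (hU : IsAffineOpen U) :
    {ξ : X | ξ ∈ S ∧ (∀ y ∈ S, y ⤳ ξ → y = ξ) ∧ ξ ∈ U}.Finite := by
  haveI : IsNoetherianRing Γ(X, U) := IsLocallyNoetherian.component_noetherian ⟨U, hU⟩
  haveI hNS : NoetherianSpace (U : Set X) := noetherianSpace_of_isAffineOpen U hU
  haveI : QuasiSober (U : Set X) := U.2.isOpenEmbedding_subtypeVal.quasiSober
  let W : Set (U : Set X) := {y | y.1 ∈ S}
  have hW : IsClosed W := hS.preimage continuous_subtype_val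
  haveI : QuasiSober W := hW.isClosedEmbedding_subtypeVal.quasiSober
  haveI : NoetherianSpace W := hW.isClosedEmbedding_subtypeVal.isInducing.noetherianSpace
  refine Set.Finite.of_finite_image (f := fun ξ => {y : W | ξ ⤳ y.1.1})
    ((NoetherianSpace.finite_irreducibleComponents (α := W)).subset ?_) ?_
  · rintro _ ⟨ξ, ⟨hξS, hξ, hξU⟩, rfl⟩
    let w : W := ⟨⟨ξ, hξU⟩, hξS⟩
    have e : {y : W | ξ ⤳ y.1.1} = closure {w} := by
      ext y
      rw [← specializes_iff_mem_closure, subtype_specializes_iff, subtype_specializes_iff]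
      rfl
    show {y : W | ξ ⤳ y.1.1} ∈ irreducibleComponents W
    rw [e]
    refine ⟨isIrreducible_singleton.closure, fun T hT hle => ?_⟩
    obtain ⟨η, hη⟩ := QuasiSober.sober hT.closure isClosed_closure
    have h1 : η ⤳ w := specializes_iff_mem_closure.2
      ((hη : closure {η} = closure T).symm ▸ subset_closure (hle (subset_closure rfl)))
    have h2 : η = w := Subtype.ext (Subtype.ext (hξ _ η.2
      ((subtype_specializes_iff _ _).1 ((subtype_specializes_iff _ _).1 h1))))
    intro t ht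
    have h3 : t ∈ closure {η} := (hη : closure {η} = closure T).symm ▸ subset_closure ht
    rwa [h2] at h3
  · intro a ha b hb e
    exact hb.2.1 a ha.1 ((Set.ext_iff.1 e ⟨⟨b, hb.2.2⟩, hb.1⟩).2 specializes_rfl)

/-- The irreducible components of a closed subset of a locally Noetherian scheme form a locally finite family. -/
theorem locallyFinite_components [IsLocallyNoetherian X] {S : Set X} (hS : IsClosed S) :
    LocallyFinite (fun Z : irreducibleComponents S => ((↑) '' (Z : Set S) : Set X)) := by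
  intro x
  obtain ⟨U, hU, hxU, -⟩ := exists_isAffineOpen_mem_and_subset (x := x) (U := ⊤) trivial
  refine ⟨U, U.2.mem_nhds hxU, ?_⟩
  haveI : QuasiSober S := hS.isClosedEmbedding_subtypeVal.quasiSober
  have key : ∀ Z : irreducibleComponents S, ∃ ξ : S, closure {ξ} = (Z : Set S) ∧ ∀ y ∈ S, y ⤳ (ξ : X) → y = ξ := by
    intro Z
    obtain ⟨ξ, hξ⟩ := QuasiSober.sober Z.2.1 (isClosed_of_mem_irreducibleComponents _ Z.2)
    refine ⟨ξ, hξ, fun y hy h => ?_⟩
    have h' : (⟨y, hy⟩ : S) ⤳ ξ := (subtype_specializes_iff _ _).2 h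
    have hle : (Z : Set S) ≤ closure {(⟨y, hy⟩ : S)} := (hξ : closure {ξ} = _) ▸ specializes_iff_closure_subset.1 h'
    have heq := Z.2.2 (isIrreducible_singleton.closure) hle
    exact congrArg Subtype.val
      (Inseparable.eq (Specializes.antisymm (specializes_iff_closure_subset.2 ((hξ : closure {ξ} = _).symm ▸ heq)) h')).symm
  choose g hg hgmax using key
  refine Set.Finite.of_finite_image (f := fun Z => ((g Z : S) : X)) ((finite_maximal_points hS hU).subset ?_) ?_
  · rintro _ ⟨Z, ⟨a, ⟨z, hz, rfl⟩, haU⟩, rfl⟩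
    refine ⟨(g Z).2, hgmax Z, ?_⟩
    have hz' : g Z ⤳ z := specializes_iff_mem_closure.2 (by rw [hg Z]; exact hz)
    exact ((subtype_specializes_iff _ _).1 hz').mem_open U.2 haU
  · intro Z _ Z' _ e
    exact Subtype.ext ((hg Z).symm.trans (by rw [Subtype.ext e, hg Z']))

/-- Stalks of coherent modules have finite length at the maximal points of the support. -/
theorem length_stalk_ne_top [IsLocallyNoetherian X] {F : X.Modules} (hF : Coh.IsCoh F) {ξ : X}
    (hmax : ∀ y : X, Nontrivial (F.presheaf.stalk y) → y ⤳ ξ → y = ξ) :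
    Module.length (X.presheaf.stalk ξ) (F.presheaf.stalk ξ) ≠ ⊤ := by
  classical
  haveI := hF.1
  have hFT : CohB1.IsFT F := isFP_isFT (isFP_of_isCoh hF)
  obtain ⟨U, hU, hξU, -⟩ := exists_isAffineOpen_mem_and_subset (x := ξ) (U := ⊤) trivial
  haveI : Module.Finite Γ(X, U) Γ(F, U) := finite_sections hF.1 hFT hU
  let A := Module.annihilator Γ(X, U) Γ(F, U)
  letI : Algebra Γ(X, U) (X.presheaf.stalk ξ) := (X.presheaf.germ U ξ hξU).hom.toAlgebra
  haveI : IsLocalization.AtPrime (X.presheaf.stalk ξ) (hU.primeIdealOf ⟨ξ, hξU⟩).asIdeal :=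
    hU.isLocalization_stalk ⟨ξ, hξU⟩
  have hkill : ∀ a ∈ A, ∀ m : F.presheaf.stalk ξ, X.presheaf.germ U ξ hξU a • m = 0 := by
    intro a ha m
    obtain ⟨r, s, hr, h⟩ := exists_germ_smul_eq F hU hξU m
    have h1 : X.presheaf.germ U ξ hξU a • (X.presheaf.germ U ξ hξU r • m) = 0 := by
      rw [h, ← germ_smul, Module.mem_annihilator.1 ha s, map_zero]
    rw [smul_comm] at h1
    exact (IsUnit.smul_eq_zero hr).1 h1
  haveI := finite_stalk hF.1 hFT ξ
  haveI : IsNoetherianRing (X.presheaf.stalk ξ) := inferInstance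
  set I := A.map (algebraMap Γ(X, U) (X.presheaf.stalk ξ))
  have hIle : I ≤ Module.annihilator (X.presheaf.stalk ξ) (F.presheaf.stalk ξ) :=
    Ideal.map_le_iff_le_comap.2 fun a ha => Module.mem_annihilator.2 (hkill a ha)
  haveI : Ring.KrullDimLE 0 (X.presheaf.stalk ξ ⧸ I) := by
    rw [Ring.krullDimLE_zero_iff]
    intro q hq
    let q' := q.comap (Ideal.Quotient.mk I)
    haveI : q'.IsPrime := hq.comap _
    let p : PrimeSpectrum Γ(X, U) := ⟨q'.comap (algebraMap Γ(X, U) (X.presheaf.stalk ξ)), inferInstance⟩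
    have hAp : A ≤ p.asIdeal := fun a ha => by
      show Ideal.Quotient.mk I (algebraMap _ _ a) ∈ q
      rw [Ideal.Quotient.eq_zero_iff_mem.2 (Ideal.mem_map_of_mem _ ha)]
      exact zero_mem _
    have hyU : hU.fromSpec p ∈ U := hU.range_fromSpec.subset ⟨p, rfl⟩
    have hple : p ≤ hU.primeIdealOf ⟨ξ, hξU⟩ := by
      show p.asIdeal ≤ _
      rw [← IsLocalization.AtPrime.comap_maximalIdeal (X.presheaf.stalk ξ) (hU.primeIdealOf ⟨ξ, hξU⟩).asIdeal]
      exact Ideal.comap_mono (IsLocalRing.le_maximalIdeal ‹q'.IsPrime›.ne_top)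
    have hspec : hU.fromSpec p ⤳ ξ := by
      have e : hU.fromSpec (hU.primeIdealOf ⟨ξ, hξU⟩) = ξ := hU.fromSpec_primeIdealOf _
      rw [← e]
      exact ((PrimeSpectrum.le_iff_specializes _ _).1 hple).map hU.fromSpec.continuous
    have hnt : Nontrivial (F.presheaf.stalk (hU.fromSpec p)) := by
      have hp : hU.primeIdealOf ⟨hU.fromSpec p, hyU⟩ = p :=
        hU.fromSpec.isOpenEmbedding.injective (hU.fromSpec_primeIdealOf _)
      have hmem : p ∈ Module.support Γ(X, U) Γ(F, U) := by
        rw [Module.support_eq_zeroLocus]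
        exact hAp
      rw [Module.mem_support_iff] at hmem
      letI := stalkModule F hyU
      have hloc := isLocalizedModule_germ F hU hyU
      rw [hp] at hloc
      exact (IsLocalizedModule.iso p.asIdeal.primeCompl (germₗ F hyU)).toEquiv.symm.nontrivial
    have hpeq : p = hU.primeIdealOf ⟨ξ, hξU⟩ := by
      refine hU.fromSpec.isOpenEmbedding.injective ?_
      rw [hU.fromSpec_primeIdealOf]
      exact hmax _ hnt hspec
    have hq' : q' = IsLocalRing.maximalIdeal _ := by
      refine (IsLocalization.orderEmbedding (hU.primeIdealOf ⟨ξ, hξU⟩).asIdeal.primeCompl (X.presheaf.stalk ξ)).injective ?_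
      show q'.comap _ = Ideal.comap _ _
      exact (congrArg PrimeSpectrum.asIdeal hpeq).trans
        (IsLocalization.AtPrime.comap_maximalIdeal (X.presheaf.stalk ξ) (hU.primeIdealOf ⟨ξ, hξU⟩).asIdeal).symm
    have : (q'.map (Ideal.Quotient.mk I)).IsMaximal := by
      haveI : q'.IsMaximal := hq' ▸ IsLocalRing.maximalIdeal.isMaximal _
      refine (Ideal.map_eq_top_or_isMaximal_of_surjective _ Ideal.Quotient.mk_surjective ‹_›).resolve_left ?_
      rw [Ideal.map_comap_of_surjective _ Ideal.Quotient.mk_surjective]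
      exact hq.ne_top
    rwa [Ideal.map_comap_of_surjective _ Ideal.Quotient.mk_surjective] at this
  haveI : IsArtinianRing (X.presheaf.stalk ξ ⧸ I) := isArtinianRing_iff_krullDimLE_zero.2 inferInstance
  have hT : Module.IsTorsionBySet (X.presheaf.stalk ξ) (F.presheaf.stalk ξ) (I : Set (X.presheaf.stalk ξ)) :=
    fun m a => Module.mem_annihilator.1 (hIle a.2) m
  letI := hT.module
  haveI := hT.isScalarTower (S := X.presheaf.stalk ξ)
  haveI : Module.Finite (X.presheaf.stalk ξ ⧸ I) (F.presheaf.stalk ξ) :=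
    Module.Finite.of_restrictScalars_finite (X.presheaf.stalk ξ) _ _
  rw [Module.length_eq_of_surjective (S := X.presheaf.stalk ξ) (R := X.presheaf.stalk ξ ⧸ I) Ideal.Quotient.mk_surjective, Module.length_ne_top_iff,
    isFiniteLength_iff_isNoetherian_isArtinian]
  exact ⟨inferInstance, inferInstance⟩

/-- The linear map on stalks of a morphism of modules. -/
noncomputable def stalkLin {M N : X.Modules} (φ : M ⟶ N) (x : X) :
    M.presheaf.stalk x →ₗ[X.presheaf.stalk x] N.presheaf.stalk x where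
  toFun := (stalkAb x).map φ
  map_add' := map_add ((stalkAb x).map φ).hom
  map_smul' r a := by
    obtain ⟨V, hxV, r, rfl⟩ := X.presheaf.exists_germ_eq r
    obtain ⟨W, hxW, a, rfl⟩ := M.presheaf.exists_germ_eq a
    have e1 : X.presheaf.germ V x hxV r = X.presheaf.germ (V ⊓ W) x ⟨hxV, hxW⟩ (ores inf_le_left r) :=
      (X.presheaf.germ_res_apply (homOfLE inf_le_left) x ⟨hxV, hxW⟩ r).symm
    have e2 : M.presheaf.germ W x hxW a = M.presheaf.germ (V ⊓ W) x ⟨hxV, hxW⟩ (mres M inf_le_right a) :=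
      (germ_mres M inf_le_right _ a).symm
    simp only [RingHom.id_apply]
    rw [e1, e2, ← germ_smul, germ_naturality, germ_naturality, Scheme.Modules.Hom.app_smul, germ_smul]

theorem stalkLin_exact {T : ShortComplex X.Modules} (hT : T.ShortExact) (x : X) :
    Function.Injective (stalkLin T.f x) ∧ Function.Exact (stalkLin T.f x) (stalkLin T.g x) ∧
      Function.Surjective (stalkLin T.g x) := by
  have h := hT.map_of_exact (stalkAb x)
  exact ⟨h.ab_injective_f, (ShortComplex.ab_exact_iff_function_exact _).1 h.exact, h.ab_surjective_g⟩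

theorem sheafFun_shortExact [IsLocallyNoetherian X] {δ : X → ℤ} (hd : Cyc.IsDimFun X δ) (k : ℤ)
    {T : ShortComplex X.Modules} (hT : T.ShortExact) (h₁ : Coh.IsCoh T.X₁) (h₃ : Coh.IsCoh T.X₃)
    (hdim : ∀ x : X, Nontrivial (T.X₂.presheaf.stalk x) → δ x ≤ k) :
    Cyc.sheafFun δ k T.X₂ = Cyc.sheafFun δ k T.X₁ + Cyc.sheafFun δ k T.X₃ := by
  funext x
  simp only [Cyc.sheafFun, Pi.add_apply]
  split_ifs with hx
  swap
  · rw [add_zero]
  obtain ⟨hi, he, hs⟩ := stalkLin_exact hT x
  have hmax : ∀ y : X, Nontrivial (T.X₂.presheaf.stalk y) → y ⤳ x → y = x := fun y hy h => by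
    by_contra hne
    have h1 := (hd y x h hne).1
    have h2 := hdim y hy
    omega
  have hn1 : ∀ y, Nontrivial (T.X₁.presheaf.stalk y) → Nontrivial (T.X₂.presheaf.stalk y) := fun y hy =>
    (stalkLin_exact hT y).1.nontrivial
  have hn3 : ∀ y, Nontrivial (T.X₃.presheaf.stalk y) → Nontrivial (T.X₂.presheaf.stalk y) := fun y hy =>
    (stalkLin_exact hT y).2.2.nontrivial
  have f1 := length_stalk_ne_top h₁ fun y hy => hmax y (hn1 y hy)
  have f3 := length_stalk_ne_top h₃ fun y hy => hmax y (hn3 y hy)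
  rw [Module.length_eq_add_of_exact _ _ hi hs he, ENat.toNat_add f1 f3]
  push_cast; rfl

theorem length_eq_of_semilinear {R S M N : Type*} [Ring R] [Ring S] [AddCommGroup M] [AddCommGroup N] [Module R M]
    [Module S N] (σ : R →+* S) (hσ : Function.Surjective σ) (e : M ≃+ N) (he : ∀ r m, e (r • m) = σ r • e m) :
    Module.length R M = Module.length S N := by
  letI : Module R N := Module.compHom N σ
  rw [LinearEquiv.length_eq (R := R) { e with map_smul' := he }]
  let o : Submodule R N ≃o Submodule S N :=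
    { toFun := fun p => { p with smul_mem' := fun s n hn => by obtain ⟨r, rfl⟩ := hσ s; exact p.smul_mem r hn }
      invFun := fun p => { p with smul_mem' := fun r n hn => p.smul_mem (σ r) hn }
      left_inv := fun p => rfl
      right_inv := fun p => rfl
      map_rel_iff' := Iff.rfl }
  have := Order.krullDim_eq_of_orderIso o
  rw [← Module.coe_length, ← Module.coe_length, WithBot.coe_inj] at this
  exact this

theorem structureModule_stalk_bijective {Z : Scheme.{u}} (z : Z) :
    Function.Bijective fun r : Z.presheaf.stalk z =>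
      r • ((Coh.structureModule Z).presheaf.germ ⊤ z trivial (one ⊤) : (Coh.structureModule Z).presheaf.stalk z) := by
  have hone : ∀ (W : Z.Opens) (hz : z ∈ W), (Coh.structureModule Z).presheaf.germ ⊤ z trivial (one ⊤) =
      (Coh.structureModule Z).presheaf.germ W z hz (one W) := fun W hz => by
    rw [← mres_one (le_top : W ≤ ⊤)]
    exact (germ_mres _ le_top hz _).symm
  have hmul : ∀ (W : Z.Opens) (r : Γ(Z, W)), r • one W = (r : Γ(Coh.structureModule Z, W)) :=
    fun W r => mul_one r
  constructor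
  · intro a b e
    rw [← sub_eq_zero]
    obtain ⟨W, hzW, r, hr⟩ := Z.presheaf.exists_germ_eq (a - b)
    have h0 : Z.presheaf.germ W z hzW r • ((Coh.structureModule Z).presheaf.germ W z hzW (one W)) = 0 := by
      rw [hr, ← hone, sub_smul]
      exact sub_eq_zero.2 e
    rw [← germ_smul, hmul, ← map_zero ((Coh.structureModule Z).presheaf.germ W z hzW).hom] at h0
    obtain ⟨W', hz', i₁, i₂, h'⟩ := (Coh.structureModule Z).presheaf.germ_eq z hzW hzW _ _ h0
    rw [map_zero] at h'
    rw [← hr, ← Z.presheaf.germ_res_apply i₁ z hz' r,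
      show Z.presheaf.map i₁.op r = 0 from h', map_zero]
  · intro a
    obtain ⟨W, hzW, m, rfl⟩ := (Coh.structureModule Z).presheaf.exists_germ_eq a
    refine ⟨Z.presheaf.germ W z hzW m, ?_⟩
    simp only
    rw [hone W hzW, ← germ_smul, hmul]

theorem subsingleton_stalk_push {Z : Scheme.{u}} (i : Z ⟶ X) (M : Z.Modules) {x : X} (W : X.Opens) (hx : x ∈ W)
    (hW : ∀ z : Z, i z ∉ W) : Subsingleton (((Coh.push i).obj M).presheaf.stalk x) := by
  refine subsingleton_of_forall_eq 0 fun a => ?_
  obtain ⟨V, hxV, m, rfl⟩ := ((Coh.push i).obj M).presheaf.exists_germ_eq a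
  rw [← germ_mres _ (inf_le_left : V ⊓ W ≤ V) ⟨hxV, hx⟩]
  have : mres ((Coh.push i).obj M) (inf_le_left : V ⊓ W ≤ V) m = 0 :=
    section_ext (M := M) (U := i ⁻¹ᵁ (V ⊓ W)) _ _ fun z hz => (hW z hz.2).elim
  rw [this, map_zero]

theorem length_stalk_push_closedImmersion {Z : Scheme.{u}} (i : Z ⟶ X) [IsClosedImmersion i] (M : Z.Modules) (z : Z) :
    Module.length (X.presheaf.stalk (i z)) (((Coh.push i).obj M).presheaf.stalk (i z)) =
      Module.length (Z.presheaf.stalk z) (M.presheaf.stalk z) := by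
  let φ : ((Coh.push i).obj M).presheaf.stalk (i z) ⟶ M.presheaf.stalk z :=
    TopCat.Presheaf.stalkPushforward AddCommGrpCat.{u} i.base M.presheaf z
  haveI : IsIso φ := TopCat.Presheaf.stalkPushforward.stalkPushforward_iso_of_isInducing AddCommGrpCat.{u}
    (f := i.base) i.isClosedEmbedding.isInducing M.presheaf z
  refine length_eq_of_semilinear (i.stalkMap z).hom (i.stalkMap_surjective z) (asIso φ).addCommGroupIsoToAddEquiv ?_
  intro r a
  obtain ⟨V, hV, r, rfl⟩ := X.presheaf.exists_germ_eq r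
  obtain ⟨W, hW, m, rfl⟩ := ((Coh.push i).obj M).presheaf.exists_germ_eq a
  rw [← X.presheaf.germ_res_apply (homOfLE inf_le_left) (i z) (show i z ∈ V ⊓ W from ⟨hV, hW⟩) r,
    ← germ_mres ((Coh.push i).obj M) (inf_le_right : V ⊓ W ≤ W) ⟨hV, hW⟩ m, ← germ_smul]
  have hgerm : ∀ t, φ (((Coh.push i).obj M).presheaf.germ (V ⊓ W) (i z) ⟨hV, hW⟩ t) =
      M.presheaf.germ (i ⁻¹ᵁ (V ⊓ W)) z ⟨hV, hW⟩ t :=
    fun t => ConcreteCategory.congr_hom
      (TopCat.Presheaf.stalkPushforward_germ AddCommGrpCat.{u} i.base M.presheaf (V ⊓ W) z ⟨hV, hW⟩) t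
  show φ _ = (i.stalkMap z) _ • φ _
  rw [hgerm, hgerm, Scheme.Hom.germ_stalkMap_apply, ← germ_smul]
  rfl

end Groth.Agent.Cyc26
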