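import Groth.Agent.Lib.UCat26.FlatRel
import Groth.Agent.Lib.ModM1.Coh
import Groth.Agent.Lib.ModM1.Push
import Groth.Agent.Lib.DPerf.Noeth
import Groth.Agent.Lib.Cyc26.Stalk
import Groth.Prelude.Def_ChowK

/-! # Direct images along finite morphisms -/

set_option autoImplicit false
universe u

set_option backward.isDefEq.respectTransparency.types false

open CategoryTheory AlgebraicGeometry Groth.Agent.M1

namespace Groth.Agent.Cyc26

variable {X Y : Scheme.{u}} (π : X ⟶ Y)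

theorem isCoh_push_finite [IsFinite π] {F : X.Modules} (hF : Coh.IsCoh F) : Coh.IsCoh ((Coh.push π).obj F) := by
  have hq : Coh.IsQCoh ((Coh.push π).obj F) := M1.isQCoh_push π hF.1
  refine DPerf.isCoh_of_isFT_of_isQCoh hq (M1.isFT_of_finite_sections hq fun U hU => ?_)
  letI : Algebra Γ(Y, U) Γ(X, π ⁻¹ᵁ U) := (π.app U).hom.toAlgebra
  haveI h1 : Module.Finite Γ(Y, U) Γ(X, π ⁻¹ᵁ U) := π.finite_app U hU
  haveI h2 : Module.Finite Γ(X, π ⁻¹ᵁ U) Γ(F, π ⁻¹ᵁ U) :=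
    M1.finite_sections hF.1 hF.2 (hU.preimage π)
  letI : Module Γ(Y, U) Γ(F, π ⁻¹ᵁ U) := Module.compHom _ (π.app U).hom
  haveI : IsScalarTower Γ(Y, U) Γ(X, π ⁻¹ᵁ U) Γ(F, π ⁻¹ᵁ U) :=
    IsScalarTower.of_algebraMap_smul fun _ _ => rfl
  haveI h3 : Module.Finite Γ(Y, U) Γ(F, π ⁻¹ᵁ U) := Module.Finite.trans Γ(X, π ⁻¹ᵁ U) _
  exact h3

theorem exists_stalk_ne_of_push [UniversallyClosed π] {F : X.Modules} {y : Y}
    (h : Nontrivial (((Coh.push π).obj F).presheaf.stalk y)) :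
    ∃ x, π x = y ∧ Nontrivial (F.presheaf.stalk x) := by
  by_contra hc
  push Not at hc
  refine not_nontrivial_iff_subsingleton.2 (subsingleton_of_forall_eq 0 fun a => ?_) h
  obtain ⟨V, hV, m, rfl⟩ := ((Coh.push π).obj F).presheaf.exists_germ_eq a
  have hz : ∀ x : {x // π x = y}, ∃ (W : X.Opens) (_ : x.1 ∈ W) (hW : W ≤ π ⁻¹ᵁ V),
      mres F hW m = 0 := fun x => by
    haveI : Subsingleton (F.presheaf.stalk x.1) := hc x.1 x.2
    obtain ⟨W, hW, i1, i2, he⟩ := F.presheaf.germ_eq x.1 (show x.1 ∈ π ⁻¹ᵁ V by rw [Scheme.Hom.mem_preimage, x.2]; exact hV)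
      (show x.1 ∈ π ⁻¹ᵁ V by rw [Scheme.Hom.mem_preimage, x.2]; exact hV) m 0 (Subsingleton.elim _ _)
    exact ⟨W, hW, i1.le, he.trans (map_zero _)⟩
  choose W hW hWV hm using hz
  let O : X.Opens := ⨆ x, W x
  have hcl : IsClosed (π '' (O : Set X)ᶜ) := π.isClosedMap _ O.isOpen.isClosed_compl
  let V' : Y.Opens := V ⊓ ⟨(π '' (O : Set X)ᶜ)ᶜ, hcl.isOpen_compl⟩
  have hy : y ∈ V' := ⟨hV, by
    rintro ⟨x, hx, hxy⟩
    exact hx (TopologicalSpace.Opens.mem_iSup.2 ⟨⟨x, hxy⟩, hW _⟩)⟩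
  rw [← germ_mres ((Coh.push π).obj F) (inf_le_left : V' ≤ V) hy m]
  have h0 : mres ((Coh.push π).obj F) (inf_le_left : V' ≤ V) m = 0 := by
    refine section_ext (M := F) (U := π ⁻¹ᵁ V') _ _ fun x hx => ?_
    have hxO : x ∈ O := by
      by_contra hn
      exact hx.2 ⟨x, hn, rfl⟩
    obtain ⟨i, hi⟩ := TopologicalSpace.Opens.mem_iSup.1 hxO
    show F.presheaf.germ _ x hx (mres F (π.preimage_mono inf_le_left) m) = F.presheaf.germ _ x hx 0
    rw [germ_mres, ← germ_mres F (hWV i) hi m, hm, map_zero, map_zero]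
  rw [h0, map_zero]

theorem cohLe_push {δX : X → ℤ} {δY : Y → ℤ} [IsFinite π] (hδ : Cyc.DeltaCompat π δX δY) {k : ℤ} {F : X.Modules}
    (hF : Cyc.CohLe δX k F) : Cyc.CohLe δY k ((Coh.push π).obj F) := by
  refine ⟨isCoh_push_finite π hF.1, fun y hy => ?_⟩
  obtain ⟨x, rfl, hx⟩ := exists_stalk_ne_of_push π hy
  obtain ⟨n, -, hn⟩ := hδ x
  have := hF.2 x hx
  omega

end Groth.Agent.Cyc26
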