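import Groth.Agent.Lib.Cyc26.C1Inv
import Groth.Agent.Lib.TensorMod.Invertible

/-! # Rational sections of tensor products of invertible modules -/

set_option autoImplicit false
universe u

set_option backward.isDefEq.respectTransparency.types false

open CategoryTheory AlgebraicGeometry TopologicalSpace TensorProduct

namespace Groth.Agent.Cyc26

variable {X : Scheme.{u}}

/-- The pure tensor of two stalk elements. -/
noncomputable def tstalk (L N : X.Modules) (x : X) (a : L.presheaf.stalk x) (b : N.presheaf.stalk x) :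
    (CohB1.tensorMod L N).presheaf.stalk x := (Groth.Agent.M2.stalkEquiv L N x).symm (a ⊗ₜ b)

variable {L N : X.Modules}

theorem tstalk_smul (x : X) (r r' : X.presheaf.stalk x) (a : L.presheaf.stalk x) (b : N.presheaf.stalk x) :
    tstalk L N x (r • a) (r' • b) = (r * r') • tstalk L N x a b := by
  rw [tstalk, tstalk, ← map_smul, TensorProduct.smul_tmul_smul]

theorem tstalk_germ {U : X.Opens} (x : X) (hx : x ∈ U) (s : Γ(L, U)) (t : Γ(N, U)) :
    tstalk L N x (L.presheaf.germ U x hx s) (N.presheaf.germ U x hx t) =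
      (CohB1.tensorMod L N).presheaf.germ U x hx (Groth.Agent.M2.tsec L N s t) :=
  (LinearEquiv.symm_apply_eq _).2 (Groth.Agent.M2.stalkEquiv_tsec L N x hx s t).symm

theorem tstalk_stalkSpecializes {x ξ : X} (h : ξ ⤳ x) (a : L.presheaf.stalk x) (b : N.presheaf.stalk x) :
    (CohB1.tensorMod L N).presheaf.stalkSpecializes h (tstalk L N x a b) =
      tstalk L N ξ (L.presheaf.stalkSpecializes h a) (N.presheaf.stalkSpecializes h b) := by
  obtain ⟨U, hU, s, rfl⟩ := L.presheaf.exists_germ_eq a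
  obtain ⟨V, hV, t, rfl⟩ := N.presheaf.exists_germ_eq b
  rw [← M1.germ_mres L (inf_le_left : U ⊓ V ≤ U) ⟨hU, hV⟩ s, ← M1.germ_mres N (inf_le_right : U ⊓ V ≤ V) ⟨hU, hV⟩ t,
    tstalk_germ, TopCat.Presheaf.germ_stalkSpecializes_apply, TopCat.Presheaf.germ_stalkSpecializes_apply,
    TopCat.Presheaf.germ_stalkSpecializes_apply, tstalk_germ]

theorem gen_tstalk (hL : PicF.IsInvertible L) (hN : PicF.IsInvertible N) {x : X} {a : L.presheaf.stalk x}
    {b : N.presheaf.stalk x} (ha : Amp.Gen a) (hb : Amp.Gen b) : Amp.Gen (tstalk L N x a b) := by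
  obtain ⟨U, hU, s, rfl⟩ := L.presheaf.exists_germ_eq a
  obtain ⟨V, hV, t, rfl⟩ := N.presheaf.exists_germ_eq b
  rw [← M1.germ_mres L (inf_le_left : U ⊓ V ≤ U) ⟨hU, hV⟩ s] at ha ⊢
  rw [← M1.germ_mres N (inf_le_right : U ⊓ V ≤ V) ⟨hU, hV⟩ t] at hb ⊢
  rw [tstalk_germ]
  exact (Amp.gen_tsec_iff hL hN (show x ∈ U ⊓ V from ⟨hU, hV⟩) _ _).2 ⟨ha, hb⟩

/-- The product of two rational sections. -/
noncomputable def secTensor (L N : X.Modules) (ξ : X) (s : Cyc.secFibre L ξ) (t : Cyc.secFibre N ξ) :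
    Cyc.secFibre (CohB1.tensorMod L N) ξ :=
  fmk (CohB1.tensorMod L N) ξ (tstalk L N ξ (Quotient.out s) (Quotient.out t))

theorem secTensor_gen {ξ : X} {g : L.presheaf.stalk ξ} (hg : Amp.Gen g) {h : N.presheaf.stalk ξ} (hh : Amp.Gen h)
    (ψ φ : X.presheaf.stalk ξ) :
    secTensor L N ξ (ψ • fmk L ξ g) (φ • fmk N ξ h) =
      (ψ * φ) • fmk (CohB1.tensorMod L N) ξ (tstalk L N ξ g h) := by
  rw [secTensor]
  obtain ⟨a, ha⟩ := hg.2 (Quotient.out (ψ • fmk L ξ g))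
  obtain ⟨b, hb⟩ := hh.2 (Quotient.out (φ • fmk N ξ h))
  simp only at ha hb
  have e1 : a • fmk L ξ g = ψ • fmk L ξ g :=
    (Submodule.Quotient.mk_smul _ a g).symm.trans ((congrArg Submodule.Quotient.mk ha).trans (Quotient.out_eq _))
  have e2 : b • fmk N ξ h = φ • fmk N ξ h :=
    (Submodule.Quotient.mk_smul _ b h).symm.trans ((congrArg Submodule.Quotient.mk hb).trans (Quotient.out_eq _))
  rw [← ha, ← hb, tstalk_smul]
  show Submodule.Quotient.mk ((a * b) • tstalk L N ξ g h) = _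
  rw [Submodule.Quotient.mk_smul, ← sub_eq_zero, ← sub_smul]
  refine smul_eq_zero_of_residue ?_ _
  rw [map_sub, map_mul, map_mul, residue_eq_of_smul_eq hg e1, residue_eq_of_smul_eq hh e2, sub_self]

theorem secTensor_ne_zero (hL : PicF.IsInvertible L) (hN : PicF.IsInvertible N) {ξ : X} {s : Cyc.secFibre L ξ}
    (hs : s ≠ 0) {t : Cyc.secFibre N ξ} (ht : t ≠ 0) : secTensor L N ξ s t ≠ 0 := by
  obtain ⟨g, hg⟩ := exists_gen hL ξ
  obtain ⟨h, hh⟩ := exists_gen hN ξ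
  obtain ⟨ψ, hψ, rfl⟩ := exists_rep_gen hg hs
  obtain ⟨φ, hφ, rfl⟩ := exists_rep_gen hh ht
  rw [secTensor_gen hg hh]
  refine smul_ne_zero_of_residue (gen_tstalk hL hN hg hh) ?_
  rw [map_mul]
  exact mul_ne_zero hψ hφ

theorem secOrdAt_secTensor (hL : PicF.IsInvertible L) (hN : PicF.IsInvertible N) {ξ x : X} (h : ξ ⤳ x)
    {s : Cyc.secFibre L ξ} (hs : s ≠ 0) {t : Cyc.secFibre N ξ} (ht : t ≠ 0) :
    Cyc.secOrdAt (CohB1.tensorMod L N) ξ x h (secTensor L N ξ s t) =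
      Cyc.secOrdAt L ξ x h s + Cyc.secOrdAt N ξ x h t := by
  obtain ⟨g, hg⟩ := exists_gen hL x
  obtain ⟨g', hg'⟩ := exists_gen hN x
  obtain ⟨ψ, hψ, rfl⟩ := exists_rep_gen (gen_stalkSpecializes hL h hg) hs
  obtain ⟨φ, hφ, rfl⟩ := exists_rep_gen (gen_stalkSpecializes hN h hg') ht
  have hne : X.residue ξ (ψ * φ) ≠ 0 := by
    rw [map_mul]; exact mul_ne_zero hψ hφ
  rw [secTensor_gen (gen_stalkSpecializes hL h hg) (gen_stalkSpecializes hN h hg'), ← tstalk_stalkSpecializes,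
    secOrdAt_gen (Groth.Agent.M2.isInvertible_tensor hL hN) h (gen_tstalk hL hN hg hg') _ hne,
    secOrdAt_gen hL h hg ψ hψ, secOrdAt_gen hN h hg' φ hφ, map_mul]
  exact ordFrac_mul_all hψ hφ

theorem secDivFun_secTensor (hL : PicF.IsInvertible L) (hN : PicF.IsInvertible N) (δ : X → ℤ) {ξ : X}
    {s : Cyc.secFibre L ξ} (hs : s ≠ 0) {t : Cyc.secFibre N ξ} (ht : t ≠ 0) (x : X) :
    Cyc.secDivFun δ (CohB1.tensorMod L N) ξ (secTensor L N ξ s t) x =
      Cyc.secDivFun δ L ξ s x + Cyc.secDivFun δ N ξ t x := by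
  simp only [Cyc.secDivFun]
  split_ifs with h
  · exact secOrdAt_secTensor hL hN h.1 hs ht
  · rfl

end Groth.Agent.Cyc26
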