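import Groth.Agent.Lib.CI2.Ops
import Groth.Agent.Lib.QReg.Basic
import Groth.Prelude.Def_CAlgX

/-! # Koszul-regular sequences are H₁-regular -/

set_option autoImplicit false
universe u

open Groth.Agent.CanElt (KObj kd k0)

namespace Groth.Agent.Cyc26

variable {A : Type u} [CommRing A]

noncomputable def embOne : ∀ l : List A, (Fin l.length → A) → KObj A A l 1
  | [], _ => 0
  | _ :: l, a => (embOne l (Fin.tail a), (k0 A A l).symm (a 0))

noncomputable def projOne : ∀ l : List A, KObj A A l 1 → (Fin l.length → A)
  | [], _ => 0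
  | _ :: l, z => Fin.cons (k0 A A l z.2) (projOne l z.1)

theorem projOne_embOne : ∀ (l : List A) (a : Fin l.length → A), projOne l (embOne l a) = a
  | [], a => funext fun i => i.elim0
  | f :: l, a => by
    show Fin.cons (k0 A A l ((k0 A A l).symm (a 0))) (projOne l (embOne l (Fin.tail a))) = a
    rw [LinearEquiv.apply_symm_apply, projOne_embOne]
    exact Fin.cons_self_tail a

theorem k0_kd_zero : ∀ (l : List A) (z : KObj A A l 1),
    k0 A A l (kd A A l 0 z) = ∑ i, projOne l z i * l.get i
  | [], _ => by simp [CanElt.kd]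
  | f :: l, (a, b) => by
    show k0 A A l (kd A A l 0 a + f • b) = _
    rw [map_add, map_smul, k0_kd_zero l a]
    refine Eq.trans ?_ (Fin.sum_univ_succ _).symm
    rw [add_comm, smul_eq_mul, mul_comm f]
    rfl

theorem projOne_add : ∀ (l : List A) (z w : KObj A A l 1), projOne l (z + w) = projOne l z + projOne l w
  | [], z, w => funext fun i => i.elim0
  | f :: l, (a, b), (a', b') => by
    show (Fin.cons (k0 A A l (b + b')) (projOne l (a + a')) : Fin (l.length + 1) → A) = _
    rw [map_add, projOne_add l a a']
    funext i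
    refine Fin.cases ?_ (fun i => ?_) i <;> rfl

theorem projOne_smul : ∀ (l : List A) (r : A) (z : KObj A A l 1), projOne l (r • z) = r • projOne l z
  | [], r, z => funext fun i => i.elim0
  | f :: l, r, (a, b) => by
    show (Fin.cons (k0 A A l (r • b)) (projOne l (r • a)) : Fin (l.length + 1) → A) = _
    rw [map_smul, projOne_smul l r a]
    funext i
    refine Fin.cases ?_ (fun i => ?_) i <;> rfl

theorem projOne_kd_mem : ∀ (l : List A) (w : KObj A A l 2), projOne l (kd A A l 1 w) ∈
    Submodule.span A {v : Fin l.length → A | ∃ i j : Fin l.length, v = Pi.single i (l.get j) - Pi.single j (l.get i)}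
  | [], w => by
    have : projOne ([] : List A) (kd A A [] 1 w) = 0 := funext fun i => i.elim0
    rw [this]; exact zero_mem _
  | f :: l, (a, b) => by
    classical
    let E : (Fin l.length → A) →ₗ[A] (Fin (f :: l).length → A) :=
      { toFun := fun v => Fin.cons 0 v
        map_add' := fun v w => by funext i; refine Fin.cases ?_ (fun i => ?_) i <;> simp
        map_smul' := fun r v => by funext i; refine Fin.cases ?_ (fun i => ?_) i <;> simp }
    have hE := Submodule.mem_map_of_mem (f := E) (projOne_kd_mem l a)
    rw [Submodule.map_span] at hE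
    have hE' : E (projOne l (kd A A l 1 a)) ∈ Submodule.span A
        {v : Fin (f :: l).length → A | ∃ i j : Fin (f :: l).length, v = Pi.single i ((f :: l).get j) - Pi.single j ((f :: l).get i)} := by
      refine Submodule.span_mono ?_ hE
      rintro _ ⟨_, ⟨i, j, rfl⟩, rfl⟩
      refine ⟨i.succ, j.succ, ?_⟩
      funext m
      refine Fin.cases ?_ (fun m => ?_) m
      · show (0 : A) = Pi.single (M := fun _ => A) i.succ _ 0 - Pi.single (M := fun _ => A) j.succ _ 0
        rw [Pi.single_eq_of_ne (Fin.succ_ne_zero i).symm, Pi.single_eq_of_ne (Fin.succ_ne_zero j).symm, sub_zero]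
      · show Pi.single (M := fun _ => A) i (l.get j) m - Pi.single (M := fun _ => A) j (l.get i) m =
          Pi.single (M := fun _ => A) i.succ (l.get j) m.succ - Pi.single (M := fun _ => A) j.succ (l.get i) m.succ
        simp [Pi.single_apply, Fin.succ_inj]
    have key : projOne (f :: l) (kd A A (f :: l) 1 (a, b)) = E (projOne l (kd A A l 1 a)) +
        ∑ i : Fin l.length, projOne l b i •
          (Pi.single (M := fun _ => A) i.succ ((f :: l).get 0) - Pi.single (M := fun _ => A) (0 : Fin (f :: l).length) ((f :: l).get i.succ)) := by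
      funext m
      show (Fin.cons (k0 A A l (-kd A A l 0 b)) (projOne l (kd A A l 1 a + f • b)) : Fin (f :: l).length → A) m = _
      rw [map_neg, k0_kd_zero, projOne_add, projOne_smul]
      refine Fin.cases ?_ (fun m => ?_) m
      · simp [E, Finset.sum_apply, Pi.single_apply, Fin.succ_ne_zero, (Fin.succ_ne_zero _).symm]
      · simp [E, Finset.sum_apply, Pi.single_apply, Fin.succ_ne_zero, Fin.succ_inj, mul_comm f]
    rw [key]
    exact add_mem hE' (sum_mem fun i _ => Submodule.smul_mem _ _ (Submodule.subset_span ⟨_, _, rfl⟩))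

theorem isH1Regular_of_isKoszulRegularSeq (l : List A) (h : LCI.IsKoszulRegularSeq A l) :
    CAlgX.IsH1Regular l.get := by
  intro a ha
  have hz : kd A A l 0 (embOne l a) = 0 := (k0 A A l).injective (by
    rw [k0_kd_zero, projOne_embOne, map_zero]; exact ha)
  obtain ⟨w, hw⟩ := (CI2.isKoszulRegularSeq_iff_ex l).1 h 0 _ hz
  rw [← projOne_embOne l a, ← hw]
  exact projOne_kd_mem l w

end Groth.Agent.Cyc26
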