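import Groth.Agent.Lib.Cyc26.DivFun
import Groth.Agent.Lib.RedSep.Basic
import Mathlib.AlgebraicGeometry.Morphisms.ClosedImmersion

/-! # Closures of points as integral closed subschemes -/

set_option autoImplicit false
universe u

set_option backward.isDefEq.respectTransparency.types false

open CategoryTheory AlgebraicGeometry TopologicalSpace

namespace Groth.Agent.Cyc26

variable {X Z : Scheme.{u}}

theorem residueFieldMap_bijective (i : Z ⟶ X) [SurjectiveOnStalks i] (z : Z) :
    Function.Bijective (i.residueFieldMap z).hom := by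
  refine ⟨RingHom.injective _, fun b => ?_⟩
  obtain ⟨b, rfl⟩ := Scheme.residue_surjective Z z b
  obtain ⟨a, rfl⟩ := i.stalkMap_surjective z b
  exact ⟨X.residue _ a, ConcreteCategory.congr_hom (Scheme.residue_residueFieldMap i z) a⟩

/-- Orders along specializations are preserved by preimmersions. -/
theorem ordAt_preimmersion (i : Z ⟶ X) [SurjectiveOnStalks i] {x ξ : Z} (h : ξ ⤳ x)
    (φ : X.residueField (i ξ)) :
    Cyc.ordAt x ξ h (i.residueFieldMap ξ φ) = Cyc.ordAt (i x) (i ξ) (h.map i.continuous) φ := by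
  let e' : X.residueField (i ξ) ≃+* Z.residueField ξ := RingEquiv.ofBijective (i.residueFieldMap ξ).hom
    (residueFieldMap_bijective i ξ)
  have hsq : ∀ a, Cyc.specMap x ξ h (i.stalkMap x a) =
      e' (Cyc.specMap (i x) (i ξ) (h.map i.continuous) a) := fun a => by
    show Z.residue ξ (Z.presheaf.stalkSpecializes h (i.stalkMap x a)) =
      i.residueFieldMap ξ (X.residue _ (X.presheaf.stalkSpecializes _ a))
    rw [← Scheme.Hom.stalkSpecializes_stalkMap_apply i ξ x h a]
    exact (ConcreteCategory.congr_hom (Scheme.residue_residueFieldMap i ξ) _).symm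
  let g : X.presheaf.stalk (i x) →+* Cyc.LocQuot x ξ h := (Ideal.Quotient.mk _).comp (i.stalkMap x).hom
  have hg : Function.Surjective g := Ideal.Quotient.mk_surjective.comp (i.stalkMap_surjective x)
  have hk : RingHom.ker g = RingHom.ker (Cyc.specMap (i x) (i ξ) (h.map i.continuous)) := by
    ext a
    rw [RingHom.mem_ker, RingHom.mem_ker]
    show Ideal.Quotient.mk _ (i.stalkMap x a) = 0 ↔ _
    rw [Ideal.Quotient.eq_zero_iff_mem, RingHom.mem_ker, hsq, map_eq_zero_iff e' e'.injective]
  let e : Cyc.LocQuot (i x) (i ξ) (h.map i.continuous) ≃+* Cyc.LocQuot x ξ h :=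
    (Ideal.quotEquivOfEq hk.symm).trans (RingHom.quotientKerEquivOfSurjective hg)
  exact ordFrac_congr e e' (fun r => by
    obtain ⟨a, rfl⟩ := Ideal.Quotient.mk_surjective r
    exact (hsq a).symm) φ

theorem divFun_preimmersion (i : Z ⟶ X) [IsPreimmersion i] (δ : X → ℤ) (ξ x : Z)
    (φ : X.residueField (i ξ)) :
    Cyc.divFun (fun u => δ (i u)) ξ (i.residueFieldMap ξ φ) x = Cyc.divFun δ (i ξ) φ (i x) := by
  have hiff : ξ ⤳ x ↔ i ξ ⤳ i x := i.isEmbedding.isInducing.specializes_iff.symm
  by_cases h : ξ ⤳ x ∧ δ (i x) + 1 = δ (i ξ)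
  · simp only [Cyc.divFun]
    rw [dif_pos h, dif_pos ⟨hiff.1 h.1, h.2⟩]
    exact ordAt_preimmersion i h.1 φ
  · simp only [Cyc.divFun]
    rw [dif_neg h, dif_neg fun hh => h ⟨hiff.2 hh.1, hh.2⟩]

/-- The closure of a point as an integral closed subscheme. -/
theorem exists_closure_subscheme (X : Scheme.{u}) (ξ : X) :
    ∃ (Z : Scheme.{u}) (i : Z ⟶ X) (_ : IsClosedImmersion i) (_ : IsIntegral Z),
      Set.range i = closure {ξ} ∧ i (genericPoint Z) = ξ := by
  let C : Closeds X := ⟨closure {ξ}, isClosed_closure⟩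
  let I := Scheme.IdealSheafData.vanishingIdeal C
  haveI := RedSepLib.isReduced_vanishingIdeal_subscheme C
  have hr : Set.range I.subschemeι = closure {ξ} := by
    rw [I.range_subschemeι]
    rfl
  haveI : IrreducibleSpace I.subscheme := by
    haveI : Nonempty I.subscheme := by
      obtain ⟨z, -⟩ := (show ξ ∈ Set.range I.subschemeι from hr ▸ subset_closure rfl)
      exact ⟨z⟩
    obtain ⟨g, hg⟩ := (show ξ ∈ Set.range I.subschemeι from hr ▸ subset_closure rfl)
    haveI : PreirreducibleSpace I.subscheme := by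
      refine ⟨?_⟩
      have : (Set.univ : Set I.subscheme) = closure {g} := by
        refine (Set.eq_univ_of_forall fun z => ?_).symm
        rw [← specializes_iff_mem_closure, ← I.subschemeι.isEmbedding.isInducing.specializes_iff, hg]
        exact specializes_iff_mem_closure.2 (hr ▸ ⟨z, rfl⟩)
      rw [this]
      exact isIrreducible_singleton.closure.2
    exact ⟨‹_›⟩
  haveI : IsIntegral I.subscheme := isIntegral_of_irreducibleSpace_of_isReduced _
  refine ⟨I.subscheme, I.subschemeι, inferInstance, inferInstance, hr, ?_⟩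
  obtain ⟨g, hg⟩ := (show ξ ∈ Set.range I.subschemeι from hr ▸ subset_closure rfl)
  have h1 : I.subschemeι (genericPoint I.subscheme) ⤳ ξ := hg ▸
    (genericPoint_specializes g).map I.subschemeι.continuous
  have h2 : ξ ⤳ I.subschemeι (genericPoint I.subscheme) :=
    specializes_iff_mem_closure.2 (hr ▸ ⟨_, rfl⟩)
  exact (h1.antisymm h2).eq

end Groth.Agent.Cyc26
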