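import Groth.Agent.Lib.Cyc26.Frac
import Groth.Agent.Lib.Ample18.Gen

/-! # Rational sections of invertible modules and capping with the first Chern class -/

set_option autoImplicit false
universe u

set_option backward.isDefEq.respectTransparency.types false

open CategoryTheory AlgebraicGeometry TopologicalSpace Groth.Agent.M1

namespace Groth.Agent.Cyc26

variable {X : Scheme.{u}} {L : X.Modules}

theorem exists_gen (hL : PicF.IsInvertible L) (x : X) : ∃ g : L.presheaf.stalk x, Amp.Gen g := by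
  obtain ⟨U, e, hx, -, -, he⟩ := Amp.exists_isGenerator hL (V := ⊤) (x := x) trivial
  exact ⟨_, Amp.gen_of_isGenerator he hx⟩

theorem span_eq_top_of_gen {x : X} {g : L.presheaf.stalk x} (hg : Amp.Gen g) :
    Submodule.span (X.presheaf.stalk x) {g} = ⊤ := by
  refine eq_top_iff.2 fun m _ => ?_
  obtain ⟨r, rfl⟩ := hg.2 m
  exact Submodule.smul_mem _ _ (Submodule.mem_span_singleton_self _)

theorem gen_of_span (hL : PicF.IsInvertible L) {x : X} {t : L.presheaf.stalk x}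
    (ht : Submodule.span (X.presheaf.stalk x) {t} = ⊤) : Amp.Gen t := by
  obtain ⟨g, hg⟩ := exists_gen hL x
  obtain ⟨c, hc⟩ := hg.2 t
  obtain ⟨d, hd⟩ := Submodule.mem_span_singleton.1 (ht.ge (Submodule.mem_top (x := g)))
  simp only at hc
  subst hc
  rw [← mul_smul] at hd
  exact (hg.ne_zero_smul c).2 (IsUnit.of_mul_eq_one_right d (hg.1 (show (d * c) • g = (1 : X.presheaf.stalk x) • g by rw [hd, one_smul])))

theorem gen_stalkSpecializes (hL : PicF.IsInvertible L) {x ξ : X} (h : ξ ⤳ x) {g : L.presheaf.stalk x}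
    (hg : Amp.Gen g) : Amp.Gen (L.presheaf.stalkSpecializes h g) := by
  obtain ⟨U, e, hxU, -, -, he⟩ := Amp.exists_isGenerator hL (V := ⊤) (x := x) trivial
  obtain ⟨c, hc⟩ := (Amp.gen_of_isGenerator he hxU).2 g
  simp only at hc
  subst hc
  rw [stalkSpecializes_smul, TopCat.Presheaf.germ_stalkSpecializes_apply]
  exact ((Amp.gen_of_isGenerator he (h.mem_open U.isOpen hxU)).ne_zero_smul _).2
    ((((Amp.gen_of_isGenerator he hxU).ne_zero_smul c).1 hg).map _)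

/-- The image of a free generator in the fibre. -/
noncomputable abbrev fmk (L : X.Modules) (ξ : X) (g : L.presheaf.stalk ξ) : Cyc.secFibre L ξ :=
  Submodule.Quotient.mk g

theorem mem_maximal_of_gen {ξ : X} {g : L.presheaf.stalk ξ} (hg : Amp.Gen g) {a : X.presheaf.stalk ξ}
    (h : a • g ∈ (IsLocalRing.maximalIdeal (X.presheaf.stalk ξ) •
      (⊤ : Submodule (X.presheaf.stalk ξ) (L.presheaf.stalk ξ)))) :
    a ∈ IsLocalRing.maximalIdeal (X.presheaf.stalk ξ) := by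
  have key : ∀ m, m ∈ (IsLocalRing.maximalIdeal (X.presheaf.stalk ξ) •
      (⊤ : Submodule (X.presheaf.stalk ξ) (L.presheaf.stalk ξ))) →
      ∃ c ∈ IsLocalRing.maximalIdeal (X.presheaf.stalk ξ), c • g = m := by
    intro m hm
    induction hm using Submodule.smul_induction_on' with
    | smul c hc n _ =>
      obtain ⟨d, rfl⟩ := hg.2 n
      exact ⟨c * d, Ideal.mul_mem_right _ _ hc, mul_smul c d _⟩
    | add m _ n _ hm hn =>
      obtain ⟨c, hc, rfl⟩ := hm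
      obtain ⟨d, hd, rfl⟩ := hn
      exact ⟨c + d, add_mem hc hd, add_smul c d _⟩
  obtain ⟨c, hc, he⟩ := key _ h
  rwa [hg.1 (show c • g = a • g from he)] at hc

theorem residue_eq_of_smul_eq {ξ : X} {g : L.presheaf.stalk ξ} (hg : Amp.Gen g) {a b : X.presheaf.stalk ξ}
    (h : a • fmk L ξ g = b • fmk L ξ g) : X.residue ξ a = X.residue ξ b := by
  rw [← sub_eq_zero, ← sub_smul, ← Submodule.Quotient.mk_smul, Submodule.Quotient.mk_eq_zero] at h
  have h2 := (residue_eq_zero ξ (a - b)).2 (mem_maximal_of_gen hg h)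
  rwa [map_sub, sub_eq_zero] at h2

theorem smul_eq_zero_of_residue {ξ : X} {a : X.presheaf.stalk ξ} (h : X.residue ξ a = 0)
    (s : Cyc.secFibre L ξ) : a • s = 0 := by
  obtain ⟨m, rfl⟩ := Submodule.Quotient.mk_surjective _ s
  rw [← Submodule.Quotient.mk_smul, Submodule.Quotient.mk_eq_zero]
  exact Submodule.smul_mem_smul ((residue_eq_zero ξ a).1 h) Submodule.mem_top

theorem smul_ne_zero_of_residue {ξ : X} {g : L.presheaf.stalk ξ} (hg : Amp.Gen g) {a : X.presheaf.stalk ξ}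
    (ha : X.residue ξ a ≠ 0) : a • fmk L ξ g ≠ 0 := fun h =>
  ha ((residue_eq_of_smul_eq hg (b := 0) (by rw [h, zero_smul])).trans (map_zero _))

theorem exists_rep_gen {ξ : X} {g : L.presheaf.stalk ξ} (hg : Amp.Gen g) {s : Cyc.secFibre L ξ} (hs : s ≠ 0) :
    ∃ ψ : X.presheaf.stalk ξ, X.residue ξ ψ ≠ 0 ∧ s = ψ • fmk L ξ g := by
  obtain ⟨m, rfl⟩ := Submodule.Quotient.mk_surjective _ s
  obtain ⟨ψ, rfl⟩ := hg.2 m
  exact ⟨ψ, fun h0 => hs ((Submodule.Quotient.mk_smul _ ψ _).trans (smul_eq_zero_of_residue h0 _)),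
    Submodule.Quotient.mk_smul _ ψ _⟩

/-- Two nonzero rational sections differ by a nonzero rational function. -/
theorem exists_ratio (hL : PicF.IsInvertible L) {ξ : X} {s t : Cyc.secFibre L ξ} (hs : s ≠ 0) (ht : t ≠ 0) :
    ∃ ψ : X.presheaf.stalk ξ, X.residue ξ ψ ≠ 0 ∧ t = ψ • s := by
  obtain ⟨g, hg⟩ := exists_gen hL ξ
  obtain ⟨a, ha, rfl⟩ := exists_rep_gen hg hs
  obtain ⟨b, hb, rfl⟩ := exists_rep_gen hg ht
  have hu : IsUnit a := by
    by_contra hn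
    exact ha ((residue_eq_zero ξ a).2 hn)
  obtain ⟨v, rfl⟩ := hu
  refine ⟨b * (v⁻¹ : (X.presheaf.stalk ξ)ˣ), ?_, by rw [← mul_smul, mul_assoc, Units.inv_mul, mul_one]⟩
  rw [map_mul]
  exact mul_ne_zero hb ((v⁻¹).isUnit.map _).ne_zero

theorem secOrdAt_gen (hL : PicF.IsInvertible L) {ξ x : X} (h : ξ ⤳ x) {g : L.presheaf.stalk x} (hg : Amp.Gen g)
    (ψ : X.presheaf.stalk ξ) (hψ : X.residue ξ ψ ≠ 0) :
    Cyc.secOrdAt L ξ x h (ψ • fmk L ξ (L.presheaf.stalkSpecializes h g)) = Cyc.ordAt x ξ h (X.residue ξ ψ) := by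
  have ht : ∃ t : L.presheaf.stalk x, Submodule.span (X.presheaf.stalk x) {t} = ⊤ := ⟨g, span_eq_top_of_gen hg⟩
  have hgt := gen_of_span hL (Classical.choose_spec ht)
  obtain ⟨v, hv⟩ := hg.2 (Classical.choose ht)
  replace hv : Classical.choose ht = v • g := hv.symm
  have hvu : IsUnit v := (hg.ne_zero_smul v).1 (hv ▸ hgt)
  have hsp : L.presheaf.stalkSpecializes h (Classical.choose ht) =
      X.presheaf.stalkSpecializes h v • L.presheaf.stalkSpecializes h g := by rw [hv, stalkSpecializes_smul]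
  have hwu : IsUnit (X.presheaf.stalkSpecializes h v) := hvu.map _
  obtain ⟨w, hw⟩ := hwu
  have hφ : ∃ φ : X.presheaf.stalk ξ,
      ψ • fmk L ξ (L.presheaf.stalkSpecializes h g) =
        φ • (Submodule.Quotient.mk (L.presheaf.stalkSpecializes h (Classical.choose ht)) : Cyc.secFibre L ξ) :=
    ⟨ψ * (w⁻¹ : (X.presheaf.stalk ξ)ˣ), by
      rw [hsp, ← hw, Submodule.Quotient.mk_smul, ← mul_smul, mul_assoc, Units.inv_mul, mul_one]⟩
  simp only [Cyc.secOrdAt]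
  rw [dif_pos ht, dif_pos hφ]
  have he := Classical.choose_spec hφ
  set φ := Classical.choose hφ
  rw [hsp, Submodule.Quotient.mk_smul, ← mul_smul] at he
  have h2 := residue_eq_of_smul_eq (gen_stalkSpecializes hL h hg) he
  rw [map_mul] at h2
  replace h2 : X.residue ξ ψ = X.residue ξ φ * Cyc.specMap x ξ h v := h2
  have hne : X.residue ξ φ ≠ 0 ∧ Cyc.specMap x ξ h v ≠ 0 := mul_ne_zero_iff.1 (h2 ▸ hψ)
  rw [h2]
  unfold Cyc.ordAt
  rw [ordFrac_mul_all hne.1 hne.2]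
  have := ordAt_eq_zero_of_isUnit h hvu
  unfold Cyc.ordAt at this
  omega

theorem secOrdAt_smul (hL : PicF.IsInvertible L) {ξ x : X} (h : ξ ⤳ x) (ψ : X.presheaf.stalk ξ)
    (hψ : X.residue ξ ψ ≠ 0) {s : Cyc.secFibre L ξ} (hs : s ≠ 0) :
    Cyc.secOrdAt L ξ x h (ψ • s) = Cyc.ordAt x ξ h (X.residue ξ ψ) + Cyc.secOrdAt L ξ x h s := by
  obtain ⟨g, hg⟩ := exists_gen hL x
  obtain ⟨φ, hφ, rfl⟩ := exists_rep_gen (gen_stalkSpecializes hL h hg) hs
  have hne : X.residue ξ (ψ * φ) ≠ 0 := by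
    rw [map_mul]
    exact mul_ne_zero hψ hφ
  rw [← mul_smul, secOrdAt_gen hL h hg _ hne, secOrdAt_gen hL h hg φ hφ, map_mul]
  exact ordFrac_mul_all hψ hφ

theorem secDivFun_smul (hL : PicF.IsInvertible L) (δ : X → ℤ) (ξ x : X) (ψ : X.presheaf.stalk ξ)
    (hψ : X.residue ξ ψ ≠ 0) {s : Cyc.secFibre L ξ} (hs : s ≠ 0) :
    Cyc.secDivFun δ L ξ (ψ • s) x = Cyc.divFun δ ξ (X.residue ξ ψ) x + Cyc.secDivFun δ L ξ s x := by
  simp only [Cyc.secDivFun, Cyc.divFun]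
  split_ifs with h
  · exact secOrdAt_smul hL h.1 ψ hψ hs
  · rfl

theorem specializes_of_secDivFun_ne_zero {δ : X → ℤ} {ξ x : X} {s : Cyc.secFibre L ξ}
    (h : Cyc.secDivFun δ L ξ s x ≠ 0) : ξ ⤳ x ∧ δ x + 1 = δ ξ := by
  by_contra hc
  exact h (dif_neg hc)

theorem secOrdAt_frame (hL : PicF.IsInvertible L) {U : X.Opens} {e : Γ(L, U)} (he : Groth.Agent.M2.IsGenerator e)
    {ξ x : X} (h : ξ ⤳ x) (hx : x ∈ U) (ψ : X.presheaf.stalk ξ) (hψ : X.residue ξ ψ ≠ 0) :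
    Cyc.secOrdAt L ξ x h (ψ • fmk L ξ (Amp.gm L ξ (h.mem_open U.isOpen hx) e)) =
      Cyc.ordAt x ξ h (X.residue ξ ψ) := by
  have h1 := secOrdAt_gen hL h (Amp.gen_of_isGenerator he hx) ψ hψ
  rwa [TopCat.Presheaf.germ_stalkSpecializes_apply] at h1

/-- Near a point the divisor of a rational section is a principal divisor. -/
theorem exists_secDivFun_eq_divFun (hL : PicF.IsInvertible L) {U : X.Opens} {e : Γ(L, U)}
    (he : Groth.Agent.M2.IsGenerator e) {ξ : X} (hξ : ξ ∈ U) {s : Cyc.secFibre L ξ} (hs : s ≠ 0) :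
    ∃ f : X.residueField ξ, f ≠ 0 ∧ (∀ x ∈ U, ∀ h : ξ ⤳ x, Cyc.secOrdAt L ξ x h s = Cyc.ordAt x ξ h f) ∧
      ∀ (δ : X → ℤ), ∀ x ∈ U, Cyc.secDivFun δ L ξ s x = Cyc.divFun δ ξ f x := by
  obtain ⟨ψ, hψ, rfl⟩ := exists_rep_gen (Amp.gen_of_isGenerator he hξ) hs
  refine ⟨X.residue ξ ψ, hψ, fun x hx h => secOrdAt_frame hL he h hx ψ hψ, fun δ x hx => ?_⟩
  simp only [Cyc.secDivFun, Cyc.divFun]
  split_ifs with h
  · exact secOrdAt_frame hL he h.1 hx ψ hψ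
  · rfl

theorem exists_nhd_finite_secDivFun [IsLocallyNoetherian X] (hL : PicF.IsInvertible L) {δ : X → ℤ}
    (hd : Cyc.IsDimFun X δ) (x : X) : ∃ V : X.Opens, IsAffineOpen V ∧ x ∈ V ∧
      ∀ (ξ : X) (s : Cyc.secFibre L ξ), s ≠ 0 → {y | y ∈ V ∧ Cyc.secDivFun δ L ξ s y ≠ 0}.Finite := by
  obtain ⟨V, e, hxV, -, hV, he⟩ := Amp.exists_isGenerator hL (V := ⊤) (x := x) trivial
  refine ⟨V, hV, hxV, fun ξ s hs => ?_⟩
  by_cases hξ : ξ ∈ V
  · obtain ⟨f, -, -, hf⟩ := exists_secDivFun_eq_divFun hL he hξ hs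
    refine (finite_support_divFun hd ξ f hV).subset fun y hy => ⟨hy.1, ?_⟩
    rw [← hf δ y hy.1]
    exact hy.2
  · exact Set.finite_empty.subset fun y hy => hξ ((specializes_of_secDivFun_ne_zero hy.2).1.mem_open V.isOpen hy.1)

theorem finite_support_inter (α : AlgebraicCycle X ℤ) {V : X.Opens} (hV : IsAffineOpen V) :
    {ξ | ξ ∈ V ∧ α ξ ≠ 0}.Finite :=
  (α.locallyFiniteSupport.finite_inter_support_of_isCompact hV.isCompact).subset fun _ h => ⟨h.1, h.2⟩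

theorem c1CapFun_eq_sum (δ : X → ℤ) (α : X → ℤ) (s : (ξ : X) → Cyc.secFibre L ξ) {V : X.Opens} {x : X}
    (hx : x ∈ V) (I : Finset X) (hI : ∀ ξ ∈ V, α ξ ≠ 0 → ξ ∈ I) :
    Cyc.c1CapFun δ L α s x = ∑ ξ ∈ I, α ξ * Cyc.secDivFun δ L ξ (s ξ) x := by
  refine finsum_eq_sum_of_support_subset _ fun ξ hξ => ?_
  rw [Function.mem_support] at hξ
  exact hI ξ ((specializes_of_secDivFun_ne_zero (right_ne_zero_of_mul hξ)).1.mem_open V.isOpen hx)
    (left_ne_zero_of_mul hξ)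

theorem exists_cycle_secDivFun [IsLocallyNoetherian X] (hL : PicF.IsInvertible L) {δ : X → ℤ}
    (hd : Cyc.IsDimFun X δ) (ξ : X) {s : Cyc.secFibre L ξ} (hs : s ≠ 0) :
    ∃ a : AlgebraicCycle X ℤ, ⇑a = Cyc.secDivFun δ L ξ s := by
  refine ⟨⟨Cyc.secDivFun δ L ξ s, Set.subset_univ _, fun x _ => ?_⟩, rfl⟩
  obtain ⟨V, -, hxV, hfin⟩ := exists_nhd_finite_secDivFun hL hd x
  exact ⟨V, V.isOpen.mem_nhds hxV, (hfin ξ s hs).subset fun y hy => ⟨hy.1, hy.2⟩⟩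

theorem exists_cycle_c1Cap [IsLocallyNoetherian X] (hL : PicF.IsInvertible L) {δ : X → ℤ}
    (hd : Cyc.IsDimFun X δ) (α : AlgebraicCycle X ℤ) {s : (ξ : X) → Cyc.secFibre L ξ} (hs : ∀ ξ, s ξ ≠ 0) :
    ∃ γ : AlgebraicCycle X ℤ, ⇑γ = Cyc.c1CapFun δ L ⇑α s := by
  classical
  refine ⟨⟨Cyc.c1CapFun δ L ⇑α s, Set.subset_univ _, fun x _ => ?_⟩, rfl⟩
  obtain ⟨V, hV, hxV, hfin⟩ := exists_nhd_finite_secDivFun hL hd x
  refine ⟨V, V.isOpen.mem_nhds hxV,
    ((finite_support_inter α hV).biUnion fun ξ _ => hfin ξ (s ξ) (hs ξ)).subset ?_⟩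
  rintro y ⟨hyV, hy⟩
  have hy' : Cyc.c1CapFun δ L (⇑α) s y ≠ 0 := hy
  rw [c1CapFun_eq_sum δ (⇑α) s hyV (finite_support_inter α hV).toFinset fun ξ h1 h2 =>
    (finite_support_inter α hV).mem_toFinset.2 ⟨h1, h2⟩] at hy'
  obtain ⟨ξ, hξ, hne⟩ := Finset.exists_ne_zero_of_sum_ne_zero hy'
  exact Set.mem_biUnion ((finite_support_inter α hV).mem_toFinset.1 hξ) ⟨hyV, right_ne_zero_of_mul hne⟩

theorem c1Cap_mem_Zk {δ : X → ℤ} {k : ℤ} {α : AlgebraicCycle X ℤ} (hα : α ∈ Cyc.Zk X δ (k + 1))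
    {s : (ξ : X) → Cyc.secFibre L ξ} {γ : AlgebraicCycle X ℤ} (hγ : ⇑γ = Cyc.c1CapFun δ L ⇑α s) :
    γ ∈ Cyc.Zk X δ k := fun x hx => by
  rw [hγ]
  refine finsum_eq_zero_of_forall_eq_zero fun ξ => ?_
  by_contra h
  have h1 := (specializes_of_secDivFun_ne_zero (right_ne_zero_of_mul h)).2
  exact left_ne_zero_of_mul h (hα ξ (fun e => hx (by omega)))

/-- A locally finite family indexed by the support of a cycle. -/
theorem locallyFinite_support (α : AlgebraicCycle X ℤ) (x : X) : ∃ U : Set X, IsOpen U ∧ x ∈ U ∧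
    {i : {ξ : X // α ξ ≠ 0} | (closure {i.1} ∩ U).Nonempty}.Finite := by
  obtain ⟨V, hV, hxV, -⟩ := exists_isAffineOpen_mem_and_subset (U := (⊤ : X.Opens)) (x := x) trivial
  refine ⟨V, V.isOpen, hxV, ((finite_support_inter α hV).preimage Subtype.val_injective.injOn).subset ?_⟩
  rintro i ⟨y, hy1, hy2⟩
  exact ⟨(specializes_iff_mem_closure.2 hy1).mem_open V.isOpen hy2, i.2⟩

/-- Up to rational equivalence `c₁(L) ∩ α` does not depend on the chosen rational sections. -/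
theorem ratEquiv_c1Cap (hL : PicF.IsInvertible L) {δ : X → ℤ} {k : ℤ} {α : AlgebraicCycle X ℤ}
    (hα : α ∈ Cyc.Zk X δ (k + 1)) {s t : (ξ : X) → Cyc.secFibre L ξ} (hs : ∀ ξ, s ξ ≠ 0) (ht : ∀ ξ, t ξ ≠ 0)
    {γ γ' : AlgebraicCycle X ℤ} (hγ : ⇑γ = Cyc.c1CapFun δ L ⇑α s) (hγ' : ⇑γ' = Cyc.c1CapFun δ L ⇑α t) :
    Cyc.RatEquiv δ k γ γ' := by
  classical
  choose ψ hψ hst using fun ξ => exists_ratio hL (ht ξ) (hs ξ)
  refine ⟨{ξ : X // α ξ ≠ 0}, fun i => i.1, fun i => (X.residue i.1 (ψ i.1)) ^ (α i.1),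
    fun i => by_contra fun h => i.2 (hα _ h), fun i => zpow_ne_zero _ (hψ _), locallyFinite_support α, fun x => ?_⟩
  obtain ⟨V, hV, hxV, -⟩ := exists_isAffineOpen_mem_and_subset (U := (⊤ : X.Opens)) (x := x) trivial
  have hI : ∀ ξ ∈ V, α ξ ≠ 0 → ξ ∈ (finite_support_inter α hV).toFinset := fun ξ h1 h2 =>
    (finite_support_inter α hV).mem_toFinset.2 ⟨h1, h2⟩
  show γ x - γ' x = _
  rw [hγ, hγ', c1CapFun_eq_sum δ (⇑α) s hxV _ hI, c1CapFun_eq_sum δ (⇑α) t hxV _ hI, ← Finset.sum_sub_distrib,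
    finsum_eq_sum_of_support_subset (s := ((finite_support_inter α hV).toFinset).subtype _) _ fun i hi => by
      rw [Finset.mem_coe, Finset.mem_subtype]
      exact hI i.1 ((specializes_of_divFun_ne_zero hi).1.mem_open V.isOpen hxV) i.2,
    Finset.sum_subtype_eq_sum_filter (fun ξ => Cyc.divFun δ ξ ((X.residue ξ (ψ ξ)) ^ (α ξ)) x), Finset.sum_filter]
  refine Finset.sum_congr rfl fun ξ hξ => ?_
  rw [if_pos ((finite_support_inter α hV).mem_toFinset.1 hξ).2, ← mul_sub, hst ξ,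
    secDivFun_smul hL δ ξ x (ψ ξ) (hψ ξ) (ht ξ), add_sub_cancel_right]
  simp only [Cyc.divFun]
  split_ifs with h
  · exact (ordFrac_zpow (hψ ξ) _).symm
  · rw [mul_zero]

end Groth.Agent.Cyc26
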