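import Mathlib

/-! # Lengths under flat local base change -/

set_option autoImplicit false
universe u

open TensorProduct IsLocalRing

namespace Groth.Agent.Cyc26

variable (A B : Type u) [CommRing A] [CommRing B] [IsLocalRing A] [IsLocalRing B] [Algebra A B]
  [Module.Flat A B] [IsLocalHom (algebraMap A B)]

theorem length_le_length_baseChange (M : Type u) [AddCommGroup M] [Module A M] :
    Module.length A M ≤ Module.length B (B ⊗[A] M) := by
  haveI := Module.FaithfullyFlat.of_flat_of_isLocalHom (A := A) (B := B)
  rw [← WithBot.coe_le_coe, Module.coe_length, Module.coe_length]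
  refine Order.krullDim_le_of_strictMono (fun N : Submodule A M => LinearMap.range (N.subtype.baseChange B)) ?_
  intro N N' h
  have hle : ∀ z, N.subtype.baseChange B z ∈ LinearMap.range (N'.subtype.baseChange B) := fun z =>
    ⟨(Submodule.inclusion h.le).baseChange B z, by rw [← LinearMap.comp_apply, ← LinearMap.baseChange_comp, Submodule.subtype_comp_inclusion]⟩
  refine lt_of_le_of_ne (by rintro _ ⟨z, rfl⟩; exact hle z) fun he => h.not_ge ?_
  have h0 : (N.mkQ ∘ₗ N'.subtype).lTensor B = 0 := by
    refine LinearMap.ext fun z => ?_
    have hz : N'.subtype.baseChange B z ∈ LinearMap.range (N.subtype.baseChange B) :=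
      (show LinearMap.range (N.subtype.baseChange B) = LinearMap.range (N'.subtype.baseChange B) from he).ge ⟨z, rfl⟩
    obtain ⟨w, hw⟩ := hz
    rw [LinearMap.lTensor_comp, LinearMap.comp_apply]
    rw [show N'.subtype.lTensor B z = N.subtype.lTensor B w from hw.symm, ← LinearMap.comp_apply,
      ← LinearMap.lTensor_comp]
    have : N.mkQ ∘ₗ N.subtype = 0 := LinearMap.ext fun a => (Submodule.Quotient.mk_eq_zero N).2 a.2
    rw [this, LinearMap.lTensor_zero]
    rfl
  have := (Module.FaithfullyFlat.zero_iff_lTensor_zero A B (N.mkQ ∘ₗ N'.subtype)).2 h0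
  intro a ha
  exact (Submodule.Quotient.mk_eq_zero N).1 (LinearMap.congr_fun this ⟨a, ha⟩)

theorem length_baseChange_quot_pos : Module.length B (B ⊗[A] (A ⧸ maximalIdeal A)) ≠ 0 := by
  haveI := Module.FaithfullyFlat.of_flat_of_isLocalHom (A := A) (B := B)
  haveI : Nontrivial (A ⧸ maximalIdeal A) := Ideal.Quotient.nontrivial_iff.2 (maximalIdeal.isMaximal A).ne_top
  have h := length_le_length_baseChange A B (A ⧸ maximalIdeal A)
  intro h0
  rw [h0, nonpos_iff_eq_zero, Module.length_eq_zero_iff] at h
  exact not_subsingleton (A ⧸ maximalIdeal A) h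

theorem length_baseChange_of_isFiniteLength (M : Type u) [AddCommGroup M] [Module A M] (hM : IsFiniteLength A M) :
    Module.length B (B ⊗[A] M) = Module.length A M * Module.length B (B ⊗[A] (A ⧸ maximalIdeal A)) := by
  induction hM with
  | @of_subsingleton M _ _ _ =>
    haveI : Subsingleton (B ⊗[A] M) := inferInstance
    rw [Module.length_eq_zero, Module.length_eq_zero, zero_mul]
  | @of_simple_quotient M _ _ N hs _ ih =>
    obtain ⟨J, hJ, ⟨e⟩⟩ := isSimpleModule_iff_quot_maximal.1 hs
    obtain rfl : J = maximalIdeal A := IsLocalRing.eq_maximalIdeal hJ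
    rw [Module.length_eq_add_of_exact N.subtype N.mkQ (Submodule.subtype_injective _) (Submodule.mkQ_surjective _)
        (LinearMap.exact_subtype_mkQ N),
      Module.length_eq_add_of_exact (N.subtype.baseChange B) (N.mkQ.baseChange B)
        (Module.Flat.lTensor_preserves_injective_linearMap _ (Submodule.subtype_injective _))
        (LinearMap.lTensor_surjective B (Submodule.mkQ_surjective _))
        (Module.Flat.lTensor_exact B (LinearMap.exact_subtype_mkQ N)),
      ih, (e.baseChange A B _ _).length_eq, add_mul]
    congr 1
    rw [show Module.length A (M ⧸ N) = 1 from Module.length_eq_one _ _, one_mul]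

theorem length_baseChange (M : Type u) [AddCommGroup M] [Module A M] :
    Module.length B (B ⊗[A] M) = Module.length A M * Module.length B (B ⊗[A] (A ⧸ maximalIdeal A)) := by
  by_cases h : Module.length A M = ⊤
  · rw [h, ENat.top_mul (length_baseChange_quot_pos A B)]
    exact top_le_iff.1 (h.ge.trans (length_le_length_baseChange A B M))
  · exact length_baseChange_of_isFiniteLength A B M (Module.length_ne_top_iff.1 h)

theorem length_quotient_map (I : Ideal A) :
    Module.length B (B ⧸ I.map (algebraMap A B)) =
      Module.length A (A ⧸ I) * Module.length B (B ⧸ (maximalIdeal A).map (algebraMap A B)) := by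
  rw [(Algebra.TensorProduct.quotIdealMapEquivTensorQuot B I).toLinearEquiv.length_eq,
    (Algebra.TensorProduct.quotIdealMapEquivTensorQuot B (maximalIdeal A)).toLinearEquiv.length_eq,
    length_baseChange]

end Groth.Agent.Cyc26
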