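import Groth.Agent.Lib.UCat26.FlatRel
import Groth.Agent.Lib.Cyc26.Length

/-! # Functoriality of flat pullback of cycles -/

set_option autoImplicit false
universe u

set_option backward.isDefEq.respectTransparency.types false

open CategoryTheory AlgebraicGeometry

namespace Groth.Agent.Cyc26

variable {X Y Z : Scheme.{u}} (f : X ⟶ Y) (g : Y ⟶ Z)

theorem rd_le_of_hasRelDim [LocallyOfFiniteType f] {r : ℕ} (hr : Cyc.HasRelDim f r) (x : X) :
    FibDim14.rd f x ≤ r := by
  haveI : IsLocallyNoetherian (f.fiber (f x)) := LocallyOfFiniteType.isLocallyNoetherian (FibDim14.toPt f (f x))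
  obtain ⟨z, hz, hmax⟩ := UCat26.exists_generic (f.asFiber x)
  obtain ⟨h1, h2⟩ := FibDim14.fiberι_mem f hz
  have e1 : FibDim14.rd f (f.fiberι _ z) = r := UCat26.rd_eq_of_hasRelDim f hr fun x' hx' he => by
    obtain ⟨w, hw, -⟩ := FibDim14.exists_fiber_pt f (hx'.trans h1) (he.trans h2)
    rw [← hw] at hx' ⊢
    rw [hmax w ((f.fiberι _).isEmbedding.isInducing.specializes_iff.1 hx')]
  have e2 := FibDim14.rd_fiberι f (f x) (f.asFiber x)
  rw [f.fiberι_asFiber] at e2
  rw [e2, ← e1, FibDim14.rd_fiberι]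
  rcases eq_or_ne z (f.asFiber x) with h | h
  · rw [h]
  · exact (VarDim.sdim_lt_of_specializes _ hz h).le

theorem rd_comp [LocallyOfFiniteType f] [LocallyOfFiniteType g] (x : X) :
    FibDim14.rd (f ≫ g) x = FibDim14.rd g (f x) + FibDim14.rd f x := by
  have h := FibDim14.rdeg_comp f g x
  rw [FibDim14.rdeg_eq_rd (f ≫ g), FibDim14.rdeg_eq_rd g, FibDim14.rdeg_eq_rd f, ← Nat.cast_add] at h
  exact Nat.cast_inj.1 h

theorem hasRelDim_comp [Flat f] [LocallyOfFiniteType f] [LocallyOfFiniteType g] {r s : ℕ}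
    (hr : Cyc.HasRelDim f r) (hs : Cyc.HasRelDim g s) : Cyc.HasRelDim (f ≫ g) (r + s) := by
  intro z T hT
  have hTc := isClosed_of_mem_irreducibleComponents T hT
  have hTi : IsIrreducible T := hT.1
  rw [VarDim.dim_irreducible_isClosed (FibDim14.toPt (f ≫ g) z) hTc hTi]
  set w := hTi.genericPoint with hw
  have hmax : ∀ v, v ⤳ w → v = w := fun v hv => by
    have hsub : T ⊆ closure {v} := by
      rw [← hTi.closure_genericPoint hTc]
      exact hv.closure_subset
    have hv' : v ∈ T := hT.2 (isIrreducible_singleton.closure) hsub (subset_closure rfl)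
    have hgv : w ⤳ v := by rw [hw, specializes_iff_mem_closure, hTi.closure_genericPoint hTc]; exact hv'
    exact (hv.antisymm hgv).eq
  set x := (f ≫ g).fiberι z w with hx
  have hxz : g (f x) = z := by
    have h4 : (f ≫ g).fiberι z w ∈ (f ≫ g) ⁻¹' {z} := by rw [← Scheme.Hom.range_fiberι]; exact ⟨w, rfl⟩
    exact h4
  have hxmax : ∀ x', x' ⤳ x → g (f x') = z → x' = x := fun x' h1 h2 => by
    have h3 : x' ∈ Set.range ((f ≫ g).fiberι z) := by rw [Scheme.Hom.range_fiberι]; exact h2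
    obtain ⟨v, rfl⟩ := h3
    rw [hx, hmax v (((f ≫ g).fiberι z).isEmbedding.isInducing.specializes_iff.1 h1)]
  have e1 : FibDim14.rd f x = r :=
    UCat26.rd_eq_of_hasRelDim f hr fun x' h1 h2 => hxmax x' h1 (by rw [h2, hxz])
  have e2 : FibDim14.rd g (f x) = s := UCat26.rd_eq_of_hasRelDim g hs fun y' h1 h2 => by
    obtain ⟨x', hx', rfl⟩ := Flat.generalizingMap f h1
    rw [hxmax x' hx' (h2.trans hxz)]
  have e := rd_comp f g x
  rw [e1, e2, hx, FibDim14.rd_fiberι] at e
  exact Nat.cast_inj.2 (e.trans (Nat.add_comm s r))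

theorem length_comp [Flat f] (x : X) :
    Module.length (X.presheaf.stalk x) (X.presheaf.stalk x ⧸ Ideal.map ((f ≫ g).stalkMap x).hom
      (IsLocalRing.maximalIdeal (Z.presheaf.stalk ((f ≫ g) x)))) =
    Module.length (Y.presheaf.stalk (f x)) (Y.presheaf.stalk (f x) ⧸ Ideal.map (g.stalkMap (f x)).hom
      (IsLocalRing.maximalIdeal (Z.presheaf.stalk (g (f x))))) *
    Module.length (X.presheaf.stalk x) (X.presheaf.stalk x ⧸ Ideal.map (f.stalkMap x).hom
      (IsLocalRing.maximalIdeal (Y.presheaf.stalk (f x)))) := by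
  letI := (f.stalkMap x).hom.toAlgebra
  haveI : Module.Flat (Y.presheaf.stalk (f x)) (X.presheaf.stalk x) := (Flat.iff_flat_stalkMap f).1 inferInstance x
  haveI : IsLocalHom (algebraMap (Y.presheaf.stalk (f x)) (X.presheaf.stalk x)) :=
    inferInstanceAs (IsLocalHom (f.stalkMap x).hom)
  rw [Scheme.Hom.stalkMap_comp]
  show Module.length (X.presheaf.stalk x) (X.presheaf.stalk x ⧸ Ideal.map ((f.stalkMap x).hom.comp (g.stalkMap (f x)).hom)
      (IsLocalRing.maximalIdeal (Z.presheaf.stalk (g (f x))))) = _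
  rw [← Ideal.map_map]
  exact length_quotient_map (Y.presheaf.stalk (f x)) (X.presheaf.stalk x) _

theorem pullFun_comp [Flat f] [LocallyOfFiniteType f] [LocallyOfFiniteType g] {r s : ℕ}
    (hr : Cyc.HasRelDim f r) (hs : Cyc.HasRelDim g s) {δX : X → ℤ} {δY : Y → ℤ} {δZ : Z → ℤ}
    (hf : Cyc.DeltaCompat f δX δY) (hg : Cyc.DeltaCompat g δY δZ) (α : Z → ℤ) :
    Cyc.pullFun f δX δY r (Cyc.pullFun g δY δZ s α) = Cyc.pullFun (f ≫ g) δX δZ ((r : ℤ) + s) α := by
  funext x
  have hfg : (f ≫ g) x = g (f x) := rfl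
  have h1 := UCat26.delta_eq_add_rd f hf x
  have h2 := UCat26.delta_eq_add_rd g hg (f x)
  have l1 := rd_le_of_hasRelDim f hr x
  have l2 := rd_le_of_hasRelDim g hs (f x)
  rcases eq_or_ne (δX x) (δY (f x) + r) with e1 | e1
  · rcases eq_or_ne (δY (f x)) (δZ (g (f x)) + s) with e2 | e2
    · simp only [Cyc.pullFun]
      rw [if_pos e1, if_pos e2, if_pos (show δX x = δZ ((f ≫ g) x) + ((r : ℤ) + s) by rw [hfg]; omega), length_comp f g x,
        ENat.toNat_mul, hfg]
      push_cast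
      ring
    · simp only [Cyc.pullFun]
      rw [if_pos e1, if_neg e2, if_neg (show ¬ δX x = δZ ((f ≫ g) x) + ((r : ℤ) + s) by rw [hfg]; omega), zero_mul]
  · simp only [Cyc.pullFun]
    rw [if_neg e1, if_neg (show ¬ δX x = δZ ((f ≫ g) x) + ((r : ℤ) + s) by rw [hfg]; omega)]

end Groth.Agent.Cyc26
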