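import Groth.Agent.Lib.Cyc26.C1Struct
import Groth.Agent.Lib.Cyc26.Pull

/-! # Orders of functions along immediate specialisations; flat pullbacks -/

set_option autoImplicit false
universe u

set_option backward.isDefEq.respectTransparency.types false

open CategoryTheory AlgebraicGeometry TopologicalSpace Groth.Agent.M1

namespace Groth.Agent.Cyc26

variable {X Y Z : Scheme.{u}}

theorem residue_eq_zero (x : X) (a : X.presheaf.stalk x) :
    X.residue x a = 0 ↔ a ∈ IsLocalRing.maximalIdeal (X.presheaf.stalk x) := IsLocalRing.residue_eq_zero_iff a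

theorem isFractionRing_locQuot {x ξ : X} (h : ξ ⤳ x) : IsFractionRing (Cyc.LocQuot x ξ h) (X.residueField ξ) := by
  haveI : FaithfulSMul (Cyc.LocQuot x ξ h) (X.residueField ξ) := (faithfulSMul_iff_algebraMap_injective _ _).2
    (RingHom.lift_injective_of_ker_le_ideal _ _ le_rfl)
  refine IsFractionRing.of_field _ _ fun z => ?_
  obtain ⟨U, hU, hx, -⟩ := exists_isAffineOpen_mem_and_subset (U := (⊤ : X.Opens)) (x := x) trivial
  obtain ⟨a, b, rfl⟩ := VarDim.exists_evaluation_eq_div hU ξ (h.mem_open U.isOpen hx) z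
  have hev : ∀ c, Cyc.specMap x ξ h (X.presheaf.germ U x hx c) = X.evaluation U ξ (h.mem_open U.isOpen hx) c :=
    fun c => congrArg (X.residue ξ) (TopCat.Presheaf.germ_stalkSpecializes_apply X.presheaf hx h c)
  exact ⟨Ideal.Quotient.mk _ (X.presheaf.germ U x hx a), Ideal.Quotient.mk _ (X.presheaf.germ U x hx b), by
    rw [← hev, ← hev]; rfl⟩

theorem noetherian_locQuot [IsLocallyNoetherian X] {x ξ : X} (h : ξ ⤳ x) : IsNoetherianRing (Cyc.LocQuot x ξ h) :=
  isNoetherianRing_of_surjective _ _ (Ideal.Quotient.mk _) Ideal.Quotient.mk_surjective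

theorem dim_locQuot_le_one {δ : X → ℤ} (hd : Cyc.IsDimFun X δ) {x ξ : X} (h : ξ ⤳ x) (hδ : δ x + 1 = δ ξ) :
    ringKrullDim (Cyc.LocQuot x ξ h) ≤ 1 := by
  rw [UCat26.ringKrullDim_locQuot hd ξ x h, show (δ ξ - δ x).toNat = 1 by omega]
  exact le_of_eq Nat.cast_one

theorem ker_specMap_generic [IsIntegral X] {x : X} (h : genericPoint X ⤳ x) :
    RingHom.ker (Cyc.specMap x (genericPoint X) h) = ⊥ := by
  refine eq_bot_iff.2 fun a ha => ?_
  obtain ⟨W, hW, r, rfl⟩ := X.presheaf.exists_germ_eq a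
  have hη : genericPoint X ∈ W := h.mem_open W.isOpen hW
  haveI : Nonempty W := ⟨⟨_, hη⟩⟩
  have h0 : X.residue (genericPoint X) (X.presheaf.stalkSpecializes h (X.presheaf.germ W x hW r)) = 0 := ha
  rw [TopCat.Presheaf.germ_stalkSpecializes_apply, residue_eq_zero] at h0
  have hf : IsField (X.presheaf.stalk (genericPoint X)) :=
    isField_stalk_of_closure_mem_irreducibleComponents X _ (by simp [irreducibleComponents_eq_singleton])
  rw [(IsLocalRing.isField_iff_maximalIdeal_eq).1 hf, Ideal.mem_bot] at h0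
  have hr : r = 0 := germ_injective_of_isIntegral X (genericPoint X) hη (h0.trans (map_zero _).symm)
  rw [hr, map_zero]
  exact zero_mem _

theorem ordAt_specMap_generic [IsIntegral X] [IsLocallyNoetherian X] {δ : X → ℤ} (hd : Cyc.IsDimFun X δ) {x : X}
    (h : genericPoint X ⤳ x) (hδ : δ x + 1 = δ (genericPoint X)) {a : X.presheaf.stalk x} (ha : a ≠ 0) :
    Cyc.ordAt x (genericPoint X) h (Cyc.specMap x (genericPoint X) h a) =
      ((Module.length (X.presheaf.stalk x) (X.presheaf.stalk x ⧸ Ideal.span {a})).toNat : ℤ) := by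
  haveI := isFractionRing_locQuot h
  haveI := noetherian_locQuot h
  let e : X.presheaf.stalk x ≃+* Cyc.LocQuot x (genericPoint X) h :=
    ((RingEquiv.quotientBot _).symm.trans (Ideal.quotEquivOfEq (ker_specMap_generic h).symm))
  have he : ∀ b, e b = Ideal.Quotient.mk _ b := fun b => rfl
  rw [length_quotient_transfer e a, he]
  have hq : (Ideal.Quotient.mk (RingHom.ker (Cyc.specMap x (genericPoint X) h)) a) ≠ 0 := by
    rw [← he]; exact (map_ne_zero_iff e e.injective).2 ha
  haveI : IsDomain (Cyc.LocQuot x (genericPoint X) h) := inferInstance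
  exact (Lattice26.ordFrac_algebraMap (A := Cyc.LocQuot x (genericPoint X) h) (K := X.residueField (genericPoint X))
    (dim_locQuot_le_one hd h hδ) (a := Ideal.Quotient.mk _ a) hq).1

theorem ordAt_specMap_of_eq [IsIntegral X] [IsLocallyNoetherian X] {δ : X → ℤ} (hd : Cyc.IsDimFun X δ) {x ξ : X}
    (he : ξ = genericPoint X) (h : ξ ⤳ x) (hδ : δ x + 1 = δ ξ) {a : X.presheaf.stalk x} (ha : a ≠ 0) :
    Cyc.ordAt x ξ h (Cyc.specMap x ξ h a) =
      ((Module.length (X.presheaf.stalk x) (X.presheaf.stalk x ⧸ Ideal.span {a})).toNat : ℤ) := by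
  subst he
  exact ordAt_specMap_generic hd h hδ ha

theorem isUnit_of_specMap_ne_zero {x ξ : X} (he : x = ξ) (h : ξ ⤳ x) {c : X.presheaf.stalk x}
    (hc : Cyc.specMap x ξ h c ≠ 0) : IsUnit c := by
  subst he
  by_contra hn
  refine hc ?_
  show X.residue _ (X.presheaf.stalkSpecializes h c) = 0
  rw [show X.presheaf.stalkSpecializes h = 𝟙 _ from TopCat.Presheaf.stalkSpecializes_refl X.presheaf _]
  exact (residue_eq_zero _ c).2 hn

theorem stalkSpecializes_smul (M : X.Modules) {x ξ : X} (h : ξ ⤳ x) (r : X.presheaf.stalk x)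
    (m : M.presheaf.stalk x) :
    M.presheaf.stalkSpecializes h (r • m) = X.presheaf.stalkSpecializes h r • M.presheaf.stalkSpecializes h m := by
  obtain ⟨V, hV, r, rfl⟩ := X.presheaf.exists_germ_eq r
  obtain ⟨W, hW, m, rfl⟩ := M.presheaf.exists_germ_eq m
  rw [← X.presheaf.germ_res_apply (homOfLE inf_le_left) x (show x ∈ V ⊓ W from ⟨hV, hW⟩) r,
    ← germ_mres M (inf_le_right : V ⊓ W ≤ W) ⟨hV, hW⟩ m, ← germ_smul, TopCat.Presheaf.germ_stalkSpecializes_apply,
    TopCat.Presheaf.germ_stalkSpecializes_apply, TopCat.Presheaf.germ_stalkSpecializes_apply, germ_smul]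

/-- The divisor of a global section is the cycle of its zero scheme. -/
theorem secDivFun_globalSection [IsIntegral X] [IsLocallyNoetherian X] {δ : X → ℤ} (hd : Cyc.IsDimFun X δ)
    {n : ℤ} (hn : δ (genericPoint X) = n) (L : X.Modules) (s : L.presheaf.obj (Opposite.op ⊤))
    (hs : (L.presheaf.germ ⊤ (genericPoint X) trivial) s ≠ 0) :
    Cyc.secDivFun δ L (genericPoint X) (Submodule.Quotient.mk ((L.presheaf.germ ⊤ (genericPoint X) trivial) s)) =
      Cyc.zeroSectionFun δ (n - 1) L s := by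
  funext x
  have hsp : genericPoint X ⤳ x := genericPoint_specializes x
  simp only [Cyc.secDivFun, Cyc.zeroSectionFun]
  by_cases hδ : δ x = n - 1
  swap
  · rw [dif_neg fun h => hδ (by omega), if_neg hδ]
  have hδ' : δ x + 1 = δ (genericPoint X) := by omega
  rw [dif_pos ⟨hsp, hδ'⟩, if_pos hδ]
  simp only [Cyc.secOrdAt]
  by_cases ht : ∃ t : L.presheaf.stalk x, Submodule.span (X.presheaf.stalk x) {t} = ⊤
  swap
  · rw [dif_neg ht, dif_neg ht]
  rw [dif_pos ht, dif_pos ht]
  have hf : ∃ f : X.presheaf.stalk x, (L.presheaf.germ ⊤ x trivial) s = f • Classical.choose ht := by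
    obtain ⟨f, hf⟩ := Submodule.mem_span_singleton.1 ((Classical.choose_spec ht).ge
      (Submodule.mem_top (x := (L.presheaf.germ ⊤ x trivial) s)))
    exact ⟨f, hf.symm⟩
  rw [dif_pos hf]
  have hfe := Classical.choose_spec hf
  set t := Classical.choose ht
  set f := Classical.choose hf
  have hsη : (L.presheaf.germ ⊤ (genericPoint X) trivial) s =
      X.presheaf.stalkSpecializes hsp f • L.presheaf.stalkSpecializes hsp t := by
    rw [← stalkSpecializes_smul, ← hfe]
    exact (TopCat.Presheaf.germ_stalkSpecializes_apply L.presheaf (show x ∈ (⊤ : X.Opens) from trivial) hsp s).symm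
  have hfield : IsLocalRing.maximalIdeal (X.presheaf.stalk (genericPoint X)) = ⊥ :=
    (IsLocalRing.isField_iff_maximalIdeal_eq).1
      (isField_stalk_of_closure_mem_irreducibleComponents X _ (by simp [irreducibleComponents_eq_singleton]))
  have hmk : ∀ v : L.presheaf.stalk (genericPoint X),
      (Submodule.Quotient.mk v : Cyc.secFibre L (genericPoint X)) = 0 → v = 0 := fun v hv => by
    rw [Submodule.Quotient.mk_eq_zero, hfield, Submodule.bot_smul, Submodule.mem_bot] at hv
    exact hv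
  have hφ : ∃ φ : X.presheaf.stalk (genericPoint X),
      (Submodule.Quotient.mk ((L.presheaf.germ ⊤ (genericPoint X) trivial) s) : Cyc.secFibre L (genericPoint X)) =
        φ • (Submodule.Quotient.mk (L.presheaf.stalkSpecializes hsp t) : Cyc.secFibre L (genericPoint X)) :=
    ⟨X.presheaf.stalkSpecializes hsp f, by rw [hsη]; rfl⟩
  rw [dif_pos hφ]
  have he := Classical.choose_spec hφ
  set φ := Classical.choose hφ
  rw [hsη, Submodule.Quotient.mk_smul, ← sub_eq_zero, ← sub_smul, ← Submodule.Quotient.mk_smul] at he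
  have he' := hmk _ he
  have ht0 : L.presheaf.stalkSpecializes hsp t ≠ 0 := fun h0 => hs (by rw [hsη, h0, smul_zero])
  have hres : X.residue (genericPoint X) (X.presheaf.stalkSpecializes hsp f - φ) = 0 := by
    rw [residue_eq_zero]
    by_contra hu
    rw [IsLocalRing.mem_maximalIdeal, mem_nonunits_iff, not_not] at hu
    exact ht0 ((IsUnit.smul_eq_zero hu).1 he')
  rw [map_sub, sub_eq_zero] at hres
  rw [← hres]
  refine ordAt_specMap_generic hd hsp hδ' fun h0 => hs ?_
  rw [hsη, h0, map_zero, zero_smul]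

/-- Flat pullback of a principal divisor on an integral scheme. -/
theorem pullFun_divFun [IsIntegral X] [IsIntegral Y] [IsLocallyNoetherian X] [IsLocallyNoetherian Y]
    {δX : X → ℤ} {δY : Y → ℤ} (hdX : Cyc.IsDimFun X δX) (hdY : Cyc.IsDimFun Y δY) (f : X ⟶ Y) [Flat f]
    [LocallyOfFiniteType f] {r : ℕ} (hr : Cyc.HasRelDim f r) (hδ : Cyc.DeltaCompat f δX δY)
    (g : Y.residueField (f (genericPoint X))) (hg : g ≠ 0) :
    Cyc.pullFun f δX δY r (Cyc.divFun δY (f (genericPoint X)) g) =
      Cyc.divFun δX (genericPoint X) (f.residueFieldMap (genericPoint X) g) := by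
  have hη : f (genericPoint X) = genericPoint Y := by
    obtain ⟨w, hw, hfw⟩ := Flat.generalizingMap f (genericPoint_specializes (f (genericPoint X)))
    rw [← (hw.antisymm (genericPoint_specializes w)).eq, hfw]
  have hrd : FibDim14.rd f (genericPoint X) = r := UCat26.rd_eq_of_hasRelDim f hr fun x' h _ =>
    (h.antisymm (genericPoint_specializes x')).eq
  have hdim : δX (genericPoint X) = δY (f (genericPoint X)) + r := by
    rw [UCat26.delta_eq_add_rd f hδ, hrd]
  funext x
  have h1 := UCat26.delta_eq_add_rd f hδ x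
  have l1 := rd_le_of_hasRelDim f hr x
  have hxη : genericPoint X ⤳ x := genericPoint_specializes x
  have hfx : f (genericPoint X) ⤳ f x := hxη.map f.continuous
  simp only [Cyc.pullFun, Cyc.divFun]
  by_cases hx : δX x + 1 = δX (genericPoint X)
  swap
  · have hnn : ¬ (genericPoint X ⤳ x ∧ δX x + 1 = δX (genericPoint X)) := fun h => hx h.2
    simp only [dif_neg hnn]
    split_ifs with h2 h3
    · exact absurd (show δX x + 1 = δX (genericPoint X) by omega) hx
    · rw [zero_mul]
    · rfl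
  simp only [dif_pos (show genericPoint X ⤳ x ∧ δX x + 1 = δX (genericPoint X) from ⟨hxη, hx⟩)]
  have hsq : ∀ a, f.residueFieldMap (genericPoint X) (Cyc.specMap (f x) (f (genericPoint X)) hfx a) =
      Cyc.specMap x (genericPoint X) hxη (f.stalkMap x a) := fun a => by
    show f.residueFieldMap (genericPoint X) (Y.residue _ (Y.presheaf.stalkSpecializes hfx a)) =
      X.residue _ (X.presheaf.stalkSpecializes hxη (f.stalkMap x a))
    rw [← Scheme.Hom.stalkSpecializes_stalkMap_apply f (genericPoint X) x hxη a]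
    exact ConcreteCategory.congr_hom (Scheme.residue_residueFieldMap f _) _
  haveI := isFractionRing_locQuot hfx
  obtain ⟨a, b, hb, rfl⟩ := IsFractionRing.div_surjective (A := Cyc.LocQuot (f x) (f (genericPoint X)) hfx) g
  obtain ⟨a, rfl⟩ := Ideal.Quotient.mk_surjective a
  obtain ⟨b, rfl⟩ := Ideal.Quotient.mk_surjective b
  have hbS : Cyc.specMap (f x) (f (genericPoint X)) hfx b ≠ 0 :=
    IsFractionRing.to_map_ne_zero_of_mem_nonZeroDivisors
      (K := Y.residueField (f (genericPoint X))) hb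
  have hgdiv : algebraMap (Cyc.LocQuot (f x) (f (genericPoint X)) hfx) (Y.residueField (f (genericPoint X)))
      (Ideal.Quotient.mk (RingHom.ker (Cyc.specMap (f x) (f (genericPoint X)) hfx)) a) /
      algebraMap (Cyc.LocQuot (f x) (f (genericPoint X)) hfx) (Y.residueField (f (genericPoint X)))
      (Ideal.Quotient.mk (RingHom.ker (Cyc.specMap (f x) (f (genericPoint X)) hfx)) b) =
      Cyc.specMap (f x) (f (genericPoint X)) hfx a / Cyc.specMap (f x) (f (genericPoint X)) hfx b := rfl
  rw [hgdiv] at hg ⊢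
  have haS : Cyc.specMap (f x) (f (genericPoint X)) hfx a ≠ 0 := fun h0 => hg (by rw [h0, zero_div])
  rw [map_div₀, hsq, hsq]
  have haX : Cyc.specMap x (genericPoint X) hxη (f.stalkMap x a) ≠ 0 := by rw [← hsq]; exact (map_ne_zero _).2 haS
  have hbX : Cyc.specMap x (genericPoint X) hxη (f.stalkMap x b) ≠ 0 := by rw [← hsq]; exact (map_ne_zero _).2 hbS
  have hdiv : Cyc.ordAt x (genericPoint X) hxη (Cyc.specMap x (genericPoint X) hxη (f.stalkMap x a) /
      Cyc.specMap x (genericPoint X) hxη (f.stalkMap x b)) =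
      Cyc.ordAt x (genericPoint X) hxη (Cyc.specMap x (genericPoint X) hxη (f.stalkMap x a)) -
      Cyc.ordAt x (genericPoint X) hxη (Cyc.specMap x (genericPoint X) hxη (f.stalkMap x b)) := by
    have h := ordFrac_mul_all (R := Cyc.LocQuot x (genericPoint X) hxη) (div_ne_zero haX hbX) hbX
    rw [div_mul_cancel₀ _ hbX] at h
    unfold Cyc.ordAt
    omega
  rw [hdiv]
  by_cases hy : δY (f x) + 1 = δY (f (genericPoint X))
  · have hxr : δX x = δY (f x) + r := by omega
    rw [if_pos hxr, dif_pos ⟨hfx, hy⟩]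
    have hya : a ≠ 0 := fun h0 => haS (by rw [h0, map_zero])
    have hyb : b ≠ 0 := fun h0 => hbS (by rw [h0, map_zero])
    have hdivY : Cyc.ordAt (f x) (f (genericPoint X)) hfx (Cyc.specMap _ _ hfx a / Cyc.specMap _ _ hfx b) =
        Cyc.ordAt (f x) (f (genericPoint X)) hfx (Cyc.specMap _ _ hfx a) -
        Cyc.ordAt (f x) (f (genericPoint X)) hfx (Cyc.specMap _ _ hfx b) := by
      have h := ordFrac_mul_all (R := Cyc.LocQuot (f x) (f (genericPoint X)) hfx) (div_ne_zero haS hbS) hbS
      rw [div_mul_cancel₀ _ hbS] at h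
      unfold Cyc.ordAt
      omega
    rw [hdivY]
    have hY : ∀ c, c ≠ 0 → Cyc.ordAt (f x) (f (genericPoint X)) hfx (Cyc.specMap _ _ hfx c) =
        ((Module.length (Y.presheaf.stalk (f x)) (Y.presheaf.stalk (f x) ⧸ Ideal.span {c})).toNat : ℤ) := by
      intro c hc
      exact ordAt_specMap_of_eq hdY hη hfx hy hc
    rw [hY a hya, hY b hyb, ordAt_specMap_generic hdX hxη hx (fun h0 => haX (by rw [h0, map_zero])),
      ordAt_specMap_generic hdX hxη hx (fun h0 => hbX (by rw [h0, map_zero]))]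
    letI := (f.stalkMap x).hom.toAlgebra
    haveI : Module.Flat (Y.presheaf.stalk (f x)) (X.presheaf.stalk x) := (Flat.iff_flat_stalkMap f).1 inferInstance x
    haveI : IsLocalHom (algebraMap (Y.presheaf.stalk (f x)) (X.presheaf.stalk x)) :=
      inferInstanceAs (IsLocalHom (f.stalkMap x).hom)
    have hl : ∀ c, Module.length (X.presheaf.stalk x) (X.presheaf.stalk x ⧸ Ideal.span {f.stalkMap x c}) =
        Module.length (Y.presheaf.stalk (f x)) (Y.presheaf.stalk (f x) ⧸ Ideal.span {c}) *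
        Module.length (X.presheaf.stalk x) (X.presheaf.stalk x ⧸ Ideal.map (f.stalkMap x).hom
          (IsLocalRing.maximalIdeal (Y.presheaf.stalk (f x)))) := fun c => by
      have h := length_quotient_map (Y.presheaf.stalk (f x)) (X.presheaf.stalk x) (Ideal.span {c})
      rw [Ideal.map_span, Set.image_singleton] at h
      exact h
    rw [hl, hl, ENat.toNat_mul, ENat.toNat_mul]
    push_cast
    ring
  · have hfη : δY (f x) = δY (f (genericPoint X)) := by
      have := UCat26.delta_le_of_specializes hdY hfx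
      omega
    have hxr : ¬ δX x = δY (f x) + r := by omega
    rw [if_neg hxr]
    have hfe : f x = f (genericPoint X) := by
      by_contra hne
      have := (hdY _ _ hfx fun e => hne e.symm).1
      omega
    have hu : ∀ c, Cyc.specMap (f x) (f (genericPoint X)) hfx c ≠ 0 → IsUnit c := fun c hc =>
      isUnit_of_specMap_ne_zero hfe hfx hc
    rw [ordAt_eq_zero_of_isUnit hxη ((hu a haS).map _), ordAt_eq_zero_of_isUnit hxη ((hu b hbS).map _), sub_zero]

theorem exists_maximal_fibre [IsLocallyNoetherian X] {δ : X → ℤ} (hd : Cyc.IsDimFun X δ) (p : X ⟶ Y) (x : X) :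
    ∃ x₀, x₀ ⤳ x ∧ p x₀ = p x ∧ ∀ y, p y = p x₀ → y ⤳ x₀ → y = x₀ := by
  obtain ⟨N, hN⟩ := ENat.ne_top_iff_exists.1 (DimF18.coheight_ne_top x)
  have hb : ∀ y, y ⤳ x → δ y ≤ δ x + N := fun y hy => by
    obtain ⟨l, hl0, -, hl⟩ := UCat26.exists_series hd (δ y - δ x).toNat y x hy (Int.self_le_toNat _)
    have h1 : (l.length : ℕ∞) ≤ Order.coheight x := hl0 ▸ Order.length_le_coheight_head
    rw [← hN] at h1
    have : l.length ≤ N := Nat.cast_le.1 h1
    omega
  obtain ⟨m, hm, hmax⟩ := Int.exists_greatest_of_bdd (P := fun m => ∃ y, y ⤳ x ∧ p y = p x ∧ δ y = m)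
    ⟨δ x + N, fun z ⟨y, hy, _, hz⟩ => hz ▸ hb y hy⟩ ⟨δ x, x, specializes_rfl, rfl, rfl⟩
  obtain ⟨x₀, h1, h2, h3⟩ := hm
  refine ⟨x₀, h1, h2, fun y hy hsp => ?_⟩
  by_contra hne
  have := (hd y x₀ hsp hne).1
  have := hmax (δ y) ⟨y, hsp.trans h1, hy.trans h2, rfl⟩
  omega

theorem pullFun_comp_shift [IsLocallyNoetherian Y] [IsLocallyNoetherian X] (q : X ⟶ Y) [Flat q] (p : Y ⟶ Z)
    {δX : X → ℤ} {δY : Y → ℤ} {δZ : Z → ℤ} (hdX : Cyc.IsDimFun X δX) (hdY : Cyc.IsDimFun Y δY) {c c' : ℤ}
    (hc : ∀ y : Y, (∀ w, p w = p y → w ⤳ y → w = y) → δY y = δZ (p y) + c)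
    (hc' : ∀ x : X, (∀ w, q w = q x → w ⤳ x → w = x) → δX x = δY (q x) + c') (α : Z → ℤ) :
    (∀ x : X, (∀ w, (q ≫ p) w = (q ≫ p) x → w ⤳ x → w = x) → δX x = δZ ((q ≫ p) x) + (c + c')) ∧
      Cyc.pullFun (q ≫ p) δX δZ (c + c') α = Cyc.pullFun q δX δY c' (Cyc.pullFun p δY δZ c α) := by
  refine ⟨fun x hmax => ?_, funext fun x => ?_⟩
  · have h1 : ∀ w, p w = p (q x) → w ⤳ q x → w = q x := fun w hw hsp => by
      obtain ⟨v, hv, rfl⟩ := Flat.generalizingMap q hsp
      rw [hmax v hw hv]
    have h2 : ∀ w, q w = q x → w ⤳ x → w = x := fun w hw hsp =>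
      hmax w (show p (q w) = p (q x) by rw [hw]) hsp
    have e1 := hc _ h1
    have e2 := hc' _ h2
    show δX x = δZ (p (q x)) + (c + c')
    omega
  · have l1 : δX x ≤ δY (q x) + c' := by
      obtain ⟨x₀, h1, h2, h3⟩ := exists_maximal_fibre hdX q x
      have := hc' x₀ h3
      rw [h2] at this
      have := UCat26.delta_le_of_specializes hdX h1
      omega
    have l2 : δY (q x) ≤ δZ (p (q x)) + c := by
      obtain ⟨y₀, h1, h2, h3⟩ := exists_maximal_fibre hdY p (q x)
      have := hc y₀ h3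
      rw [h2] at this
      have := UCat26.delta_le_of_specializes hdY h1
      omega
    have hqp : (q ≫ p) x = p (q x) := rfl
    simp only [Cyc.pullFun]
    rcases eq_or_ne (δX x) (δY (q x) + c') with e1 | e1
    · rcases eq_or_ne (δY (q x)) (δZ (p (q x)) + c) with e2 | e2
      · rw [if_pos e1, if_pos e2, if_pos (show δX x = δZ ((q ≫ p) x) + (c + c') by rw [hqp]; omega), length_comp q p x,
          ENat.toNat_mul, hqp]
        push_cast
        ring
      · rw [if_pos e1, if_neg e2, if_neg (show ¬ δX x = δZ ((q ≫ p) x) + (c + c') by rw [hqp]; omega), zero_mul]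
    · rw [if_neg e1, if_neg (show ¬ δX x = δZ ((q ≫ p) x) + (c + c') by rw [hqp]; omega)]

end Groth.Agent.Cyc26
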