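import Mathlib
import Groth.Prelude.Def_Cyc

/-! # Cycles on a limit of schemes with affine flat transition maps -/

set_option autoImplicit false
universe u

open CategoryTheory CategoryTheory.Limits AlgebraicGeometry IsLocalRing

namespace Groth.Agent.Cyc26Lim

/-- `g` has no point in the fibre of `y` outside the closure of `y` and the fibre is reduced at `y`. -/
structure Good {X Y : Scheme.{u}} (g : X ⟶ Y) (y : X) : Prop where
  spec : ∀ z : X, g z = g y → y ⤳ z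
  max : maximalIdeal (X.presheaf.stalk y) ≤
    Ideal.map (g.stalkMap y).hom (maximalIdeal (Y.presheaf.stalk (g y)))

theorem map_le_map {X Y Z : Scheme.{u}} (f : X ⟶ Y) (g : Y ⟶ Z) (h : X ⟶ Z) (e : f ≫ g = h) (y : X) :
    Ideal.map (h.stalkMap y).hom (maximalIdeal (Z.presheaf.stalk (h y))) ≤
      Ideal.map (f.stalkMap y).hom (maximalIdeal (Y.presheaf.stalk (f y))) := by
  subst e
  rw [Scheme.Hom.stalkMap_comp]
  show Ideal.map ((f.stalkMap y).hom.comp (g.stalkMap (f y)).hom) (maximalIdeal (Z.presheaf.stalk (g (f y)))) ≤ _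
  rw [← Ideal.map_map]
  refine Ideal.map_mono ?_
  rw [Ideal.map_le_iff_le_comap]
  intro a ha
  exact map_nonunit (g.stalkMap (f y)).hom a ha

theorem map_max_le {X Y : Scheme.{u}} (g : X ⟶ Y) (y : X) :
    Ideal.map (g.stalkMap y).hom (maximalIdeal (Y.presheaf.stalk (g y))) ≤
      maximalIdeal (X.presheaf.stalk y) := by
  rw [Ideal.map_le_iff_le_comap]
  intro a ha
  exact map_nonunit (g.stalkMap y).hom a ha

theorem Good.of_comp {X Y Z : Scheme.{u}} {f : X ⟶ Y} (g : Y ⟶ Z) {h : X ⟶ Z} (e : f ≫ g = h) {y : X}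
    (H : Good h y) : Good f y := by
  refine ⟨fun z hz => H.spec z ?_, H.max.trans (map_le_map f g h e y)⟩
  rw [← e, Scheme.Hom.comp_apply, Scheme.Hom.comp_apply, hz]

theorem Good.eq_of_specializes {X Y : Scheme.{u}} {g : X ⟶ Y} {y y' : X} (H : Good g y) (h : g y' = g y)
    (hy : y' ⤳ y) : y' = y :=
  (hy.antisymm (H.spec y' h)).eq

theorem Good.length_eq {X Y : Scheme.{u}} {g : X ⟶ Y} {y : X} (H : Good g y) :
    Module.length (X.presheaf.stalk y) (X.presheaf.stalk y ⧸ Ideal.map (g.stalkMap y).hom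
      (maximalIdeal (Y.presheaf.stalk (g y)))) = 1 := by
  rw [le_antisymm (map_max_le g y) H.max, Module.length_eq_one_iff]
  exact isSimpleModule_iff_quot_maximal.2 ⟨_, maximalIdeal.isMaximal _, ⟨LinearEquiv.refl _ _⟩⟩

variable {I : Type u} [Category.{u} I] [IsCofiltered I] (D : I ⥤ Scheme.{u}) (c : Cone D) (hc : IsLimit c)
  [∀ {i j : I} (f : i ⟶ j), IsAffineHom (D.map f)]

/-- The projection of the cone. -/
abbrev pr (i : I) : c.pt ⟶ D.obj i := c.π.app i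

theorem pr_w {j i : I} (f : j ⟶ i) : pr D c j ≫ D.map f = pr D c i := c.w f

include hc

/-- A section of the limit over the preimage of an affine open comes from a stage. -/
theorem exists_section {i : I} {W : (D.obj i).Opens} (hW : IsAffineOpen W)
    (b : Γ(c.pt, pr D c i ⁻¹ᵁ W)) :
    ∃ (j : I) (f : j ⟶ i) (a : Γ(D.obj j, D.map f ⁻¹ᵁ W))
      (e : pr D c i ⁻¹ᵁ W ≤ pr D c j ⁻¹ᵁ D.map f ⁻¹ᵁ W),
      (pr D c j).appLE (D.map f ⁻¹ᵁ W) (pr D c i ⁻¹ᵁ W) e a = b := by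
  haveI : ∀ j : Over i, IsAffine ((opensDiagram D i W).obj j) := fun j => hW.preimage (D.map j.hom)
  let s : Γ((opensCone D c i W).pt, ⊤) := (pr D c i ⁻¹ᵁ W).topIso.inv b
  obtain ⟨j, t, ht⟩ :=
    exists_appTop_π_eq_of_isAffine_of_isLimit _ _ (isLimitOpensCone D c hc i W) s
  have e : pr D c i ⁻¹ᵁ W ≤ pr D c j.left ⁻¹ᵁ D.map j.hom ⁻¹ᵁ W := by
    rw [← Scheme.Hom.comp_preimage, pr_w D c]
  refine ⟨j.left, j.hom, (D.map j.hom ⁻¹ᵁ W).topIso.hom t, e, ?_⟩
  have hb : b = (pr D c i ⁻¹ᵁ W).topIso.hom s := by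
    simp only [s, ← ConcreteCategory.comp_apply, Iso.inv_hom_id]
    rfl
  rw [hb, ← ht]
  show _ = (pr D c i ⁻¹ᵁ W).topIso.hom (((pr D c j.left).resLE (D.map j.hom ⁻¹ᵁ W) (pr D c i ⁻¹ᵁ W) e).appTop t)
  rw [Scheme.Hom.appTop, Scheme.Hom.resLE_app_top]
  erw [CommRingCat.comp_apply, CommRingCat.comp_apply]
  exact (Iso.inv_hom_id_apply (pr D c i ⁻¹ᵁ W).topIso _).symm

theorem exists_stage_of_mem {i : I} {W : (D.obj i).Opens} (hW : IsAffineOpen W) (y : c.pt)
    (hyV : y ∈ pr D c i ⁻¹ᵁ W) (b : Γ(c.pt, pr D c i ⁻¹ᵁ W)) (hb : y ∉ c.pt.basicOpen b) :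
    ∃ (j : I) (_ : j ⟶ i),
      (∀ z : c.pt, pr D c j z = pr D c j y → z ∉ c.pt.basicOpen b) ∧
      c.pt.presheaf.germ _ y hyV b ∈
        Ideal.map ((pr D c j).stalkMap y).hom (maximalIdeal ((D.obj j).presheaf.stalk (pr D c j y))) := by
  obtain ⟨j, f, a, e, rfl⟩ := exists_section D c hc hW b
  have hbo : ∀ z : c.pt, z ∈ c.pt.basicOpen ((pr D c j).appLE _ _ e a) ↔
      z ∈ pr D c i ⁻¹ᵁ W ∧ pr D c j z ∈ (D.obj j).basicOpen a := by
    intro z
    rw [Scheme.basicOpen_appLE]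
    rfl
  refine ⟨j, f, fun z hz hzb => hb ?_, ?_⟩
  · rw [hbo] at hzb ⊢
    exact ⟨hyV, hz ▸ hzb.2⟩
  · have h1 : pr D c j y ∈ D.map f ⁻¹ᵁ W := e hyV
    have h2 : c.pt.presheaf.germ _ y hyV ((pr D c j).appLE _ _ e a) =
        (pr D c j).stalkMap y ((D.obj j).presheaf.germ _ (pr D c j y) h1 a) := by
      rw [Scheme.Hom.germ_stalkMap_apply, Scheme.Hom.appLE]
      simp only [CommRingCat.hom_comp, RingHom.comp_apply]
      exact c.pt.presheaf.germ_res_apply (homOfLE e) y hyV _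
    rw [h2]
    refine Ideal.mem_map_of_mem _ ?_
    rw [mem_maximalIdeal, mem_nonunits_iff]
    intro hu
    exact hb ((hbo y).2 ⟨hyV, (Scheme.mem_basicOpen' (D.obj j) a ⟨_, h1⟩).2 hu⟩)

theorem exists_good [IsLocallyNoetherian c.pt] (y : c.pt) : ∃ j : I, Good (pr D c j) y := by
  classical
  obtain ⟨i⟩ := IsCofiltered.nonempty (C := I)
  obtain ⟨_, ⟨W, hW : IsAffineOpen W, rfl⟩, hyW, -⟩ :=
    (D.obj i).isBasis_affineOpens.exists_subset_of_mem_open (Set.mem_univ (pr D c i y)) isOpen_univ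
  haveI := isAffineHom_π_app D c hc i
  have hV : IsAffineOpen (pr D c i ⁻¹ᵁ W) := hW.preimage _
  haveI : IsNoetherianRing Γ(c.pt, pr D c i ⁻¹ᵁ W) :=
    IsLocallyNoetherian.component_noetherian ⟨_, hV⟩
  obtain ⟨G, hG⟩ := IsNoetherian.noetherian (hV.primeIdealOf ⟨y, hyW⟩).asIdeal
  have hmem : ∀ b : Γ(c.pt, pr D c i ⁻¹ᵁ W), ∀ (z : c.pt) (hz : z ∈ pr D c i ⁻¹ᵁ W),
      b ∈ (hV.primeIdealOf ⟨z, hz⟩).asIdeal ↔ z ∉ c.pt.basicOpen b := by
    intro b z hz
    have h := hV.fromSpec_preimage_basicOpen b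
    have h' := SetLike.ext_iff.1 h (hV.primeIdealOf ⟨z, hz⟩)
    change (hV.fromSpec (hV.primeIdealOf ⟨z, hz⟩) ∈ c.pt.basicOpen b) ↔
      b ∉ (hV.primeIdealOf ⟨z, hz⟩).asIdeal at h'
    rw [IsAffineOpen.fromSpec_primeIdealOf] at h'
    exact iff_not_comm.1 h'
  have hgen : ∀ b ∈ G, y ∉ c.pt.basicOpen b := fun b hb =>
    (hmem b y hyW).1 (hG ▸ Submodule.subset_span hb)
  choose jb fb hjb using fun b : G => exists_stage_of_mem D c hc hW y hyW b (hgen b b.2)
  obtain ⟨k, hk⟩ := IsCofiltered.inf_objs_exists (insert i (Finset.univ.image jb))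
  obtain ⟨ki⟩ := hk (Finset.mem_insert_self i _)
  have hkb : ∀ (b) (hb : b ∈ G), Nonempty (k ⟶ jb ⟨b, hb⟩) := fun b hb =>
    hk (Finset.mem_insert_of_mem (Finset.mem_image_of_mem _ (Finset.mem_univ _)))
  refine ⟨k, fun z hz => ?_, ?_⟩
  · have hzW : z ∈ pr D c i ⁻¹ᵁ W := by
      show pr D c i z ∈ W
      rw [← pr_w D c ki, Scheme.Hom.comp_apply, hz, ← Scheme.Hom.comp_apply, pr_w D c ki]
      exact hyW
    have hle : hV.primeIdealOf ⟨y, hyW⟩ ≤ hV.primeIdealOf ⟨z, hzW⟩ := by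
      refine PrimeSpectrum.asIdeal_le_asIdeal _ _ |>.1 ?_
      rw [← hG, Submodule.span_le]
      intro b hb
      obtain ⟨t⟩ := hkb b hb
      refine (hmem b z hzW).2 ((hjb ⟨b, hb⟩).1 z ?_)
      rw [← pr_w D c t, Scheme.Hom.comp_apply, hz, ← Scheme.Hom.comp_apply, pr_w D c t]
    have := ((PrimeSpectrum.le_iff_specializes _ _).1 hle).map hV.fromSpec.continuous
    rw [IsAffineOpen.fromSpec_primeIdealOf, IsAffineOpen.fromSpec_primeIdealOf] at this
    exact this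
  · letI : Algebra Γ(c.pt, pr D c i ⁻¹ᵁ W) (c.pt.presheaf.stalk y) :=
      c.pt.presheaf.algebra_section_stalk ⟨y, hyW⟩
    haveI := hV.isLocalization_stalk ⟨y, hyW⟩
    rw [← IsLocalization.AtPrime.map_eq_maximalIdeal (hV.primeIdealOf ⟨y, hyW⟩).asIdeal
      (c.pt.presheaf.stalk y), ← hG, Ideal.map_le_iff_le_comap, Submodule.span_le]
    intro b hb
    obtain ⟨t⟩ := hkb b hb
    exact map_le_map _ _ _ (pr_w D c t) y (hjb ⟨b, hb⟩).2

theorem exists_good_of_finite [IsLocallyNoetherian c.pt] (T : Finset c.pt) :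
    ∃ j : I, ∀ y ∈ T, Good (pr D c j) y := by
  classical
  choose j hj using fun y : c.pt => exists_good D c hc y
  obtain ⟨k, hk⟩ := IsCofiltered.inf_objs_exists (T.image j)
  refine ⟨k, fun y hy => ?_⟩
  obtain ⟨t⟩ := hk (Finset.mem_image_of_mem j hy)
  exact (hj y).of_comp (D.map t) (pr_w D c t)

/-- If the fibre of the limit over `x` is empty, so is the fibre of some stage. -/
theorem exists_fibre_eq_empty [∀ i, CompactSpace (D.obj i)] {i : I} (x : D.obj i)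
    [Flat (pr D c i)] (h : ∀ z : c.pt, pr D c i z ≠ x) :
    ∃ (j : I) (f : j ⟶ i), ∀ z : D.obj j, D.map f z ≠ x := by
  by_contra! H
  obtain ⟨s, hs⟩ := exists_mem_of_isClosed_of_nonempty' D c hc
    (fun j (f : j ⟶ i) => D.map f ⁻¹' closure {x})
    (fun j f => isClosed_closure.preimage (D.map f).continuous)
    (fun j f => by
      obtain ⟨z, hz⟩ := H j f
      exact ⟨z, subset_closure hz⟩)
    (fun j f => (isClosed_closure.preimage (D.map f).continuous).isCompact)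
    (fun j k fkj fji z hz => by simpa [Functor.map_comp, Scheme.Hom.comp_apply] using hz)
  have hs' := hs i (𝟙 i)
  simp only [CategoryTheory.Functor.map_id, Set.mem_preimage, Scheme.Hom.id_base,
    TopCat.hom_id, ContinuousMap.id_apply] at hs'
  obtain ⟨z, -, hz⟩ := Flat.generalizingMap (pr D c i) (specializes_iff_mem_closure.2 hs')
  exact h z hz

end Groth.Agent.Cyc26Lim
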