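import Mathlib
import Groth.Agent.Lib.Cyc26.Limit

/-! # Pullback of cycles to a limit of schemes -/

set_option autoImplicit false
universe u

open CategoryTheory CategoryTheory.Limits AlgebraicGeometry IsLocalRing

namespace Groth.Agent.Cyc26Lim

theorem apply_fromSpecStalk {X Y : Scheme.{u}} (g : X ⟶ Y) (y : X) (q : Spec (X.presheaf.stalk y)) :
    g (X.fromSpecStalk y q) = Y.fromSpecStalk (g y) (Spec.map (g.stalkMap y) q) :=
  (congrArg (fun φ : Spec (X.presheaf.stalk y) ⟶ Y => φ q) (Scheme.SpecMap_stalkMap_fromSpecStalk g)).symm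

theorem length_pos {X Y : Scheme.{u}} [IsLocallyNoetherian X] (g : X ⟶ Y) (y : X)
    (h : ∀ y' : X, g y' = g y → y' ⤳ y → y' = y) :
    (Module.length (X.presheaf.stalk y) (X.presheaf.stalk y ⧸ Ideal.map (g.stalkMap y).hom
      (maximalIdeal (Y.presheaf.stalk (g y))))).toNat ≠ 0 := by
  set J := Ideal.map (g.stalkMap y).hom (maximalIdeal (Y.presheaf.stalk (g y))) with hJ
  haveI : Nontrivial (X.presheaf.stalk y ⧸ J) :=
    Ideal.Quotient.nontrivial_iff.2 fun ht => (maximalIdeal.isMaximal (X.presheaf.stalk y)).ne_top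
      (top_le_iff.1 (ht ▸ map_max_le g y))
  have hprime : ∀ q : PrimeSpectrum (X.presheaf.stalk y), J ≤ q.asIdeal →
      q.asIdeal = maximalIdeal (X.presheaf.stalk y) := by
    intro q hq
    have h1 : X.fromSpecStalk y q ⤳ y := by
      have : X.fromSpecStalk y q ∈ Set.range (X.fromSpecStalk y) := ⟨q, rfl⟩
      rwa [Scheme.range_fromSpecStalk] at this
    have h2 : g (X.fromSpecStalk y q) = g y := by
      refine (apply_fromSpecStalk g y q).trans ?_
      have h3 : (Spec.map (g.stalkMap y)) q = closedPoint (Y.presheaf.stalk (g y)) := by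
        refine PrimeSpectrum.ext ?_
        show Ideal.comap (g.stalkMap y).hom q.asIdeal = maximalIdeal _
        exact (le_antisymm (le_maximalIdeal (Ideal.IsPrime.comap _).ne_top)
          (Ideal.map_le_iff_le_comap.1 hq))
      exact (congrArg (Y.fromSpecStalk (g y)) h3).trans Scheme.fromSpecStalk_closedPoint
    have h4 : X.fromSpecStalk y q = X.fromSpecStalk y (closedPoint _) := by
      rw [Scheme.fromSpecStalk_closedPoint]
      exact h _ h2 h1
    rw [(X.fromSpecStalk y).isEmbedding.injective h4]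
    rfl
  haveI : Ring.KrullDimLE 0 (X.presheaf.stalk y ⧸ J) := by
    rw [Ring.krullDimLE_zero_iff]
    intro P hP
    have h1 := hprime ⟨P.comap (Ideal.Quotient.mk J), Ideal.IsPrime.comap _⟩
      (fun a ha => by
        rw [Ideal.mem_comap, Ideal.Quotient.eq_zero_iff_mem.2 ha]
        exact zero_mem _)
    haveI : (P.comap (Ideal.Quotient.mk J)).IsMaximal := by
      rw [show P.comap (Ideal.Quotient.mk J) = maximalIdeal _ from h1]
      exact maximalIdeal.isMaximal _
    rw [← Ideal.map_comap_of_surjective _ Ideal.Quotient.mk_surjective P]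
    exact Ideal.IsMaximal.map_of_surjective_of_ker_le Ideal.Quotient.mk_surjective
      (by rw [Ideal.mk_ker]; exact fun a ha => Ideal.mem_comap.2 (by rw [Ideal.Quotient.eq_zero_iff_mem.2 ha]; exact zero_mem _))
  haveI : IsArtinianRing (X.presheaf.stalk y ⧸ J) :=
    isArtinianRing_iff_isNoetherianRing_krullDimLE_zero.2 ⟨inferInstance, inferInstance⟩
  rw [Ne, ENat.toNat_eq_zero]
  rintro (h0 | h0)
  · exact (Module.length_pos (R := X.presheaf.stalk y)).ne' h0
  · rw [Module.length_eq_of_surjective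
      (R := X.presheaf.stalk y ⧸ J) (S := X.presheaf.stalk y) Ideal.Quotient.mk_surjective] at h0
    exact Module.length_ne_top h0

theorem exists_max {X Y : Scheme.{u}} {δ : X → ℤ} (g : X ⟶ Y) (z : X)
    (hX : IsLocallyNoetherian X) (hδ : Cyc.IsDimFun X δ) :
    ∃ y : X, g y = g z ∧ ∀ y' : X, g y' = g y → y' ⤳ y → y' = y := by
  classical
  haveI := hX
  set J := Ideal.map (g.stalkMap z).hom (maximalIdeal (Y.presheaf.stalk (g z))) with hJ
  obtain ⟨q, hq, hqm⟩ := Ideal.exists_minimalPrimes_le (map_max_le g z)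
  haveI := hq.1.1
  have key : ∀ q' : PrimeSpectrum (X.presheaf.stalk z), g (X.fromSpecStalk z q') = g z ↔ J ≤ q'.asIdeal := by
    intro q'
    refine (Eq.congr_left (apply_fromSpecStalk g z q')).trans ?_
    rw [hJ, Ideal.map_le_iff_le_comap]
    constructor
    · intro he
      have h5 : (Spec.map (g.stalkMap z)) q' = closedPoint (Y.presheaf.stalk (g z)) :=
        (Y.fromSpecStalk (g z)).isEmbedding.injective (he.trans Scheme.fromSpecStalk_closedPoint.symm)
      exact le_of_eq (congrArg PrimeSpectrum.asIdeal h5).symm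
    · intro hle
      have h5 : (Spec.map (g.stalkMap z)) q' = closedPoint (Y.presheaf.stalk (g z)) := by
        refine PrimeSpectrum.ext ?_
        exact (le_antisymm (le_maximalIdeal (Ideal.IsPrime.comap _).ne_top) hle)
      exact (congrArg (Y.fromSpecStalk (g z)) h5).trans Scheme.fromSpecStalk_closedPoint
  have hgy : g (X.fromSpecStalk z ⟨q, hq.1.1⟩) = g z := (key ⟨q, hq.1.1⟩).2 hq.1.2
  refine ⟨_, hgy, fun y' he hy' => ?_⟩
  have hr : y' ∈ Set.range (X.fromSpecStalk z) := by
    rw [Scheme.range_fromSpecStalk]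
    refine hy'.trans ?_
    have : X.fromSpecStalk z ⟨q, hq.1.1⟩ ∈ Set.range (X.fromSpecStalk z) := ⟨_, rfl⟩
    rwa [Scheme.range_fromSpecStalk] at this
  obtain ⟨q', rfl⟩ := hr
  have h6 : J ≤ q'.asIdeal := (key q').1 (he.trans hgy)
  have h7 : q' ⤳ (⟨q, hq.1.1⟩ : PrimeSpectrum (X.presheaf.stalk z)) :=
    (X.fromSpecStalk z).isEmbedding.isInducing.specializes_iff.1 hy'
  have h8 : q'.asIdeal ≤ q := (PrimeSpectrum.le_iff_specializes _ _).2 h7
  rw [show q' = ⟨q, hq.1.1⟩ from PrimeSpectrum.ext (le_antisymm h8 (hq.2 ⟨q'.2, h6⟩ h8))]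

theorem finite_support {X : Scheme.{u}} [CompactSpace X] (α : AlgebraicCycle X ℤ) :
    (Function.support ⇑α).Finite := by
  have := LocallyFiniteSupport.finite_inter_support_of_isCompact α.locallyFiniteSupport isCompact_univ
  simpa using this

end Groth.Agent.Cyc26Lim
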