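import Groth.Agent.Lib.Cyc26.C1Pull

/-! # Flat pullback and the first Chern class -/

set_option autoImplicit false
universe u

set_option backward.isDefEq.respectTransparency.types false

open CategoryTheory AlgebraicGeometry TopologicalSpace

namespace Groth.Agent.Cyc26

variable {X Y : Scheme.{u}} {δX : X → ℤ} {δY : Y → ℤ} {c : ℤ}

theorem maximal_of_delta_eq [IsLocallyNoetherian X] (f : X ⟶ Y) (hdX : Cyc.IsDimFun X δX)
    (hc : ∀ z, (∀ w, f w = f z → w ⤳ z → w = z) → δX z = δY (f z) + c) {ξ : X}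
    (h : δX ξ = δY (f ξ) + c) : ∀ w, f w = f ξ → w ⤳ ξ → w = ξ := by
  intro w hw hsp
  by_contra hne
  obtain ⟨z, h1, h2, h3⟩ := exists_maximal_fibre hdX f w
  have h4 := hc z h3
  rw [h2, hw, ← h] at h4
  have h5 := (hdX w ξ hsp hne).1
  have h6 := UCat26.delta_le_of_specializes hdX h1
  omega

/-- Only finitely many points of an affine open are maximal in one of finitely many given fibres. -/
theorem finite_maximal_fibre [IsLocallyNoetherian X] (f : X ⟶ Y) {I : Set Y} (hI : I.Finite) {W : X.Opens}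
    (hW : IsAffineOpen W) : {ξ | ξ ∈ W ∧ f ξ ∈ I ∧ ∀ w, f w = f ξ → w ⤳ ξ → w = ξ}.Finite := by
  refine (hI.biUnion fun η _ => finite_maximal_points (S := f ⁻¹' closure {η})
    (isClosed_closure.preimage f.continuous) hW).subset ?_
  rintro ξ ⟨h1, h2, h3⟩
  refine Set.mem_biUnion h2 ⟨show f ξ ∈ closure {f ξ} from subset_closure rfl, fun y hy hsp => ?_, h1⟩
  exact h3 y (Specializes.antisymm (hsp.map f.continuous) (specializes_iff_mem_closure.2 hy)).eq hsp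

theorem exists_cycle_pullFun [IsLocallyNoetherian X] (f : X ⟶ Y) (hdX : Cyc.IsDimFun X δX)
    (hc : ∀ z, (∀ w, f w = f z → w ⤳ z → w = z) → δX z = δY (f z) + c) (α : AlgebraicCycle Y ℤ) :
    ∃ β : AlgebraicCycle X ℤ, ⇑β = Cyc.pullFun f δX δY c ⇑α := by
  classical
  refine ⟨⟨Cyc.pullFun f δX δY c ⇑α, Set.subset_univ _, fun x _ => ?_⟩, rfl⟩
  obtain ⟨V, hV, hxV, -⟩ := exists_isAffineOpen_mem_and_subset (U := (⊤ : Y.Opens)) (x := f x) trivial
  obtain ⟨W, hW, hxW, hWV⟩ := exists_isAffineOpen_mem_and_subset (U := f ⁻¹ᵁ V) (x := x) hxV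
  refine ⟨W, W.isOpen.mem_nhds hxW, (finite_maximal_fibre f (finite_support_inter α hV) hW).subset ?_⟩
  rintro ξ ⟨hξW, hξ⟩
  have hξ' : Cyc.pullFun f δX δY c (⇑α) ξ ≠ 0 := hξ
  simp only [Cyc.pullFun] at hξ'
  split_ifs at hξ' with h
  · exact ⟨hξW, ⟨hWV hξW, left_ne_zero_of_mul hξ'⟩, maximal_of_delta_eq f hdX hc h⟩
  · exact absurd rfl hξ'

theorem pullFun_mem_Zk (f : X ⟶ Y) {k : ℤ} {α : AlgebraicCycle Y ℤ} (hα : α ∈ Cyc.Zk Y δY k)
    {β : AlgebraicCycle X ℤ} (hβ : ⇑β = Cyc.pullFun f δX δY c ⇑α) : β ∈ Cyc.Zk X δX (k + c) := fun x hx => by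
  rw [hβ]
  simp only [Cyc.pullFun]
  split_ifs with h
  · rw [hα (f x) (fun e => hx (by omega)), zero_mul]
  · rfl

/-- `f^*(c₁(L) ∩ α) = c₁(f^* L) ∩ f^* α` for pulled back sections. -/
theorem pullFun_c1Cap_secPull [IsLocallyNoetherian X] [IsLocallyNoetherian Y] (f : X ⟶ Y) [Flat f]
    (hdX : Cyc.IsDimFun X δX) (hdY : Cyc.IsDimFun Y δY)
    (hc : ∀ z, (∀ w, f w = f z → w ⤳ z → w = z) → δX z = δY (f z) + c) {L : Y.Modules}
    (hL : PicF.IsInvertible L) (α : AlgebraicCycle Y ℤ) (v : (η : Y) → Cyc.secFibre L η) (hv : ∀ η, v η ≠ 0) :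
    Cyc.pullFun f δX δY c (Cyc.c1CapFun δY L ⇑α v) =
      Cyc.c1CapFun δX ((Scheme.Modules.pullback f).obj L) (Cyc.pullFun f δX δY c ⇑α)
        (fun ξ => secPull f L ξ (v (f ξ))) := by
  classical
  funext x
  obtain ⟨U, e, hxU, -, hU, he⟩ := Amp.exists_isGenerator hL (V := ⊤) (x := f x) trivial
  obtain ⟨W, hW, hxW, hWU⟩ := exists_isAffineOpen_mem_and_subset (U := f ⁻¹ᵁ U) (x := x) hxU
  choose ψ hψ hvψ using fun (η : Y) (hη : η ∈ U) => exists_rep_gen (Amp.gen_of_isGenerator he hη) (hv η)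
  let I : Finset Y := (finite_support_inter α hU).toFinset
  have hI : ∀ η ∈ U, α η ≠ 0 → η ∈ I := fun η h1 h2 => (finite_support_inter α hU).mem_toFinset.2 ⟨h1, h2⟩
  have hIU : ∀ η ∈ I, η ∈ U := fun η hη => ((finite_support_inter α hU).mem_toFinset.1 hη).1
  let J : Finset X := (finite_maximal_fibre f I.finite_toSet hW).toFinset
  have hJ : ∀ ξ, ξ ∈ J ↔ ξ ∈ W ∧ f ξ ∈ I ∧ ∀ w, f w = f ξ → w ⤳ ξ → w = ξ := fun ξ =>
    (finite_maximal_fibre f I.finite_toSet hW).mem_toFinset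
  have hlin : Cyc.pullFun f δX δY c (Cyc.c1CapFun δY L (⇑α) v) x =
      ∑ η ∈ I, α η * Cyc.pullFun f δX δY c (Cyc.secDivFun δY L η (v η)) x := by
    simp only [Cyc.pullFun]
    split_ifs with h
    · rw [c1CapFun_eq_sum δY (⇑α) v hxU I hI, Finset.sum_mul]
      exact Finset.sum_congr rfl fun η _ => mul_assoc _ _ _
    · simp
  rw [hlin, c1CapFun_eq_sum δX _ _ hxW J fun ξ hξW hne => by
    simp only [Cyc.pullFun] at hne
    split_ifs at hne with h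
    · exact (hJ ξ).2 ⟨hξW, hI _ (hWU hξW) (left_ne_zero_of_mul hne), maximal_of_delta_eq f hdX hc h⟩
    · exact absurd rfl hne]
  rw [← Finset.sum_fiberwise_of_maps_to (g := fun ξ => f ξ) (t := I) (fun ξ hξ => ((hJ ξ).1 hξ).2.1)]
  refine Finset.sum_congr rfl fun η hη => ?_
  have hφ : Y.residue η (ψ η (hIU η hη)) ≠ 0 := hψ η _
  set φ := Y.residue η (ψ η (hIU η hη)) with hφdef
  have hdiv : Cyc.pullFun f δX δY c (Cyc.secDivFun δY L η (v η)) x =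
      Cyc.pullFun f δX δY c (Cyc.divFun δY η φ) x := by
    simp only [Cyc.pullFun]
    rw [hvψ η (hIU η hη), secDivFun_frame hL he (hIU η hη) _ hφ δY (f x) hxU]
  rw [hdiv, pullFun_divFun_general f hdX hdY hc (k := δY η - 1) (by omega) φ hφ x]
  let G : X → ℤ := fun ξ => if h : f ξ = η then
      ((Module.length (X.presheaf.stalk ξ) (X.presheaf.stalk ξ ⧸ Ideal.map (f.stalkMap ξ).hom
            (IsLocalRing.maximalIdeal (Y.presheaf.stalk (f ξ))))).toNat : ℤ) *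
          Cyc.divFun δX ξ (f.residueFieldMap ξ ((Y.residueFieldCongr h.symm).hom φ)) x else 0
  rw [finsum_congr (g := fun ξ : {ξ : X // f ξ = η ∧ ∀ w, f w = f ξ → w ⤳ ξ → w = ξ} => G ξ.1)
    (fun ξ => (dif_pos ξ.2.1).symm), finsum_subtype_eq_sum _ G (J.filter fun ξ => f ξ = η)
    (fun ξ hξ => ⟨(Finset.mem_filter.1 hξ).2, ((hJ ξ).1 (Finset.mem_filter.1 hξ).1).2.2⟩)
    (fun ξ hξ hne => by
      simp only [G, dif_pos hξ.1] at hne
      exact Finset.mem_filter.2 ⟨(hJ ξ).2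
        ⟨(specializes_of_divFun_ne_zero (right_ne_zero_of_mul hne)).1.mem_open W.isOpen hxW, hξ.1.symm ▸ hη, hξ.2⟩,
          hξ.1⟩), Finset.mul_sum]
  refine Finset.sum_congr rfl fun ξ hξ => ?_
  obtain ⟨hξJ, hξη⟩ := Finset.mem_filter.1 hξ
  subst hξη
  simp only [G, dif_pos, Cyc.pullFun]
  rw [if_pos (hc ξ ((hJ ξ).1 hξJ).2.2), Scheme.residueFieldCongr_refl, hvψ (f ξ) (hIU _ hη),
    secDivFun_secPull_frame f hL he (hIU _ hη) _ hφ δX x hxU, mul_assoc]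
  rfl

/-- Flat pullback commutes with `c₁ ∩` up to rational equivalence. -/
theorem ratEquiv_pullFun_c1Cap [IsLocallyNoetherian X] [IsLocallyNoetherian Y] (f : X ⟶ Y) [Flat f]
    (hdX : Cyc.IsDimFun X δX) (hdY : Cyc.IsDimFun Y δY)
    (hc : ∀ z, (∀ w, f w = f z → w ⤳ z → w = z) → δX z = δY (f z) + c) {L : Y.Modules}
    (hL : PicF.IsInvertible L) {k : ℤ} (α : AlgebraicCycle Y ℤ) (hα : α ∈ Cyc.Zk Y δY k)
    (v : (η : Y) → Cyc.secFibre L η) (hv : ∀ η, v η ≠ 0)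
    (u : (ξ : X) → Cyc.secFibre ((Scheme.Modules.pullback f).obj L) ξ) (hu : ∀ ξ, u ξ ≠ 0)
    (γ₁ γ₂ : AlgebraicCycle X ℤ) (h₁ : ⇑γ₁ = Cyc.pullFun f δX δY c (Cyc.c1CapFun δY L ⇑α v))
    (h₂ : ⇑γ₂ = Cyc.c1CapFun δX ((Scheme.Modules.pullback f).obj L) (Cyc.pullFun f δX δY c ⇑α) u) :
    Cyc.RatEquiv δX (k + c - 1) γ₁ γ₂ := by
  obtain ⟨β, hβ⟩ := exists_cycle_pullFun f hdX hc α
  rw [← hβ] at h₂
  rw [pullFun_c1Cap_secPull f hdX hdY hc hL α v hv, ← hβ] at h₁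
  exact ratEquiv_c1Cap (Groth.Agent.Twist.isInvertible_pullback f hL)
    (by rw [show k + c - 1 + 1 = k + c by ring]; exact pullFun_mem_Zk f hα hβ)
    (fun ξ => secPull_ne_zero f hL ξ (hv _)) hu h₁ h₂

end Groth.Agent.Cyc26
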