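import Groth.Agent.Lib.Cyc26.NormFormula
import Groth.Agent.Lib.Cyc26.Stalk
import Mathlib.AlgebraicGeometry.ZariskisMainTheorem
import Mathlib.AlgebraicGeometry.AlgebraicCycle.Basic

/-! # Proper pushforward of principal divisors -/

set_option autoImplicit false
universe u

set_option backward.isDefEq.respectTransparency.types false

open CategoryTheory AlgebraicGeometry

namespace Groth.Agent.Cyc26

variable {X Y : Scheme.{u}}

theorem isDimFun_open {δ : X → ℤ} (hd : Cyc.IsDimFun X δ) (V : X.Opens) :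
    Cyc.IsDimFun (V : Scheme.{u}) (fun v => δ (V.ι v)) := by
  intro x y h hne
  obtain ⟨h1, h2⟩ := hd (V.ι x) (V.ι y) (h.map V.ι.continuous) fun e => hne (V.ι.isOpenEmbedding.injective e)
  refine ⟨h1, fun hz => h2 fun z hxz hzy => ?_⟩
  have hzV : z ∈ V := hzy.mem_open V.2 y.2
  rcases hz ⟨z, hzV⟩ (V.ι.isOpenEmbedding.isInducing.specializes_iff.1 hxz)
    (V.ι.isOpenEmbedding.isInducing.specializes_iff.1 hzy) with e | e
  · exact Or.inl (congrArg (fun v => V.ι v) e)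
  · exact Or.inr (congrArg (fun v => V.ι v) e)

theorem delta_image_le {δX : X → ℤ} {δY : Y → ℤ} (p : X ⟶ Y) (hδ : Cyc.DeltaCompat p δX δY) (x : X) :
    δY (p x) ≤ δX x := by
  obtain ⟨n, -, hn⟩ := hδ x
  omega

/-- The points of the closure of a point lying over a point one dimension below are finitely many. -/
theorem finite_closure_inter_fibre [IsLocallyNoetherian X] {δX : X → ℤ} {δY : Y → ℤ} (hdX : Cyc.IsDimFun X δX)
    (p : X ⟶ Y) [QuasiCompact p] (hδ : Cyc.DeltaCompat p δX δY) {ξ : X} {y : Y} (hyξ : δY y + 1 = δX ξ)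
    (hne : p ξ ≠ y) :
    {x | p x = y ∧ ξ ⤳ x}.Finite ∧ ∀ x, p x = y → ξ ⤳ x → δX x = δY y := by
  have hk : ∀ x, p x = y → ξ ⤳ x → δX x = δY y := fun x hx h => by
    have h1 := delta_image_le p hδ x
    have h2 := (hdX ξ x h fun e => hne (e ▸ hx)).1
    rw [hx] at h1
    omega
  refine ⟨?_, hk⟩
  obtain ⟨W, hW, hyW, -⟩ := exists_isAffineOpen_mem_and_subset (U := (⊤ : Y.Opens)) (x := y) trivial
  have hc : IsCompact (p ⁻¹' (W : Set Y)) := p.isCompact_preimage hW.isCompact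
  choose U hU hxU hsub using fun x : X => exists_isAffineOpen_mem_and_subset (U := (⊤ : X.Opens)) (x := x) trivial
  obtain ⟨t, ht⟩ := hc.elim_finite_subcover (fun x => (U x : Set X)) (fun x => (U x).isOpen)
    (fun x _ => Set.mem_iUnion.2 ⟨x, hxU x⟩)
  refine (t.finite_toSet.biUnion fun u _ => finite_maximal_points
    (S := closure {ξ} ∩ p ⁻¹' closure {y}) (isClosed_closure.inter (isClosed_closure.preimage p.continuous))
    (hU u)).subset fun x hx => ?_
  obtain ⟨u, hu, hxu⟩ := Set.mem_iUnion₂.1 (ht (show p x ∈ (W : Set Y) from hx.1.symm ▸ hyW))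
  refine Set.mem_iUnion₂.2 ⟨u, hu, ⟨specializes_iff_mem_closure.1 hx.2,
    show p x ∈ closure {y} from hx.1.symm ▸ subset_closure rfl⟩, fun z hz hzx => ?_, hxu⟩
  have hzy : p z = y :=
    ((hzx.map p.continuous).trans (specializes_of_eq hx.1)).antisymm (specializes_iff_mem_closure.2 hz.2) |>.eq
  by_contra hn
  have h1 := (hdX z x hzx hn).1
  rw [hk x hx.1 hx.2, hk z hzy (specializes_iff_mem_closure.2 hz.1)] at h1
  exact lt_irrefl _ h1

/-- The norm formula for a proper morphism. -/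
theorem normFormula_proper [IsLocallyNoetherian X] [IsLocallyNoetherian Y] (p : X ⟶ Y) [IsProper p] {δX : X → ℤ}
    {δY : Y → ℤ} (hdX : Cyc.IsDimFun X δX) (hdY : Cyc.IsDimFun Y δY) (hδ : Cyc.DeltaCompat p δX δY) {ξ : X}
    (hξ : δY (p ξ) = δX ξ) {y : Y} (hy : δY y + 1 = δY (p ξ)) : NormFormula p ξ y := by
  obtain ⟨Z, i, hi, hZ, hrange, hgen⟩ := exists_closure_subscheme X ξ
  haveI : IsLocallyNoetherian Z := LocallyOfFiniteType.isLocallyNoetherian i
  have hne : p ξ ≠ y := fun e => by rw [e] at hy; omega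
  have hfin := (finite_closure_inter_fibre hdX p hδ (by omega : δY y + 1 = δX ξ) hne).1
  have hmem : ∀ z, ξ ⤳ i z := fun z => specializes_iff_mem_closure.2 (hrange ▸ ⟨z, rfl⟩)
  have hqfin : ((i ≫ p) ⁻¹' {y}).Finite :=
    (hfin.preimage i.isEmbedding.injective.injOn).subset fun z hz => ⟨hz, hmem z⟩
  obtain ⟨V, hyV, hV⟩ := exists_isFinite_morphismRestrict_of_finite_preimage_singleton (i ≫ p) y hqfin
  intro hsp
  have hηV : (i ≫ p) (genericPoint Z) ∈ V := by
    show p (i (genericPoint Z)) ∈ V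
    rw [hgen]; exact hsp.mem_open V.isOpen hyV
  let U : Z.Opens := (i ≫ p) ⁻¹ᵁ V
  let ξ' : (U : Scheme.{u}) := ⟨genericPoint Z, hηV⟩
  haveI : IsLocallyNoetherian (U : Scheme.{u}) := LocallyOfFiniteType.isLocallyNoetherian U.ι
  haveI : IsLocallyNoetherian (V : Scheme.{u}) := LocallyOfFiniteType.isLocallyNoetherian V.ι
  let p' : (U : Scheme.{u}) ⟶ (V : Scheme.{u}) := (i ≫ p) ∣_ V
  haveI : IsFinite p' := hV
  let y' : (V : Scheme.{u}) := ⟨y, hyV⟩
  let j : (U : Scheme.{u}) ⟶ X := U.ι ≫ i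
  have hjp : p' ≫ V.ι = j ≫ p := (morphismRestrict_ι _ V).trans (Category.assoc _ _ _).symm
  have hjξ : j ξ' = ξ := hgen
  have hpξ' : V.ι (p' ξ') = p ξ := by
    show (p' ≫ V.ι) ξ' = p ξ
    rw [hjp]
    show p (j ξ') = p ξ
    rw [hjξ]
  have hdim : ∀ hy' : p' ξ' ⤳ y', ringKrullDim (Cyc.LocQuot y' (p' ξ') hy') ≤ 1 := fun hy' =>
    dim_locQuot_le_one (isDimFun_open hdY V) hy' (by
      show δY y + 1 = δY (V.ι (p' ξ'))
      rw [hpξ', hy])
  have h1 : NormFormula (p' ≫ V.ι) ξ' y := normFormula_right p' V.ι (y := y') (normFormula_finite p' hdim)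
  rw [hjp] at h1
  have h2 : NormFormula p (j ξ') y := by
    refine normFormula_left j p (fun x hx h => ?_) h1
    obtain ⟨z, rfl⟩ : x ∈ Set.range i := hrange ▸ specializes_iff_mem_closure.1 (hjξ ▸ h)
    exact ⟨⟨z, show p (i z) ∈ V from hx.symm ▸ hyV⟩, rfl⟩
  exact (hjξ ▸ h2) hsp

theorem map_apply_eq_sum (p : X ⟶ Y) [QuasiCompact p] (δX : X → ℤ) (δY : Y → ℤ) (α : AlgebraicCycle X ℤ) (y : Y)
    (T : Finset X) (hT : ∀ x ∈ T, p x = y) (h : ∀ x, p x = y → α x ≠ 0 → δX x = δY (p x) → x ∈ T) :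
    AlgebraicCycle.map p δX δY α y =
      ∑ x ∈ T, α x * (AlgebraicCycle.mapCoeff p δX δY x : ℤ) := by
  rw [AlgebraicCycle.map, Function.locallyFinsupp.map_apply]
  refine finsum_mem_eq_sum_of_subset _ ?_ fun x hx => hT x hx
  rintro x ⟨hx, hne⟩
  rw [Function.mem_support] at hne
  refine h x hx (left_ne_zero_of_mul hne) ?_
  by_contra hn
  exact hne (by rw [AlgebraicCycle.mapCoeff, if_neg hn, Nat.cast_zero, mul_zero])

/-- `p_*(div f) = div (N f)` when `ξ` maps to a point of the same dimension. -/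
theorem map_divFun_eq_norm [IsLocallyNoetherian X] [IsLocallyNoetherian Y] (p : X ⟶ Y) [IsProper p] {δX : X → ℤ}
    {δY : Y → ℤ} (hdX : Cyc.IsDimFun X δX) (hdY : Cyc.IsDimFun Y δY) (hδ : Cyc.DeltaCompat p δX δY) {ξ : X}
    (hξ : δY (p ξ) = δX ξ) (f : X.residueField ξ) (hf : f ≠ 0) (α : AlgebraicCycle X ℤ)
    (hα : ⇑α = Cyc.divFun δX ξ f) :
    ⇑(AlgebraicCycle.map p δX δY α) = Cyc.divFun δY (p ξ) (Cyc.normGen p ξ f) := by
  classical
  funext y
  by_cases h : p ξ ⤳ y ∧ δY y + 1 = δY (p ξ)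
  · obtain ⟨T, hT, hTf⟩ := normFormula_proper p hdX hdY hδ hξ h.2 h.1
    have hne : p ξ ≠ y := fun e => by have := h.2; rw [e] at this; omega
    have hk := (finite_closure_inter_fibre hdX p hδ (by omega : δY y + 1 = δX ξ) hne).2
    rw [map_apply_eq_sum p δX δY α y T (fun x hx => ((hT x).1 hx).1) (fun x hx hne' _ =>
      (hT x).2 ⟨hx, (specializes_of_divFun_ne_zero (hα ▸ hne')).1⟩)]
    simp only [Cyc.divFun]
    rw [dif_pos h, hTf f hf]
    refine Finset.sum_congr rfl fun x hx => ?_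
    obtain ⟨h1, h2⟩ := (hT x).1 hx
    have h3 := hk x h1 h2
    rw [hα, Cyc.divFun, dif_pos (show ξ ⤳ x ∧ δX x + 1 = δX ξ from ⟨h2, by omega⟩), AlgebraicCycle.mapCoeff,
      if_pos (show δX x = δY (p x) by rw [h1]; exact h3), dif_pos h2]
    exact mul_comm _ _
  · rw [map_apply_eq_sum p δX δY α y ∅ (by simp) (fun x hx hne hd => ?_)]
    · simp only [Cyc.divFun, dif_neg h]
      rfl
    · obtain ⟨h1, h2⟩ := specializes_of_divFun_ne_zero (hα ▸ hne)
      exact absurd ⟨hx ▸ h1.map p.continuous, by rw [← hx, ← hd, h2, hξ]⟩ h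

end Groth.Agent.Cyc26
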