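import Groth.Agent.Lib.Cyc26.FibreSum
import Groth.Agent.Lib.Cyc26.C1Flat
import Groth.Agent.Lib.Cyc26.PushDiv

/-! # Flat pullback commutes with proper pushforward of cycles -/

set_option autoImplicit false
universe u

set_option backward.isDefEq.respectTransparency.types false

open CategoryTheory CategoryTheory.Limits AlgebraicGeometry TopologicalSpace
open scoped Classical

namespace Groth.Agent.Cyc26

theorem finite_residueFieldMap_of_delta_eq {X Y : Scheme.{u}} (f : X ⟶ Y) [LocallyOfFiniteType f] {δX : X → ℤ}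
    {δY : Y → ℤ} (hδ : Cyc.DeltaCompat f δX δY) {x : X} (h : δX x = δY (f x)) :
    (f.residueFieldMap x).hom.Finite := by
  obtain ⟨n, hn, hn'⟩ := hδ x
  obtain rfl : n = 0 := by omega
  letI := (f.residueFieldMap x).hom.toAlgebra
  haveI : Algebra.IsAlgebraic (Y.residueField (f x)) (X.residueField x) :=
    trdeg_eq_zero_iff.1 (hn.trans Nat.cast_zero)
  haveI : Algebra.EssFiniteType (Y.residueField (f x)) (X.residueField x) := by
    letI : Algebra (Y.presheaf.stalk (f x)) (Y.residueField (f x)) := (Y.residue (f x)).hom.toAlgebra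
    letI : Algebra (Y.presheaf.stalk (f x)) (X.residueField x) :=
      ((X.residue x).hom.comp (f.stalkMap x).hom).toAlgebra
    haveI : IsScalarTower (Y.presheaf.stalk (f x)) (Y.residueField (f x)) (X.residueField x) :=
      IsScalarTower.of_algebraMap_eq fun a => congrArg (fun φ => φ a)
        (congrArg CommRingCat.Hom.hom (Scheme.residue_residueFieldMap f x).symm)
    haveI : Algebra.EssFiniteType (Y.presheaf.stalk (f x)) (X.residueField x) :=
      (LocallyOfFiniteType.stalkMap f x).comp (RingHom.FiniteType.of_surjective _ (X.residue_surjective x)).essFiniteType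
    exact Algebra.EssFiniteType.of_comp (Y.presheaf.stalk (f x)) (Y.residueField (f x)) (X.residueField x)
  exact Algebra.finite_of_essFiniteType_of_isAlgebraic

theorem isFiniteLength_fibre {X Y : Scheme.{u}} [IsLocallyNoetherian X] (p : X ⟶ Y) {x : X}
    (hmax : ∀ w, p w = p x → w ⤳ x → w = x) :
    IsFiniteLength (X.presheaf.stalk x) (X.presheaf.stalk x ⧸
      (IsLocalRing.maximalIdeal (Y.presheaf.stalk (p x))).map (p.stalkMap x).hom) := by
  refine Module.length_ne_top_iff.1 (Herbrand26.isFiniteLength_of_support_subset fun q hq => ?_)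
  rw [Module.support_eq_zeroLocus, Ideal.annihilator_quotient, PrimeSpectrum.mem_zeroLocus] at hq
  set w := X.fromSpecStalk x q with hw
  have hsp : w ⤳ x := by
    have hr : w ∈ Set.range (X.fromSpecStalk x) := ⟨q, rfl⟩
    rw [Scheme.range_fromSpecStalk] at hr
    exact hr
  have hpw : p w = p x := by
    have h1 : (Spec.map (p.stalkMap x)) q = IsLocalRing.closedPoint (Y.presheaf.stalk (p x)) :=
      PrimeSpectrum.ext ((IsLocalRing.maximalIdeal.isMaximal _).eq_of_le (Ideal.IsPrime.comap _).ne_top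
        (Ideal.map_le_iff_le_comap.1 hq)).symm
    rw [hw, ← Scheme.Hom.comp_apply, ← Scheme.SpecMap_stalkMap_fromSpecStalk, Scheme.Hom.comp_apply, h1,
      Scheme.fromSpecStalk_closedPoint]
  have he : q = IsLocalRing.closedPoint (X.presheaf.stalk x) :=
    (X.fromSpecStalk x).isEmbedding.injective ((hw.symm.trans (hmax w hpw hsp)).trans Scheme.fromSpecStalk_closedPoint.symm)
  rw [he]; rfl

/-- `g^* f_* = f'_* g'^*` on cycles. -/
theorem pullFun_map_eq_of_isPullback {X X' Y P : Scheme.{u}} (f : Y ⟶ X) (p : X' ⟶ X) {p' : P ⟶ Y} {q : P ⟶ X'}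
    (hsq : IsPullback p' q f p) [IsProper f] [IsProper q] [Flat p]
    [IsLocallyNoetherian X'] {δ : X → ℤ} {δ' : X' → ℤ} {δY : Y → ℤ} {δP : P → ℤ}
    (hdX' : Cyc.IsDimFun X' δ') (hf : Cyc.DeltaCompat f δY δ) (hf' : Cyc.DeltaCompat q δP δ')
    {c : ℤ} (hc : ∀ x' : X', (∀ y, p y = p x' → y ⤳ x' → y = x') → δ' x' = δ (p x') + c)
    {k : ℤ} (α : AlgebraicCycle Y ℤ) (hα : α ∈ Cyc.Zk Y δY k) (α' : AlgebraicCycle P ℤ)
    (hα' : ⇑α' = Cyc.pullFun p' δP δY c ⇑α) :
    Cyc.pullFun p δ' δ c ⇑(AlgebraicCycle.map f δY δ α) = ⇑(AlgebraicCycle.map q δP δ' α') := by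
  funext x'
  set x := p x' with hx
  have hpq : ∀ z, f (p' z) = p (q z) := fun z => by
    rw [← Scheme.Hom.comp_apply, ← Scheme.Hom.comp_apply, hsq.w]
  have hle : δ' x' ≤ δ x + c := by
    obtain ⟨w, h1, h2, h3⟩ := exists_maximal_fibre hdX' p x'
    have h4 := UCat26.delta_le_of_specializes hdX' h1
    rw [hc w h3, h2] at h4
    exact h4
  obtain ⟨W, hW, hxW, -⟩ := exists_isAffineOpen_mem_and_subset (U := (⊤ : X.Opens)) (x := x) trivial
  have hsupp := α.locallyFiniteSupport.finite_inter_support_of_isCompact (f.isCompact_preimage hW.isCompact)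
  let Ty : Finset Y := hsupp.toFinset.filter fun y => f y = x ∧ δY y = δ x
  have hTy : ∀ y ∈ Ty, f y = x ∧ δY y = δ x := fun y hy => (Finset.mem_filter.1 hy).2
  rw [Cyc.pullFun]
  -- the contributions on the right
  have hcontrib : ∀ z, q z = x' → α' z ≠ 0 → δP z = δ' (q z) →
      (δ' x' = δ x + c ∧ δ x = k) ∧ p' z ∈ Ty := by
    intro z hz hne hd
    rw [hα'] at hne
    simp only [Cyc.pullFun] at hne
    split_ifs at hne with hshift
    swap
    · exact absurd rfl hne
    have hαne := left_ne_zero_of_mul hne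
    have hky : δY (p' z) = k := by_contra fun hn => hαne (hα _ hn)
    have hfy : f (p' z) = x := by rw [hpq, hz]
    obtain ⟨n, -, hn⟩ := hf (p' z)
    rw [hfy] at hn
    rw [hz] at hd
    refine ⟨⟨by omega, by omega⟩, Finset.mem_filter.2 ⟨hsupp.mem_toFinset.2
      ⟨show f (p' z) ∈ (W : Set X) from hfy.symm ▸ hxW, hαne⟩, hfy, by omega⟩⟩
  by_cases hgood : δ' x' = δ x + c ∧ δ x = k
  swap
  · have hzero : AlgebraicCycle.map q δP δ' α' x' = 0 := by
      rw [map_apply_eq_sum q δP δ' α' x' ∅ (fun z hz => absurd hz (Finset.notMem_empty z))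
        fun z hz hne hd => absurd (hcontrib z hz hne hd).1 hgood, Finset.sum_empty]
    rw [hzero]
    split_ifs with hshift
    · rw [map_apply_eq_sum f δY δ α x ∅ (fun z hz => absurd hz (Finset.notMem_empty z))
        (fun y hy hne hd => absurd ⟨hshift, by rw [← hy, ← hd]; exact by_contra fun hn => hne (hα _ hn)⟩ hgood),
        Finset.sum_empty, zero_mul]
    · rfl
  obtain ⟨hshift, hk⟩ := hgood
  have hmax := maximal_of_delta_eq p hdX' hc (ξ := x') hshift
  have hfl := isFiniteLength_fibre p hmax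
  choose Z hZ hZ0 hZsum using fun y : {y : Y // y ∈ Ty} =>
    sum_fibre hsq.flip x' y.1 ((hTy y.1 y.2).1) hfl
      (finite_residueFieldMap_of_delta_eq f hf (by rw [(hTy y.1 y.2).1]; exact (hTy y.1 y.2).2))
  rw [if_pos hshift,
    map_apply_eq_sum f δY δ α x Ty (fun y hy => (hTy y hy).1) (fun y hy hne hd => Finset.mem_filter.2
      ⟨hsupp.mem_toFinset.2 ⟨show f y ∈ (W : Set X) from hy.symm ▸ hxW, hne⟩, hy, by rw [hd, hy]⟩),
    map_apply_eq_sum q δP δ' α' x' (Ty.attach.biUnion Z)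
      (fun z hz => by
        obtain ⟨y, -, hy⟩ := Finset.mem_biUnion.1 hz
        exact ((hZ y z).1 hy).1)
      (fun z hz hne hd => Finset.mem_biUnion.2 ⟨⟨p' z, (hcontrib z hz hne hd).2⟩, Finset.mem_attach _ _,
        (hZ _ z).2 ⟨hz, rfl⟩⟩),
    Finset.sum_biUnion (fun y _ y' _ hne => Finset.disjoint_left.2 fun z h1 h2 =>
      hne (Subtype.ext (((hZ y z).1 h1).2.symm.trans ((hZ y' z).1 h2).2))),
    Finset.sum_mul, ← Finset.sum_attach Ty]
  refine Finset.sum_congr rfl fun y _ => ?_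
  obtain ⟨hy1, hy2⟩ := hTy y.1 y.2
  rw [AlgebraicCycle.mapCoeff, if_pos (show δY y.1 = δ (f y.1) by rw [hy1, hy2]), mul_assoc, ← Nat.cast_mul,
    ← hZsum y, Nat.cast_sum, Finset.mul_sum]
  refine Finset.sum_congr rfl fun z hz => ?_
  obtain ⟨hz1, hz2⟩ := (hZ y z).1 hz
  obtain ⟨m, hm, hm'⟩ := hf' z
  have hm0 : m = 0 := by
    have h := (show FibDim14.rdeg q z = (m : Cardinal) from hm).symm.trans (hZ0 y z hz)
    exact_mod_cast h
  rw [hm0, Nat.cast_zero, add_zero] at hm'
  rw [hα', Cyc.pullFun, if_pos (show δP z = δY (p' z) + c by rw [hm', hz1, hz2, hy2, hshift]),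
    AlgebraicCycle.mapCoeff, if_pos (show δP z = δ' (q z) from hm'), Nat.cast_mul, mul_assoc, show α (p' z) = α y.1 from congrArg (fun w => α w) hz2]
  ring

theorem pullFun_map_eq {X X' Y : Scheme.{u}} (f : Y ⟶ X) (p : X' ⟶ X) [IsProper f] [Flat p]
    [IsLocallyNoetherian X'] {δ : X → ℤ} {δ' : X' → ℤ} {δY : Y → ℤ} {δP : ↥(pullback f p) → ℤ}
    (hdX' : Cyc.IsDimFun X' δ') (hf : Cyc.DeltaCompat f δY δ) (hf' : Cyc.DeltaCompat (pullback.snd f p) δP δ')
    {c : ℤ} (hc : ∀ x' : X', (∀ y, p y = p x' → y ⤳ x' → y = x') → δ' x' = δ (p x') + c)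
    {k : ℤ} (α : AlgebraicCycle Y ℤ) (hα : α ∈ Cyc.Zk Y δY k) (α' : AlgebraicCycle (pullback f p) ℤ)
    (hα' : ⇑α' = Cyc.pullFun (pullback.fst f p) δP δY c ⇑α) :
    Cyc.pullFun p δ' δ c ⇑(AlgebraicCycle.map f δY δ α) = ⇑(AlgebraicCycle.map (pullback.snd f p) δP δ' α') :=
  pullFun_map_eq_of_isPullback f p (IsPullback.of_hasPullback f p) hdX' hf hf' hc α hα α' hα'

end Groth.Agent.Cyc26
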