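import Groth.Agent.Lib.Cyc26.CurveDegree
import Groth.Agent.Lib.Cyc26.C1Tensor
import Groth.Agent.Lib.Cyc26.C1Inv
import Groth.Agent.Lib.Cyc26.Frac
import Groth.Agent.Lib.Cyc26.PullPush
import Groth.Agent.Lib.Cyc26.LimitCycle
import Groth.Agent.Lib.CurveAmple18.Main
import Groth.Agent.Lib.PoleOne18.Ample
import Groth.Agent.Lib.FibDim14.BaseChange
import Groth.Agent.Lib.EquiDim4
import Groth.Agent.Lib.AlgSpRel14.FlatDim
import Mathlib.RingTheory.LocalRing.Length

/-! # The degree of an invertible module on an integral curve is the degree of a rational section -/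

set_option autoImplicit false
set_option linter.style.haveILetI false
universe u

set_option backward.isDefEq.respectTransparency.types false

open CategoryTheory AlgebraicGeometry TopologicalSpace IsLocalRing

namespace Groth.Agent.Cyc26

open Groth.Agent.CurveCoh17

theorem finrank_eq_length_mul {k R M : Type u} [Field k] [CommRing R] [IsLocalRing R] [Algebra k R] [AddCommGroup M]
    [Module R M] [Module k M] [IsScalarTower k R M] [Module.Finite k M]
    [Module.Finite k (ResidueField R)] :
    Module.finrank k M = (Module.length R M).toNat * Module.finrank k (ResidueField R) := by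
  haveI : IsLocalHom (algebraMap k R) := ⟨fun a ha => by
    refine Ne.isUnit fun h => ?_
    rw [h, map_zero] at ha
    exact not_isUnit_zero ha⟩
  have h := IsLocalRing.length_restrictScalars k R M
  have h2 : Module.length (ResidueField k) (ResidueField R) = Module.length k (ResidueField R) :=
    (Module.length_eq_of_surjective (M := ResidueField R) (IsLocalRing.residue_surjective (R := k))).symm
  rw [h2, Module.length_eq_finrank, Module.length_eq_finrank] at h
  have := congrArg ENat.toNat h
  rwa [ENat.toNat_mul, ENat.toNat_natCast, ENat.toNat_natCast] at this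

variable {k : Type u} [Field k] {X : Scheme.{u}}

theorem delta_eq_sdim (c : X ⟶ Spec (CommRingCat.of k)) [LocallyOfFiniteType c] {δ : X → ℤ}
    (hδ : Cyc.DeltaCompat c δ (fun _ => 0)) (x : X) : δ x = VarDim.sdim c x := by
  obtain ⟨n, hn, hn'⟩ := hδ x
  have h : (n : Cardinal) = (FibDim14.rd c x : Cardinal) := hn.symm.trans (FibDim14.rdeg_eq_rd c x)
  rw [hn', Nat.cast_inj.1 h, FibGen4.rd_eq_sdim c x]
  simp

variable [X.Over (Spec (CommRingCat.of k))] [IsProper (X ↘ Spec (CommRingCat.of k))] [IsIntegral X]
  {δ : X → ℤ}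

variable (k δ) in
/-- The degree of the divisor of a rational section. -/
noncomputable def degDiv (L : X.Modules) (v : Cyc.secFibre L (genericPoint X)) : ℤ :=
  ∑ᶠ x : X, ((X ↘ Spec (CommRingCat.of k)).residueDegree x : ℤ) * Cyc.secDivFun δ L (genericPoint X) v x

section
variable (hd : topologicalKrullDim X = 1) (hδ : Cyc.DeltaCompat (X ↘ Spec (CommRingCat.of k)) δ (fun _ => 0))
include hd hδ

theorem delta_generic : δ (genericPoint X) = 1 := by
  rw [delta_eq_sdim _ hδ]
  have h := (VarDim.dim_eq_sdim_genericPoint (X ↘ Spec (CommRingCat.of k))).symm.trans hd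
  have h' : VarDim.sdim (X ↘ Spec (CommRingCat.of k)) (genericPoint X) = 1 := by exact_mod_cast h
  rw [h']
  rfl

theorem delta_closed {x : X} (hx : x ≠ genericPoint X) : δ x = 0 := by
  rw [delta_eq_sdim _ hδ,
    (VarDim.sdim_eq_zero_iff_isClosed (X ↘ Spec (CommRingCat.of k)) x).2 (Curve17.isClosed_singleton hd.le hx)]
  rfl

theorem isDimFun_curve : Cyc.IsDimFun X δ := fun x y h hne => by
  have hy : y ≠ genericPoint X := fun e =>
    hne ((genericPoint_specializes x).antisymm (e ▸ h) |>.eq.symm.trans e.symm)
  have hx : x = genericPoint X := by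
    by_contra hx
    exact hne (h.mem_closed (Curve17.isClosed_singleton hd.le hx) rfl).symm
  rw [hx, delta_generic hd hδ, delta_closed hd hδ hy]
  exact ⟨zero_lt_one, fun _ => rfl⟩

theorem finite_support_secDiv {L : X.Modules} (hL : PicF.IsInvertible L) {v : Cyc.secFibre L (genericPoint X)}
    (hv : v ≠ 0) : (Function.support fun x => ((X ↘ Spec (CommRingCat.of k)).residueDegree x : ℤ) *
      Cyc.secDivFun δ L (genericPoint X) v x).Finite := by
  haveI := CohFound.isNoetherian_of_isProper (X ↘ Spec (CommRingCat.of k))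
  obtain ⟨a, ha⟩ := exists_cycle_secDivFun hL (isDimFun_curve hd hδ) (genericPoint X) hv
  refine (Cyc26Lim.finite_support a).subset fun x hx => ?_
  rw [Function.mem_support, ha]
  exact right_ne_zero_of_mul hx

theorem degDiv_smul {L : X.Modules} (hL : PicF.IsInvertible L) {v : Cyc.secFibre L (genericPoint X)}
    (hv : v ≠ 0) (ψ : X.presheaf.stalk (genericPoint X)) (hψ : X.residue (genericPoint X) ψ ≠ 0) :
    degDiv k δ L (ψ • v) = degDiv k δ L v := by
  classical
  haveI := CohFound.isNoetherian_of_isProper (X ↘ Spec (CommRingCat.of k))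
  let c := X ↘ Spec (CommRingCat.of k)
  let F : X → ℤ := fun x => (c.residueDegree x : ℤ) * Cyc.divFun δ (genericPoint X) (X.residue (genericPoint X) ψ) x
  have hF : (Function.support F).Finite := by
    obtain ⟨a, ha⟩ := exists_cycle_sum_divFun (isDimFun_curve hd hδ) (ι := PUnit.{u+1}) (fun _ => genericPoint X)
      (fun _ => X.residue (genericPoint X) ψ) (fun x => ⟨Set.univ, isOpen_univ, trivial, Set.toFinite _⟩)
    refine (Cyc26Lim.finite_support a).subset fun x hx => ?_
    rw [Function.mem_support, ha, finsum_unique]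
    exact right_ne_zero_of_mul hx
  have h0 : ∑ᶠ x, F x = 0 := by
    have h := degree_zero_curve c hd (X.residue (genericPoint X) ψ) hψ
    rw [← h, finsum_subtype_eq_finsum_cond (f := fun x : X => (c.residueDegree x : ℤ) *
      Cyc.ordAt x (genericPoint X) (genericPoint_specializes x) (X.residue (genericPoint X) ψ))
      (fun x => x ≠ genericPoint X)]
    refine finsum_congr fun x => ?_
    rw [finsum_eq_if]
    simp only [F, Cyc.divFun]
    by_cases hx : x = genericPoint X
    · subst hx
      rw [if_neg (fun h => h rfl), dif_neg (fun h => by omega), mul_zero]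
    · rw [if_pos hx, dif_pos ⟨genericPoint_specializes x, by rw [delta_closed hd hδ hx, delta_generic hd hδ]; rfl⟩]
  rw [degDiv, degDiv]
  calc ∑ᶠ x : X, (c.residueDegree x : ℤ) * Cyc.secDivFun δ L (genericPoint X) (ψ • v) x
      = ∑ᶠ x : X, (F x + (c.residueDegree x : ℤ) * Cyc.secDivFun δ L (genericPoint X) v x) :=
        finsum_congr fun x => by rw [secDivFun_smul hL δ _ x ψ hψ hv, mul_add]
    _ = _ := by rw [finsum_add_distrib hF (finite_support_secDiv hd hδ hL hv), h0, zero_add]

theorem degDiv_eq {L : X.Modules} (hL : PicF.IsInvertible L) {v w : Cyc.secFibre L (genericPoint X)}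
    (hv : v ≠ 0) (hw : w ≠ 0) : degDiv k δ L v = degDiv k δ L w := by
  obtain ⟨ψ, hψ, rfl⟩ := exists_ratio hL hw hv
  exact degDiv_smul hd hδ hL hw ψ hψ

attribute [local instance] CurveCoh17.stalkMod in
/-- The statement for a module with a section. -/
theorem deg_eq_degDiv_section {L : X.Modules} (hL : PicF.IsInvertible L) (s : Γ(L, (⊤ : X.Opens))) (hs : s ≠ 0) :
    ∃ v : Cyc.secFibre L (genericPoint X), v ≠ 0 ∧ Curv2.deg k X L 1 = degDiv k δ L v := by
  classical
  let c := X ↘ Spec (CommRingCat.of k)
  have hX := CurveAmple18.curveLike k X hd.le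
  haveI := hX.noetherian
  obtain ⟨hm, S, hS⟩ := (rkOne_of_invertible hd.le hL).sec s hs
  haveI := hm
  have hT := secSC_shortExact s
  have aO := hX.adm (CurveCoh17.isCoh_structureModule (X := X))
  have aF := hX.adm (rkOne_of_invertible hd.le hL).coh
  have aT : Adm k (Limits.cokernel (M1.secHom s)) := adm₃ hT aO aF
  have hfinQ := aT.fin 0
  obtain ⟨t, ht, he, -⟩ := hX.section_numerics (rkOne_of_invertible hd.le hL) hs
  let Q := Limits.cokernel (M1.secHom s)
  let π : L ⟶ Q := Limits.cokernel.π (M1.secHom s)
  have h1 := (Groth.Agent.M2.isInvertible_iff_isFinLocFreeOfRank_one L).1 hL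
  let η := genericPoint X
  -- the germ at the generic point
  have hgη : Amp.Gen (Amp.gm L η (U := ⊤) trivial s) := by
    refine (Amp.mem_genLocus_iff hL (M1.secHom s)).1 ?_ |> fun h => by rwa [Amp.gval_secHom] at h
    exact CurveAmple18.gen_of_surjective hL s η (surjective_stalkLin_genericPoint
      (nonempty_stalk_equiv_structureModule _) (nonempty_stalk_equiv h1 _) _ (injective_stalk_secHom h1 hs η))
  let v : Cyc.secFibre L η := fmk L η (Amp.gm L η (U := ⊤) trivial s)
  have hv : v ≠ 0 := by
    have := smul_ne_zero_of_residue hgη (a := 1) (by rw [map_one]; exact one_ne_zero)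
    rwa [one_smul] at this
  refine ⟨v, hv, ?_⟩
  -- local computation
  have key : ∀ x : X, x ≠ η → ∀ (_ : Module.Finite k (Q.presheaf.stalk x)),
      ((Module.finrank k (Q.presheaf.stalk x) : ℕ) : ℤ) = (c.residueDegree x : ℤ) * Cyc.secDivFun δ L η v x := by
    intro x hx hfin
    obtain ⟨g0, hg0⟩ := exists_gen hL x
    obtain ⟨g, hg⟩ := hg0.2 (Amp.gm L x (U := ⊤) trivial s)
    have hg' : Amp.gm L x (U := ⊤) trivial s = g • g0 := hg.symm
    have hspec : η ⤳ x := genericPoint_specializes x
    have hδx : δ x + 1 = δ η := by rw [delta_closed hd hδ hx, delta_generic hd hδ]; rfl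
    have hgm : L.presheaf.stalkSpecializes hspec (Amp.gm L x (U := ⊤) trivial s) = Amp.gm L η (U := ⊤) trivial s :=
      TopCat.Presheaf.germ_stalkSpecializes_apply _ _ _ s
    have hv' : v = X.presheaf.stalkSpecializes hspec g • fmk L η (L.presheaf.stalkSpecializes hspec g0) := by
      show fmk L η _ = _
      rw [← hgm, hg', stalkSpecializes_smul]
      rfl
    have hne : X.residue η (X.presheaf.stalkSpecializes hspec g) ≠ 0 := fun h0 => by
      refine hv ?_
      rw [hv']
      exact smul_eq_zero_of_residue h0 _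
    have hgne : g ≠ 0 := fun h0 => hne (by rw [h0, map_zero, map_zero])
    have hsec : Cyc.secDivFun δ L η v x =
        ((Module.length (X.presheaf.stalk x) (X.presheaf.stalk x ⧸ Ideal.span {g})).toNat : ℤ) := by
      simp only [Cyc.secDivFun]
      rw [dif_pos ⟨hspec, hδx⟩, hv', secOrdAt_gen hL hspec hg0 _ hne]
      exact ordAt_specMap_generic (isDimFun_curve hd hδ) hspec hδx hgne
    -- the stalk of the cokernel
    let p : X.presheaf.stalk x →ₗ[X.presheaf.stalk x] Q.presheaf.stalk x :=
      (stalkLin π x).comp (LinearMap.toSpanSingleton _ _ g0)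
    have hp : Function.Surjective p := fun q => by
      obtain ⟨b, hb⟩ := (M1.epi_iff_stalk π).1 inferInstance x q
      obtain ⟨r, rfl⟩ := hg0.2 b
      exact ⟨r, hb⟩
    have hker : LinearMap.ker p = Ideal.span {g} := by
      ext r
      rw [LinearMap.mem_ker, Ideal.mem_span_singleton']
      constructor
      · intro hr
        obtain ⟨b, hb⟩ := (M1.exact_iff_stalk_eq_zero (secSC s)).1 hT.exact x (r • g0) hr
        obtain ⟨a, -, ha⟩ := stalkLin_secHom s x b
        refine ⟨a, hg0.1 ?_⟩
        show (a * g) • g0 = r • g0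
        rw [mul_smul, ← hg']
        exact ha.symm.trans hb
      · rintro ⟨a, rfl⟩
        show stalkLin π x ((a * g) • g0) = 0
        rw [mul_smul, ← hg', map_smul]
        obtain ⟨b, -, hb⟩ := stalkLin_secHom s x
          ((Coh.structureModule X).presheaf.germ ⊤ x trivial (M1.one ⊤))
        have h0 : stalkLin π x (Amp.gm L x (U := ⊤) trivial s) = 0 := by
          have h2 : Amp.gm L x (U := ⊤) trivial s =
              stalkLin (M1.secHom s) x ((Coh.structureModule X).presheaf.germ ⊤ x trivial (M1.one ⊤)) := by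
            refine Eq.trans ?_ (M1.germ_naturality (M1.secHom s) ⊤ x trivial (M1.one ⊤)).symm
            rw [M1.secHom_app_one]
          rw [h2]
          refine (stalkLin_comp _ _ _ _).symm.trans ?_
          rw [Limits.cokernel.condition]
          show (M1.stalkAb x).map (0 : Coh.structureModule X ⟶ Q) _ = 0
          rw [Functor.map_zero]
          rfl
        rw [h0, smul_zero]
    have hlen : Module.length (X.presheaf.stalk x) (X.presheaf.stalk x ⧸ Ideal.span {g}) =
        Module.length (X.presheaf.stalk x) (Q.presheaf.stalk x) :=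
      ((Submodule.quotEquivOfEq _ _ hker.symm).trans (p.quotKerEquivOfSurjective hp)).length_eq
    letI : Algebra k (X.presheaf.stalk x) := (CurveCoh17.stalkRingMap k x).toAlgebra
    haveI : IsScalarTower k (X.presheaf.stalk x) (Q.presheaf.stalk x) :=
      IsScalarTower.of_algebraMap_smul fun a m => rfl
    haveI := hfin
    have hres : c.residueDegree x = Module.finrank k (ResidueField (X.presheaf.stalk x)) := residueDegree_toField c x
    haveI : Module.Finite k (ResidueField (X.presheaf.stalk x)) := by
      have h := finite_residueFieldMap_of_delta_eq c hδ (x := x) (delta_closed hd hδ hx)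
      letI := (c.residueFieldMap x).hom.toAlgebra
      haveI : Module.Finite ((Spec (CommRingCat.of k)).residueField (c x)) (X.residueField x) := h
      have : 0 < c.residueDegree x := Module.finrank_pos
      exact Module.finite_of_finrank_pos (hres ▸ this)
    rw [finrank_eq_length_mul (k := k) (R := X.presheaf.stalk x) (M := Q.presheaf.stalk x), hsec, hlen, hres]
    push_cast
    ring
  have hη : η ∉ S := fun h => Curve17.not_isClosed_genericPoint hd (hS.closed η h)
  haveI : ∀ x : S, Module.Finite k (Q.presheaf.stalk (x : X)) := hS.finite_stalk hfinQ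
  rw [Curv2.deg, he, ht, (hS.h0Equiv k).finrank_eq, Module.finrank_pi_fintype, degDiv,
    finsum_eq_finsetSum_of_support_subset _ (s := S) ?_, Finset.univ_eq_attach]
  · push_cast
    rw [← Finset.sum_attach S (fun x => (c.residueDegree x : ℤ) * Cyc.secDivFun δ L η v x)]
    have e : ∀ x ∈ S.attach, ((Module.finrank k (Q.presheaf.stalk (x : X)) : ℕ) : ℤ) =
        (c.residueDegree (x : X) : ℤ) * Cyc.secDivFun δ L η v x := fun x _ =>
      key x (fun e => hη (e ▸ x.2)) inferInstance
    rw [← Finset.sum_congr rfl e]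
    ring
  · intro x hx
    by_contra hxS
    refine hx ?_
    show (c.residueDegree x : ℤ) * Cyc.secDivFun δ L η v x = 0
    by_cases hxη : x = η
    · subst hxη
      rw [show Cyc.secDivFun δ L η v η = 0 from dif_neg fun h => by omega, mul_zero]
    · haveI : Subsingleton (Q.presheaf.stalk x) := ⟨fun a b => (hS.zero x hxS a).trans (hS.zero x hxS b).symm⟩
      rw [← key x hxη inferInstance, Module.finrank_zero_of_subsingleton, Nat.cast_zero]

/-- `deg L = deg (div v)` for every nonzero rational section `v`. -/
theorem deg_eq_degDiv {L : X.Modules} (hL : PicF.IsInvertible L) {v : Cyc.secFibre L (genericPoint X)} (hv : v ≠ 0) :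
    Curv2.deg k X L 1 = degDiv k δ L v := by
  have hX := CurveAmple18.curveLike k X hd.le
  haveI := hX.noetherian
  haveI := CurveAmple18.isSeparated k X
  obtain ⟨A, hA⟩ := PoleOne18.exists_isAmple (X := X) fun y =>
    ((AlgSpRel14.stalkDim_le_dim X y).trans hd.le)
  have hpos := CurveAmple18.deg_pos_of_isAmple (k := k) hd hA
  have hA' := (Amp.isAmple_iff.1 hA).1
  obtain ⟨n, hn1, hn2⟩ : ∃ n : ℕ, (Curv2.genus k X : ℤ) < n * Curv2.deg k X A 1 ∧
      (Curv2.genus k X : ℤ) < Curv2.deg k X L 1 + n * Curv2.deg k X A 1 := by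
    refine ⟨Curv2.genus k X + (Curv2.deg k X L 1).natAbs + 1, ?_, ?_⟩ <;> push_cast <;>
      nlinarith [abs_nonneg (Curv2.deg k X L 1), neg_abs_le (Curv2.deg k X L 1)]
  let M := CohB1.tensorPow A n
  have hM : PicF.IsInvertible M := Groth.Agent.M2.isInvertible_tensorPow hA' n
  have hLM := Groth.Agent.M2.isInvertible_tensor hL hM
  have hdegM : Curv2.deg k X M 1 = n * Curv2.deg k X A 1 := hX.deg_tensorPow hA' n
  have hsec : ∀ N : X.Modules, PicF.IsInvertible N → (Curv2.genus k X : ℤ) < Curv2.deg k X N 1 →
      ∃ s : Γ(N, (⊤ : X.Opens)), s ≠ 0 := fun N hN h => by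
    have hrr := hX.rr (CurveCoh17.isCoh_of_ofRank ((Groth.Agent.M2.isInvertible_iff_isFinLocFreeOfRank_one N).1 hN))
    have hp : 0 < Module.finrank k (Coh.HH X N 0) := by omega
    haveI := Module.nontrivial_of_finrank_pos (R := k) hp
    obtain ⟨z, hz⟩ := exists_ne (0 : Coh.HH X N 0)
    exact ⟨_, CurveCoh17.hh0_ne_zero hz⟩
  obtain ⟨s, hs⟩ := hsec M hM (hdegM ▸ hn1)
  obtain ⟨s', hs'⟩ := hsec _ hLM (by rw [hX.deg_tensor_invertible hL hM, hdegM]; exact hn2)
  obtain ⟨w, hw, hwd⟩ := deg_eq_degDiv_section hd hδ hM s hs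
  obtain ⟨w', hw', hwd'⟩ := deg_eq_degDiv_section hd hδ hLM s' hs'
  have h := hwd'.trans (degDiv_eq hd hδ hLM hw' (secTensor_ne_zero hL hM hv hw))
  have e : degDiv k δ (CohB1.tensorMod L M) (secTensor L M (genericPoint X) v w) =
      degDiv k δ L v + degDiv k δ M w := by
    rw [degDiv, degDiv, degDiv,
      ← finsum_add_distrib (finite_support_secDiv hd hδ hL hv) (finite_support_secDiv hd hδ hM hw)]
    exact finsum_congr fun x => by rw [secDivFun_secTensor hL hM δ hv hw x, mul_add]
  rw [hX.deg_tensor_invertible hL hM, e] at h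
  linarith

end

end Groth.Agent.Cyc26
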