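import Groth.Agent.Lib.Cyc26.DivFun
import Groth.Prelude.Def_C1

/-! # Capping with the first Chern class of the structure sheaf -/

set_option autoImplicit false
universe u

set_option backward.isDefEq.respectTransparency.types false

open CategoryTheory AlgebraicGeometry TopologicalSpace Groth.Agent.M1

namespace Groth.Agent.Cyc26

theorem ordFrac_mul_all {R K : Type u} [CommRing R] [IsDomain R] [IsLocalRing R] [Field K] [Algebra R K]
    {a b : K} (ha : a ≠ 0) (hb : b ≠ 0) :
    CycAlg.ordFrac R K (a * b) = CycAlg.ordFrac R K a + CycAlg.ordFrac R K b := by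
  by_cases h : IsNoetherianRing R ∧ Ring.KrullDimLE 1 R ∧ Nontrivial R ∧ IsFractionRing R K
  · haveI := h.1
    haveI := h.2.2.2
    exact Lattice26.ordFrac_mul (Ring.krullDimLE_iff.1 h.2.1) ha hb
  · simp only [CycAlg.ordFrac, dif_neg h, add_zero]

theorem ordFrac_one {R K : Type u} [CommRing R] [IsDomain R] [IsLocalRing R] [Field K] [Algebra R K] :
    CycAlg.ordFrac R K (1 : K) = 0 := by
  have := ordFrac_eq_zero_of_isUnit (R := R) (K := K) isUnit_one
  rwa [map_one] at this

theorem ordFrac_pow {R K : Type u} [CommRing R] [IsDomain R] [IsLocalRing R] [Field K] [Algebra R K]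
    {a : K} (ha : a ≠ 0) (n : ℕ) : CycAlg.ordFrac R K (a ^ n) = n * CycAlg.ordFrac R K a := by
  induction n with
  | zero => rw [pow_zero, ordFrac_one]; simp
  | succ n ih => rw [pow_succ, ordFrac_mul_all (pow_ne_zero n ha) ha, ih]; push_cast; ring

theorem ordFrac_zpow {R K : Type u} [CommRing R] [IsDomain R] [IsLocalRing R] [Field K] [Algebra R K]
    {a : K} (ha : a ≠ 0) (n : ℤ) : CycAlg.ordFrac R K (a ^ n) = n * CycAlg.ordFrac R K a := by
  obtain ⟨m, rfl | rfl⟩ := n.eq_nat_or_neg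
  · rw [zpow_natCast, ordFrac_pow ha]
  · rw [zpow_neg, zpow_natCast]
    have h := ordFrac_mul_all (R := R) (pow_ne_zero m ha) (inv_ne_zero (pow_ne_zero m ha))
    rw [mul_inv_cancel₀ (pow_ne_zero m ha), ordFrac_one, ordFrac_pow ha] at h
    rw [neg_mul]
    omega

variable {X : Scheme.{u}}

/-- The generator of the stalk of the structure sheaf. -/
noncomputable def oneStalk (x : X) : (Coh.structureModule X).presheaf.stalk x :=
  (Coh.structureModule X).presheaf.germ ⊤ x trivial (one ⊤)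

theorem stalkSpecializes_smul_one {x ξ : X} (h : ξ ⤳ x) (r : X.presheaf.stalk x) :
    (Coh.structureModule X).presheaf.stalkSpecializes h (r • oneStalk x) =
      X.presheaf.stalkSpecializes h r • oneStalk ξ := by
  have hone : ∀ (z : X) (W : X.Opens) (hz : z ∈ W), oneStalk z =
      (Coh.structureModule X).presheaf.germ W z hz (one W) := fun z W hz => by
    rw [oneStalk, ← mres_one (le_top : W ≤ ⊤)]
    exact (germ_mres _ le_top hz _).symm
  obtain ⟨W, hW, r, rfl⟩ := X.presheaf.exists_germ_eq r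
  rw [hone x W hW, ← germ_smul, TopCat.Presheaf.germ_stalkSpecializes_apply,
    TopCat.Presheaf.germ_stalkSpecializes_apply, germ_smul, ← hone ξ]

theorem mem_maximal_of_mem_smul_top {ξ : X} {a : X.presheaf.stalk ξ}
    (h : a • oneStalk ξ ∈ (IsLocalRing.maximalIdeal (X.presheaf.stalk ξ) •
      (⊤ : Submodule (X.presheaf.stalk ξ) ((Coh.structureModule X).presheaf.stalk ξ)))) :
    a ∈ IsLocalRing.maximalIdeal (X.presheaf.stalk ξ) := by
  have hb := structureModule_stalk_bijective (Z := X) ξ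
  have key : ∀ m, m ∈ (IsLocalRing.maximalIdeal (X.presheaf.stalk ξ) •
      (⊤ : Submodule (X.presheaf.stalk ξ) ((Coh.structureModule X).presheaf.stalk ξ))) →
      ∃ c ∈ IsLocalRing.maximalIdeal (X.presheaf.stalk ξ), c • oneStalk ξ = m := by
    intro m hm
    induction hm using Submodule.smul_induction_on' with
    | smul c hc n _ =>
      obtain ⟨d, rfl⟩ := hb.2 n
      exact ⟨c * d, Ideal.mul_mem_right _ _ hc, mul_smul c d _⟩
    | add m _ n _ hm hn =>
      obtain ⟨c, hc, rfl⟩ := hm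
      obtain ⟨d, hd, rfl⟩ := hn
      exact ⟨c + d, add_mem hc hd, add_smul c d _⟩
  obtain ⟨c, hc, he⟩ := key _ h
  rwa [hb.1 (show c • oneStalk ξ = a • oneStalk ξ from he)] at hc

theorem exists_rep (ξ : X) {s : Cyc.secFibre (Coh.structureModule X) ξ} (hs : s ≠ 0) :
    ∃ ψ : X.presheaf.stalk ξ, X.residue ξ ψ ≠ 0 ∧
      s = ψ • (Submodule.Quotient.mk (oneStalk ξ) : Cyc.secFibre (Coh.structureModule X) ξ) := by
  obtain ⟨m, rfl⟩ := Submodule.Quotient.mk_surjective _ s
  obtain ⟨ψ, rfl⟩ := (structureModule_stalk_bijective (Z := X) ξ).2 m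
  refine ⟨ψ, fun h0 => hs ?_, (Submodule.Quotient.mk_smul _ ψ _).symm⟩
  exact (Submodule.Quotient.mk_eq_zero _).2
    (Submodule.smul_mem_smul ((IsLocalRing.residue_eq_zero_iff ψ).1 h0) Submodule.mem_top)

theorem secOrdAt_structure {ξ x : X} (h : ξ ⤳ x) (ψ : X.presheaf.stalk ξ) (hψ : X.residue ξ ψ ≠ 0) :
    Cyc.secOrdAt (Coh.structureModule X) ξ x h
      (ψ • (Submodule.Quotient.mk (oneStalk ξ) : Cyc.secFibre (Coh.structureModule X) ξ)) =
      Cyc.ordAt x ξ h (X.residue ξ ψ) := by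
  have ht : ∃ t : (Coh.structureModule X).presheaf.stalk x, Submodule.span (X.presheaf.stalk x) {t} = ⊤ := by
    refine ⟨oneStalk x, eq_top_iff.2 fun m _ => ?_⟩
    obtain ⟨r, rfl⟩ := (structureModule_stalk_bijective (Z := X) x).2 m
    exact Submodule.smul_mem _ _ (Submodule.mem_span_singleton_self _)
  have hspan := Classical.choose_spec ht
  obtain ⟨v, hv⟩ := (structureModule_stalk_bijective (Z := X) x).2 (Classical.choose ht)
  replace hv : Classical.choose ht = v • oneStalk x := hv.symm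
  obtain ⟨c, hc⟩ := Submodule.mem_span_singleton.1 (hspan.ge (Submodule.mem_top (x := oneStalk x)))
  rw [hv, ← mul_smul] at hc
  have hvu : IsUnit v := IsUnit.of_mul_eq_one_right c ((structureModule_stalk_bijective (Z := X) x).1
    (show (c * v) • oneStalk x = (1 : X.presheaf.stalk x) • oneStalk x from hc.trans (one_smul _ _).symm))
  have hsp : (Coh.structureModule X).presheaf.stalkSpecializes h (Classical.choose ht) =
      X.presheaf.stalkSpecializes h v • oneStalk ξ := by rw [hv, stalkSpecializes_smul_one]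
  have hwu : IsUnit (X.presheaf.stalkSpecializes h v) := hvu.map _
  obtain ⟨w, hw⟩ := hwu
  have hφ : ∃ φ : X.presheaf.stalk ξ,
      ψ • (Submodule.Quotient.mk (oneStalk ξ) : Cyc.secFibre (Coh.structureModule X) ξ) =
        φ • (Submodule.Quotient.mk ((Coh.structureModule X).presheaf.stalkSpecializes h (Classical.choose ht)) :
          Cyc.secFibre (Coh.structureModule X) ξ) :=
    ⟨ψ * (w⁻¹ : (X.presheaf.stalk ξ)ˣ), by
      rw [hsp, ← hw, Submodule.Quotient.mk_smul, ← mul_smul, mul_assoc, Units.inv_mul, mul_one]⟩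
  simp only [Cyc.secOrdAt]
  rw [dif_pos ht, dif_pos hφ]
  have he := Classical.choose_spec hφ
  set φ := Classical.choose hφ
  rw [hsp, Submodule.Quotient.mk_smul, ← mul_smul, ← sub_eq_zero, ← sub_smul, ← Submodule.Quotient.mk_smul,
    Submodule.Quotient.mk_eq_zero] at he
  have h1 := (IsLocalRing.residue_eq_zero_iff _).2 (mem_maximal_of_mem_smul_top he)
  replace h1 : X.residue ξ ψ = X.residue ξ φ * Cyc.specMap x ξ h v := by
    have h2 : X.residue ξ (ψ - φ * X.presheaf.stalkSpecializes h v) = 0 := h1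
    rw [map_sub, map_mul, sub_eq_zero] at h2
    exact h2
  have hne : X.residue ξ φ ≠ 0 ∧ Cyc.specMap x ξ h v ≠ 0 := mul_ne_zero_iff.1 (h1 ▸ hψ)
  rw [h1]
  unfold Cyc.ordAt
  rw [ordFrac_mul_all hne.1 hne.2]
  have := ordAt_eq_zero_of_isUnit h hvu
  unfold Cyc.ordAt at this
  omega

theorem ratEquivZero_c1Cap_structure [IsLocallyNoetherian X] {δ : X → ℤ} (k : ℤ) (α : AlgebraicCycle X ℤ)
    (hα : α ∈ Cyc.Zk X δ (k + 1)) (s : (ξ : X) → Cyc.secFibre (Coh.structureModule X) ξ) (hs : ∀ ξ, s ξ ≠ 0)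
    (γ : AlgebraicCycle X ℤ) (hγ : ⇑γ = Cyc.c1CapFun δ (Coh.structureModule X) ⇑α s) :
    Cyc.RatEquivZero δ k γ := by
  choose ψ hψ hsψ using fun ξ => exists_rep ξ (hs ξ)
  refine ⟨{ξ : X // α ξ ≠ 0}, fun i => i.1, fun i => (X.residue i.1 (ψ i.1)) ^ (α i.1),
    fun i => by_contra fun h => i.2 (hα _ h), fun i => zpow_ne_zero _ (hψ _), fun x => ?_, fun x => ?_⟩
  · obtain ⟨t, ht, hfin⟩ := α.supportLocallyFiniteWithinDomain' x trivial
    obtain ⟨U, hUt, hU, hxU⟩ := mem_nhds_iff.1 ht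
    refine ⟨U, hU, hxU, (hfin.preimage Subtype.val_injective.injOn).subset ?_⟩
    rintro i ⟨y, hy1, hy2⟩
    exact ⟨hUt ((specializes_iff_mem_closure.2 hy1).mem_open hU hy2), i.2⟩
  · rw [congrFun hγ x]
    simp only [Cyc.c1CapFun]
    have hred : ∀ g : X → ℤ, (∀ ξ, α ξ = 0 → g ξ = 0) → ∑ᶠ ξ, g ξ = ∑ᶠ i : {ξ : X // α ξ ≠ 0}, g i.1 := fun g hg => by
      rw [finsum_subtype_eq_finsum_cond (f := g) (fun ξ => α ξ ≠ 0)]
      refine finsum_congr fun ξ => ?_
      rw [finsum_eq_if]
      split_ifs with h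
      · rfl
      · exact hg ξ (not_not.1 h)
    rw [hred (fun ξ => α ξ * Cyc.secDivFun δ (Coh.structureModule X) ξ (s ξ) x) fun ξ h0 => by simp [h0]]
    refine finsum_congr fun i => ?_
    simp only [Cyc.secDivFun, Cyc.divFun]
    split_ifs with h
    · conv_lhs => rw [hsψ i.1, secOrdAt_structure h.1 _ (hψ i.1)]
      exact (ordFrac_zpow (hψ i.1) _).symm
    · rw [mul_zero]

end Groth.Agent.Cyc26
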