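import Groth.Agent.Lib.Cyc26.CurveDegree

/-! # Proper pushforward preserves rational equivalence -/

set_option autoImplicit false
universe u

set_option backward.isDefEq.respectTransparency.types false

open CategoryTheory AlgebraicGeometry

namespace Groth.Agent.Cyc26

variable {X Y : Scheme.{u}}

theorem residueDegree_congr {p q : X ⟶ Y} (e : p = q) (x : X) : p.residueDegree x = q.residueDegree x := by
  rw [e]

theorem topologicalKrullDim_eq_one_of_closed {k : Type u} [Field k] [IsIntegral X]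
    (c : X ⟶ Spec (CommRingCat.of k)) [LocallyOfFiniteType c] (w : X) (hw : w ≠ genericPoint X)
    (h : ∀ a b : X, a ⤳ b → a ≠ genericPoint X → a = b) : topologicalKrullDim X = 1 := by
  have hclosed : ∀ a : X, a ≠ genericPoint X → VarDim.sdim c a = 0 := fun a ha => by
    rw [VarDim.sdim_eq_zero_iff_isClosed, ← closure_subset_iff_isClosed]
    exact fun b hb => (h a b (specializes_iff_mem_closure.2 hb) ha).symm
  rw [VarDim.dim_eq_sdim_genericPoint c]
  have h1 : Order.height (genericPoint X) = 1 := by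
    refine le_antisymm ?_ ?_
    · rw [show (1 : ℕ∞) = ((1 : ℕ) : ℕ∞) from rfl, Order.height_le_coe_iff]
      intro y hy
      have hne : y ≠ genericPoint X := hy.ne
      rw [VarDim.height_eq_sdim c, hclosed y hne]
      exact Nat.cast_lt.2 one_pos
    · refine Order.one_le_iff_pos.2 (pos_of_ne_zero fun h0 => ?_)
      rw [Order.height_eq_zero] at h0
      have h2 : genericPoint X ≤ w := h0 (show w ≤ genericPoint X from genericPoint_specializes w)
      exact hw ((genericPoint_specializes w).antisymm h2).eq.symm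
  rw [VarDim.height_eq_sdim c] at h1
  exact_mod_cast congrArg (fun n : ℕ∞ => (n : WithBot ℕ∞)) h1

/-- The curve case: a divisor on a curve over the point `p ξ` has degree zero. -/
theorem map_divFun_point_eq_zero [IsLocallyNoetherian X] (p : X ⟶ Y) [IsProper p] {δX : X → ℤ} {δY : Y → ℤ}
    (hdX : Cyc.IsDimFun X δX) (hδ : Cyc.DeltaCompat p δX δY) {ξ : X} (hξ : δY (p ξ) + 1 = δX ξ)
    (f : X.residueField ξ) (hf : f ≠ 0) (α : AlgebraicCycle X ℤ) (hα : ⇑α = Cyc.divFun δX ξ f) :
    AlgebraicCycle.map p δX δY α (p ξ) = 0 := by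
  classical
  obtain ⟨Z, i, hi, hZ, hrange, hgen⟩ := exists_closure_subscheme X ξ
  set η := p ξ
  let q : Z ⟶ Y := i ≫ p
  have hqgen : q (genericPoint Z) = η := congrArg (fun z => p z) hgen
  obtain ⟨ξF, hξF⟩ : genericPoint Z ∈ Set.range (q.fiberι η) := by
    rw [Scheme.Hom.range_fiberι]; exact hqgen
  obtain ⟨W, jW, hjW, hW, hWrange, hWgen⟩ := exists_closure_subscheme (q.fiber η) ξF
  haveI : IsProper (q.fiberToSpecResidueField η) := by
    haveI : IsProper q := inferInstanceAs (IsProper (i ≫ p))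
    exact MorphismProperty.pullback_snd _ _ inferInstance
  let c : W ⟶ Spec (CommRingCat.of (Y.residueField η)) := jW ≫ q.fiberToSpecResidueField η
  haveI : IsProper c := inferInstanceAs (IsProper (jW ≫ q.fiberToSpecResidueField η))
  let j : W ⟶ X := jW ≫ q.fiberι η ≫ i
  haveI : IsPreimmersion j := inferInstanceAs (IsPreimmersion (jW ≫ q.fiberι η ≫ i))
  have hjgen : j (genericPoint W) = ξ := by
    show i (q.fiberι η (jW (genericPoint W))) = ξ
    rw [hWgen, hξF, hgen]
  have hjp : ∀ w, p (j w) = η := fun w => by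
    have h : q.fiberι η (jW w) ∈ q ⁻¹' {η} := by rw [← Scheme.Hom.range_fiberι]; exact ⟨_, rfl⟩
    exact h
  have hjsp : ∀ w, ξ ⤳ j w := fun w => hjgen ▸ (genericPoint_specializes w).map j.continuous
  have hjne : ∀ w, w ≠ genericPoint W → j w ≠ ξ := fun w hw e =>
    hw (j.isEmbedding.injective (e.trans hjgen.symm))
  have hδw : ∀ w, w ≠ genericPoint W → δX (j w) = δY η := fun w hw => by
    have h1 := delta_image_le p hδ (j w)
    have h2 := (hdX ξ (j w) (hjsp w) (hjne w hw).symm).1
    rw [hjp] at h1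
    omega
  have hcov : ∀ x, p x = η → ξ ⤳ x → x ∈ Set.range j := fun x hx hsp => by
    obtain ⟨z, rfl⟩ : x ∈ Set.range i := hrange ▸ specializes_iff_mem_closure.1 hsp
    obtain ⟨φ, rfl⟩ : z ∈ Set.range (q.fiberι η) := by rw [Scheme.Hom.range_fiberι]; exact hx
    have hφ : φ ∈ Set.range jW := by
      rw [hWrange, ← specializes_iff_mem_closure, ← (q.fiberι η).isEmbedding.isInducing.specializes_iff, hξF]
      exact genericPoint_specializes _
    obtain ⟨w, rfl⟩ := hφ
    exact ⟨w, rfl⟩
  have hG : AlgebraicCycle.map p δX δY α η =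
      ∑ᶠ w : W, α (j w) * (AlgebraicCycle.mapCoeff p δX δY (j w) : ℤ) := by
    rw [AlgebraicCycle.map, Function.locallyFinsupp.map_apply]
    refine (finsum_mem_inter_support_eq' _ (p ⁻¹' {η}) (Set.range j) fun x hx => ?_).trans
      (finsum_mem_range j.isEmbedding.injective)
    constructor
    · intro hx'
      refine hcov x hx' (specializes_of_divFun_ne_zero (φ := f) (hα ▸ left_ne_zero_of_mul hx)).1
    · rintro ⟨w, rfl⟩
      exact hjp w
  have hgen0 : α (j (genericPoint W)) = 0 := by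
    rw [hα, hjgen, Cyc.divFun, dif_neg]
    rintro ⟨-, h⟩
    omega
  rw [hG]
  have hsub : ∑ᶠ w : W, α (j w) * (AlgebraicCycle.mapCoeff p δX δY (j w) : ℤ) =
      ∑ᶠ w : {w : W // w ≠ genericPoint W}, α (j w.1) * (AlgebraicCycle.mapCoeff p δX δY (j w.1) : ℤ) := by
    rw [finsum_subtype_eq_finsum_cond (f := fun w => α (j w) * (AlgebraicCycle.mapCoeff p δX δY (j w) : ℤ))
      (fun w => w ≠ genericPoint W)]
    refine finsum_congr fun w => ?_
    by_cases hw : w = genericPoint W
    · subst hw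
      rw [hgen0, zero_mul]
      simp
    · rw [finsum_eq_if, if_pos hw]
  rw [hsub]
  by_cases hne : Nonempty {w : W // w ≠ genericPoint W}
  swap
  · haveI : IsEmpty {w : W // w ≠ genericPoint W} := not_nonempty_iff.1 hne
    exact finsum_of_isEmpty _
  obtain ⟨w₀⟩ := hne
  have hdim : topologicalKrullDim W = 1 := by
    refine topologicalKrullDim_eq_one_of_closed c w₀.1 w₀.2 fun a b hab ha => ?_
    by_contra hne'
    have hb : b ≠ genericPoint W := fun hb => ha ((genericPoint_specializes a).antisymm (hb ▸ hab)).eq.symm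
    have h1 := (hdX (j a) (j b) (hab.map j.continuous) fun e => hne' (j.isEmbedding.injective e)).1
    rw [hδw a ha, hδw b hb] at h1
    exact lt_irrefl _ h1
  let f' : W.residueField (genericPoint W) := j.residueFieldMap _ ((X.residueFieldCongr hjgen.symm).hom f)
  have key := degree_zero_curve c hdim f' ((map_ne_zero _).2 ((map_ne_zero _).2 hf))
  rw [← key]
  refine finsum_congr fun w => ?_
  have hcp : c ≫ Y.fromSpecResidueField η = j ≫ p := by
    simp only [c, j, Category.assoc]
    congr 1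
    exact (Limits.pullback.condition (f := q) (g := Y.fromSpecResidueField η)).symm
  have hdeg : c.residueDegree w.1 = p.residueDegree (j w.1) := by
    have h := residueDegree_congr hcp w.1
    have h1 := residueDegree_comp c (Y.fromSpecResidueField η) w.1
    have h2 := residueDegree_comp j p w.1
    rw [residueDegree_of_bijective (Y.fromSpecResidueField η) _ (residueFieldMap_bijective _ _)] at h1
    rw [residueDegree_of_bijective j w.1 (residueFieldMap_bijective _ _)] at h2
    rw [h1, h2, one_mul, mul_one] at h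
    exact h
  have hcongr : ∀ (a : X) (ha : a = ξ) (h : a ⤳ j w.1),
      Cyc.ordAt (j w.1) a h ((X.residueFieldCongr ha.symm).hom f) = Cyc.ordAt (j w.1) ξ (hjsp w.1) f := by
    rintro a rfl h
    rw [Scheme.residueFieldCongr_refl]
    rfl
  rw [hα, Cyc.divFun, dif_pos (show ξ ⤳ j w.1 ∧ δX (j w.1) + 1 = δX ξ from ⟨hjsp _, by rw [hδw _ w.2, hξ]⟩),
    AlgebraicCycle.mapCoeff, if_pos (show δX (j w.1) = δY (p (j w.1)) by rw [hjp, hδw _ w.2]), hdeg,
    ordAt_preimmersion j (genericPoint_specializes w.1), hcongr _ hjgen, mul_comm]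

/-- `p_*(div f) = 0` when `p` lowers the dimension of `ξ`. -/
theorem map_divFun_eq_zero [IsLocallyNoetherian X] (p : X ⟶ Y) [IsProper p] {δX : X → ℤ} {δY : Y → ℤ}
    (hdX : Cyc.IsDimFun X δX) (hdY : Cyc.IsDimFun Y δY) (hδ : Cyc.DeltaCompat p δX δY) {ξ : X}
    (hξ : δY (p ξ) ≠ δX ξ) (f : X.residueField ξ) (hf : f ≠ 0) (α : AlgebraicCycle X ℤ)
    (hα : ⇑α = Cyc.divFun δX ξ f) : AlgebraicCycle.map p δX δY α = 0 := by
  classical
  ext y
  show AlgebraicCycle.map p δX δY α y = 0
  by_cases hy : y = p ξ ∧ δY (p ξ) + 1 = δX ξ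
  · rw [hy.1]
    exact map_divFun_point_eq_zero p hdX hδ hy.2 f hf α hα
  · rw [map_apply_eq_sum p δX δY α y ∅ (by simp) fun x hx hne hd => ?_, Finset.sum_empty]
    obtain ⟨h1, h2⟩ := specializes_of_divFun_ne_zero (hα ▸ hne)
    have h3 : p ξ ⤳ y := hx ▸ h1.map p.continuous
    have h4 := delta_image_le p hδ ξ
    rw [hx] at hd
    rcases eq_or_ne (p ξ) y with e | e
    · exact absurd ⟨e.symm, by rw [e]; omega⟩ hy
    · have := (hdY (p ξ) y h3 e).1
      omega

/-- Proper pushforward preserves rational equivalence to zero. -/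
theorem ratEquivZero_map [IsLocallyNoetherian X] [IsLocallyNoetherian Y] (p : X ⟶ Y) [IsProper p] {δX : X → ℤ}
    {δY : Y → ℤ} (hdX : Cyc.IsDimFun X δX) (hdY : Cyc.IsDimFun Y δY) (hδ : Cyc.DeltaCompat p δX δY) {k : ℤ}
    {γ : AlgebraicCycle X ℤ} (h : Cyc.RatEquivZero δX k γ) :
    Cyc.RatEquivZero δY k (AlgebraicCycle.map p δX δY γ) := by
  classical
  obtain ⟨ι, ξ, f, hξ, hf, hfin, hγ⟩ := h
  let J : Type u := {i : ι // δY (p (ξ i)) = δX (ξ i)}
  let N : (i : ι) → Y.residueField (p (ξ i)) := fun i => Cyc.normGen p (ξ i) (f i)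
  have hN : ∀ i : J, N i.1 ≠ 0 := fun i => by
    letI := (p.residueFieldMap (ξ i.1)).hom.toAlgebra
    show Algebra.norm (Y.residueField (p (ξ i.1))) (f i.1) ≠ 0
    by_cases hfin' : Module.Finite (Y.residueField (p (ξ i.1))) (X.residueField (ξ i.1))
    · exact Algebra.norm_ne_zero_iff.2 (hf i.1)
    · rw [Algebra.norm_eq_one_of_not_module_finite hfin']
      exact one_ne_zero
  have key : ∀ W : Y.Opens, IsAffineOpen W → {i : ι | p (ξ i) ∈ W}.Finite := by
    intro W hW
    choose U hUo hxU hUfin using hfin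
    obtain ⟨t, ht⟩ := (p.isCompact_preimage hW.isCompact).elim_finite_subcover U hUo
      fun x _ => Set.mem_iUnion.2 ⟨x, hxU x⟩
    refine (t.finite_toSet.biUnion fun x _ => hUfin x).subset fun i hi => ?_
    obtain ⟨x, hx, hxi⟩ := Set.mem_iUnion₂.1 (ht (show ξ i ∈ p ⁻¹' (W : Set Y) from hi))
    exact Set.mem_biUnion hx ⟨ξ i, subset_closure rfl, hxi⟩
  refine ⟨J, fun i => p (ξ i.1), fun i => N i.1, fun i => by rw [i.2]; exact hξ i.1, hN, fun y => ?_, fun y => ?_⟩
  · obtain ⟨W, hW, hyW, -⟩ := exists_isAffineOpen_mem_and_subset (U := (⊤ : Y.Opens)) (x := y) trivial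
    refine ⟨W, W.2, hyW, ((key W hW).preimage Subtype.val_injective.injOn).subset ?_⟩
    rintro i ⟨z, hz1, hz2⟩
    exact (specializes_iff_mem_closure.2 hz1).mem_open W.2 hz2
  · obtain ⟨W, hW, hyW, -⟩ := exists_isAffineOpen_mem_and_subset (U := (⊤ : Y.Opens)) (x := y) trivial
    let I := (key W hW).toFinset
    have hI : ∀ i x, p x = y → ξ i ⤳ x → i ∈ I := fun i x hx hsp => (key W hW).mem_toFinset.2
      ((hsp.map p.continuous).mem_open W.2 (hx.symm ▸ hyW : p x ∈ W))
    have hcyc : ∀ i, ∃ a : AlgebraicCycle X ℤ, ⇑a = Cyc.divFun δX (ξ i) (f i) := fun i => by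
      obtain ⟨a, ha⟩ := exists_cycle_sum_divFun hdX (ι := PUnit.{u+1}) (fun _ => ξ i) (fun _ => f i)
        (fun x => ⟨Set.univ, isOpen_univ, trivial, Set.toFinite _⟩)
      exact ⟨a, funext fun x => (ha x).trans (finsum_unique _)⟩
    choose a ha using hcyc
    have hcompact := p.isCompact_preimage hW.isCompact
    have hsupp : ∀ b : AlgebraicCycle X ℤ, ((p ⁻¹' (W : Set Y)) ∩ Function.support ⇑b).Finite := fun b =>
      b.locallyFiniteSupport.finite_inter_support_of_isCompact hcompact
    let T : Finset X := ((hsupp γ).toFinset ∪ I.biUnion fun i => (hsupp (a i)).toFinset).filter fun x => p x = y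
    have hT : ∀ x ∈ T, p x = y := fun x hx => (Finset.mem_filter.1 hx).2
    have hmem : ∀ x, p x = y → x ∈ p ⁻¹' (W : Set Y) := fun x hx => show p x ∈ (W : Set Y) from hx.symm ▸ hyW
    have hsum : ∀ x ∈ T, γ x = ∑ i ∈ I, a i x := fun x hx => by
      rw [hγ, finsum_eq_sum_of_support_subset (s := I) _ fun i hi => hI i x (hT x hx) (specializes_of_divFun_ne_zero hi).1]
      exact Finset.sum_congr rfl fun i _ => (congrFun (ha i) x).symm
    rw [map_apply_eq_sum p δX δY γ y T hT fun x hx hne _ => Finset.mem_filter.2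
      ⟨Finset.mem_union_left _ ((hsupp γ).mem_toFinset.2 ⟨hmem x hx, hne⟩), hx⟩]
    have hstep : ∑ x ∈ T, γ x * (AlgebraicCycle.mapCoeff p δX δY x : ℤ) =
        ∑ i ∈ I, AlgebraicCycle.map p δX δY (a i) y := by
      rw [Finset.sum_congr rfl fun x hx => by rw [hsum x hx, Finset.sum_mul], Finset.sum_comm]
      refine Finset.sum_congr rfl fun i hi => (map_apply_eq_sum p δX δY (a i) y T hT fun x hx hne _ => ?_).symm
      exact Finset.mem_filter.2 ⟨Finset.mem_union_right _ (Finset.mem_biUnion.2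
        ⟨i, hi, (hsupp (a i)).mem_toFinset.2 ⟨hmem x hx, hne⟩⟩), hx⟩
    rw [hstep, finsum_eq_sum_of_support_subset (s := I.subtype _) _ fun i hi => ?_]
    · symm
      rw [Finset.sum_subtype_eq_sum_filter (fun i => Cyc.divFun δY (p (ξ i)) (N i) y), Finset.sum_filter]
      refine Finset.sum_congr rfl fun i _ => ?_
      split_ifs with h
      · rw [map_divFun_eq_norm p hdX hdY hδ h (f i) (hf i) (a i) (ha i)]
      · rw [map_divFun_eq_zero p hdX hdY hδ h (f i) (hf i) (a i) (ha i)]
        rfl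
    · rw [Finset.mem_coe, Finset.mem_subtype]
      exact (key W hW).mem_toFinset.2 ((specializes_of_divFun_ne_zero hi).1.mem_open W.2 hyW)

theorem map_sub [IsLocallyNoetherian X] (p : X ⟶ Y) [IsProper p] (δX : X → ℤ) (δY : Y → ℤ)
    (α β : AlgebraicCycle X ℤ) : AlgebraicCycle.map p δX δY (α - β) =
      AlgebraicCycle.map p δX δY α - AlgebraicCycle.map p δX δY β := by
  classical
  ext y
  obtain ⟨W, hW, hyW, -⟩ := exists_isAffineOpen_mem_and_subset (U := (⊤ : Y.Opens)) (x := y) trivial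
  have hcompact := p.isCompact_preimage hW.isCompact
  have hsupp : ∀ b : AlgebraicCycle X ℤ, ((p ⁻¹' (W : Set Y)) ∩ Function.support ⇑b).Finite := fun b =>
    b.locallyFiniteSupport.finite_inter_support_of_isCompact hcompact
  let T : Finset X := ((hsupp α).toFinset ∪ (hsupp β).toFinset ∪ (hsupp (α - β)).toFinset).filter fun x => p x = y
  have hT : ∀ x ∈ T, p x = y := fun x hx => (Finset.mem_filter.1 hx).2
  have hmem : ∀ b : AlgebraicCycle X ℤ, b = α ∨ b = β ∨ b = α - β → ∀ x, p x = y → b x ≠ 0 → x ∈ T := by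
    intro b hb x hx hne
    refine Finset.mem_filter.2 ⟨?_, hx⟩
    have hxW : x ∈ p ⁻¹' (W : Set Y) := show p x ∈ (W : Set Y) from hx.symm ▸ hyW
    simp only [Finset.mem_union, Set.Finite.mem_toFinset]
    rcases hb with rfl | rfl | rfl
    exacts [.inl (.inl ⟨hxW, hne⟩), .inl (.inr ⟨hxW, hne⟩), .inr ⟨hxW, hne⟩]
  show AlgebraicCycle.map p δX δY (α - β) y =
    AlgebraicCycle.map p δX δY α y - AlgebraicCycle.map p δX δY β y
  rw [map_apply_eq_sum p δX δY (α - β) y T hT fun x hx hne _ => hmem _ (.inr (.inr rfl)) x hx hne,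
    map_apply_eq_sum p δX δY α y T hT fun x hx hne _ => hmem _ (.inl rfl) x hx hne,
    map_apply_eq_sum p δX δY β y T hT fun x hx hne _ => hmem _ (.inr (.inl rfl)) x hx hne,
    ← Finset.sum_sub_distrib]
  exact Finset.sum_congr rfl fun x _ => sub_mul _ _ _

end Groth.Agent.Cyc26
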