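import Groth.Agent.Lib.Cyc26.C1Pull
import Groth.Agent.Lib.Cyc26.PushRat

/-! # The projection formula for the first Chern class -/

set_option autoImplicit false
universe u

set_option backward.isDefEq.respectTransparency.types false

open CategoryTheory AlgebraicGeometry TopologicalSpace

namespace Groth.Agent.Cyc26

variable {X Y : Scheme.{u}}

theorem normGen_residueFieldMap (p : X ⟶ Y) (ξ : X) (φ : Y.residueField (p ξ)) :
    Cyc.normGen p ξ (p.residueFieldMap ξ φ) = φ ^ p.residueDegree ξ := by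
  letI := (p.residueFieldMap ξ).hom.toAlgebra
  exact Algebra.norm_algebraMap (S := X.residueField ξ) φ

theorem divFun_npow (δ : X → ℤ) (ξ x : X) {φ : X.residueField ξ} (hφ : φ ≠ 0) (n : ℕ) :
    Cyc.divFun δ ξ (φ ^ n) x = n * Cyc.divFun δ ξ φ x := by
  simp only [Cyc.divFun]
  split_ifs with h
  · exact ordFrac_pow hφ n
  · rw [mul_zero]

theorem map_secPull_apply [IsLocallyNoetherian X] [IsLocallyNoetherian Y] (p : X ⟶ Y) [IsProper p] {δX : X → ℤ}
    {δY : Y → ℤ} (hdX : Cyc.IsDimFun X δX) (hdY : Cyc.IsDimFun Y δY) (hδ : Cyc.DeltaCompat p δX δY) {L : Y.Modules}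
    (hL : PicF.IsInvertible L) {U : Y.Opens} {e : Γ(L, U)} (he : Groth.Agent.M2.IsGenerator e) {y : Y} (hy : y ∈ U)
    {ξ : X} (hξ : p ξ ∈ U) {s : Cyc.secFibre L (p ξ)} (hs : s ≠ 0) (a : AlgebraicCycle X ℤ)
    (ha : ⇑a = Cyc.secDivFun δX ((Scheme.Modules.pullback p).obj L) ξ (secPull p L ξ s)) :
    AlgebraicCycle.map p δX δY a y =
      (AlgebraicCycle.mapCoeff p δX δY ξ : ℤ) * Cyc.secDivFun δY L (p ξ) s y := by
  classical
  obtain ⟨φ, hφ, hY, hX⟩ := exists_local_eq p hL he hξ hs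
  have hf0 : p.residueFieldMap ξ φ ≠ 0 := (map_ne_zero _).2 hφ
  obtain ⟨b, hb⟩ := exists_cycle_sum_divFun hdX (ι := PUnit.{u+1}) (fun _ => ξ) (fun _ => p.residueFieldMap ξ φ)
    (fun x => ⟨Set.univ, isOpen_univ, trivial, Set.toFinite _⟩)
  have hb' : ⇑b = Cyc.divFun δX ξ (p.residueFieldMap ξ φ) := funext fun x => (hb x).trans (finsum_unique _)
  obtain ⟨W, hW, hyW, -⟩ := exists_isAffineOpen_mem_and_subset (U := (⊤ : Y.Opens)) (x := y) trivial
  have hsupp := b.locallyFiniteSupport.finite_inter_support_of_isCompact (p.isCompact_preimage hW.isCompact)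
  let T : Finset X := hsupp.toFinset.filter fun x => p x = y
  have hab : ∀ x, p x = y → a x = b x := fun x hx => by
    rw [ha, hb']
    exact hX δX x (hx.symm ▸ hy)
  have hmem : ∀ x, p x = y → b x ≠ 0 → x ∈ T := fun x hx hne => Finset.mem_filter.2
    ⟨hsupp.mem_toFinset.2 ⟨show p x ∈ (W : Set Y) from hx.symm ▸ hyW, hne⟩, hx⟩
  have heq : AlgebraicCycle.map p δX δY a y = AlgebraicCycle.map p δX δY b y := by
    rw [map_apply_eq_sum p δX δY a y T (fun x hx => (Finset.mem_filter.1 hx).2) fun x hx hne _ =>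
        hmem x hx (hab x hx ▸ hne),
      map_apply_eq_sum p δX δY b y T (fun x hx => (Finset.mem_filter.1 hx).2) fun x hx hne _ => hmem x hx hne]
    exact Finset.sum_congr rfl fun x hx => by rw [hab x (Finset.mem_filter.1 hx).2]
  rw [heq, AlgebraicCycle.mapCoeff, hY δY y hy]
  split_ifs with h
  · rw [map_divFun_eq_norm p hdX hdY hδ h.symm _ hf0 b hb', normGen_residueFieldMap, divFun_npow δY _ y hφ]
  · rw [map_divFun_eq_zero p hdX hdY hδ (fun e => h e.symm) _ hf0 b hb', Nat.cast_zero, zero_mul]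
    rfl

/-- `p_*(c₁(p^* L) ∩ α) = c₁(L) ∩ p_* α` for pulled back sections. -/
theorem map_c1Cap_secPull [IsLocallyNoetherian X] [IsLocallyNoetherian Y] (p : X ⟶ Y) [IsProper p] {δX : X → ℤ}
    {δY : Y → ℤ} (hdX : Cyc.IsDimFun X δX) (hdY : Cyc.IsDimFun Y δY) (hδ : Cyc.DeltaCompat p δX δY) {L : Y.Modules}
    (hL : PicF.IsInvertible L) (α : AlgebraicCycle X ℤ) (v : (η : Y) → Cyc.secFibre L η) (hv : ∀ η, v η ≠ 0)
    (γ : AlgebraicCycle X ℤ)
    (hγ : ⇑γ = Cyc.c1CapFun δX ((Scheme.Modules.pullback p).obj L) ⇑α fun ξ => secPull p L ξ (v (p ξ))) :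
    ⇑(AlgebraicCycle.map p δX δY γ) = Cyc.c1CapFun δY L ⇑(AlgebraicCycle.map p δX δY α) v := by
  classical
  funext y
  obtain ⟨U, e, hyU, -, hU, he⟩ := Amp.exists_isGenerator hL (V := ⊤) (x := y) trivial
  have hcompact := p.isCompact_preimage hU.isCompact
  have hsupp : ∀ b : AlgebraicCycle X ℤ, ((p ⁻¹' (U : Set Y)) ∩ Function.support ⇑b).Finite := fun b =>
    b.locallyFiniteSupport.finite_inter_support_of_isCompact hcompact
  let I : Finset X := (hsupp α).toFinset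
  have hI : ∀ ξ, p ξ ∈ U → α ξ ≠ 0 → ξ ∈ I := fun ξ h1 h2 => (hsupp α).mem_toFinset.2 ⟨h1, h2⟩
  have hI' : ∀ ξ ∈ I, p ξ ∈ U := fun ξ hξ => ((hsupp α).mem_toFinset.1 hξ).1
  choose a ha using fun ξ => exists_cycle_secDivFun (Groth.Agent.Twist.isInvertible_pullback p hL) hdX ξ
    (secPull_ne_zero p hL ξ (hv (p ξ)))
  let T : Finset X := ((hsupp γ).toFinset ∪ I.biUnion fun i => (hsupp (a i)).toFinset).filter fun x => p x = y
  have hT : ∀ x ∈ T, p x = y := fun x hx => (Finset.mem_filter.1 hx).2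
  have hmem : ∀ x, p x = y → x ∈ p ⁻¹' (U : Set Y) := fun x hx => show p x ∈ (U : Set Y) from hx.symm ▸ hyU
  have hsum : ∀ x ∈ T, γ x = ∑ ξ ∈ I, α ξ * a ξ x := fun x hx => by
    rw [hγ, c1CapFun_eq_sum (V := p ⁻¹ᵁ U) δX (⇑α) _ (hmem x (hT x hx)) I fun ξ h1 h2 => hI ξ h1 h2]
    exact Finset.sum_congr rfl fun ξ _ => by rw [ha]
  rw [map_apply_eq_sum p δX δY γ y T hT fun x hx hne _ => Finset.mem_filter.2
    ⟨Finset.mem_union_left _ ((hsupp γ).mem_toFinset.2 ⟨hmem x hx, hne⟩), hx⟩]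
  have hstep : ∑ x ∈ T, γ x * (AlgebraicCycle.mapCoeff p δX δY x : ℤ) =
      ∑ ξ ∈ I, α ξ * AlgebraicCycle.map p δX δY (a ξ) y := by
    rw [Finset.sum_congr rfl fun x hx => by rw [hsum x hx, Finset.sum_mul], Finset.sum_comm]
    refine Finset.sum_congr rfl fun ξ hξ => ?_
    rw [map_apply_eq_sum p δX δY (a ξ) y T hT fun x hx hne _ => Finset.mem_filter.2 ⟨Finset.mem_union_right _
      (Finset.mem_biUnion.2 ⟨ξ, hξ, (hsupp (a ξ)).mem_toFinset.2 ⟨hmem x hx, hne⟩⟩), hx⟩, Finset.mul_sum]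
    exact Finset.sum_congr rfl fun x _ => mul_assoc _ _ _
  have hmap : ∀ η ∈ U, AlgebraicCycle.map p δX δY α η =
      ∑ ξ ∈ I.filter (fun ξ => p ξ = η), α ξ * (AlgebraicCycle.mapCoeff p δX δY ξ : ℤ) := fun η hη =>
    map_apply_eq_sum p δX δY α η _ (fun ξ hξ => (Finset.mem_filter.1 hξ).2) fun ξ hξ hne _ =>
      Finset.mem_filter.2 ⟨hI ξ (hξ.symm ▸ hη) hne, hξ⟩
  rw [hstep, c1CapFun_eq_sum (V := U) δY _ v hyU (I.image p) fun η hη hne => by
    rw [hmap η hη] at hne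
    obtain ⟨ξ, hξ, -⟩ := Finset.exists_ne_zero_of_sum_ne_zero hne
    exact Finset.mem_image.2 ⟨ξ, (Finset.mem_filter.1 hξ).1, (Finset.mem_filter.1 hξ).2⟩]
  rw [← Finset.sum_fiberwise_of_maps_to (g := fun ξ => p ξ) (t := I.image p)
    (fun ξ hξ => Finset.mem_image.2 ⟨ξ, hξ, rfl⟩)]
  refine Finset.sum_congr rfl fun η hη => ?_
  obtain ⟨ξ₀, hξ₀, rfl⟩ := Finset.mem_image.1 hη
  rw [hmap _ (hI' ξ₀ hξ₀), Finset.sum_mul]
  refine Finset.sum_congr rfl fun ξ hξ => ?_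
  obtain ⟨hξI, hξp⟩ := Finset.mem_filter.1 hξ
  rw [map_secPull_apply p hdX hdY hδ hL he hyU (hI' ξ hξI) (hv (p ξ)) (a ξ) (ha ξ), ← hξp, mul_assoc]

end Groth.Agent.Cyc26
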