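import Groth.Agent.Lib.Cyc26.C1Gen
import Groth.Prelude.Def_PicLoc

/-! # Capping with the first Chern class on rational equivalence classes -/

set_option autoImplicit false
universe u

set_option backward.isDefEq.respectTransparency.types false

open CategoryTheory AlgebraicGeometry TopologicalSpace
open scoped Classical

namespace Groth.Agent.Cyc26

variable {X D : Scheme.{u}} {δ : X → ℤ} {L N : X.Modules}

theorem fmk_one_ne_zero (ξ : X) : fmk (Coh.structureModule X) ξ (oneStalk ξ) ≠ 0 := fun h => by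
  rw [Submodule.Quotient.mk_eq_zero, ← one_smul (X.presheaf.stalk ξ) (oneStalk ξ)] at h
  exact (IsLocalRing.mem_maximalIdeal _).1 (mem_maximal_of_mem_smul_top h) isUnit_one

theorem secDivFun_structure (η : X) (ψ : X.presheaf.stalk η) (hψ : X.residue η ψ ≠ 0) (x : X) :
    Cyc.secDivFun δ (Coh.structureModule X) η (ψ • fmk (Coh.structureModule X) η (oneStalk η)) x =
      Cyc.divFun δ η (X.residue η ψ) x := by
  simp only [Cyc.secDivFun, Cyc.divFun]
  split_ifs with h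
  · exact secOrdAt_structure h.1 ψ hψ
  · rfl

theorem secDivFun_one (η x : X) :
    Cyc.secDivFun δ (Coh.structureModule X) η (fmk (Coh.structureModule X) η (oneStalk η)) x = 0 := by
  have h := secDivFun_structure (δ := δ) η 1 (by rw [map_one]; exact one_ne_zero) x
  rw [one_smul, map_one] at h
  rw [h]
  simp only [Cyc.divFun]
  split_ifs with h'
  · exact ordFrac_one
  · rfl

theorem c1Cap_one (α : X → ℤ) (x : X) :
    Cyc.c1CapFun δ (Coh.structureModule X) α (fun ξ => fmk (Coh.structureModule X) ξ (oneStalk ξ)) x = 0 :=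
  finsum_eq_zero_of_forall_eq_zero fun ξ => by rw [secDivFun_one, mul_zero]

theorem isInvertible_structure : PicF.IsInvertible (Coh.structureModule X) := PicLoc.isInvertible_structureModule X

theorem ext_gysin (hL : PicF.IsInvertible L) {i : D ⟶ X} [IsClosedImmersion i]
    {s : L.presheaf.obj (Opposite.op ⊤)} (hD : Cyc.IsZeroSchemeOf i L s) (w : (ξ : X) → Cyc.secFibre L ξ) {η ξ : X}
    (h : η ⤳ ξ) (hξ : ξ ∉ Set.range i) : Ext L (Cyc.gysinChoice L s w η) ξ (Cyc.gysinChoice L s w ξ) := by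
  have hη : η ∉ Set.range i := fun hη => hξ (h.mem_closed i.isClosedEmbedding.isClosed_range hη)
  refine ⟨h, (L.presheaf.germ ⊤ ξ trivial) s, ?_, gysinChoice_of_notMem hD w hξ, ?_⟩
  · obtain ⟨g, hg⟩ := exists_gen hL ξ
    obtain ⟨c, hc⟩ := hg.2 ((L.presheaf.germ ⊤ ξ trivial) s)
    simp only at hc
    rw [← hc]
    refine (hg.ne_zero_smul c).2 (by_contra fun hn => ?_)
    rw [hD.1] at hξ
    refine hξ ?_
    show (Submodule.Quotient.mk ((L.presheaf.germ ⊤ ξ trivial) s) : Cyc.secFibre L ξ) = 0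
    rw [← hc, Submodule.Quotient.mk_smul]
    exact smul_eq_zero_of_residue ((residue_eq_zero _ _).2 hn) _
  · rw [gysinChoice_of_notMem hD w hη]
    exact congrArg _ (TopCat.Presheaf.germ_stalkSpecializes_apply L.presheaf
      (show ξ ∈ (⊤ : X.Opens) from trivial) h s).symm

variable [IsLocallyNoetherian X]

/-- The two double cap products differ by principal divisors. -/
theorem c1Cap_c1Cap_family (hd : Cyc.IsDimFun X δ) (hL : PicF.IsInvertible L) (hN : PicF.IsInvertible N) {k : ℤ}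
    (α : AlgebraicCycle X ℤ) (hα : α ∈ Cyc.Zk X δ (k + 2)) {sL v : (ξ : X) → Cyc.secFibre L ξ}
    {sN u : (ξ : X) → Cyc.secFibre N ξ} (hsL : ∀ ξ, sL ξ ≠ 0) (hv : ∀ ξ, v ξ ≠ 0) (hsN : ∀ ξ, sN ξ ≠ 0)
    (hu : ∀ ξ, u ξ ≠ 0) (S T : Set X)
    (hS : ∀ η ξ, α η ≠ 0 → η ⤳ ξ → δ ξ + 1 = δ η → ξ ∉ S → Ext L (sL η) ξ (v ξ))
    (hT : ∀ η ξ, α η ≠ 0 → η ⤳ ξ → δ ξ + 1 = δ η → ξ ∉ T → Ext N (sN η) ξ (u ξ)) :
    RatFun δ k (S ∩ T) fun x => Cyc.c1CapFun δ N (Cyc.c1CapFun δ L ⇑α sL) u x -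
      Cyc.c1CapFun δ L (Cyc.c1CapFun δ N ⇑α sN) v x := by
  have key : ∀ j : {ξ : X // α ξ ≠ 0}, RatFun δ k (S ∩ T ∩ closure {j.1}) fun x =>
      α j.1 * (Cyc.c1CapFun δ N (Cyc.secDivFun δ L j.1 (sL j.1)) u x -
        Cyc.c1CapFun δ L (Cyc.secDivFun δ N j.1 (sN j.1)) v x) := fun j => by
    have hk : δ j.1 - 2 = k := by
      have : δ j.1 = k + 2 := by_contra fun h => j.2 (hα j.1 h)
      omega
    exact hk ▸ (comm_family hd hL hN j.1 (hsL _) (hsN _) hu hv S T (fun ξ => hS j.1 ξ j.2) (fun ξ => hT j.1 ξ j.2)).smul _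
  refine (RatFun.finsum (fun j : {ξ : X // α ξ ≠ 0} => j.1) (locallyFinite_support α) _ key).congr fun x => ?_
  rw [c1Cap_c1Cap_apply hd hL α hsL u x, c1Cap_c1Cap_apply hd hN α hsN v x, ← finsum_sub_distrib]
  · exact finsum_congr fun j => mul_sub _ _ _
  all_goals
    obtain ⟨U, -, hxU, hfin⟩ := locallyFinite_support α x
    refine hfin.subset fun j hj => ⟨x, ?_, hxU⟩
    obtain ⟨ξ, hξ⟩ : ∃ ξ, _ := by_contra fun hn => right_ne_zero_of_mul hj
      (finsum_eq_zero_of_forall_eq_zero fun ξ => by_contra fun h0 => hn ⟨ξ, h0⟩)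
    exact specializes_iff_mem_closure.1 ((specializes_of_secDivFun_ne_zero (left_ne_zero_of_mul hξ)).1.trans
      (specializes_of_secDivFun_ne_zero (right_ne_zero_of_mul hξ)).1)

theorem c1Cap_c1Cap_comm (hd : Cyc.IsDimFun X δ) (hL : PicF.IsInvertible L) (hN : PicF.IsInvertible N) {k : ℤ}
    {α : AlgebraicCycle X ℤ} (hα : α ∈ Cyc.Zk X δ (k + 2)) {sL sL' : (ξ : X) → Cyc.secFibre L ξ}
    {sN sN' : (ξ : X) → Cyc.secFibre N ξ} (hsL : ∀ ξ, sL ξ ≠ 0) (hsL' : ∀ ξ, sL' ξ ≠ 0) (hsN : ∀ ξ, sN ξ ≠ 0)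
    (hsN' : ∀ ξ, sN' ξ ≠ 0) {γ₁ γ₂ : AlgebraicCycle X ℤ}
    (h₁ : ⇑γ₁ = Cyc.c1CapFun δ L (Cyc.c1CapFun δ N ⇑α sN) sL)
    (h₂ : ⇑γ₂ = Cyc.c1CapFun δ N (Cyc.c1CapFun δ L ⇑α sL') sN') : Cyc.RatEquiv δ k γ₁ γ₂ := by
  refine (c1Cap_c1Cap_family hd hL hN α hα hsL' hsL hsN hsN' Set.univ Set.univ (fun _ _ _ _ _ h => (h trivial).elim)
    (fun _ _ _ _ _ h => (h trivial).elim)).neg.ratEquivZero fun x => ?_
  show γ₁ x - γ₂ x = _
  rw [h₁, h₂, neg_sub]

/-- `c₁(L)` of a cycle rationally equivalent to zero, computed with sections extending one another. -/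
theorem c1Cap_ratEquivZero_family (hd : Cyc.IsDimFun X δ) (hL : PicF.IsInvertible L) {k : ℤ}
    {α : AlgebraicCycle X ℤ} (h0 : Cyc.RatEquivZero δ (k + 1) α) {v : (ξ : X) → Cyc.secFibre L ξ}
    (hv : ∀ ξ, v ξ ≠ 0) (S : Set X)
    (hS : ∀ η ξ, η ⤳ ξ → δ ξ + 1 = δ η → ξ ∉ S → Ext L (v η) ξ (v ξ)) :
    RatFun δ k S fun x => Cyc.c1CapFun δ L ⇑α v x := by
  obtain ⟨ι, η, f, hη, hf, hlf, hα⟩ := h0
  choose ψ hψ using fun j => X.residue_surjective (η j) (f j)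
  have hψ0 : ∀ j, X.residue (η j) (ψ j) ≠ 0 := fun j => by rw [hψ]; exact hf j
  let t : (j : ι) → Cyc.secFibre (Coh.structureModule X) (η j) := fun j =>
    ψ j • fmk (Coh.structureModule X) (η j) (oneStalk (η j))
  have ht : ∀ j, t j ≠ 0 := fun j h => by
    obtain ⟨u, hu⟩ : IsUnit (ψ j) := by_contra fun hn => hψ0 j ((residue_eq_zero _ _).2 hn)
    refine fmk_one_ne_zero (η j) ?_
    have h2 := congrArg (fun z => (u⁻¹ : (X.presheaf.stalk (η j))ˣ).1 • z) h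
    simp only [t, ← mul_smul, ← hu, Units.inv_mul, one_smul, smul_zero] at h2
    exact h2
  have key : ∀ j, RatFun δ k (S ∩ closure {η j}) fun x =>
      Cyc.c1CapFun δ L (Cyc.secDivFun δ (Coh.structureModule X) (η j) (t j)) v x := fun j => by
    have hk : δ (η j) - 2 = k := by have := hη j; omega
    refine ((hk ▸ comm_family hd hL isInvertible_structure (η j) (hv _) (ht j) (u := fun ξ => fmk _ ξ (oneStalk ξ))
      fmk_one_ne_zero hv S Set.univ (fun ξ => hS (η j) ξ) (fun _ _ _ h => (h trivial).elim)).neg.mono ?_).congr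
        fun x => ?_
    · exact fun z hz => ⟨hz.1.1, hz.2⟩
    · rw [c1Cap_one, zero_sub, neg_neg]
  choose a ha using fun j => exists_cycle_secDivFun isInvertible_structure hd (η j) (ht j)
  refine (RatFun.finsum η hlf _ key).congr fun x => ?_
  rw [c1CapFun_finsum η hlf a (fun j ξ h => by
      rw [ha j] at h
      exact (specializes_of_secDivFun_ne_zero h).1) (fun ξ => (hα ξ).trans (finsum_congr fun j => by
      rw [ha j, secDivFun_structure _ _ (hψ0 j), hψ])) v x]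
  exact finsum_congr fun j => by rw [ha j]

theorem c1Cap_ratEquivZero (hd : Cyc.IsDimFun X δ) (hL : PicF.IsInvertible L) {k : ℤ}
    {α : AlgebraicCycle X ℤ} (h0 : Cyc.RatEquivZero δ (k + 1) α) {s : (ξ : X) → Cyc.secFibre L ξ}
    (hs : ∀ ξ, s ξ ≠ 0) {γ : AlgebraicCycle X ℤ} (hγ : ⇑γ = Cyc.c1CapFun δ L ⇑α s) : Cyc.RatEquivZero δ k γ :=
  (c1Cap_ratEquivZero_family hd hL h0 hs Set.univ (fun _ _ _ _ h => (h trivial).elim)).ratEquivZero (congrFun hγ)

theorem gysin_ratEquivZero (hd : Cyc.IsDimFun X δ) (hL : PicF.IsInvertible L) {s : L.presheaf.obj (Opposite.op ⊤)}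
    (i : D ⟶ X) [IsClosedImmersion i] (hD : Cyc.IsZeroSchemeOf i L s) {k : ℤ} {α : AlgebraicCycle X ℤ}
    (h0 : Cyc.RatEquivZero δ (k + 1) α) {t : (ξ : X) → Cyc.secFibre L ξ} (ht : ∀ ξ, t ξ ≠ 0)
    {γ : AlgebraicCycle D ℤ} (hγ : ∀ d : D, γ d = Cyc.c1CapFun δ L ⇑α (Cyc.gysinChoice L s t) (i d)) :
    Cyc.RatEquivZero (fun d => δ (i d)) k γ :=
  (c1Cap_ratEquivZero_family hd hL h0 (gysinChoice_ne_zero s ht) (Set.range i)
    (fun _ _ h _ hξ => ext_gysin hL hD t h hξ)).toClosed i subset_rfl hγ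

end Groth.Agent.Cyc26
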