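import Groth.Agent.Lib.Cyc26.C1Sheaf

/-! # The zero scheme of a section as `c₁ ∩` of the fundamental cycle -/

set_option autoImplicit false
universe u

set_option backward.isDefEq.respectTransparency.types false

open CategoryTheory AlgebraicGeometry TopologicalSpace
open scoped Pointwise

namespace Groth.Agent.Cyc26

variable {Y : Scheme.{u}}

theorem subschemeFun_id (δ : Y → ℤ) (k : ℤ) :
    Cyc.subschemeFun δ k (𝟙 Y) = Cyc.sheafFun δ k (Coh.structureModule Y) := by
  funext y
  simp only [Cyc.subschemeFun, Cyc.sheafFun]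
  split_ifs with hy
  swap
  · rfl
  rw [show {z : Y | (𝟙 Y : Y ⟶ Y) z = y} = {y} from Set.ext fun z => Iff.rfl, finsum_mem_singleton]
  congr 2
  exact (LinearEquiv.ofBijective (LinearMap.toSpanSingleton _ _ _) (structureModule_stalk_bijective y)).length_eq

/-- `[Z(s)]_k = c₁(L) ∩ [Y]_{k+1}` for a regular section. -/
theorem zeroSectionFun_eq_c1Cap [IsLocallyNoetherian Y] {δ : Y → ℤ} (hd : Cyc.IsDimFun Y δ) {L : Y.Modules}
    (hL : PicF.IsInvertible L) {k : ℤ} (hdim : ∀ y : Y, δ y ≤ k + 1) (s : L.presheaf.obj (Opposite.op ⊤))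
    (hreg : ∀ y : Y, δ y = k → Function.Injective (fun a : Y.presheaf.stalk y => a • (L.presheaf.germ ⊤ y trivial) s))
    (σ : (ξ : Y) → Cyc.secFibre L ξ)
    (hσ : ∀ ξ, δ ξ = k + 1 → (Submodule.Quotient.mk ((L.presheaf.germ ⊤ ξ trivial) s) : Cyc.secFibre L ξ) ≠ 0 →
      σ ξ = Submodule.Quotient.mk ((L.presheaf.germ ⊤ ξ trivial) s)) :
    Cyc.zeroSectionFun δ k L s = Cyc.c1CapFun δ L (Cyc.subschemeFun δ (k + 1) (𝟙 Y)) σ := by
  funext y
  rw [subschemeFun_id]
  by_cases hy : δ y = k
  swap
  · simp only [Cyc.zeroSectionFun, if_neg hy]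
    symm
    refine finsum_eq_zero_of_forall_eq_zero fun ξ => ?_
    by_contra h
    have h1 := (specializes_of_secDivFun_ne_zero (right_ne_zero_of_mul h)).2
    have h2 := left_ne_zero_of_mul h
    simp only [Cyc.sheafFun] at h2
    split_ifs at h2 with h3
    · omega
    · exact h2 rfl
  obtain ⟨g₀, hg₀⟩ := exists_gen hL y
  have ht : ∃ t : L.presheaf.stalk y, Submodule.span (Y.presheaf.stalk y) {t} = ⊤ := ⟨g₀, span_eq_top_of_gen hg₀⟩
  have hgt := gen_of_span hL (Classical.choose_spec ht)
  have hf : ∃ f : Y.presheaf.stalk y, (L.presheaf.germ ⊤ y trivial) s = f • Classical.choose ht :=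
    ⟨_, (hgt.2 _).choose_spec.symm⟩
  simp only [Cyc.zeroSectionFun, if_pos hy, dif_pos ht, dif_pos hf]
  have hfe := Classical.choose_spec hf
  have hregf : ∀ a, a * Classical.choose hf = 0 → a = 0 := fun a ha => hreg y hy
    (show a • (L.presheaf.germ ⊤ y trivial) s = (0 : Y.presheaf.stalk y) • (L.presheaf.germ ⊤ y trivial) s by
      rw [hfe, ← mul_smul, ← mul_smul, ha, zero_mul])
  let e := LinearEquiv.ofBijective (LinearMap.toSpanSingleton (Y.presheaf.stalk y) _
    ((Coh.structureModule Y).presheaf.germ ⊤ y trivial (M1.one ⊤))) (structureModule_stalk_bijective y)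
  rw [c1Cap_sheafFun_apply hd hL s (M1.isCoh_structureModule Y) (fun z _ => hdim z) σ hσ hy hgt hfe ?_]
  · congr 2
    refine (Submodule.Quotient.equiv (Ideal.span {Classical.choose hf}) _ e ?_).length_eq
    ext m
    rw [show Ideal.span {Classical.choose hf} = Submodule.span (Y.presheaf.stalk y) {Classical.choose hf} from rfl,
      Submodule.map_span, Set.image_singleton, Submodule.mem_span_singleton, Submodule.mem_smul_pointwise_iff_exists]
    constructor
    · rintro ⟨a, rfl⟩
      refine ⟨e a, trivial, ?_⟩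
      show Classical.choose hf • e a = a • e (Classical.choose hf)
      rw [← map_smul, ← map_smul, smul_eq_mul, smul_eq_mul, mul_comm]
    · rintro ⟨b, -, rfl⟩
      obtain ⟨a, rfl⟩ := e.surjective b
      refine ⟨a, ?_⟩
      show a • e (Classical.choose hf) = Classical.choose hf • e a
      rw [← map_smul, ← map_smul, smul_eq_mul, smul_eq_mul, mul_comm]
  · intro m n hmn
    obtain ⟨a, rfl⟩ := e.surjective m
    obtain ⟨b, rfl⟩ := e.surjective n
    have h := e.injective ((map_smul e _ a).trans (hmn.trans (map_smul e _ b).symm))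
    rw [smul_eq_mul, smul_eq_mul] at h
    rw [sub_eq_zero.1 (hregf (a - b) (by linear_combination h))]

end Groth.Agent.Cyc26
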