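import Groth.Agent.Lib.Cyc26.C1Inv
import Mathlib.AlgebraicGeometry.Morphisms.ClosedImmersion
import Mathlib.AlgebraicGeometry.PullbackCarrier

/-! # The stalks of the intersection of two closed subschemes -/

set_option autoImplicit false
universe u

set_option backward.isDefEq.respectTransparency.types false

open CategoryTheory AlgebraicGeometry CategoryTheory.Limits IsLocalRing

namespace Groth.Agent.Cyc26

/-- The transported map of stalks. -/
noncomputable def stalkTo {X D : Scheme.{u}} (i : D ⟶ X) (x : D) {y : X} (e : y = i x) :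
    X.presheaf.stalk y →+* D.presheaf.stalk x :=
  (i.stalkMap x).hom.comp (X.presheaf.stalkSpecializes (specializes_of_eq e.symm)).hom

theorem ker_stalkMap_pullback_fst {X D D' P : Scheme.{u}} {p : P ⟶ D} {pq : P ⟶ D'} (i : D ⟶ X) (i' : D' ⟶ X)
    [IsClosedImmersion i'] (hpb : IsPullback p pq i i') (z : P) :
    RingHom.ker (p.stalkMap z).hom ≤
      (RingHom.ker (i'.stalkMap (pq z)).hom).map
        (stalkTo i (p z) (y := i' (pq z)) (by rw [← Scheme.Hom.comp_apply, ← Scheme.Hom.comp_apply, hpb.w])) := by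
  haveI : IsClosedImmersion p := MorphismProperty.of_isPullback hpb.flip ‹IsClosedImmersion i'›
  set z' := pq z with hz'
  set x := p z with hx
  have e : i' z' = i x := by
    rw [hz', hx, ← Scheme.Hom.comp_apply, ← Scheme.Hom.comp_apply, hpb.w]
  set σ := stalkTo i x e with hσ
  set I := (RingHom.ker (i'.stalkMap z').hom).map σ with hI
  haveI hspec : IsLocalHom (X.presheaf.stalkSpecializes (specializes_of_eq e.symm)).hom := by
    haveI : IsIso (X.presheaf.stalkSpecializes (specializes_of_eq e.symm)) :=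
      ⟨X.presheaf.stalkSpecializes (specializes_of_eq e), by simp, by simp⟩
    infer_instance
  haveI hσl : IsLocalHom σ := by rw [hσ, stalkTo]; infer_instance
  have hImax : I ≤ maximalIdeal (D.presheaf.stalk x) := by
    refine Ideal.map_le_iff_le_comap.2 fun a ha => ?_
    show σ a ∈ maximalIdeal _
    refine (IsLocalRing.mem_maximalIdeal _).2 fun hu => ?_
    exact ((hu.of_map σ a).map (i'.stalkMap z').hom).ne_zero (RingHom.mem_ker.1 ha)
  haveI : Nontrivial (D.presheaf.stalk x ⧸ I) :=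
    Ideal.Quotient.nontrivial_iff.2 fun h => (maximalIdeal.isMaximal (D.presheaf.stalk x)).ne_top (top_le_iff.1 (h ▸ hImax))
  haveI : IsLocalRing (D.presheaf.stalk x ⧸ I) := IsLocalRing.of_surjective' (Ideal.Quotient.mk I) Ideal.Quotient.mk_surjective
  let Q : CommRingCat.{u} := CommRingCat.of (D.presheaf.stalk x ⧸ I)
  let mk : D.presheaf.stalk x ⟶ Q := CommRingCat.ofHom (Ideal.Quotient.mk I)
  haveI : IsLocalHom mk.hom := IsLocalHom.of_surjective (Ideal.Quotient.mk I) Ideal.Quotient.mk_surjective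
  let φ₀ : D'.presheaf.stalk z' →+* D.presheaf.stalk x ⧸ I :=
    RingHom.liftOfSurjective (i'.stalkMap z').hom (i'.stalkMap_surjective z')
      ⟨(Ideal.Quotient.mk I).comp σ, fun a ha => Ideal.Quotient.eq_zero_iff_mem.2 (Ideal.mem_map_of_mem σ ha)⟩
  have hφ₀ : ∀ a, φ₀ (i'.stalkMap z' a) = Ideal.Quotient.mk I (σ a) := fun a =>
    RingHom.liftOfSurjective_comp_apply (f := (i'.stalkMap z').hom) (i'.stalkMap_surjective z')
      ⟨(Ideal.Quotient.mk I).comp σ, fun a ha => Ideal.Quotient.eq_zero_iff_mem.2 (Ideal.mem_map_of_mem σ ha)⟩ a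
  let φ : D'.presheaf.stalk z' ⟶ Q := CommRingCat.ofHom φ₀
  let q₁ : Spec Q ⟶ D := Spec.map mk ≫ D.fromSpecStalk x
  let q₂ : Spec Q ⟶ D' := Spec.map φ ≫ D'.fromSpecStalk z'
  have hcomm : q₁ ≫ i = q₂ ≫ i' := by
    have hring : (X.presheaf.stalkSpecializes (specializes_of_eq e.symm) ≫ i.stalkMap x) ≫ mk = i'.stalkMap z' ≫ φ :=
      CommRingCat.hom_ext (RingHom.ext fun a => (hφ₀ a).symm)
    calc q₁ ≫ i = Spec.map mk ≫ Spec.map (i.stalkMap x) ≫ X.fromSpecStalk (i x) := by
          rw [Category.assoc, Scheme.SpecMap_stalkMap_fromSpecStalk]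
      _ = Spec.map ((X.presheaf.stalkSpecializes (specializes_of_eq e.symm) ≫ i.stalkMap x) ≫ mk) ≫
          X.fromSpecStalk (i' z') := by
          rw [Spec.map_comp, Spec.map_comp, Category.assoc, Category.assoc,
            Scheme.SpecMap_stalkSpecializes_fromSpecStalk]
      _ = q₂ ≫ i' := by
          rw [hring, Spec.map_comp, Category.assoc, Scheme.SpecMap_stalkMap_fromSpecStalk, ← Category.assoc]
  let h := hpb.lift q₁ q₂ hcomm
  have hfst : h ≫ p = q₁ := hpb.lift_fst _ _ _
  have hq : q₁ (closedPoint Q) = x := by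
    rw [Scheme.Hom.comp_apply, Spec_closedPoint, Scheme.fromSpecStalk_closedPoint]
  have hc : h (closedPoint Q) = z := by
    refine p.isClosedEmbedding.injective ?_
    rw [← Scheme.Hom.comp_apply, hfst, hq]
  intro a ha
  obtain ⟨V, hV, a₀, rfl⟩ := D.presheaf.exists_germ_eq a
  have hV1 : q₁ (closedPoint Q) ∈ V := by rw [hq]; exact hV
  have hV2 : p (h (closedPoint Q)) ∈ V := by rw [hc]; exact hV
  have h1 := ConcreteCategory.congr_hom (Scheme.germ_stalkClosedPointTo_Spec_fromSpecStalk mk V hV1) a₀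
  have h2 : Scheme.stalkClosedPointTo (h ≫ p) (D.presheaf.germ V ((h ≫ p) (closedPoint Q)) hV2 a₀) = 0 := by
    rw [Scheme.stalkClosedPointTo_comp]
    show Scheme.stalkClosedPointTo h (p.stalkMap (h (closedPoint Q)) (D.presheaf.germ V _ hV2 a₀)) = 0
    have h3 : p.stalkMap (h (closedPoint Q)) (D.presheaf.germ V _ hV2 a₀) = 0 := by
      have h4 : P.presheaf.germ (p ⁻¹ᵁ V) z hV (p.app V a₀) = 0 := by
        rw [← Scheme.Hom.germ_stalkMap_apply]
        exact ha
      rw [Scheme.Hom.germ_stalkMap_apply]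
      have key : ∀ w (hw : w = z) (hwV : w ∈ p ⁻¹ᵁ V), P.presheaf.germ (p ⁻¹ᵁ V) w hwV (p.app V a₀) = 0 := by
        rintro w rfl hwV
        exact h4
      exact key _ hc _
    rw [h3, map_zero]
  have key : ∀ (q : Spec Q ⟶ D), q = q₁ → ∀ (hq' : q (closedPoint Q) ∈ V),
      Scheme.stalkClosedPointTo q (D.presheaf.germ V (q (closedPoint Q)) hq' a₀) = 0 →
      Scheme.stalkClosedPointTo q₁ (D.presheaf.germ V (q₁ (closedPoint Q)) hV1 a₀) = 0 := by
    rintro q rfl hq' hh
    exact hh
  exact Ideal.Quotient.eq_zero_iff_mem.1 (h1.symm.trans (key _ hfst _ h2))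

theorem range_of_isPullback {X D D' P : Scheme.{u}} {p : P ⟶ D} {pq : P ⟶ D'} {i : D ⟶ X} {i' : D' ⟶ X}
    (hpb : IsPullback p pq i i') : Set.range p = i ⁻¹' Set.range i' := by
  rw [← Scheme.Pullback.range_fst i i', ← hpb.isoPullback_hom_fst]
  show Set.range (fun z => pullback.fst i i' (hpb.isoPullback.hom z)) = _
  exact (Function.Surjective.range_comp hpb.isoPullback.hom.surjective (pullback.fst i i' : ↥(pullback i i') → D))

end Groth.Agent.Cyc26
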