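import Groth.Agent.Lib.Cyc26.C1Apps
import Groth.Agent.Lib.Cyc26.C1Fund
import Groth.Agent.Lib.Cyc26.PullKer

/-! # Gysin maps of zero schemes and the first Chern class -/

set_option autoImplicit false
universe u

set_option backward.isDefEq.respectTransparency.types false

open CategoryTheory AlgebraicGeometry TopologicalSpace CategoryTheory.Limits
open scoped Classical

namespace Groth.Agent.Cyc26

variable {X D D' : Scheme.{u}} {δ : X → ℤ} {L N : X.Modules}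

theorem secDivFun_ext (hL : PicF.IsInvertible L) {η ξ : X} {σ : Cyc.secFibre L η} {v : Cyc.secFibre L ξ}
    (h : Ext L σ ξ v) : Cyc.secDivFun δ L η σ ξ = 0 := by
  obtain ⟨_, g, hg, -, rfl⟩ := h
  simp only [Cyc.secDivFun]
  split_ifs with h'
  · have h1 := secOrdAt_gen hL h'.1 hg (ψ := 1) (by rw [map_one]; exact one_ne_zero)
    rw [one_smul, map_one] at h1
    rw [h1]
    exact ordFrac_one
  · rfl

theorem exists_cycle_restrict (i : D ⟶ X) [IsClosedImmersion i] (a : AlgebraicCycle X ℤ) :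
    ∃ b : AlgebraicCycle D ℤ, ∀ d, b d = a (i d) := by
  refine ⟨⟨fun d => a (i d), Set.subset_univ _, fun d _ => ?_⟩, fun d => rfl⟩
  obtain ⟨U, hU, hdU, -⟩ := exists_isAffineOpen_mem_and_subset (U := (⊤ : X.Opens)) (x := i d) trivial
  refine ⟨i ⁻¹' (U : Set X), (U.isOpen.preimage i.continuous).mem_nhds hdU,
    ((finite_support_inter a hU).preimage i.isClosedEmbedding.injective.injOn).subset ?_⟩
  exact fun z hz => ⟨hz.1, hz.2⟩

theorem exists_sections (hL : PicF.IsInvertible L) : ∃ v : (ξ : X) → Cyc.secFibre L ξ, ∀ ξ, v ξ ≠ 0 := by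
  choose g hg using fun ξ : X => exists_gen hL ξ
  refine ⟨fun ξ => fmk L ξ (g ξ), fun ξ => ?_⟩
  have := smul_ne_zero_of_residue (hg ξ) (a := 1) (by rw [map_one]; exact one_ne_zero)
  rwa [one_smul] at this

theorem c1Cap_gysin_support (hL : PicF.IsInvertible L) {i : D ⟶ X} [IsClosedImmersion i]
    {s : L.presheaf.obj (Opposite.op ⊤)} (hD : Cyc.IsZeroSchemeOf i L s) (w : (ξ : X) → Cyc.secFibre L ξ) (α : X → ℤ)
    {ξ : X} (h : Cyc.c1CapFun δ L α (Cyc.gysinChoice L s w) ξ ≠ 0) : ξ ∈ Set.range i := by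
  by_contra hξ
  refine h (finsum_eq_zero_of_forall_eq_zero fun η => ?_)
  by_cases hs : η ⤳ ξ
  · rw [secDivFun_ext hL (ext_gysin hL hD w hs hξ), mul_zero]
  · simp only [Cyc.secDivFun]
    rw [dif_neg fun h' => hs h'.1, mul_zero]

variable [IsLocallyNoetherian X]

theorem gysin_c1Cap (hd : Cyc.IsDimFun X δ) (hL : PicF.IsInvertible L) (hN : PicF.IsInvertible N)
    {s : L.presheaf.obj (Opposite.op ⊤)} (i : D ⟶ X) [IsClosedImmersion i] (hD : Cyc.IsZeroSchemeOf i L s) {k : ℤ}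
    {α : AlgebraicCycle X ℤ} (hα : α ∈ Cyc.Zk X δ k) {w : (ξ : X) → Cyc.secFibre L ξ} (hw : ∀ ξ, w ξ ≠ 0)
    {v : (ξ : X) → Cyc.secFibre N ξ} (hv : ∀ ξ, v ξ ≠ 0)
    {t : (d : D) → Cyc.secFibre ((Scheme.Modules.pullback i).obj N) d} (ht : ∀ d, t d ≠ 0)
    {β : AlgebraicCycle X ℤ} (hβ : ⇑β = Cyc.c1CapFun δ N ⇑α v)
    {γ : D → ℤ} (hγ : γ = fun d => Cyc.c1CapFun δ L ⇑α (Cyc.gysinChoice L s w) (i d))
    {ζ₁ ζ₂ : AlgebraicCycle D ℤ} (h₁ : ∀ d, ζ₁ d = Cyc.c1CapFun δ L ⇑β (Cyc.gysinChoice L s w) (i d))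
    (h₂ : ⇑ζ₂ = Cyc.c1CapFun (fun d => δ (i d)) ((Scheme.Modules.pullback i).obj N) γ t) :
    Cyc.RatEquiv (fun d => δ (i d)) (k - 2) ζ₁ ζ₂ := by
  haveI : IsLocallyNoetherian D := LocallyOfFiniteType.isLocallyNoetherian i
  have hdD := isDimFun_closed i hd
  have hg := gysinChoice_ne_zero s hw
  have hN' := Groth.Agent.Twist.isInvertible_pullback i hN
  obtain ⟨A, hA⟩ := exists_cycle_c1Cap hL hd α hg
  have hAz : A ∈ Cyc.Zk X δ (k - 1) := c1Cap_mem_Zk (L := L) (by rwa [show k - 1 + 1 = k by ring]) hA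
  obtain ⟨B, hB⟩ := exists_cycle_restrict i A
  have hBγ : ⇑B = γ := funext fun d => by rw [hB, hA, hγ]
  have hBz : B ∈ Cyc.Zk D (fun d => δ (i d)) (k - 2 + 1) := fun d hd' => by
    rw [hB]; exact hAz (i d) (by show δ (i d) ≠ k - 1; intro h; exact hd' (by show δ (i d) = _; omega))
  obtain ⟨μ, hμ⟩ := exists_cycle_c1Cap hN' hdD B (s := fun d => secPull i N d (v (i d)))
    fun d => secPull_ne_zero i hN d (hv _)
  rw [← hBγ] at h₂
  refine ratEquiv_trans ?_ (ratEquiv_c1Cap hN' hBz (fun d => secPull_ne_zero i hN d (hv _)) ht hμ h₂)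
  refine ((c1Cap_c1Cap_family (k := k - 2) hd hL hN α (by rwa [show k - 2 + 2 = k by ring]) hg hg hv hv
    (Set.range i) Set.univ (fun η ξ _ h _ hξ => ext_gysin hL hD w h hξ) (fun _ _ _ _ _ h => (h trivial).elim)).neg).toClosed
    i Set.inter_subset_left fun d => ?_
  show ζ₁ d - μ d = _
  rw [h₁, hβ, hμ, c1Cap_pull i hN _ (fun ξ hξ => c1Cap_gysin_support hL hD w ⇑α hξ) _
    (fun z => by rw [hB, hA]) hv d, neg_sub]

theorem length_stalk_zeroScheme (i : D ⟶ X) [IsClosedImmersion i] {s : L.presheaf.obj (Opposite.op ⊤)}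
    (hL : PicF.IsInvertible L) (hD : Cyc.IsZeroSchemeOf i L s) {δ : X → ℤ} {n : ℤ} (d : D) (hd : δ (i d) = n) :
    Cyc.zeroSectionFun δ n L s (i d) = ((Module.length (D.presheaf.stalk d) (D.presheaf.stalk d)).toNat : ℤ) := by
  obtain ⟨t', f', ht', hs', hker⟩ := hD.2 d
  have ht : ∃ t : L.presheaf.stalk (i d), Submodule.span (X.presheaf.stalk (i d)) {t} = ⊤ := ⟨t', ht'⟩
  have hgt := gen_of_span hL (Classical.choose_spec ht)
  have hgt' := gen_of_span hL ht'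
  have hf : ∃ f : X.presheaf.stalk (i d), (L.presheaf.germ ⊤ (i d) trivial) s = f • Classical.choose ht :=
    ⟨_, (hgt.2 _).choose_spec.symm⟩
  simp only [Cyc.zeroSectionFun, if_pos hd, dif_pos ht, dif_pos hf]
  have hfe := Classical.choose_spec hf
  set t := Classical.choose ht
  set f := Classical.choose hf
  obtain ⟨c, hc⟩ := hgt.2 t'
  simp only at hc
  have hcu : IsUnit c := (hgt.ne_zero_smul c).1 (hc ▸ hgt')
  have hff : f = f' * c := hgt.1 (show f • t = (f' * c) • t by rw [← hfe, mul_smul, hc, hs'])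
  have hspan : Ideal.span {f} = RingHom.ker (i.stalkMap d).hom := by
    rw [hker, hff, Ideal.span_singleton_mul_right_unit hcu]
  letI : Algebra (X.presheaf.stalk (i d)) (D.presheaf.stalk d) := (i.stalkMap d).hom.toAlgebra
  have hsurj : Function.Surjective (algebraMap (X.presheaf.stalk (i d)) (D.presheaf.stalk d)) :=
    i.stalkMap_surjective d
  rw [← Module.length_eq_of_surjective (R := D.presheaf.stalk d) (S := X.presheaf.stalk (i d))
    (M := D.presheaf.stalk d) hsurj]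
  congr 2
  exact (((Ideal.quotientEquivAlgOfEq (X.presheaf.stalk (i d)) hspan).trans
    (Ideal.quotientKerAlgEquivOfSurjective (f := Algebra.ofId (X.presheaf.stalk (i d)) (D.presheaf.stalk d))
        hsurj)).toLinearEquiv).length_eq

theorem gysin_divSec (hd : Cyc.IsDimFun X δ) [IsIntegral X] {n : ℤ} (hn : δ (genericPoint X) = n)
    (hL : PicF.IsInvertible L) {s : L.presheaf.obj (Opposite.op ⊤)}
    (hreg : ∀ x : X, Function.Injective (fun a : X.presheaf.stalk x => a • (L.presheaf.germ ⊤ x trivial) s))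
    (i : D ⟶ X) [IsClosedImmersion i] (hD : Cyc.IsZeroSchemeOf i L s) (hN : PicF.IsInvertible N)
    {t : Cyc.secFibre N (genericPoint X)} (ht : t ≠ 0) {w : (ξ : X) → Cyc.secFibre L ξ} (hw : ∀ ξ, w ξ ≠ 0)
    {u : (d : D) → Cyc.secFibre ((Scheme.Modules.pullback i).obj N) d} (hu : ∀ d, u d ≠ 0)
    {γ₁ γ₂ : AlgebraicCycle D ℤ}
    (h₁ : ∀ d : D, γ₁ d = Cyc.c1CapFun δ L (Cyc.secDivFun δ N (genericPoint X) t) (Cyc.gysinChoice L s w) (i d))
    (h₂ : ⇑γ₂ = Cyc.c1CapFun (fun d => δ (i d)) ((Scheme.Modules.pullback i).obj N)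
      (Cyc.subschemeFun (fun d => δ (i d)) (n - 1) (𝟙 D)) u) :
    Cyc.RatEquiv (fun d => δ (i d)) (n - 2) γ₁ γ₂ := by
  haveI : IsLocallyNoetherian D := LocallyOfFiniteType.isLocallyNoetherian i
  have hdD := isDimFun_closed i hd
  have hN' := Groth.Agent.Twist.isInvertible_pullback i hN
  have hfield : IsLocalRing.maximalIdeal (X.presheaf.stalk (genericPoint X)) = ⊥ :=
    (IsLocalRing.isField_iff_maximalIdeal_eq).1
      (isField_stalk_of_closure_mem_irreducibleComponents X _ (by simp [irreducibleComponents_eq_singleton]))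
  have hs0 : (L.presheaf.germ ⊤ (genericPoint X) trivial) s ≠ 0 := fun h => one_ne_zero
    (hreg (genericPoint X) (show (1 : X.presheaf.stalk (genericPoint X)) • _ = (0 : X.presheaf.stalk _) • _ by
      rw [h, smul_zero, smul_zero]))
  have hη : genericPoint X ∉ Set.range i := fun h => by
    rw [hD.1] at h
    have h' : (Submodule.Quotient.mk ((L.presheaf.germ ⊤ (genericPoint X) trivial) s) :
        Cyc.secFibre L (genericPoint X)) = 0 := h
    rw [Submodule.Quotient.mk_eq_zero, hfield, Submodule.bot_smul, Submodule.mem_bot] at h'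
    exact hs0 h'
  have hσ := gysinChoice_of_notMem hD w hη
  have hg := gysinChoice_ne_zero s hw
  obtain ⟨A, hA⟩ := exists_cycle_secDivFun hL hd (genericPoint X) (hg (genericPoint X))
  obtain ⟨B, hB⟩ := exists_cycle_restrict i A
  have hAeq : Cyc.secDivFun δ L (genericPoint X) (Cyc.gysinChoice L s w (genericPoint X)) =
      Cyc.zeroSectionFun δ (n - 1) L s := by
    rw [hσ]; exact secDivFun_globalSection hd hn L s hs0
  have hBeq : ⇑B = Cyc.subschemeFun (fun d => δ (i d)) (n - 1) (𝟙 D) := funext fun d => by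
    rw [hB, hA, hAeq]
    by_cases hdk : δ (i d) = n - 1
    · rw [length_stalk_zeroScheme i hL hD d hdk]
      simp only [Cyc.subschemeFun, if_pos hdk]
      rw [show {z : D | (𝟙 D : D ⟶ D) z = d} = {d} from Set.ext fun z => Iff.rfl, finsum_mem_singleton]
    · simp only [Cyc.subschemeFun, Cyc.zeroSectionFun, if_neg hdk]
  have hBz : B ∈ Cyc.Zk D (fun d => δ (i d)) (n - 2 + 1) := fun d hd' => by
    rw [hBeq]
    simp only [Cyc.subschemeFun]
    exact if_neg fun h => hd' (by show δ (i d) = _; omega)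
  obtain ⟨u₀, hu₀⟩ := exists_sections hN
  obtain ⟨μ, hμ⟩ := exists_cycle_c1Cap hN' hdD B (s := fun d => secPull i N d (u₀ (i d)))
    fun d => secPull_ne_zero i hN d (hu₀ _)
  rw [← hBeq] at h₂
  refine ratEquiv_trans ?_ (ratEquiv_c1Cap hN' hBz (fun d => secPull_ne_zero i hN d (hu₀ _)) hu hμ h₂)
  have hfam := (comm_family hd hL hN (genericPoint X) (hg _) ht hu₀ hg (Set.range i) Set.univ
    (fun ξ h _ hξ => ext_gysin hL hD w h hξ) (fun _ _ _ h => (h trivial).elim)).neg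
  rw [hn] at hfam
  refine hfam.toClosed i (fun z hz => hz.1.1) fun d => ?_
  show γ₁ d - μ d = _
  rw [h₁, hμ, c1Cap_pull i hN _ (fun ξ hξ => by_contra fun hr => hξ (secDivFun_ext hL
    (ext_gysin hL hD w (genericPoint_specializes ξ) hr))) _ (fun z => by rw [hB, hA]) hu₀ d, neg_sub]

omit [IsLocallyNoetherian X] in
/-- The order of a global section. -/
theorem secOrdAt_germ (hL : PicF.IsInvertible L) (s : L.presheaf.obj (Opposite.op ⊤)) {ξ x : X} (h : ξ ⤳ x)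
    (hne : (Submodule.Quotient.mk ((L.presheaf.germ ⊤ ξ trivial) s) : Cyc.secFibre L ξ) ≠ 0)
    {g : L.presheaf.stalk x} (hg : Amp.Gen g) {f : X.presheaf.stalk x}
    (hf : (L.presheaf.germ ⊤ x trivial) s = f • g) :
    Cyc.specMap x ξ h f ≠ 0 ∧
      Cyc.secOrdAt L ξ x h (Submodule.Quotient.mk ((L.presheaf.germ ⊤ ξ trivial) s)) =
        Cyc.ordAt x ξ h (Cyc.specMap x ξ h f) := by
  have he : (Submodule.Quotient.mk ((L.presheaf.germ ⊤ ξ trivial) s) : Cyc.secFibre L ξ) =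
      X.presheaf.stalkSpecializes h f • fmk L ξ (L.presheaf.stalkSpecializes h g) := by
    rw [← TopCat.Presheaf.germ_stalkSpecializes_apply L.presheaf (show x ∈ (⊤ : X.Opens) from trivial) h s, hf,
      stalkSpecializes_smul]
    rfl
  have h0 : Cyc.specMap x ξ h f ≠ 0 := fun h0 => hne (he.trans (smul_eq_zero_of_residue h0 _))
  refine ⟨h0, ?_⟩
  rw [he]
  exact secOrdAt_gen hL h hg _ h0

theorem ordAt_eq_of_dvd {ξ x : X} (h : ξ ⤳ x) {a b : X.presheaf.stalk x} (ha : Cyc.specMap x ξ h a ≠ 0)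
    (hab : ∃ c, b = c * a) (hba : ∃ c, a = c * b) :
    Cyc.ordAt x ξ h (Cyc.specMap x ξ h a) = Cyc.ordAt x ξ h (Cyc.specMap x ξ h b) := by
  obtain ⟨c, rfl⟩ := hab
  obtain ⟨d, hd⟩ := hba
  have h1 : Cyc.specMap x ξ h d * Cyc.specMap x ξ h c = 1 := by
    refine mul_right_cancel₀ ha ?_
    rw [one_mul, mul_assoc, ← map_mul, ← map_mul, ← hd]
  have hu : IsUnit (Ideal.Quotient.mk (RingHom.ker (Cyc.specMap x ξ h)) c) :=
    IsUnit.of_mul_eq_one_right (Ideal.Quotient.mk _ d)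
      (RingHom.lift_injective_of_ker_le_ideal _ (fun _ hz => hz) le_rfl (by
        show Ideal.Quotient.lift _ (Cyc.specMap x ξ h) _ (Ideal.Quotient.mk _ d * Ideal.Quotient.mk _ c) =
          Ideal.Quotient.lift _ (Cyc.specMap x ξ h) _ 1
        rw [map_mul, map_one, Ideal.Quotient.lift_mk, Ideal.Quotient.lift_mk]; exact h1))
  have hc : Cyc.specMap x ξ h c ≠ 0 := right_ne_zero_of_mul_eq_one h1
  rw [map_mul]
  unfold Cyc.ordAt
  rw [ordFrac_mul_all hc ha]
  have := ordFrac_eq_zero_of_isUnit (R := Cyc.LocQuot x ξ h) (K := X.residueField ξ) hu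
  change CycAlg.ordFrac _ _ (Cyc.specMap x ξ h c) = 0 at this
  omega

omit [IsLocallyNoetherian X] in
theorem stalkMap_square {P : Scheme.{u}} (p : P ⟶ D) (q : P ⟶ D') (i : D ⟶ X) (i' : D' ⟶ X) (h : p ≫ i = q ≫ i')
    (z : P) (e : i' (q z) = i (p z)) (a : X.presheaf.stalk (i' (q z))) :
    p.stalkMap z (i.stalkMap (p z) (X.presheaf.stalkSpecializes (specializes_of_eq e.symm) a)) =
      q.stalkMap z (i'.stalkMap (q z) a) := by
  obtain ⟨V, hV, a₀, rfl⟩ := X.presheaf.exists_germ_eq a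
  have key : ∀ g g' : P ⟶ X, g = g' → ∀ (h1 : z ∈ g ⁻¹ᵁ V) (h2 : z ∈ g' ⁻¹ᵁ V),
      P.presheaf.germ (g ⁻¹ᵁ V) z h1 (g.app V a₀) = P.presheaf.germ (g' ⁻¹ᵁ V) z h2 (g'.app V a₀) := by
    rintro g g' rfl h1 h2; rfl
  rw [TopCat.Presheaf.germ_stalkSpecializes_apply, Scheme.Hom.germ_stalkMap_apply, Scheme.Hom.germ_stalkMap_apply,
    Scheme.Hom.germ_stalkMap_apply, Scheme.Hom.germ_stalkMap_apply]
  exact key (p ≫ i) (q ≫ i') h _ _

set_option maxHeartbeats 1000000 in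
theorem gysin_gysin (hd : Cyc.IsDimFun X δ) {L' : X.Modules} (hL : PicF.IsInvertible L) (hL' : PicF.IsInvertible L')
    {s : L.presheaf.obj (Opposite.op ⊤)} {s' : L'.presheaf.obj (Opposite.op ⊤)} (i : D ⟶ X) (i' : D' ⟶ X)
    [IsClosedImmersion i] [IsClosedImmersion i'] {P : Scheme.{u}} {p : P ⟶ D} {pq : P ⟶ D'} (hpb : IsPullback p pq i i') (hD : Cyc.IsZeroSchemeOf i L s) (hD' : Cyc.IsZeroSchemeOf i' L' s')
    {σ' : ((Scheme.Modules.pullback i).obj L').presheaf.obj (Opposite.op ⊤)}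
    (hσ' : Cyc.IsZeroSchemeOf (p) ((Scheme.Modules.pullback i).obj L') σ') {k : ℤ}
    {α : AlgebraicCycle X ℤ} (hα : α ∈ Cyc.Zk X δ k) {w : (ξ : X) → Cyc.secFibre L ξ} (hw : ∀ ξ, w ξ ≠ 0)
    {w' : (ξ : X) → Cyc.secFibre L' ξ} (hw' : ∀ ξ, w' ξ ≠ 0)
    {w₁ : (d : D) → Cyc.secFibre ((Scheme.Modules.pullback i).obj L') d} (hw₁ : ∀ d, w₁ d ≠ 0)
    {γ : D → ℤ} (hγ : γ = fun d => Cyc.c1CapFun δ L ⇑α (Cyc.gysinChoice L s w) (i d))
    {ζ : AlgebraicCycle P ℤ}
    (h₁ : ∀ z, ζ z = Cyc.c1CapFun (fun d => δ (i d)) ((Scheme.Modules.pullback i).obj L') γ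
      (Cyc.gysinChoice ((Scheme.Modules.pullback i).obj L') σ' w₁) (p z)) :
    ∃ μ : AlgebraicCycle P ℤ, (∀ z, μ z = Cyc.c1CapFun δ L' (Cyc.c1CapFun δ L ⇑α (Cyc.gysinChoice L s w))
        (Cyc.gysinChoice L' s' w') (i (p z))) ∧
      Cyc.RatEquiv (fun z => δ (i (p z))) (k - 2) ζ μ := by
  haveI : IsLocallyNoetherian D := LocallyOfFiniteType.isLocallyNoetherian i
  haveI : IsClosedImmersion p := MorphismProperty.of_isPullback hpb.flip ‹IsClosedImmersion i'›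
  have hdD := isDimFun_closed i hd
  have hM := Groth.Agent.Twist.isInvertible_pullback i hL'
  have hg := gysinChoice_ne_zero s hw
  have hg' := gysinChoice_ne_zero s' hw'
  obtain ⟨A, hA⟩ := exists_cycle_c1Cap hL hd α hg
  have hAz : A ∈ Cyc.Zk X δ (k - 1) := c1Cap_mem_Zk (L := L) (by rwa [show k - 1 + 1 = k by ring]) hA
  obtain ⟨B, hB⟩ := exists_cycle_restrict i A
  have hBγ : ⇑B = γ := funext fun d => by rw [hB, hA, hγ]
  have hBz : B ∈ Cyc.Zk D (fun d => δ (i d)) (k - 2 + 1) := fun d hd' => by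
    rw [hB]; exact hAz (i d) (by intro h; exact hd' (by show δ (i d) = _; omega))
  set C : (d : D) → Cyc.secFibre ((Scheme.Modules.pullback i).obj L') d :=
    fun d => secPull i L' d (Cyc.gysinChoice L' s' w' (i d)) with hC
  have hCne : ∀ d, C d ≠ 0 := fun d => secPull_ne_zero i hL' d (hg' _)
  set C' := Cyc.gysinChoice ((Scheme.Modules.pullback i).obj L') σ' C with hC'
  obtain ⟨AA, hAA⟩ := exists_cycle_c1Cap hL' hd A hg'
  obtain ⟨μD, hμD⟩ := exists_cycle_restrict i AA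
  obtain ⟨μ, hμ⟩ := exists_cycle_restrict (p) μD
  have hμe : ∀ z, μ z = Cyc.c1CapFun δ L' (Cyc.c1CapFun δ L ⇑α (Cyc.gysinChoice L s w))
      (Cyc.gysinChoice L' s' w') (i (p z)) := fun z => by
    rw [hμ, hμD, hAA, hA]
  refine ⟨μ, hμe, ?_⟩
  refine ratEquiv_c1Cap_on hM (p) (δ := fun d => δ (i d)) hBz
    (gysinChoice_ne_zero σ' hw₁) (gysinChoice_ne_zero σ' hCne) (t := C') ?_ (fun z => by rw [h₁, hBγ]) ?_
  · intro d _ hd'
    rw [gysinChoice_of_notMem hσ' w₁ hd', hC', gysinChoice_of_notMem hσ' C hd']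
  intro z
  set x := p z with hx
  rw [hμe, ← c1Cap_pull i hL' (Cyc.c1CapFun δ L ⇑α (Cyc.gysinChoice L s w))
    (fun ξ hξ => c1Cap_gysin_support hL hD w ⇑α hξ) ⇑B (fun d => by rw [hB, hA]) hg' x]
  refine finsum_congr fun d => ?_
  congr 1
  show Cyc.secDivFun _ _ d (C d) x = Cyc.secDivFun _ _ d (C' d) x
  by_cases hdr : d ∈ Set.range (p)
  · obtain ⟨e, rfl⟩ := hdr
    rw [hC', gysinChoice_of_mem hσ' C e]
  have hdX : i d ∉ Set.range i' := fun h => hdr (by rw [range_of_isPullback hpb]; exact h)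
  rw [hC', gysinChoice_of_notMem hσ' C hdr]
  simp only [hC]
  rw [secDivFun_pull i hL' d x (hg' (i d)), gysinChoice_of_notMem hD' w' hdX]
  simp only [Cyc.secDivFun]
  by_cases hsp : d ⤳ x ∧ δ (i x) + 1 = δ (i d)
  swap
  · rw [dif_neg fun h => hsp ⟨i.isClosedEmbedding.isInducing.specializes_iff.1 h.1, h.2⟩, dif_neg hsp]
  have hspX : i d ⤳ i x := hsp.1.map i.continuous
  rw [dif_pos ⟨hspX, hsp.2⟩, dif_pos hsp]
  -- the two local equations
  obtain ⟨t', f', ht', hs'', hker'⟩ := hD'.2 (pq z)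
  have e : i' (pq z) = i x := by
    rw [hx, ← Scheme.Hom.comp_apply, ← Scheme.Hom.comp_apply, hpb.w]
  have hs3 : (L'.presheaf.germ ⊤ (i x) trivial) s' =
      X.presheaf.stalkSpecializes (specializes_of_eq e.symm) f' •
        L'.presheaf.stalkSpecializes (specializes_of_eq e.symm) t' := by
    rw [← stalkSpecializes_smul, ← hs'', TopCat.Presheaf.germ_stalkSpecializes_apply]
  have hg3 := gen_stalkSpecializes hL' (specializes_of_eq e.symm) (gen_of_span hL' ht')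
  have hne1 : (Submodule.Quotient.mk ((L'.presheaf.germ ⊤ (i d) trivial) s') : Cyc.secFibre L' (i d)) ≠ 0 := by
    rw [hD'.1] at hdX; exact hdX
  obtain ⟨hf1, hord1⟩ := secOrdAt_germ hL' s' hspX hne1 hg3 hs3
  obtain ⟨t₂, f₂, ht₂, hs₂, hker₂⟩ := hσ'.2 z
  have hne2 : (Submodule.Quotient.mk ((((Scheme.Modules.pullback i).obj L').presheaf.germ ⊤ d trivial) σ') :
      Cyc.secFibre ((Scheme.Modules.pullback i).obj L') d) ≠ 0 := by
    rw [hσ'.1] at hdr; exact hdr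
  obtain ⟨hf2, hord2⟩ := secOrdAt_germ hM σ' hsp.1 hne2 (gen_of_span hM ht₂) hs₂
  rw [hord1, hord2, ← ordAt_preimmersion i hsp.1]
  set f₀ := stalkTo i x e f' with hf₀
  have hsq : i.residueFieldMap d (Cyc.specMap (i x) (i d) hspX
      (X.presheaf.stalkSpecializes (specializes_of_eq e.symm) f')) = Cyc.specMap x d hsp.1 f₀ := by
    show i.residueFieldMap d (X.residue _ (X.presheaf.stalkSpecializes hspX _)) =
      D.residue d (D.presheaf.stalkSpecializes hsp.1 (i.stalkMap x _))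
    rw [← Scheme.Hom.stalkSpecializes_stalkMap_apply i d x hsp.1]
    exact ConcreteCategory.congr_hom (Scheme.residue_residueFieldMap i d) _
  rw [hsq]
  have hf0ne : Cyc.specMap x d hsp.1 f₀ ≠ 0 := by rw [← hsq]; exact (map_ne_zero _).2 hf1
  have hdvd1 : ∃ c, f₂ = c * f₀ := by
    have h := ker_stalkMap_pullback_fst i i' hpb z
    rw [hker₂, hker', Ideal.map_span, Set.image_singleton, Ideal.span_singleton_le_iff_mem,
      Ideal.mem_span_singleton'] at h
    obtain ⟨c, hc⟩ := h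
    exact ⟨c, hc.symm⟩
  have hdvd2 : ∃ c, f₀ = c * f₂ := by
    have hmem : f₀ ∈ RingHom.ker ((p).stalkMap z).hom := by
      rw [RingHom.mem_ker]
      show (p).stalkMap z (i.stalkMap x (X.presheaf.stalkSpecializes (specializes_of_eq e.symm) f')) = 0
      rw [show (p).stalkMap z (i.stalkMap x (X.presheaf.stalkSpecializes (specializes_of_eq e.symm) f')) =
        (pq).stalkMap z (i'.stalkMap (pq z) f') from
        stalkMap_square (p) (pq) i i' hpb.w z e f']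
      have hz0 : i'.stalkMap (pq z) f' = 0 := by
        rw [← RingHom.mem_ker, hker']
        exact Ideal.subset_span rfl
      rw [hz0, map_zero]
    rw [hker₂, Ideal.mem_span_singleton'] at hmem
    obtain ⟨c, hc⟩ := hmem
    exact ⟨c, hc.symm⟩
  exact ordAt_eq_of_dvd hsp.1 hf0ne hdvd1 hdvd2

theorem gysin_gysin_comm (hd : Cyc.IsDimFun X δ) {L' : X.Modules} (hL : PicF.IsInvertible L)
    (hL' : PicF.IsInvertible L') {s : L.presheaf.obj (Opposite.op ⊤)} {s' : L'.presheaf.obj (Opposite.op ⊤)}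
    (i : D ⟶ X) (i' : D' ⟶ X)
    [IsClosedImmersion i] [IsClosedImmersion i'] (hD : Cyc.IsZeroSchemeOf i L s) (hD' : Cyc.IsZeroSchemeOf i' L' s')
    {k : ℤ} {α : AlgebraicCycle X ℤ} (hα : α ∈ Cyc.Zk X δ k) {w : (ξ : X) → Cyc.secFibre L ξ} (hw : ∀ ξ, w ξ ≠ 0)
    {w' : (ξ : X) → Cyc.secFibre L' ξ} (hw' : ∀ ξ, w' ξ ≠ 0) {μ₁ μ₂ : AlgebraicCycle (pullback i i') ℤ}
    (h₁ : ∀ z, μ₁ z = Cyc.c1CapFun δ L' (Cyc.c1CapFun δ L ⇑α (Cyc.gysinChoice L s w))
        (Cyc.gysinChoice L' s' w') (i (pullback.fst i i' z)))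
    (h₂ : ∀ z, μ₂ z = Cyc.c1CapFun δ L (Cyc.c1CapFun δ L' ⇑α (Cyc.gysinChoice L' s' w'))
        (Cyc.gysinChoice L s w) (i (pullback.fst i i' z))) :
    Cyc.RatEquiv (fun z => δ (i (pullback.fst i i' z))) (k - 2) μ₁ μ₂ := by
  have hfam := c1Cap_c1Cap_family (k := k - 2) hd hL hL' α (by rwa [show k - 2 + 2 = k by ring])
    (gysinChoice_ne_zero s hw) (gysinChoice_ne_zero s hw) (gysinChoice_ne_zero s' hw') (gysinChoice_ne_zero s' hw')
    (Set.range i) (Set.range i') (fun η ξ _ h _ hξ => ext_gysin hL hD w h hξ)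
    (fun η ξ _ h _ hξ => ext_gysin hL' hD' w' h hξ)
  refine hfam.toClosed (pullback.fst i i' ≫ i) ?_ fun z => ?_
  · rw [Scheme.Pullback.range_fst_comp]
  · show μ₁ z - μ₂ z = _
    rw [h₁, h₂]
    rfl

theorem gysin_gysin_pullback (hd : Cyc.IsDimFun X δ) {L' : X.Modules} (hL : PicF.IsInvertible L)
    (hL' : PicF.IsInvertible L') {s : L.presheaf.obj (Opposite.op ⊤)} {s' : L'.presheaf.obj (Opposite.op ⊤)}
    (i : D ⟶ X) (i' : D' ⟶ X) [IsClosedImmersion i] [IsClosedImmersion i'] (hD : Cyc.IsZeroSchemeOf i L s)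
    (hD' : Cyc.IsZeroSchemeOf i' L' s') {σ' : ((Scheme.Modules.pullback i).obj L').presheaf.obj (Opposite.op ⊤)}
    (hσ' : Cyc.IsZeroSchemeOf (pullback.fst i i') ((Scheme.Modules.pullback i).obj L') σ')
    {σ : ((Scheme.Modules.pullback i').obj L).presheaf.obj (Opposite.op ⊤)}
    (hσ : Cyc.IsZeroSchemeOf (pullback.snd i i') ((Scheme.Modules.pullback i').obj L) σ) {k : ℤ}
    {α : AlgebraicCycle X ℤ} (hα : α ∈ Cyc.Zk X δ k) {w : (ξ : X) → Cyc.secFibre L ξ} (hw : ∀ ξ, w ξ ≠ 0)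
    {w' : (ξ : X) → Cyc.secFibre L' ξ} (hw' : ∀ ξ, w' ξ ≠ 0)
    {w₁ : (d : D) → Cyc.secFibre ((Scheme.Modules.pullback i).obj L') d} (hw₁ : ∀ d, w₁ d ≠ 0)
    {w₂ : (d : D') → Cyc.secFibre ((Scheme.Modules.pullback i').obj L) d} (hw₂ : ∀ d, w₂ d ≠ 0)
    {γ : D → ℤ} (hγ : γ = fun d => Cyc.c1CapFun δ L ⇑α (Cyc.gysinChoice L s w) (i d))
    {γ' : D' → ℤ} (hγ' : γ' = fun d => Cyc.c1CapFun δ L' ⇑α (Cyc.gysinChoice L' s' w') (i' d))
    {ζ₁ ζ₂ : AlgebraicCycle (pullback i i') ℤ}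
    (h₁ : ∀ z, ζ₁ z = Cyc.c1CapFun (fun d => δ (i d)) ((Scheme.Modules.pullback i).obj L') γ
      (Cyc.gysinChoice ((Scheme.Modules.pullback i).obj L') σ' w₁) (pullback.fst i i' z))
    (h₂ : ∀ z, ζ₂ z = Cyc.c1CapFun (fun d => δ (i' d)) ((Scheme.Modules.pullback i').obj L) γ'
      (Cyc.gysinChoice ((Scheme.Modules.pullback i').obj L) σ w₂) (pullback.snd i i' z)) :
    Cyc.RatEquiv (fun z => δ (i (pullback.fst i i' z))) (k - 2) ζ₁ ζ₂ := by
  have he : ∀ z, i' (pullback.snd i i' z) = i (pullback.fst i i' z) := fun z => by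
    rw [← Scheme.Hom.comp_apply, ← Scheme.Hom.comp_apply, pullback.condition]
  obtain ⟨μ₁, hμ₁, e₁⟩ := gysin_gysin hd hL hL' i i' (IsPullback.of_hasPullback i i') hD hD' hσ' hα hw hw' hw₁ hγ h₁
  obtain ⟨μ₂, hμ₂, e₂⟩ := gysin_gysin hd hL' hL i' i (IsPullback.of_hasPullback i i').flip hD' hD hσ hα hw' hw hw₂ hγ' h₂
  rw [show (fun z => δ (i' (pullback.snd i i' z))) = fun z => δ (i (pullback.fst i i' z)) from
    funext fun z => by rw [he]] at e₂
  exact ratEquiv_trans e₁ (ratEquiv_trans (gysin_gysin_comm hd hL hL' i i' hD hD' hα hw hw' hμ₁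
    (fun z => by rw [hμ₂, he])) (ratEquiv_symm e₂))

end Groth.Agent.Cyc26
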