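import Groth.Agent.Lib.Cyc26.Closure

/-! # Dimension functions on closed subschemes -/

set_option autoImplicit false
universe u

set_option backward.isDefEq.respectTransparency.types false

open CategoryTheory AlgebraicGeometry TopologicalSpace

namespace Groth.Agent.Cyc26

variable {X Z : Scheme.{u}}

theorem isDimFun_closed (i : Z ⟶ X) [IsClosedImmersion i] {δ : X → ℤ} (hd : Cyc.IsDimFun X δ) :
    Cyc.IsDimFun Z fun z => δ (i z) := by
  intro a b hab hne
  obtain ⟨h1, h2⟩ := hd (i a) (i b) (hab.map i.continuous) fun e => hne (i.isClosedEmbedding.injective e)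
  refine ⟨h1, fun h => h2 fun w hw1 hw2 => ?_⟩
  obtain ⟨c, rfl⟩ : w ∈ Set.range i :=
    hw1.mem_closed i.isClosedEmbedding.isClosed_range ⟨a, rfl⟩
  rcases h c (i.isClosedEmbedding.isInducing.specializes_iff.1 hw1) (i.isClosedEmbedding.isInducing.specializes_iff.1 hw2) with e | e
  · exact Or.inl (congrArg i e)
  · exact Or.inr (congrArg i e)

theorem deltaCompat_closed (i : Z ⟶ X) [IsClosedImmersion i] (δ : X → ℤ) :
    Cyc.DeltaCompat i (fun z => δ (i z)) δ := fun z => by
  refine ⟨0, ?_, by simp⟩
  letI := (i.residueFieldMap z).hom.toAlgebra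
  haveI : Algebra.IsAlgebraic (X.residueField (i z)) (Z.residueField z) := ⟨fun b => by
    obtain ⟨a, rfl⟩ := (residueFieldMap_bijective i z).2 b
    exact isAlgebraic_algebraMap a⟩
  rw [trdeg_eq_zero]
  simp

end Groth.Agent.Cyc26
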