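import Groth.Agent.Lib.Cyc26.C1Gys
import Groth.Agent.Lib.Cyc26.C1Push
import Groth.Agent.Lib.Cyc26.C1Flat

/-! # Functoriality of Gysin maps of zero schemes -/

set_option autoImplicit false
universe u

set_option backward.isDefEq.respectTransparency.types false

open CategoryTheory AlgebraicGeometry TopologicalSpace CategoryTheory.Limits
open scoped Classical

namespace Groth.Agent.Cyc26

variable {X X' D : Scheme.{u}} {δ : X → ℤ} {δ' : X' → ℤ} {L : X.Modules}

theorem ext_germ (hL : PicF.IsInvertible L) (s : L.presheaf.obj (Opposite.op ⊤)) {η ξ : X} (h : η ⤳ ξ)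
    (hξ : (Submodule.Quotient.mk ((L.presheaf.germ ⊤ ξ trivial) s) : Cyc.secFibre L ξ) ≠ 0) :
    Ext L (Submodule.Quotient.mk ((L.presheaf.germ ⊤ η trivial) s)) ξ
      (Submodule.Quotient.mk ((L.presheaf.germ ⊤ ξ trivial) s)) := by
  refine ⟨h, (L.presheaf.germ ⊤ ξ trivial) s, ?_, rfl, ?_⟩
  · obtain ⟨g, hg⟩ := exists_gen hL ξ
    obtain ⟨c, hc⟩ := hg.2 ((L.presheaf.germ ⊤ ξ trivial) s)
    simp only at hc
    rw [← hc]
    refine (hg.ne_zero_smul c).2 (by_contra fun hn => hξ ?_)
    rw [← hc, Submodule.Quotient.mk_smul]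
    exact smul_eq_zero_of_residue ((residue_eq_zero _ _).2 hn) _
  · exact congrArg _ (TopCat.Presheaf.germ_stalkSpecializes_apply L.presheaf
      (show ξ ∈ (⊤ : X.Opens) from trivial) h s).symm

variable [IsLocallyNoetherian X']

/-- Sections with the same zero scheme have the same divisors on points outside it. -/
theorem secDivFun_sameZero (f : X' ⟶ X) (hL : PicF.IsInvertible L) {s : L.presheaf.obj (Opposite.op ⊤)}
    (i : D ⟶ X) [IsClosedImmersion i] (hD : Cyc.IsZeroSchemeOf i L s)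
    {s' : ((Scheme.Modules.pullback f).obj L).presheaf.obj (Opposite.op ⊤)}
    (hD' : Cyc.IsZeroSchemeOf (pullback.fst f i) ((Scheme.Modules.pullback f).obj L) s') {ξ : X'}
    (hξ : f ξ ∉ Set.range i) (x : X') :
    Cyc.secDivFun δ' ((Scheme.Modules.pullback f).obj L) ξ
        (Submodule.Quotient.mk ((((Scheme.Modules.pullback f).obj L).presheaf.germ ⊤ ξ trivial) s')) x =
      Cyc.secDivFun δ' ((Scheme.Modules.pullback f).obj L) ξ
        (secPull f L ξ (Submodule.Quotient.mk ((L.presheaf.germ ⊤ (f ξ) trivial) s))) x := by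
  have hM := Groth.Agent.Twist.isInvertible_pullback f hL
  have hs2 : ∀ y : X', secPull f L y (Submodule.Quotient.mk ((L.presheaf.germ ⊤ (f y) trivial) s)) =
      Submodule.Quotient.mk ((((Scheme.Modules.pullback f).obj L).presheaf.germ ⊤ y trivial) (Groth.Agent.M2.pullSec f L s)) := fun y => by
    refine (secPull_fmk f y _).trans ?_
    rw [pst_germ]
    rfl
  rw [hs2]
  by_cases hsp : ξ ⤳ x ∧ δ' x + 1 = δ' ξ
  swap
  · simp only [Cyc.secDivFun]
    rw [dif_neg hsp, dif_neg hsp]
  have hP : ξ ∉ Set.range (pullback.fst f i) := fun h => hξ (by rw [Scheme.Pullback.range_fst] at h; exact h)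
  have hne1 : (Submodule.Quotient.mk ((((Scheme.Modules.pullback f).obj L).presheaf.germ ⊤ ξ trivial) s') : Cyc.secFibre ((Scheme.Modules.pullback f).obj L) ξ) ≠ 0 := by
    rw [hD'.1] at hP; exact hP
  have hne2' : ∀ y : X', f y ∉ Set.range i →
      (Submodule.Quotient.mk ((((Scheme.Modules.pullback f).obj L).presheaf.germ ⊤ y trivial) (Groth.Agent.M2.pullSec f L s)) :
        Cyc.secFibre ((Scheme.Modules.pullback f).obj L) y) ≠ 0 := fun y hy => by
    rw [← hs2]
    refine secPull_ne_zero f hL y ?_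
    rw [hD.1] at hy
    exact hy
  by_cases hx : x ∈ Set.range (pullback.fst f i)
  swap
  · have h1 : (Submodule.Quotient.mk ((((Scheme.Modules.pullback f).obj L).presheaf.germ ⊤ x trivial) s') : Cyc.secFibre ((Scheme.Modules.pullback f).obj L) x) ≠ 0 := by
      rw [hD'.1] at hx; exact hx
    have h2 := hne2' x fun h => hx (by rw [Scheme.Pullback.range_fst]; exact h)
    rw [secDivFun_ext hM (ext_germ hM s' hsp.1 h1), secDivFun_ext hM (ext_germ hM _ hsp.1 h2)]
  obtain ⟨z, rfl⟩ := hx
  set x := pullback.fst f i z with hx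
  obtain ⟨t, g, ht, hsg, hker⟩ := hD.2 (pullback.snd f i z)
  obtain ⟨t₂, f₂, ht₂, hs₂, hker₂⟩ := hD'.2 z
  have e : i (pullback.snd f i z) = f x := by
    rw [hx, ← Scheme.Hom.comp_apply, ← Scheme.Hom.comp_apply, pullback.condition]
  have hs3 : (L.presheaf.germ ⊤ (f x) trivial) s = X.presheaf.stalkSpecializes (specializes_of_eq e.symm) g •
      L.presheaf.stalkSpecializes (specializes_of_eq e.symm) t := by
    rw [← stalkSpecializes_smul, ← hsg, TopCat.Presheaf.germ_stalkSpecializes_apply]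
  have hgen := gen_pst f hL (gen_stalkSpecializes hL (specializes_of_eq e.symm) (gen_of_span hL ht))
  set g₀ : X'.presheaf.stalk x := stalkTo f x e g with hg₀
  have hs4 : (((Scheme.Modules.pullback f).obj L).presheaf.germ ⊤ x trivial) (Groth.Agent.M2.pullSec f L s) =
      g₀ • pst f L x (L.presheaf.stalkSpecializes (specializes_of_eq e.symm) t) := by
    rw [hg₀]
    exact (pst_germ f x (U := ⊤) trivial s).symm.trans ((congrArg (pst f L x) hs3).trans (pst_smul f x _ _))
  obtain ⟨hf1, hord1⟩ := secOrdAt_germ hM s' hsp.1 hne1 (gen_of_span hM ht₂) hs₂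
  obtain ⟨hf0, hord0⟩ := secOrdAt_germ hM (Groth.Agent.M2.pullSec f L s) hsp.1 (hne2' ξ hξ) hgen hs4
  simp only [Cyc.secDivFun]
  rw [dif_pos hsp, dif_pos hsp, hord1, hord0]
  have hdvd1 : ∃ c, f₂ = c * g₀ := by
    have h := ker_stalkMap_pullback_fst f i (IsPullback.of_hasPullback f i) z
    rw [hker₂, hker, Ideal.map_span, Set.image_singleton, Ideal.span_singleton_le_iff_mem,
      Ideal.mem_span_singleton'] at h
    obtain ⟨c, hc⟩ := h
    exact ⟨c, hc.symm⟩
  have hdvd2 : ∃ c, g₀ = c * f₂ := by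
    have hmem : g₀ ∈ RingHom.ker ((pullback.fst f i).stalkMap z).hom := by
      rw [RingHom.mem_ker]
      show (pullback.fst f i).stalkMap z (f.stalkMap x (X.presheaf.stalkSpecializes (specializes_of_eq e.symm) g)) = 0
      rw [show (pullback.fst f i).stalkMap z (f.stalkMap x (X.presheaf.stalkSpecializes (specializes_of_eq e.symm) g)) =
        (pullback.snd f i).stalkMap z (i.stalkMap (pullback.snd f i z) g) from
        stalkMap_square (pullback.fst f i) (pullback.snd f i) f i pullback.condition z e g]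
      have hz0 : i.stalkMap (pullback.snd f i z) g = 0 := by
        rw [← RingHom.mem_ker, hker]
        exact Ideal.subset_span rfl
      rw [hz0, map_zero]
    rw [hker₂, Ideal.mem_span_singleton'] at hmem
    obtain ⟨c, hc⟩ := hmem
    exact ⟨c, hc.symm⟩
  exact (ordAt_eq_of_dvd hsp.1 hf0 hdvd1 hdvd2).symm

/-- Pushing forward along a base change of a closed immersion. -/
theorem map_snd_apply (f : X' ⟶ X) [QuasiCompact f] (i : D ⟶ X) [IsClosedImmersion i]
    (a : AlgebraicCycle X' ℤ) (ha : ∀ x, a x ≠ 0 → x ∈ Set.range (pullback.fst f i))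
    (b : AlgebraicCycle (pullback f i) ℤ) (hb : ∀ z, b z = a (pullback.fst f i z)) (d : D) :
    AlgebraicCycle.map (pullback.snd f i) (fun z => δ' (pullback.fst f i z)) (fun d => δ (i d)) b d =
      AlgebraicCycle.map f δ' δ a (i d) := by
  set p := pullback.fst f i
  set q := pullback.snd f i
  obtain ⟨W, hW, hdW, -⟩ := exists_isAffineOpen_mem_and_subset (U := (⊤ : X.Opens)) (x := i d) trivial
  have hsupp := a.locallyFiniteSupport.finite_inter_support_of_isCompact (f.isCompact_preimage hW.isCompact)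
  let T : Finset X' := hsupp.toFinset.filter fun x => f x = i d
  let T' : Finset ↥(pullback f i) := T.preimage p p.isClosedEmbedding.injective.injOn
  have hpq : ∀ z, f (p z) = i (q z) := fun z => by
    rw [← Scheme.Hom.comp_apply, ← Scheme.Hom.comp_apply, pullback.condition]
  rw [map_apply_eq_sum f δ' δ a (i d) T (fun x hx => (Finset.mem_filter.1 hx).2) fun x hx hne _ =>
      Finset.mem_filter.2 ⟨hsupp.mem_toFinset.2 ⟨show f x ∈ (W : Set X) from hx.symm ▸ hdW, hne⟩, hx⟩,
    map_apply_eq_sum q _ _ b d T' (fun z hz => i.isClosedEmbedding.injective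
      ((hpq z).symm.trans (Finset.mem_filter.1 (Finset.mem_preimage.1 hz)).2)) fun z hz hne _ =>
      Finset.mem_preimage.2 (Finset.mem_filter.2 ⟨hsupp.mem_toFinset.2
        ⟨show f (p z) ∈ (W : Set X) from (hpq z).symm ▸ hz.symm ▸ hdW, by rwa [hb] at hne⟩, by rw [hpq, hz]⟩),
    ← Finset.sum_preimage p T p.isClosedEmbedding.injective.injOn _ (fun x hx hr => by
      have h0 : a x ≠ 0 := ((hsupp.mem_toFinset.1 (Finset.mem_filter.1 hx).1)).2
      exact absurd (ha x h0) hr)]
  refine Finset.sum_congr rfl fun z _ => ?_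
  rw [hb]
  congr 2
  simp only [AlgebraicCycle.mapCoeff]
  have hdeg : f.residueDegree (p z) = q.residueDegree z := by
    have h1 := residueDegree_comp p f z
    have h2 := residueDegree_comp q i z
    rw [residueDegree_congr (pullback.condition (f := f) (g := i)) z, h2,
      residueDegree_of_bijective i _ (residueFieldMap_bijective i (q z)),
      residueDegree_of_bijective p z (residueFieldMap_bijective p z), one_mul, mul_one] at h1
    exact h1.symm
  rw [hdeg]
  exact if_congr (Eq.congr_right (congrArg δ (hpq z).symm)) rfl rfl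

/-- Gysin maps commute with proper pushforward. -/
theorem gysin_map [IsLocallyNoetherian X] (f : X' ⟶ X) [IsProper f] (hd' : Cyc.IsDimFun X' δ') (hd : Cyc.IsDimFun X δ)
    (hδ : Cyc.DeltaCompat f δ' δ) (hL : PicF.IsInvertible L) {s : L.presheaf.obj (Opposite.op ⊤)}
    (i : D ⟶ X) [IsClosedImmersion i] (hD : Cyc.IsZeroSchemeOf i L s)
    {s' : ((Scheme.Modules.pullback f).obj L).presheaf.obj (Opposite.op ⊤)}
    (hD' : Cyc.IsZeroSchemeOf (pullback.fst f i) ((Scheme.Modules.pullback f).obj L) s') {k : ℤ}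
    {α : AlgebraicCycle X' ℤ} (hα : α ∈ Cyc.Zk X' δ' (k + 1)) {w : (ξ : X) → Cyc.secFibre L ξ} (hw : ∀ ξ, w ξ ≠ 0)
    {w' : (ξ : X') → Cyc.secFibre ((Scheme.Modules.pullback f).obj L) ξ} (hw' : ∀ ξ, w' ξ ≠ 0)
    {γ : AlgebraicCycle D ℤ}
    (hγ : ∀ d, γ d = Cyc.c1CapFun δ L ⇑(AlgebraicCycle.map f δ' δ α) (Cyc.gysinChoice L s w) (i d))
    {γ' : AlgebraicCycle (pullback f i) ℤ}
    (hγ' : ∀ z, γ' z = Cyc.c1CapFun δ' ((Scheme.Modules.pullback f).obj L) ⇑α
      (Cyc.gysinChoice ((Scheme.Modules.pullback f).obj L) s' w') (pullback.fst f i z)) :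
    Cyc.RatEquiv (fun d => δ (i d)) k γ
      (AlgebraicCycle.map (pullback.snd f i) (fun z => δ' (pullback.fst f i z)) (fun d => δ (i d)) γ') := by
  haveI : IsLocallyNoetherian D := LocallyOfFiniteType.isLocallyNoetherian i
  haveI : IsLocallyNoetherian (pullback f i) := LocallyOfFiniteType.isLocallyNoetherian (pullback.fst f i)
  set p := pullback.fst f i
  set v := Cyc.gysinChoice L s w with hv
  have hv0 := gysinChoice_ne_zero s hw
  let u : (ξ : X') → Cyc.secFibre ((Scheme.Modules.pullback f).obj L) ξ := fun ξ => secPull f L ξ (v (f ξ))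
  have hu0 : ∀ ξ, u ξ ≠ 0 := fun ξ => secPull_ne_zero f hL ξ (hv0 _)
  have hM := Groth.Agent.Twist.isInvertible_pullback f hL
  have hut : Cyc.c1CapFun δ' ((Scheme.Modules.pullback f).obj L) ⇑α u = Cyc.c1CapFun δ' ((Scheme.Modules.pullback f).obj L) ⇑α (Cyc.gysinChoice ((Scheme.Modules.pullback f).obj L) s' u) := funext fun x => by
    refine finsum_congr fun ξ => congrArg _ ?_
    by_cases hr : ξ ∈ Set.range p
    · obtain ⟨z, rfl⟩ := hr
      rw [gysinChoice_of_mem hD' u z]
    · have hfξ : f ξ ∉ Set.range i := fun h => hr (by rw [Scheme.Pullback.range_fst]; exact h)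
      simp only [u, hv]
      rw [gysinChoice_of_notMem hD' _ hr, gysinChoice_of_notMem hD w hfξ, secDivFun_sameZero f hL i hD hD' hfξ]
  obtain ⟨A, hA⟩ := exists_cycle_c1Cap hM hd' α hu0
  obtain ⟨B, hB⟩ := exists_cycle_restrict p A
  have hAs : ∀ x, A x ≠ 0 → x ∈ Set.range p := fun x hx => by
    rw [hA, hut] at hx
    exact c1Cap_gysin_support hM hD' u ⇑α hx
  have hgB : γ = AlgebraicCycle.map (pullback.snd f i) (fun z => δ' (p z)) (fun d => δ (i d)) B :=
    DFunLike.ext _ _ fun d => by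
      rw [map_snd_apply f i A hAs B hB d, hγ, map_c1Cap_secPull f hd' hd hδ hL α v hv0 A hA]
  show Cyc.RatEquivZero _ k _
  rw [hgB, ← map_sub]
  refine ratEquivZero_map (pullback.snd f i) (isDimFun_closed p hd') (isDimFun_closed i hd) ?_ ?_
  · intro z
    obtain ⟨n, hn, hn'⟩ := hδ (p z)
    have e : f (p z) = i (pullback.snd f i z) := by
      rw [← Scheme.Hom.comp_apply, ← Scheme.Hom.comp_apply, pullback.condition]
    refine ⟨n, ?_, by show δ' (p z) = δ (i (pullback.snd f i z)) + n; rw [← e]; exact hn'⟩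
    show FibDim14.rdeg (pullback.snd f i) z = n
    have h1 : FibDim14.rdeg (p ≫ f) z = FibDim14.rdeg (pullback.snd f i ≫ i) z := by
      rw [show p ≫ f = pullback.snd f i ≫ i from pullback.condition]
    rw [FibDim14.rdeg_comp, FibDim14.rdeg_comp, FibDim14.rdeg_eq_zero i, FibDim14.rdeg_eq_zero p, zero_add, add_zero] at h1
    rw [← h1]
    exact hn
  refine ratEquiv_c1Cap_on hM p hα (gysinChoice_ne_zero s' hu0) (gysinChoice_ne_zero s' hw') ?_
    (fun z => by rw [hB, hA, hut]) hγ'
  intro ξ _ hξ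
  rw [gysinChoice_of_notMem hD' u hξ, gysinChoice_of_notMem hD' w' hξ]

omit [IsLocallyNoetherian X'] in
theorem length_quot_pullback (f : X' ⟶ X) (i : D ⟶ X) [IsClosedImmersion i] (z : ↥(pullback f i)) :
    Module.length ((pullback f i).presheaf.stalk z) ((pullback f i).presheaf.stalk z ⧸
        Ideal.map ((pullback.snd f i).stalkMap z).hom
          (IsLocalRing.maximalIdeal (D.presheaf.stalk (pullback.snd f i z)))) =
      Module.length (X'.presheaf.stalk (pullback.fst f i z)) (X'.presheaf.stalk (pullback.fst f i z) ⧸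
        Ideal.map (f.stalkMap (pullback.fst f i z)).hom
          (IsLocalRing.maximalIdeal (X.presheaf.stalk (f (pullback.fst f i z))))) := by
  set p := pullback.fst f i
  set q := pullback.snd f i
  have e : i (q z) = f (p z) := by
    rw [← Scheme.Hom.comp_apply, ← Scheme.Hom.comp_apply, pullback.condition]
  let σ := (X.presheaf.stalkSpecializes (specializes_of_eq e.symm)).hom
  haveI : IsIso (X.presheaf.stalkSpecializes (specializes_of_eq e.symm)) :=
    ⟨X.presheaf.stalkSpecializes (specializes_of_eq e), by simp, by simp⟩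
  have hσb : Function.Bijective σ :=
    ConcreteCategory.bijective_of_isIso (X.presheaf.stalkSpecializes (specializes_of_eq e.symm))
  haveI : IsLocalHom σ := ⟨fun a ha => by
    obtain ⟨b, hb⟩ := hσb.2 ha.unit⁻¹.val
    refine IsUnit.of_mul_eq_one b (hσb.1 ?_)
    rw [map_mul, hb, map_one]; exact ha.mul_val_inv⟩
  have hmσ : IsLocalRing.maximalIdeal (X.presheaf.stalk (f (p z))) =
      (IsLocalRing.maximalIdeal (X.presheaf.stalk (i (q z)))).map σ := by
    rw [← ((IsLocalRing.local_hom_TFAE σ).out 0 4 rfl rfl).1 inferInstance,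
      Ideal.map_comap_of_surjective σ hσb.2]
  set I := Ideal.map (f.stalkMap (p z)).hom (IsLocalRing.maximalIdeal (X.presheaf.stalk (f (p z)))) with hI
  set J := Ideal.map (q.stalkMap z).hom (IsLocalRing.maximalIdeal (D.presheaf.stalk (q z))) with hJ
  set π := (p.stalkMap z).hom with hπ
  have hπs : Function.Surjective π := p.stalkMap_surjective z
  have hker : RingHom.ker π ≤ I := by
    refine (ker_stalkMap_pullback_fst f i (IsPullback.of_hasPullback f i) z).trans ?_
    show Ideal.map ((f.stalkMap (p z)).hom.comp σ) _ ≤ I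
    rw [← Ideal.map_map, hI, hmσ]
    refine Ideal.map_mono (Ideal.map_mono ?_)
    exact IsLocalRing.le_maximalIdeal (RingHom.ker_ne_top _)
  have hIJ : I.map π = J := by
    have hc : π.comp ((f.stalkMap (p z)).hom.comp σ) = (q.stalkMap z).hom.comp (i.stalkMap (q z)).hom :=
      RingHom.ext fun a => stalkMap_square p q f i pullback.condition z e a
    have hsurj : (IsLocalRing.maximalIdeal (X.presheaf.stalk (i (q z)))).map (i.stalkMap (q z)).hom =
        IsLocalRing.maximalIdeal (D.presheaf.stalk (q z)) := by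
      rw [← ((IsLocalRing.local_hom_TFAE (i.stalkMap (q z)).hom).out 0 4 rfl rfl).1 inferInstance,
        Ideal.map_comap_of_surjective _ (i.stalkMap_surjective (q z))]
    rw [hI, hmσ, Ideal.map_map, Ideal.map_map, RingHom.comp_assoc, hc, ← Ideal.map_map, hsurj]
  have hJI : J.comap π = I := by
    rw [← hIJ, Ideal.comap_map_of_surjective π hπs]
    exact sup_eq_left.2 hker
  let φ : (X'.presheaf.stalk (p z) ⧸ I) →+* ((pullback f i).presheaf.stalk z ⧸ J) :=
    Ideal.quotientMap J π hJI.ge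
  have hφ : Function.Bijective φ := ⟨Ideal.quotientMap_injective' hJI.le, Ideal.quotientMap_surjective hπs⟩
  refine (length_eq_of_semilinear (σ := π) hπs (e := (RingEquiv.ofBijective φ hφ).toAddEquiv) ?_).symm
  intro r m
  obtain ⟨m, rfl⟩ := Ideal.Quotient.mk_surjective m
  show φ (Ideal.Quotient.mk _ (r * m)) = π r • φ (Ideal.Quotient.mk _ m)
  simp [φ, Algebra.smul_def]

/-- Gysin maps commute with flat pullback. -/
theorem gysin_pullFun [IsLocallyNoetherian X] (f : X' ⟶ X) [Flat f] (hd' : Cyc.IsDimFun X' δ')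
    (hd : Cyc.IsDimFun X δ) {r : ℤ} (hc : ∀ z, (∀ w, f w = f z → w ⤳ z → w = z) → δ' z = δ (f z) + r)
    (hL : PicF.IsInvertible L) {s : L.presheaf.obj (Opposite.op ⊤)}
    (i : D ⟶ X) [IsClosedImmersion i] (hD : Cyc.IsZeroSchemeOf i L s)
    {s' : ((Scheme.Modules.pullback f).obj L).presheaf.obj (Opposite.op ⊤)}
    (hD' : Cyc.IsZeroSchemeOf (pullback.fst f i) ((Scheme.Modules.pullback f).obj L) s') {k : ℤ}
    {α : AlgebraicCycle X ℤ} (hα : α ∈ Cyc.Zk X δ (k + 1)) {w : (ξ : X) → Cyc.secFibre L ξ} (hw : ∀ ξ, w ξ ≠ 0)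
    {w' : (ξ : X') → Cyc.secFibre ((Scheme.Modules.pullback f).obj L) ξ} (hw' : ∀ ξ, w' ξ ≠ 0)
    {ζ₁ ζ₂ : AlgebraicCycle (pullback f i) ℤ}
    (h₁ : ∀ z, ζ₁ z = Cyc.c1CapFun δ' ((Scheme.Modules.pullback f).obj L) (Cyc.pullFun f δ' δ r ⇑α)
      (Cyc.gysinChoice ((Scheme.Modules.pullback f).obj L) s' w') (pullback.fst f i z))
    (h₂ : ⇑ζ₂ = Cyc.pullFun (pullback.snd f i) (fun z => δ' (pullback.fst f i z)) (fun d => δ (i d)) r
      (fun d => Cyc.c1CapFun δ L ⇑α (Cyc.gysinChoice L s w) (i d))) :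
    Cyc.RatEquiv (fun z => δ' (pullback.fst f i z)) (k + r) ζ₁ ζ₂ := by
  set v := Cyc.gysinChoice L s w with hv
  have hv0 := gysinChoice_ne_zero s hw
  let u : (ξ : X') → Cyc.secFibre ((Scheme.Modules.pullback f).obj L) ξ := fun ξ => secPull f L ξ (v (f ξ))
  have hu0 : ∀ ξ, u ξ ≠ 0 := fun ξ => secPull_ne_zero f hL ξ (hv0 _)
  have hM := Groth.Agent.Twist.isInvertible_pullback f hL
  obtain ⟨β, hβ⟩ := exists_cycle_pullFun f hd' hc α
  have hut : Cyc.c1CapFun δ' ((Scheme.Modules.pullback f).obj L) ⇑β u =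
      Cyc.c1CapFun δ' ((Scheme.Modules.pullback f).obj L) ⇑β
        (Cyc.gysinChoice ((Scheme.Modules.pullback f).obj L) s' u) := funext fun x => by
    refine finsum_congr fun ξ => congrArg _ ?_
    by_cases hr : ξ ∈ Set.range (pullback.fst f i)
    · obtain ⟨z, rfl⟩ := hr
      rw [gysinChoice_of_mem hD' u z]
    · have hfξ : f ξ ∉ Set.range i := fun h => hr (by rw [Scheme.Pullback.range_fst]; exact h)
      simp only [u, hv]
      rw [gysinChoice_of_notMem hD' _ hr, gysinChoice_of_notMem hD w hfξ, secDivFun_sameZero f hL i hD hD' hfξ]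
  refine ratEquiv_c1Cap_on hM (pullback.fst f i) (α := β) ?_ (gysinChoice_ne_zero s' hw')
    (gysinChoice_ne_zero s' hu0) ?_ (fun z => by rw [h₁, hβ]) fun z => ?_
  · rw [show k + r + 1 = k + 1 + r by ring]
    exact pullFun_mem_Zk f hα hβ
  · intro ξ _ hξ
    rw [gysinChoice_of_notMem hD' u hξ, gysinChoice_of_notMem hD' w' hξ]
  rw [h₂, ← hut, hβ, ← pullFun_c1Cap_secPull f hd' hd hc hL α v hv0]
  have e : f (pullback.fst f i z) = i (pullback.snd f i z) := by
    rw [← Scheme.Hom.comp_apply, ← Scheme.Hom.comp_apply, pullback.condition]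
  simp only [Cyc.pullFun]
  rw [length_quot_pullback f i z, congrArg δ e, congrArg (Cyc.c1CapFun δ L (⇑α) v) e]

end Groth.Agent.Cyc26
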