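import Groth.Agent.Lib.Cyc26.Stalk
import Groth.Agent.Lib.Lattice26.Det
import Groth.Agent.Lib.VarDim.Fibre

/-! # Principal divisors: local finiteness and restriction to opens -/

set_option autoImplicit false
universe u

set_option backward.isDefEq.respectTransparency.types false

open CategoryTheory AlgebraicGeometry TopologicalSpace

namespace Groth.Agent.Cyc26

theorem isFractionRing_transfer {R R' K K' : Type u} [CommRing R] [CommRing R'] [Field K] [Field K'] [Algebra R K]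
    [Algebra R' K'] [IsFractionRing R K] (e : R ≃+* R') (e' : K ≃+* K')
    (hc : ∀ r, e' (algebraMap R K r) = algebraMap R' K' (e r)) : IsFractionRing R' K' := by
  haveI : FaithfulSMul R' K' := (faithfulSMul_iff_algebraMap_injective R' K').2 fun a b h => by
    obtain ⟨a, rfl⟩ := e.surjective a
    obtain ⟨b, rfl⟩ := e.surjective b
    rw [← hc, ← hc] at h
    exact congrArg e (IsFractionRing.injective R K (e'.injective h))
  refine IsFractionRing.of_field R' K' fun z => ?_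
  obtain ⟨a, b, -, he⟩ := IsFractionRing.div_surjective (A := R) (e'.symm z)
  exact ⟨e a, e b, by rw [← hc, ← hc, ← map_div₀, he, e'.apply_symm_apply]⟩

theorem length_quotient_transfer {R R' : Type u} [CommRing R] [CommRing R'] (e : R ≃+* R') (a : R) :
    Module.length R (R ⧸ Ideal.span {a}) = Module.length R' (R' ⧸ Ideal.span {e a}) := by
  let q : (R ⧸ Ideal.span {a}) ≃+* (R' ⧸ Ideal.span {e a}) :=
    Ideal.quotientEquiv (Ideal.span {a}) (Ideal.span {e a}) e (by rw [Ideal.map_span, Set.image_singleton]; rfl)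
  refine length_eq_of_semilinear (σ := e.toRingHom) e.surjective (e := q.toAddEquiv) ?_
  intro r m
  obtain ⟨m, rfl⟩ := Ideal.Quotient.mk_surjective m
  show q (Ideal.Quotient.mk _ (r * m)) = e r • q (Ideal.Quotient.mk _ m)
  simp [q, Algebra.smul_def]

theorem ordFrac_congr {R R' K K' : Type u} [CommRing R] [CommRing R'] [IsDomain R] [IsLocalRing R] [IsDomain R']
    [IsLocalRing R'] [Field K] [Field K'] [Algebra R K] [Algebra R' K'] (e : R ≃+* R') (e' : K ≃+* K')
    (hc : ∀ r, e' (algebraMap R K r) = algebraMap R' K' (e r)) (x : K) :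
    CycAlg.ordFrac R' K' (e' x) = CycAlg.ordFrac R K x := by
  by_cases h : IsNoetherianRing R ∧ Ring.KrullDimLE 1 R ∧ Nontrivial R ∧ IsFractionRing R K
  · haveI := h.1
    haveI := h.2.2.2
    have hdim : ringKrullDim R ≤ 1 := Ring.krullDimLE_iff.1 h.2.1
    haveI : IsNoetherianRing R' := isNoetherianRing_of_ringEquiv R e
    haveI := isFractionRing_transfer e e' hc
    have hdim' : ringKrullDim R' ≤ 1 := (ringKrullDim_eq_of_ringEquiv e).symm.le.trans hdim
    rcases eq_or_ne x 0 with rfl | hx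
    · simp [CycAlg.ordFrac]
    obtain ⟨a, b, hb, rfl⟩ := IsFractionRing.div_surjective (A := R) x
    have hb0 : b ≠ 0 := nonZeroDivisors.ne_zero hb
    have hKb : algebraMap R K b ≠ 0 := IsFractionRing.to_map_ne_zero_of_mem_nonZeroDivisors hb
    have ha0 : a ≠ 0 := fun ha => hx (by rw [ha, map_zero, zero_div])
    have h1 := Lattice26.ordFrac_mul (A := R) hdim (div_ne_zero
      ((map_ne_zero_iff _ (IsFractionRing.injective R K)).2 ha0) hKb) hKb
    rw [div_mul_cancel₀ _ hKb, (Lattice26.ordFrac_algebraMap (K := K) hdim ha0).1,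
      (Lattice26.ordFrac_algebraMap (K := K) hdim hb0).1] at h1
    have ha0' : e a ≠ 0 := (map_ne_zero_iff e e.injective).2 ha0
    have hb0' : e b ≠ 0 := (map_ne_zero_iff e e.injective).2 hb0
    have hKb' : algebraMap R' K' (e b) ≠ 0 := (map_ne_zero_iff _ (IsFractionRing.injective R' K')).2 hb0'
    have h2 := Lattice26.ordFrac_mul (A := R') hdim' (div_ne_zero
      ((map_ne_zero_iff _ (IsFractionRing.injective R' K')).2 ha0') hKb') hKb'
    rw [div_mul_cancel₀ _ hKb', (Lattice26.ordFrac_algebraMap (K := K') hdim' ha0').1,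
      (Lattice26.ordFrac_algebraMap (K := K') hdim' hb0').1, ← length_quotient_transfer, ← length_quotient_transfer]
      at h2
    rw [map_div₀, hc, hc]
    omega
  · have h' : ¬ (IsNoetherianRing R' ∧ Ring.KrullDimLE 1 R' ∧ Nontrivial R' ∧ IsFractionRing R' K') := by
      rintro ⟨hN, hd, -, hF⟩
      refine h ⟨isNoetherianRing_of_ringEquiv R' e.symm, Ring.krullDimLE_iff.2 ?_, inferInstance,
        isFractionRing_transfer (R := R') (K := K') e.symm e'.symm fun r => ?_⟩
      · exact (ringKrullDim_eq_of_ringEquiv e).le.trans (Ring.krullDimLE_iff.1 hd)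
      · apply e'.injective
        rw [e'.apply_symm_apply, hc, e.apply_symm_apply]
    simp only [CycAlg.ordFrac, dif_neg h, dif_neg h']

theorem ordFrac_eq_zero_of_isUnit {R K : Type u} [CommRing R] [IsDomain R] [IsLocalRing R] [Field K] [Algebra R K]
    {r : R} (hr : IsUnit r) : CycAlg.ordFrac R K (algebraMap R K r) = 0 := by
  by_cases h : IsNoetherianRing R ∧ Ring.KrullDimLE 1 R ∧ Nontrivial R ∧ IsFractionRing R K
  · haveI := h.1
    haveI := h.2.2.2
    rw [(Lattice26.ordFrac_algebraMap (K := K) (Ring.krullDimLE_iff.1 h.2.1) hr.ne_zero).1,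
      Ideal.span_singleton_eq_top.2 hr]
    simp
  · simp only [CycAlg.ordFrac, dif_neg h]

variable {X : Scheme.{u}}

instance isPrime_ker_specMap (x ξ : X) (h : ξ ⤳ x) : (RingHom.ker (Cyc.specMap x ξ h)).IsPrime :=
  RingHom.ker_isPrime _

instance isLocalRing_locQuot (x ξ : X) (h : ξ ⤳ x) : IsLocalRing (Cyc.LocQuot x ξ h) :=
  IsLocalRing.of_surjective' (Ideal.Quotient.mk _) Ideal.Quotient.mk_surjective

theorem ordAt_eq_zero_of_isUnit {x ξ : X} (h : ξ ⤳ x) {r : X.presheaf.stalk x} (hr : IsUnit r) :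
    Cyc.ordAt x ξ h (Cyc.specMap x ξ h r) = 0 :=
  ordFrac_eq_zero_of_isUnit (R := Cyc.LocQuot x ξ h) (r := Ideal.Quotient.mk _ r) (hr.map _)

/-- Orders along specializations restrict to open subschemes. -/
theorem ordAt_openImmersion {U : Scheme.{u}} (j : U ⟶ X) [IsOpenImmersion j] {x ξ : U} (h : ξ ⤳ x)
    (φ : X.residueField (j ξ)) :
    Cyc.ordAt x ξ h (j.residueFieldMap ξ φ) = Cyc.ordAt (j x) (j ξ) (h.map j.continuous) φ := by
  let e0 : X.presheaf.stalk (j x) ≃+* U.presheaf.stalk x := (asIso (j.stalkMap x)).commRingCatIsoToRingEquiv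
  let e' : X.residueField (j ξ) ≃+* U.residueField ξ := (asIso (j.residueFieldMap ξ)).commRingCatIsoToRingEquiv
  have hsq : ∀ a, Cyc.specMap x ξ h (e0 a) = e' (Cyc.specMap (j x) (j ξ) (h.map j.continuous) a) := fun a => by
    show U.residue ξ (U.presheaf.stalkSpecializes h (j.stalkMap x a)) =
      j.residueFieldMap ξ (X.residue _ (X.presheaf.stalkSpecializes _ a))
    rw [← Scheme.Hom.stalkSpecializes_stalkMap_apply j ξ x h a]
    exact (ConcreteCategory.congr_hom (Scheme.residue_residueFieldMap j ξ) _).symm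
  have hI : RingHom.ker (Cyc.specMap x ξ h) = (RingHom.ker (Cyc.specMap (j x) (j ξ) (h.map j.continuous))).map e0.toRingHom := by
    ext b
    obtain ⟨a, rfl⟩ := e0.surjective b
    rw [RingHom.mem_ker, hsq, map_eq_zero_iff e' e'.injective, ← RingHom.mem_ker]
    refine ⟨fun ha => Ideal.mem_map_of_mem _ ha, fun ha => ?_⟩
    obtain ⟨c, hc, hce⟩ := (Ideal.mem_map_iff_of_surjective e0.toRingHom e0.surjective).1 ha
    exact e0.injective hce ▸ hc
  let e : Cyc.LocQuot (j x) (j ξ) (h.map j.continuous) ≃+* Cyc.LocQuot x ξ h :=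
    Ideal.quotientEquiv _ _ e0 hI
  exact ordFrac_congr e e' (fun r => by
    obtain ⟨a, rfl⟩ := Ideal.Quotient.mk_surjective r
    exact (hsq a).symm) φ

theorem divFun_openImmersion {U : Scheme.{u}} (j : U ⟶ X) [IsOpenImmersion j] (δ : X → ℤ) (ξ x : U)
    (φ : X.residueField (j ξ)) :
    Cyc.divFun (fun u => δ (j u)) ξ (j.residueFieldMap ξ φ) x = Cyc.divFun δ (j ξ) φ (j x) := by
  have hiff : ξ ⤳ x ↔ j ξ ⤳ j x := j.isOpenEmbedding.isInducing.specializes_iff.symm
  by_cases h : ξ ⤳ x ∧ δ (j x) + 1 = δ (j ξ)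
  · simp only [Cyc.divFun]
    rw [dif_pos h, dif_pos ⟨hiff.1 h.1, h.2⟩]
    exact ordAt_openImmersion j h.1 φ
  · simp only [Cyc.divFun]
    rw [dif_neg h, dif_neg fun hh => h ⟨hiff.2 hh.1, hh.2⟩]

theorem specializes_of_divFun_ne_zero {δ : X → ℤ} {ξ x : X} {φ : X.residueField ξ}
    (h : Cyc.divFun δ ξ φ x ≠ 0) : ξ ⤳ x ∧ δ x + 1 = δ ξ := by
  by_contra hc
  exact h (dif_neg hc)

/-- A principal divisor meets an affine open in finitely many points. -/
theorem finite_support_divFun [IsLocallyNoetherian X] {δ : X → ℤ} (hd : Cyc.IsDimFun X δ) (ξ : X)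
    (φ : X.residueField ξ) {U : X.Opens} (hU : IsAffineOpen U) :
    {x | x ∈ U ∧ Cyc.divFun δ ξ φ x ≠ 0}.Finite := by
  by_cases hξU : ξ ∈ U
  swap
  · refine Set.finite_empty.subset fun x hx => hξU ((specializes_of_divFun_ne_zero hx.2).1.mem_open U.isOpen hx.1)
  rcases eq_or_ne φ 0 with rfl | hφ
  · refine Set.finite_empty.subset fun x hx => hx.2 ?_
    simp only [Cyc.divFun]
    split_ifs with h
    · simp [Cyc.ordAt, CycAlg.ordFrac]
    · rfl
  obtain ⟨a, b, he⟩ := VarDim.exists_evaluation_eq_div hU ξ hξU φ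
  have hb0 : X.evaluation U ξ hξU b ≠ 0 := fun h0 => hφ (by rw [he, h0, div_zero])
  have ha0 : X.evaluation U ξ hξU a ≠ 0 := fun h0 => hφ (by rw [he, h0, zero_div])
  let Z : Γ(X, U) → Set X := fun c => closure ({ξ} : Set X) ∩ (X.basicOpen c : Set X)ᶜ
  have hZc : ∀ c, IsClosed (Z c) := fun c => isClosed_closure.inter (X.basicOpen c).isOpen.isClosed_compl
  refine ((finite_maximal_points (hZc a) hU).union (finite_maximal_points (hZc b) hU)).subset ?_
  rintro x ⟨hxU, hx⟩
  obtain ⟨hsp, hδ⟩ := specializes_of_divFun_ne_zero hx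
  have key : x ∈ Z a ∨ x ∈ Z b := by
    by_contra hc
    have hu : ∀ c, x ∉ Z c → IsUnit (X.presheaf.germ U x hxU c) := fun c hc => by
      refine (Scheme.mem_basicOpen _ c x hxU).1 ?_
      by_contra hn
      exact hc ⟨specializes_iff_mem_closure.1 hsp, hn⟩
    obtain ⟨ua, hua⟩ := hu a fun h => hc (Or.inl h)
    obtain ⟨ub, hub⟩ := hu b fun h => hc (Or.inr h)
    have hev : ∀ c, Cyc.specMap x ξ hsp (X.presheaf.germ U x hxU c) = X.evaluation U ξ hξU c := fun c =>
      congrArg (X.residue ξ) (TopCat.Presheaf.germ_stalkSpecializes_apply X.presheaf hxU hsp c)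
    have hval : Cyc.specMap x ξ hsp (ua * ub⁻¹ : (X.presheaf.stalk x)ˣ).val = φ := by
      rw [Units.val_mul, map_mul, hua, hev, map_units_inv, hub, hev, he, div_eq_mul_inv]
    refine hx ?_
    simp only [Cyc.divFun]
    rw [dif_pos ⟨hsp, hδ⟩, ← hval]
    exact ordAt_eq_zero_of_isUnit hsp (Units.isUnit _)
  have hmax : ∀ c, X.evaluation U ξ hξU c ≠ 0 → x ∈ Z c →
      x ∈ {z : X | z ∈ Z c ∧ (∀ y ∈ Z c, y ⤳ z → y = z) ∧ z ∈ U} := fun c hc hxc => by
    refine ⟨hxc, fun y hy hyx => ?_, hxU⟩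
    by_contra hne
    have hyξ : ξ ≠ y := by
      rintro rfl
      refine hy.2 ((Scheme.mem_basicOpen _ c ξ hξU).2 ?_)
      by_contra hnu
      exact hc ((IsLocalRing.residue_eq_zero_iff _).2 hnu)
    have h1 := (hd y x hyx hne).1
    have h2 := (hd ξ y (specializes_iff_mem_closure.2 hy.1) hyξ).1
    omega
  rcases key with h | h
  · exact Or.inl (hmax a ha0 h)
  · exact Or.inr (hmax b hb0 h)

/-- The sum of a locally finite family of principal divisors. -/
theorem exists_cycle_sum_divFun [IsLocallyNoetherian X] {δ : X → ℤ} (hd : Cyc.IsDimFun X δ) {ι : Type u} (ξ : ι → X)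
    (φ : (i : ι) → X.residueField (ξ i))
    (hlf : ∀ x : X, ∃ U : Set X, IsOpen U ∧ x ∈ U ∧ {i | (closure {ξ i} ∩ U).Nonempty}.Finite) :
    ∃ c : AlgebraicCycle X ℤ, ∀ x, c x = ∑ᶠ i, Cyc.divFun δ (ξ i) (φ i) x := by
  let F : X → ℤ := fun x => ∑ᶠ i, Cyc.divFun δ (ξ i) (φ i) x
  refine ⟨⟨F, Set.subset_univ _, fun x _ => ?_⟩, fun x => rfl⟩
  obtain ⟨U, hUo, hxU, hfin⟩ := hlf x
  obtain ⟨V, hV, hxV, hVU⟩ := exists_isAffineOpen_mem_and_subset (U := ⟨U, hUo⟩) (x := x) hxU
  refine ⟨V, V.isOpen.mem_nhds hxV, (hfin.biUnion fun i _ => finite_support_divFun hd (ξ i) (φ i) hV).subset ?_⟩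
  rintro y ⟨hyV, hy⟩
  obtain ⟨i, hi⟩ : ∃ i, Cyc.divFun δ (ξ i) (φ i) y ≠ 0 := by
    by_contra hc
    push Not at hc
    exact hy (show F y = 0 from finsum_eq_zero_of_forall_eq_zero hc)
  exact Set.mem_biUnion (show i ∈ {i | (closure {ξ i} ∩ U).Nonempty} from
    ⟨y, specializes_iff_mem_closure.1 (specializes_of_divFun_ne_zero hi).1, hVU hyV⟩) ⟨hyV, hi⟩

theorem finite_mem_compact {ι : Type u} {U : X.Opens} (ξ : ι → (U : Scheme.{u}))
    (hlf : ∀ x : (U : Scheme.{u}), ∃ V : Set (U : Scheme.{u}), IsOpen V ∧ x ∈ V ∧ {i | (closure {ξ i} ∩ V).Nonempty}.Finite)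
    {W : Set (U : Scheme.{u})} (hW : IsCompact W) : {i | (closure {ξ i} ∩ W).Nonempty}.Finite := by
  choose V hVo hxV hfin using hlf
  obtain ⟨t, ht⟩ := hW.elim_finite_subcover V hVo fun x _ => Set.mem_iUnion.2 ⟨x, hxV x⟩
  refine (t.finite_toSet.biUnion fun x _ => hfin x).subset ?_
  rintro i ⟨y, hy1, hy2⟩
  obtain ⟨x, hx, hyx⟩ := Set.mem_iUnion₂.1 (ht hy2)
  exact Set.mem_biUnion hx ⟨y, hy1, hyx⟩

/-- Rational equivalences extend from an open subscheme. -/
theorem exists_extension [IsLocallyNoetherian X] {δ : X → ℤ} (hd : Cyc.IsDimFun X δ) (U : X.Opens) {k : ℤ}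
    {γU : AlgebraicCycle (U : Scheme.{u}) ℤ} (h : Cyc.RatEquivZero (fun u : (U : Scheme.{u}) => δ (U.ι u)) k γU) :
    ∃ c : AlgebraicCycle X ℤ, Cyc.RatEquivZero δ k c ∧ (∀ u : (U : Scheme.{u}), c (U.ι u) = γU u) ∧ c ∈ Cyc.Zk X δ k := by
  obtain ⟨ι, ξ, φ, hk, hne, hlf, hsum⟩ := h
  let e : ∀ i, X.residueField (U.ι (ξ i)) ≃+* (U : Scheme.{u}).residueField (ξ i) := fun i =>
    (asIso (U.ι.residueFieldMap (ξ i))).commRingCatIsoToRingEquiv
  have hlf' : ∀ x : X, ∃ W : Set X, IsOpen W ∧ x ∈ W ∧ {i | (closure {U.ι (ξ i)} ∩ W).Nonempty}.Finite := by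
    intro x
    obtain ⟨W, hW, hxW, -⟩ := exists_isAffineOpen_mem_and_subset (U := (⊤ : X.Opens)) (x := x) trivial
    refine ⟨W, W.isOpen, hxW, ?_⟩
    haveI : IsNoetherianRing Γ(X, W) := IsLocallyNoetherian.component_noetherian ⟨W, hW⟩
    haveI : NoetherianSpace (W : Set X) := noetherianSpace_of_isAffineOpen W hW
    have hc : IsCompact (U.ι ⁻¹' (W : Set X)) := by
      rw [U.ι.isOpenEmbedding.isInducing.isCompact_iff, Set.image_preimage_eq_inter_range, Scheme.Opens.range_ι]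
      have h1 := (NoetherianSpace.isCompact (Subtype.val ⁻¹' (U : Set X) : Set (W : Set X))).image continuous_subtype_val
      rwa [Subtype.image_preimage_coe] at h1
    refine (finite_mem_compact ξ hlf hc).subset ?_
    rintro i ⟨y, hy1, hy2⟩
    exact ⟨ξ i, subset_closure rfl, (specializes_iff_mem_closure.2 hy1).mem_open W.isOpen hy2⟩
  obtain ⟨c, hc⟩ := exists_cycle_sum_divFun hd (fun i => U.ι (ξ i)) (fun i => (e i).symm (φ i)) hlf'
  refine ⟨c, ⟨ι, fun i => U.ι (ξ i), fun i => (e i).symm (φ i), hk,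
    fun i => (map_ne_zero_iff _ (e i).symm.injective).2 (hne i), hlf', hc⟩, fun u => ?_, fun x hx => ?_⟩
  · rw [hc, hsum]
    refine finsum_congr fun i => ?_
    conv_rhs => rw [← (e i).apply_symm_apply (φ i)]
    exact (divFun_openImmersion U.ι δ (ξ i) u _).symm
  · rw [hc]
    refine finsum_eq_zero_of_forall_eq_zero fun i => ?_
    by_contra hi
    have h1 := (specializes_of_divFun_ne_zero hi).2
    have h2 : δ (U.ι (ξ i)) = k + 1 := hk i
    exact hx (by omega)

end Groth.Agent.Cyc26
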