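import Groth.Agent.Lib.Cyc26.StalkLoc
import Mathlib.RingTheory.Ideal.AssociatedPrime.Localization

/-! # Cutting the cycle of a sheaf by a local equation -/

set_option autoImplicit false
universe u

set_option backward.isDefEq.respectTransparency.types false

open CategoryTheory AlgebraicGeometry TopologicalSpace Groth.Agent.M1
open scoped Pointwise

namespace Groth.Agent.Cyc26

variable {X : Scheme.{u}}

open Classical in
/-- `length (F_x / g F_x) = Σ length F_ξ · ord_{ξ ⤳ x} g` when `g` is regular on `F_x`. -/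
theorem length_quot_stalk [IsLocallyNoetherian X] {δ : X → ℤ} (hd : Cyc.IsDimFun X δ) {F : X.Modules}
    (hF : Coh.IsCoh F) {k : ℤ} (hdim : ∀ z, Nontrivial (F.presheaf.stalk z) → δ z ≤ k + 1) {x : X} (hx : δ x = k)
    (g : X.presheaf.stalk x) (hg : Function.Injective fun m : F.presheaf.stalk x => g • m) :
    ∃ T : Finset X, (∀ ξ, ξ ∈ T ↔ Nontrivial (F.presheaf.stalk ξ) ∧ ξ ⤳ x ∧ δ ξ = k + 1) ∧
      (∀ ξ ∈ T, ∀ h : ξ ⤳ x, Cyc.specMap x ξ h g ≠ 0) ∧
      ((Module.length (X.presheaf.stalk x) (F.presheaf.stalk x ⧸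
          g • (⊤ : Submodule (X.presheaf.stalk x) (F.presheaf.stalk x)))).toNat : ℤ) =
        ∑ ξ ∈ T, ((Module.length (X.presheaf.stalk ξ) (F.presheaf.stalk ξ)).toNat : ℤ) *
          (if h : ξ ⤳ x then Cyc.ordAt x ξ h (Cyc.specMap x ξ h g) else 0) := by
  classical
  have hFT : CohB1.IsFT F := isFP_isFT (isFP_of_isCoh hF)
  haveI := finite_stalk hF.1 hFT x
  haveI : IsNoetherianRing (X.presheaf.stalk x) := inferInstance
  let pt : PrimeSpectrum (X.presheaf.stalk x) → X := fun q => X.fromSpecStalk x q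
  have hpt : ∀ q, pt q ⤳ x := fun q => by
    have hr : pt q ∈ Set.range (X.fromSpecStalk x) := ⟨q, rfl⟩
    rw [Scheme.range_fromSpecStalk] at hr
    exact hr
  have hqker : ∀ q : PrimeSpectrum (X.presheaf.stalk x), q = ⟨RingHom.ker (Cyc.specMap x (pt q) (hpt q)), RingHom.ker_isPrime _⟩ := fun q =>
    (X.fromSpecStalk x).isEmbedding.injective (UCat26.fromSpecStalk_ker (hpt q)).symm
  have hsupp : ∀ q : PrimeSpectrum (X.presheaf.stalk x), q ∈ Module.support (X.presheaf.stalk x) (F.presheaf.stalk x) ↔ Nontrivial (F.presheaf.stalk (pt q)) := fun q => by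
    conv_lhs => rw [hqker q]
    exact mem_support_stalk_iff hF.1 (hpt q)
  have hclosed : ∀ q : PrimeSpectrum (X.presheaf.stalk x), pt q = x ↔ q.asIdeal = IsLocalRing.maximalIdeal (X.presheaf.stalk x) := fun q => by
    constructor
    · intro e
      exact congrArg PrimeSpectrum.asIdeal ((X.fromSpecStalk x).isEmbedding.injective
        (e.trans Scheme.fromSpecStalk_closedPoint.symm) : q = IsLocalRing.closedPoint (X.presheaf.stalk x))
    · intro e
      rw [show q = IsLocalRing.closedPoint (X.presheaf.stalk x) from PrimeSpectrum.ext e]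
      exact Scheme.fromSpecStalk_closedPoint
  have hδ : ∀ q : PrimeSpectrum (X.presheaf.stalk x), q ∈ Module.support (X.presheaf.stalk x) (F.presheaf.stalk x) → q.asIdeal ≠ IsLocalRing.maximalIdeal (X.presheaf.stalk x) →
      δ (pt q) = k + 1 := fun q h1 h2 => by
    have h3 := hdim _ ((hsupp q).1 h1)
    have h4 := (hd (pt q) x (hpt q) fun e => h2 ((hclosed q).1 e)).1
    omega
  have hmin : ∀ q : PrimeSpectrum (X.presheaf.stalk x), q ∈ Module.support (X.presheaf.stalk x) (F.presheaf.stalk x) → q.asIdeal ≠ IsLocalRing.maximalIdeal (X.presheaf.stalk x) →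
      ∀ q' ∈ Module.support (X.presheaf.stalk x) (F.presheaf.stalk x), q' ≤ q → q' = q := fun q h1 h2 q' h1' hle => by
    by_contra hne
    have hsp : pt q' ⤳ pt q := (UCat26.specializes_map_iff _ (X.fromSpecStalk x).isEmbedding _ _).2 hle
    have h3 := (hd _ _ hsp fun e => hne ((X.fromSpecStalk x).isEmbedding.injective e)).1
    have h4 := hdim _ ((hsupp q').1 h1')
    rw [hδ q h1 h2] at h3
    omega
  have hann : ∀ q : PrimeSpectrum (X.presheaf.stalk x), q ∈ Module.support (X.presheaf.stalk x) (F.presheaf.stalk x) ↔ Module.annihilator (X.presheaf.stalk x) (F.presheaf.stalk x) ≤ q.asIdeal := fun q => by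
    rw [Module.support_eq_zeroLocus, PrimeSpectrum.mem_zeroLocus]; rfl
  have hmin' : ∀ q : PrimeSpectrum (X.presheaf.stalk x), q ∈ Module.support (X.presheaf.stalk x) (F.presheaf.stalk x) → q.asIdeal ≠ IsLocalRing.maximalIdeal (X.presheaf.stalk x) →
      q.asIdeal ∈ (Module.annihilator (X.presheaf.stalk x) (F.presheaf.stalk x)).minimalPrimes := fun q h1 h2 =>
    ⟨⟨q.2, (hann q).1 h1⟩, fun Q hQ hle =>
      (congrArg PrimeSpectrum.asIdeal (hmin q h1 h2 ⟨Q, hQ.1⟩ ((hann _).2 hQ.2) hle)).ge⟩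
  have hfin : {q : PrimeSpectrum (X.presheaf.stalk x) | q ∈ Module.support (X.presheaf.stalk x) (F.presheaf.stalk x) ∧ q.asIdeal ≠ IsLocalRing.maximalIdeal (X.presheaf.stalk x)}.Finite :=
    ((Ideal.finite_minimalPrimes_of_isNoetherianRing (X.presheaf.stalk x) (Module.annihilator (X.presheaf.stalk x) (F.presheaf.stalk x))).preimage
      (f := fun q : PrimeSpectrum (X.presheaf.stalk x) => q.asIdeal) (fun a _ b _ => PrimeSpectrum.ext)).subset
      fun q hq => hmin' q hq.1 hq.2
  let S := hfin.toFinset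
  have hgS : ∀ q ∈ S, g ∉ q.asIdeal := fun q hq hin => by
    obtain ⟨h1, h2⟩ := hfin.mem_toFinset.1 hq
    have h3 : g ∈ ⋃ p ∈ associatedPrimes (X.presheaf.stalk x) (F.presheaf.stalk x), (p : Set (X.presheaf.stalk x)) :=
      Set.mem_biUnion (Module.associatedPrimes.minimalPrimes_annihilator_subset_associatedPrimes (X.presheaf.stalk x) (F.presheaf.stalk x) (hmin' q h1 h2)) hin
    rw [biUnion_associatedPrimes_eq_zero_divisors] at h3
    obtain ⟨m, hm, hgm⟩ := h3
    exact hm (hg (hgm.trans (smul_zero g).symm))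
  have hmemT : ∀ ξ, ξ ∈ S.image pt ↔ Nontrivial (F.presheaf.stalk ξ) ∧ ξ ⤳ x ∧ δ ξ = k + 1 := fun ξ => by
    constructor
    · intro hξ
      obtain ⟨q, hq, rfl⟩ := Finset.mem_image.1 hξ
      obtain ⟨h1, h2⟩ := hfin.mem_toFinset.1 hq
      exact ⟨(hsupp q).1 h1, hpt q, hδ q h1 h2⟩
    · rintro ⟨hnt, h, hk⟩
      have e2 := UCat26.fromSpecStalk_ker h
      refine Finset.mem_image.2 ⟨_, hfin.mem_toFinset.2 ⟨(mem_support_stalk_iff hF.1 h).2 hnt, fun e => ?_⟩, e2⟩
      have e3 := (hclosed _).2 e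
      change X.fromSpecStalk x _ = x at e3
      rw [e2] at e3
      subst e3
      omega
  have key := Herbrand26.length_quot_eq (F.presheaf.stalk x) g S (fun q => hfin.mem_toFinset) hgS
    (fun q hq => hmin q (hfin.mem_toFinset.1 hq).1 (hfin.mem_toFinset.1 hq).2)
  have hker : LinearMap.ker (LinearMap.lsmul (X.presheaf.stalk x) (F.presheaf.stalk x) g) = ⊥ := LinearMap.ker_eq_bot.2 hg
  rw [hker, Module.length_eq_zero (M := (⊥ : Submodule (X.presheaf.stalk x) (F.presheaf.stalk x))), zero_add] at key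
  have hpos : Module.length (X.presheaf.stalk x) ((F.presheaf.stalk x) ⧸ g • (⊤ : Submodule (X.presheaf.stalk x) (F.presheaf.stalk x))) ≠ ⊤ := by
    refine Herbrand26.isFiniteLength_of_support_subset fun p hp => by_contra fun hne => ?_
    rw [← Submodule.ideal_span_singleton_smul, Module.support_quotient, PrimeSpectrum.zeroLocus_span] at hp
    exact hgS p (hfin.mem_toFinset.2 ⟨hp.1, hne⟩) (by simpa using hp.2)
  refine ⟨S.image pt, hmemT, fun ξ hξ h h0 => ?_, ?_⟩
  · obtain ⟨q, hq, rfl⟩ := Finset.mem_image.1 hξ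
    refine hgS q hq ?_
    rw [hqker q]
    exact h0
  rw [key] at hpos
  have hterm : ∀ q ∈ S, Ring.ord ((X.presheaf.stalk x) ⧸ q.asIdeal) (Ideal.Quotient.mk q.asIdeal g) * Herbrand26.locLen q (F.presheaf.stalk x) ≠ ⊤ :=
    fun q hq h => hpos (WithTop.sum_eq_top.2 ⟨q, hq, h⟩)
  rw [key, ENat.toNat_sum hterm, Finset.sum_image (g := pt) (fun u _ v _ e => (X.fromSpecStalk x).isEmbedding.injective e)]
  push_cast
  refine Finset.sum_congr rfl fun q hq => ?_
  obtain ⟨h1, h2⟩ := hfin.mem_toFinset.1 hq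
  have h3 : δ x + 1 = δ (pt q) := by rw [hδ q h1 h2, hx]
  have hgq : g ∉ RingHom.ker (Cyc.specMap x (pt q) (hpt q)) := by
    have := hgS q hq
    rw [hqker q] at this
    exact this
  rw [dif_pos (hpt q), ENat.toNat_mul, Nat.cast_mul, (ordAt_mk hd (hpt q) h3 hgq).1, mul_comm]
  congr 2
  · congr 1
    conv_lhs => rw [hqker q]
    exact locLen_stalk hF.1 (hpt q)
  · congr 1
    exact (length_quotient_transfer (Ideal.quotEquivOfEq (congrArg PrimeSpectrum.asIdeal (hqker q)))
      (Ideal.Quotient.mk q.asIdeal g)).trans rfl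

end Groth.Agent.Cyc26
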