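import Mathlib
import Groth.Agent.Lib.Cyc26.DivSheaf
import Groth.Agent.Lib.Cyc26.DivFun
import Groth.Agent.Lib.UCat26.DimFun
import Groth.Agent.Lib.UCat26.FlatRel
import Groth.Agent.Lib.UCat.Universal
import Groth.Agent.Lib.FibDim14.Basic
import Groth.Agent.Lib.EGA43Top.FibreStalk
import Groth.Agent.Lib.TensorMod.PullStalk
import Groth.Prelude.Def_FlatMod2

/-! # Specialisation of cycles of flat families over a discrete valuation ring -/

set_option autoImplicit false
universe u

set_option backward.isDefEq.respectTransparency.types false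

open CategoryTheory AlgebraicGeometry IsLocalRing Groth.Agent.M1
open scoped Pointwise TensorProduct

namespace Groth.Agent.Cyc26Sp

section length

variable {X Z : Scheme.{u}}

/-- Length of the stalk of a pullback along a map with surjective stalk map. -/
theorem stalk_pullback_of_surjective (i : Z ⟶ X) (F : X.Modules) (z : Z) (hs : Function.Surjective (i.stalkMap z))
    (I : Ideal (X.presheaf.stalk (i z))) (hI : RingHom.ker (i.stalkMap z).hom = I) :
    Module.length (Z.presheaf.stalk z) (((Scheme.Modules.pullback i).obj F).presheaf.stalk z) =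
        Module.length (X.presheaf.stalk (i z))
          (F.presheaf.stalk (i z) ⧸ I • (⊤ : Submodule (X.presheaf.stalk (i z)) (F.presheaf.stalk (i z)))) ∧
      (Nontrivial (((Scheme.Modules.pullback i).obj F).presheaf.stalk z) ↔
        Nontrivial (F.presheaf.stalk (i z) ⧸
          I • (⊤ : Submodule (X.presheaf.stalk (i z)) (F.presheaf.stalk (i z))))) := by
  subst hI
  letI : Algebra (X.presheaf.stalk (i z)) (Z.presheaf.stalk z) := (i.stalkMap z).hom.toAlgebra
  let q : (X.presheaf.stalk (i z) ⧸ RingHom.ker (i.stalkMap z).hom) ≃ₗ[X.presheaf.stalk (i z)] Z.presheaf.stalk z :=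
    (Ideal.quotientKerAlgEquivOfSurjective (f := Algebra.ofId (X.presheaf.stalk (i z)) (Z.presheaf.stalk z)) hs).toLinearEquiv
  let e := (TensorProduct.quotTensorEquivQuotSMul (F.presheaf.stalk (i z)) (RingHom.ker (i.stalkMap z).hom)).symm ≪≫ₗ
    TensorProduct.congr q (LinearEquiv.refl _ _)
  constructor
  · rw [← (M2.pullStalkEquiv i z F).length_eq,
      ← Module.length_eq_of_surjective (S := X.presheaf.stalk (i z)) (R := Z.presheaf.stalk z) hs]
    exact e.length_eq.symm
  · exact ((M2.pullStalkEquiv i z F).toEquiv.nontrivial_congr).symm.trans e.toEquiv.nontrivial_congr.symm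

end length

variable (R : Type u) [CommRing R] [IsDomain R] [IsDiscreteValuationRing R]

open Classical in
/-- The dimension function of the spectrum of a DVR. -/
noncomputable def δR : ↥(Spec (CommRingCat.of R)) → ℤ := fun p => if p = closedPoint R then 0 else 1

theorem generic_ne_closed : genericPoint ↥(Spec (CommRingCat.of R)) ≠ closedPoint R := fun e => by
  rw [genericPoint_eq_bot_of_affine] at e
  exact IsDiscreteValuationRing.not_a_field R (congrArg PrimeSpectrum.asIdeal e).symm

theorem eq_generic_or_closed (p : ↥(Spec (CommRingCat.of R))) :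
    p = genericPoint ↥(Spec (CommRingCat.of R)) ∨ p = closedPoint R := by
  by_cases h : p.asIdeal = ⊥
  · left
    rw [genericPoint_eq_bot_of_affine]
    exact PrimeSpectrum.ext h
  · right
    have hp : p.asIdeal.IsMaximal := p.2.isMaximal h
    exact PrimeSpectrum.ext (IsLocalRing.eq_maximalIdeal hp)

theorem isDimFun_δR : Cyc.IsDimFun (Spec (CommRingCat.of R)) (δR R) := by
  intro x y h hne
  rcases eq_generic_or_closed R x with rfl | rfl
  · rcases eq_generic_or_closed R y with rfl | rfl
    · exact absurd rfl hne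
    · simp only [δR, if_pos, if_neg (generic_ne_closed R)]
      exact ⟨zero_lt_one, fun _ => by norm_num⟩
  · exact absurd (IsLocalRing.isClosed_singleton_closedPoint R |>.stableUnderSpecialization h rfl).symm hne

theorem isUniversallyCatenary_stalk (p : ↥(Spec (CommRingCat.of R))) :
    CAlg.IsUniversallyCatenary ((Spec (CommRingCat.of R)).presheaf.stalk p) := by
  haveI : IsRegularRing R := isRegularRing_iff.mpr fun q _ => RegLoc.isRegularLocalRing_localization R q
  haveI := UCat.isCM_of_regular R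
  have h := UCat.isUniversallyCatenary_of_essFiniteType R (Localization.AtPrime p.asIdeal)
    (UCat.isUniversallyCatenary_of_cm R)
  let e : Localization.AtPrime p.asIdeal ≃+* (Spec (CommRingCat.of R)).presheaf.stalk p :=
    (StructureSheaf.stalkIso R p).toRingEquiv
  exact UCat.isUniversallyCatenary_of_surjective e.toRingHom e.surjective h

variable {X : Scheme.{u}} (a : X ⟶ Spec (CommRingCat.of R)) [LocallyOfFiniteType a]

/-- The dimension function of a scheme over a DVR. -/
noncomputable def δX : X → ℤ := fun x => δR R (a x) + FibDim14.rd a x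

theorem deltaCompat_δX : Cyc.DeltaCompat a (δX R a) (δR R) := fun x =>
  ⟨FibDim14.rd a x, FibDim14.rdeg_eq_rd a x, rfl⟩

theorem isDimFun_δX : Cyc.IsDimFun X (δX R a) := by
  haveI : IsLocallyNoetherian (Spec (CommRingCat.of R)) := inferInstance
  exact UCat26.isDimFun_of_deltaCompat a (isUniversallyCatenary_stalk R) (isDimFun_δR R) (deltaCompat_δX R a)

theorem δX_fiberι (s : ↥(Spec (CommRingCat.of R))) {δs : ↥(a.fiber s) → ℤ}
    (hδs : Cyc.DeltaCompat (a.fiberToSpecResidueField s) δs (fun _ => 0)) (z : a.fiber s) :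
    δX R a (a.fiberι s z) = δR R s + δs z := by
  have hs : a (a.fiberι s z) = s := (a.range_fiberι s).le ⟨z, rfl⟩
  obtain ⟨n, hn, hz⟩ := hδs z
  have h1 : FibDim14.rdeg a (a.fiberι s z) = (n : Cardinal) := by
    haveI : SurjectiveOnStalks ((Spec (CommRingCat.of R)).fromSpecResidueField s) := inferInstance
    have e1 := FibDim14.rdeg_comp (a.fiberι s) a z
    have e2 := FibDim14.rdeg_comp (a.fiberToSpecResidueField s) ((Spec (CommRingCat.of R)).fromSpecResidueField s) z
    rw [FibDim14.rdeg_eq_zero (a.fiberι s), add_zero, Scheme.Hom.fiber_fac, e2,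
      FibDim14.rdeg_eq_zero ((Spec (CommRingCat.of R)).fromSpecResidueField s), zero_add] at e1
    exact e1.symm.trans hn
  rw [hz, zero_add]
  show δR R (a (a.fiberι s z)) + (Cardinal.toNat (FibDim14.rdeg a (a.fiberι s z)) : ℤ) = _
  rw [hs, h1, Cardinal.toNat_natCast]

/-- The uniformizer in the local ring at a point of the closed fibre. -/
theorem exists_uniformizer (x : X) (hx : a x = closedPoint R) :
    ∃ g : X.presheaf.stalk x,
      Ideal.span {g} = Ideal.map (a.stalkMap x).hom (maximalIdeal ((Spec (CommRingCat.of R)).presheaf.stalk (a x))) ∧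
      (∀ (ξ : X) (h : ξ ⤳ x), a ξ = closedPoint R → Cyc.specMap x ξ h g = 0) ∧
      ∀ F : X.Modules, FlatMod.IsFlatOverAt a F x →
        Function.Injective fun m : F.presheaf.stalk x => g • m := by
  obtain ⟨p, hp⟩ := IsDiscreteValuationRing.exists_irreducible R
  let φ : R →+* (Spec (CommRingCat.of R)).presheaf.stalk (a x) := (StructureSheaf.toStalk R (a x)).hom
  letI : Algebra R ((Spec (CommRingCat.of R)).presheaf.stalk (a x)) := φ.toAlgebra
  haveI hloc : IsLocalization.AtPrime ((Spec (CommRingCat.of R)).presheaf.stalk (a x)) (a x).asIdeal :=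
    StructureSheaf.IsLocalization.to_stalk R (a x)
  have hmax : maximalIdeal ((Spec (CommRingCat.of R)).presheaf.stalk (a x)) = Ideal.span {φ p} := by
    rw [← IsLocalization.AtPrime.map_eq_maximalIdeal (a x).asIdeal ((Spec (CommRingCat.of R)).presheaf.stalk (a x)),
      show (a x).asIdeal = maximalIdeal R from congrArg PrimeSpectrum.asIdeal hx, hp.maximalIdeal_eq,
      Ideal.map_span, Set.image_singleton]
    rfl
  refine ⟨a.stalkMap x (φ p), ?_, fun ξ h hξ => ?_, fun F hF => ?_⟩
  · rw [hmax]
    exact ((Ideal.map_span _ _).trans (by rw [Set.image_singleton])).symm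
  · rw [← Cyc26.specMap_residueFieldMap a h]
    have he : a ξ = a x := hξ.trans hx.symm
    have hz : Cyc.specMap (a x) (a ξ) (h.map a.continuous) (φ p) = 0 := by
      have : IsLocalHom ((Spec (CommRingCat.of R)).presheaf.stalkSpecializes (h.map a.continuous)).hom := by
        generalize (h.map a.continuous) = h'
        revert h'
        rw [he]
        intro h'
        rw [TopCat.Presheaf.stalkSpecializes_refl]
        infer_instance
      show (Spec (CommRingCat.of R)).residue (a ξ)
        ((Spec (CommRingCat.of R)).presheaf.stalkSpecializes (h.map a.continuous) (φ p)) = 0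
      refine (IsLocalRing.residue_eq_zero_iff _).2 ?_
      exact map_nonunit _ _ (hmax ▸ Ideal.mem_span_singleton_self _)
    rw [hz, map_zero]
  · letI := FlatMod.moduleStalkOver a F x
    haveI : Module.Flat ((Spec (CommRingCat.of R)).presheaf.stalk (a x)) (F.presheaf.stalk x) := hF
    have hne : φ p ≠ 0 := by
      have hi := IsLocalization.injective ((Spec (CommRingCat.of R)).presheaf.stalk (a x))
        (M := (a x).asIdeal.primeCompl) (Ideal.primeCompl_le_nonZeroDivisors _)
      exact (map_ne_zero_iff _ hi).2 hp.ne_zero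
    haveI : IsDomain ((Spec (CommRingCat.of R)).presheaf.stalk (a x)) := inferInstance
    have := Module.Flat.isSMulRegular_of_nonZeroDivisors (R := (Spec (CommRingCat.of R)).presheaf.stalk (a x))
      (M := F.presheaf.stalk x) (mem_nonZeroDivisors_of_ne_zero hne)
    exact this

/-- Stalks of the restriction to the generic fibre. -/
theorem stalk_generic (F : X.Modules) (ζ : a.fiber (genericPoint ↥(Spec (CommRingCat.of R)))) :
    Module.length ((a.fiber _).presheaf.stalk ζ)
        (((Scheme.Modules.pullback (a.fiberι _)).obj F).presheaf.stalk ζ) =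
      Module.length (X.presheaf.stalk (a.fiberι _ ζ)) (F.presheaf.stalk (a.fiberι _ ζ)) ∧
    (Nontrivial (((Scheme.Modules.pullback (a.fiberι _)).obj F).presheaf.stalk ζ) ↔
      Nontrivial (F.presheaf.stalk (a.fiberι _ ζ))) := by
  obtain ⟨e, he⟩ := EGA43Top.exists_ringEquiv_fiber_stalk a _ ζ
  have hη : a (a.fiberι _ ζ) = genericPoint ↥(Spec (CommRingCat.of R)) := (a.range_fiberι _).le ⟨ζ, rfl⟩
  have hF : IsField ((Spec (CommRingCat.of R)).presheaf.stalk (a (a.fiberι _ ζ))) := by
    rw [hη]; exact Field.toIsField (Spec (CommRingCat.of R)).functionField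
  have hI : RingHom.ker ((a.fiberι _).stalkMap ζ).hom = ⊥ := by
    refine (eq_bot_iff.2 fun b hb => ?_)
    have h1 : e (Ideal.Quotient.mk _ b) = 0 := (he b).trans hb
    rw [← e.map_zero, e.injective.eq_iff, Ideal.Quotient.eq_zero_iff_mem,
      IsLocalRing.isField_iff_maximalIdeal_eq.1 hF, Ideal.map_bot] at h1
    exact h1
  obtain ⟨h1, h2⟩ := stalk_pullback_of_surjective (a.fiberι _) F ζ
    ((a.fiberι _).stalkMap_surjective ζ) ⊥ hI
  let q := Submodule.quotEquivOfEqBot ((⊥ : Ideal (X.presheaf.stalk (a.fiberι _ ζ))) •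
    (⊤ : Submodule (X.presheaf.stalk (a.fiberι _ ζ)) (F.presheaf.stalk (a.fiberι _ ζ)))) (Submodule.bot_smul _)
  exact ⟨h1.trans q.length_eq, h2.trans q.toEquiv.nontrivial_congr⟩

/-- Stalks of the restriction to the closed fibre. -/
theorem stalk_closed (F : X.Modules) (z : a.fiber (closedPoint R)) (g : X.presheaf.stalk (a.fiberι _ z))
    (hg : Ideal.span {g} = Ideal.map (a.stalkMap (a.fiberι _ z)).hom
      (maximalIdeal ((Spec (CommRingCat.of R)).presheaf.stalk (a (a.fiberι _ z))))) :
    Module.length ((a.fiber _).presheaf.stalk z)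
        (((Scheme.Modules.pullback (a.fiberι _)).obj F).presheaf.stalk z) =
      Module.length (X.presheaf.stalk (a.fiberι _ z)) (F.presheaf.stalk (a.fiberι _ z) ⧸
        g • (⊤ : Submodule (X.presheaf.stalk (a.fiberι _ z)) (F.presheaf.stalk (a.fiberι _ z)))) ∧
    (Nontrivial (((Scheme.Modules.pullback (a.fiberι _)).obj F).presheaf.stalk z) →
      Nontrivial (F.presheaf.stalk (a.fiberι _ z))) := by
  obtain ⟨e, he⟩ := EGA43Top.exists_ringEquiv_fiber_stalk a _ z
  have hI : RingHom.ker ((a.fiberι _).stalkMap z).hom = Ideal.span {g} := by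
    ext b
    rw [RingHom.mem_ker, hg, ← Ideal.Quotient.eq_zero_iff_mem, ← e.injective.eq_iff, map_zero]
    exact Iff.of_eq (congrArg (· = 0) (he b).symm)
  obtain ⟨h1, h2⟩ := stalk_pullback_of_surjective (a.fiberι _) F z
    ((a.fiberι _).stalkMap_surjective z) _ hI
  refine ⟨h1.trans ?_, fun h => ?_⟩
  · rw [Submodule.ideal_span_singleton_smul]
  · haveI := h2.1 h
    exact Function.Surjective.nontrivial (Submodule.mkQ_surjective (Ideal.span {g} •
      (⊤ : Submodule (X.presheaf.stalk (a.fiberι (closedPoint R) z)) (F.presheaf.stalk (a.fiberι (closedPoint R) z)))))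

/-- The support of a flat sheaf on the closed fibre is bounded by that on the generic fibre. -/
theorem delta_le [IsLocallyNoetherian X] {F : X.Modules} (hF : Coh.IsCoh F) (hflat : FlatMod.IsFlatOver a F) {r : ℤ}
    (hη : ∀ z : X, a z = genericPoint ↥(Spec (CommRingCat.of R)) → Nontrivial (F.presheaf.stalk z) →
      δX R a z ≤ r + 1)
    {x : X} (hx : a x = closedPoint R) (hnt : Nontrivial (F.presheaf.stalk x)) : δX R a x ≤ r := by
  obtain ⟨g, -, hg0, hreg⟩ := exists_uniformizer R a x hx
  haveI := finite_stalk hF.1 (isFP_isFT (isFP_of_isCoh hF)) x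
  obtain ⟨P, hP, -⟩ := Ideal.exists_minimalPrimes_le (I := Module.annihilator (X.presheaf.stalk x) (F.presheaf.stalk x))
    (J := maximalIdeal _) (IsLocalRing.le_maximalIdeal fun h => by
      rw [Module.annihilator_eq_top_iff] at h
      exact not_subsingleton _ h)
  have hgP : g ∉ P := fun hin => by
    have h3 : g ∈ ⋃ p ∈ associatedPrimes (X.presheaf.stalk x) (F.presheaf.stalk x), (p : Set (X.presheaf.stalk x)) :=
      Set.mem_biUnion (Module.associatedPrimes.minimalPrimes_annihilator_subset_associatedPrimes _ _ hP) hin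
    rw [biUnion_associatedPrimes_eq_zero_divisors] at h3
    obtain ⟨m, hm, hgm⟩ := h3
    exact hm (hreg F (hflat x) (hgm.trans (smul_zero g).symm))
  let q : PrimeSpectrum (X.presheaf.stalk x) := ⟨P, hP.1.1⟩
  let ξ := X.fromSpecStalk x q
  have h : ξ ⤳ x := by
    have hr : ξ ∈ Set.range (X.fromSpecStalk x) := ⟨q, rfl⟩
    rw [Scheme.range_fromSpecStalk] at hr
    exact hr
  have hq : q = ⟨RingHom.ker (Cyc.specMap x ξ h), RingHom.ker_isPrime _⟩ :=
    (X.fromSpecStalk x).isEmbedding.injective (UCat26.fromSpecStalk_ker h).symm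
  have hξnt : Nontrivial (F.presheaf.stalk ξ) := by
    refine (Cyc26.mem_support_stalk_iff hF.1 h).1 ?_
    rw [← hq, Module.support_eq_zeroLocus, PrimeSpectrum.mem_zeroLocus]
    exact hP.1.2
  have hsξ : a ξ = genericPoint ↥(Spec (CommRingCat.of R)) := (eq_generic_or_closed R (a ξ)).resolve_right fun e => by
    refine hgP ?_
    have : g ∈ RingHom.ker (Cyc.specMap x ξ h) := hg0 ξ h e
    exact (congrArg PrimeSpectrum.asIdeal hq).ge this
  have hne : ξ ≠ x := fun e => generic_ne_closed R (hsξ.symm.trans ((congrArg a e).trans hx))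
  have h1 := (isDimFun_δX R a ξ x h hne).1
  have h2 := hη ξ hsξ hξnt
  omega

/-- Specialisation sends the cycle of the generic fibre of a flat sheaf to that of the closed fibre. -/
theorem spFun_sheafFun [IsLocallyNoetherian X] {δη : ↥(a.fiber (genericPoint ↥(Spec (CommRingCat.of R)))) → ℤ}
    {δs : ↥(a.fiber (closedPoint R)) → ℤ}
    (hδη : Cyc.DeltaCompat (a.fiberToSpecResidueField (genericPoint ↥(Spec (CommRingCat.of R)))) δη (fun _ => 0))
    (hδs : Cyc.DeltaCompat (a.fiberToSpecResidueField (closedPoint R)) δs (fun _ => 0))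
    (r : ℤ) (F : X.Modules) (hF : Coh.IsCoh F) (hflat : FlatMod.IsFlatOver a F)
    (hdim : ∀ ζ : ↥(a.fiber (genericPoint ↥(Spec (CommRingCat.of R)))),
      Nontrivial (F.presheaf.stalk (a.fiberι _ ζ)) → δη ζ ≤ r) :
    (∀ x : ↥(a.fiber (closedPoint R)),
      Nontrivial (((Scheme.Modules.pullback (a.fiberι _)).obj F).presheaf.stalk x) → δs x ≤ r) ∧
    Cyc.spFun a (genericPoint ↥(Spec (CommRingCat.of R))) (closedPoint R) δη δs r
        (Cyc.sheafFun δη r ((Scheme.Modules.pullback (a.fiberι _)).obj F)) =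
      Cyc.sheafFun δs r ((Scheme.Modules.pullback (a.fiberι _)).obj F) := by
  classical
  have hδg : δR R (genericPoint ↥(Spec (CommRingCat.of R))) = 1 := if_neg (generic_ne_closed R)
  have hδc : δR R (closedPoint R) = 0 := if_pos rfl
  have hX : ∀ ζ, δX R a (a.fiberι _ ζ) = 1 + δη ζ := fun ζ => by rw [δX_fiberι R a _ hδη, hδg]
  have hXs : ∀ z, δX R a (a.fiberι _ z) = δs z := fun z => by rw [δX_fiberι R a _ hδs, hδc, zero_add]
  have hgen : ∀ z : X, a z = genericPoint ↥(Spec (CommRingCat.of R)) → Nontrivial (F.presheaf.stalk z) →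
      δX R a z ≤ r + 1 := fun z hz hnt => by
    obtain ⟨ζ, rfl⟩ := (a.range_fiberι _).ge hz
    rw [hX]
    have := hdim ζ hnt
    omega
  have hclo : ∀ z : X, a z = closedPoint R → Nontrivial (F.presheaf.stalk z) → δX R a z ≤ r := fun z hz hnt =>
    delta_le R a hF hflat hgen hz hnt
  have hall : ∀ z : X, Nontrivial (F.presheaf.stalk z) → δX R a z ≤ r + 1 := fun z hnt => by
    rcases eq_generic_or_closed R (a z) with h | h
    · exact hgen z h hnt
    · exact (hclo z h hnt).trans (by omega)
  have hpt : ∀ x, a (a.fiberι (closedPoint R) x) = closedPoint R := fun x => (a.range_fiberι _).le ⟨x, rfl⟩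
  refine ⟨fun x hx => ?_, funext fun x => ?_⟩
  · obtain ⟨g, hg, -, -⟩ := exists_uniformizer R a _ (hpt x)
    rw [← hXs]
    exact hclo _ (hpt x) ((stalk_closed R a F x g hg).2 hx)
  simp only [Cyc.spFun, Cyc.sheafFun]
  by_cases hxr : δs x = r
  swap
  · rw [if_neg hxr, if_neg hxr]
  rw [if_pos hxr, if_pos hxr]
  obtain ⟨g, hg, hg0, hreg⟩ := exists_uniformizer R a _ (hpt x)
  obtain ⟨T, hT, hTg, hTsum⟩ := Cyc26.length_quot_stalk (isDimFun_δX R a) hF hall
    (x := a.fiberι _ x) ((hXs x).trans hxr) g (hreg F (hflat _))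
  rw [(stalk_closed R a F x g hg).1, hTsum]
  let P := fun ζ : ↥(a.fiber (genericPoint ↥(Spec (CommRingCat.of R)))) =>
    δη ζ = r ∧ a.fiberι _ ζ ⤳ a.fiberι (closedPoint R) x
  let S : Finset {ζ // P ζ} := T.preimage (fun ζ => a.fiberι _ ζ.1)
    (fun _ _ _ _ e => Subtype.ext ((a.fiberι _).isEmbedding.injective e))
  have hS : ∀ ζ : {ζ // P ζ}, ζ ∈ S ↔ a.fiberι _ ζ.1 ∈ T := fun ζ => Finset.mem_preimage
  rw [finsum_eq_sum_of_support_subset (s := S)]
  swap
  · intro ζ hζ
    rw [Finset.mem_coe, hS, hT]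
    refine ⟨?_, ζ.2.2, by rw [hX, ζ.2.1, add_comm]⟩
    by_contra hn
    rw [not_nontrivial_iff_subsingleton, ← Module.length_eq_zero_iff (R := X.presheaf.stalk (a.fiberι _ ζ.1))] at hn
    apply hζ
    simp only [if_pos ζ.2.1, (stalk_generic R a F ζ.1).1, hn, ENat.toNat_zero, Nat.cast_zero, zero_mul]
  refine Finset.sum_bij (fun ζ _ => a.fiberι _ ζ.1) (fun ζ hζ => (hS ζ).1 hζ)
    (fun ζ _ ζ' _ e => Subtype.ext ((a.fiberι _).isEmbedding.injective e)) ?_ ?_
  · intro ξ hξ
    obtain ⟨-, h, hd⟩ := (hT ξ).1 hξ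
    have hs : a ξ = genericPoint ↥(Spec (CommRingCat.of R)) :=
      (eq_generic_or_closed R (a ξ)).resolve_right fun e => hTg ξ hξ h (hg0 ξ h e)
    obtain ⟨ζ, rfl⟩ := (a.range_fiberι _).ge hs
    rw [hX] at hd
    exact ⟨⟨ζ, by omega, h⟩, (hS _).2 hξ, rfl⟩
  · intro ζ hζ
    have hξ := (hS ζ).1 hζ
    obtain ⟨-, h, hd⟩ := (hT _).1 hξ
    rw [dif_pos h, if_pos ζ.2.1, (stalk_generic R a F ζ.1).1]
    congr 1
    have hne : g ∉ RingHom.ker (Cyc.specMap (a.fiberι (closedPoint R) x) (a.fiberι _ ζ.1) h) := fun e => hTg _ hξ h e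
    rw [(Cyc26.ordAt_mk (isDimFun_δX R a) h (by rw [hXs, hxr, hd]) hne).1]
    congr 2
    rw [Ring.ord, ← Ideal.map_map, ← hg, Ideal.map_span, Set.image_singleton]
    exact Module.length_eq_of_surjective Ideal.Quotient.mk_surjective

end Groth.Agent.Cyc26Sp
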