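import Groth.Agent.Lib.Cyc26.RatFun
import Groth.Agent.Lib.Cyc26.C1Gys
import Groth.Agent.Lib.Cyc26.PushDiv
import Groth.Agent.Lib.Cyc26.GysFun
import Groth.Agent.Lib.Cyc26.ClosedSetup
import Groth.Agent.Lib.Cyc26.Special

/-! # Exactness in the middle of the Mayer–Vietoris sequence for Chow groups -/

set_option autoImplicit false
universe u

set_option backward.isDefEq.respectTransparency.types false

open CategoryTheory AlgebraicGeometry TopologicalSpace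
open scoped Classical

namespace Groth.Agent.Cyc26

variable {X : Scheme.{u}} {δ : X → ℤ} {k : ℤ}

theorem map_closed_apply {D : Scheme.{u}} (i : D ⟶ X) [IsClosedImmersion i] (a : AlgebraicCycle D ℤ) (d : D) :
    AlgebraicCycle.map i (fun d => δ (i d)) δ a (i d) = a d := by
  rw [map_apply_eq_sum i _ δ a (i d) {d} (by simp)
      (fun z hz _ _ => Finset.mem_singleton.2 (i.isClosedEmbedding.injective hz)), Finset.sum_singleton,
    AlgebraicCycle.mapCoeff, if_pos rfl,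
    residueDegree_of_bijective i d (residueFieldMap_bijective i d), Nat.cast_one, mul_one]

theorem map_closed_notMem {D : Scheme.{u}} (i : D ⟶ X) [IsClosedImmersion i] (δD : D → ℤ) (a : AlgebraicCycle D ℤ)
    {x : X} (hx : x ∉ Set.range i) : AlgebraicCycle.map i δD δ a x = 0 := by
  rw [map_apply_eq_sum i δD δ a x ∅ (by simp) (fun z hz _ _ => (hx ⟨z, hz⟩).elim), Finset.sum_empty]

namespace RatFun

variable {S : Set X} {G : X → ℤ}

theorem eq_zero_off {Z : Set X} (hZ : IsClosed Z) (hS : S ⊆ Z) (hG : RatFun δ k S G) {x : X} (hx : x ∉ Z) :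
    G x = 0 := by
  obtain ⟨ι, ξ, f, -, -, h3, -, h5⟩ := hG
  rw [h5]
  refine finsum_eq_zero_of_forall_eq_zero fun i => ?_
  by_contra hne
  exact hx ((specializes_of_divFun_ne_zero hne).1.mem_closed hZ (hS (h3 i)))

theorem eq_zero_of_dim (hG : RatFun δ k S G) {x : X} (hx : δ x ≠ k) : G x = 0 := by
  obtain ⟨ι, ξ, f, h1, -, -, -, h5⟩ := hG
  rw [h5]
  refine finsum_eq_zero_of_forall_eq_zero fun i => ?_
  by_contra hne
  have := (specializes_of_divFun_ne_zero hne).2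
  rw [h1] at this
  omega

theorem exists_cycle [IsLocallyNoetherian X] (hd : Cyc.IsDimFun X δ) (hG : RatFun δ k S G) :
    ∃ c : AlgebraicCycle X ℤ, ∀ x, c x = G x := by
  obtain ⟨ι, ξ, f, -, -, -, h4, h5⟩ := hG
  obtain ⟨c, hc⟩ := exists_cycle_sum_divFun hd ξ f h4
  exact ⟨c, fun x => (hc x).trans (h5 x).symm⟩

/-- Split according to membership of the points in a set. -/
theorem split (hG : RatFun δ k S G) (T : Set X) :
    ∃ G₁ G₂ : X → ℤ, RatFun δ k (S ∩ T) G₁ ∧ RatFun δ k (S ∩ Tᶜ) G₂ ∧ ∀ x, G x = G₁ x + G₂ x := by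
  obtain ⟨ι, ξ, f, h1, h2, h3, h4, h5⟩ := hG
  let G₁ : X → ℤ := fun x => ∑ᶠ i : {i : ι // ξ i ∈ T}, Cyc.divFun δ (ξ i.1) (f i.1) x
  let G₂ : X → ℤ := fun x => ∑ᶠ i : {i : ι // ξ i ∉ T}, Cyc.divFun δ (ξ i.1) (f i.1) x
  have hlf : ∀ p : ι → Prop, ∀ x : X, ∃ U : Set X, IsOpen U ∧ x ∈ U ∧
      {i : {i : ι // p i} | (closure {ξ i.1} ∩ U).Nonempty}.Finite := fun p x => by
    obtain ⟨U, hU, hxU, hfin⟩ := h4 x
    exact ⟨U, hU, hxU, Set.Finite.subset
      (hfin.preimage (f := (Subtype.val : {i : ι // p i} → ι)) Subtype.val_injective.injOn) fun i hi => hi⟩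
  refine ⟨G₁, G₂, ?_, ?_, fun x => ?_⟩
  · refine ⟨{i : ι // ξ i ∈ T}, fun i => ξ i.1, fun i => f i.1, fun i => h1 i.1, fun i => h2 i.1,
      fun i => ⟨h3 i.1, i.2⟩, hlf (fun i => ξ i ∈ T), fun x => ?_⟩
    simp only [G₁]
  · refine ⟨{i : ι // ξ i ∉ T}, fun i => ξ i.1, fun i => f i.1, fun i => h1 i.1, fun i => h2 i.1,
      fun i => ⟨h3 i.1, i.2⟩, hlf (fun i => ξ i ∉ T), fun x => ?_⟩
    simp only [G₂]
  rw [h5]
  simp only [G₁, G₂]
  let F : ι → ℤ := fun i => Cyc.divFun δ (ξ i) (f i) x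
  have hF : (Function.support F).Finite := finite_support_family (δ := δ) f h4 x
  show ∑ᶠ i, F i = (∑ᶠ i : {i : ι // ξ i ∈ T}, F i.1) + ∑ᶠ i : {i : ι // ξ i ∉ T}, F i.1
  rw [finsum_subtype_eq_finsum_cond (f := F) (fun i => ξ i ∈ T),
    finsum_subtype_eq_finsum_cond (f := F) (fun i => ξ i ∉ T)]
  simp only [finsum_eq_if]
  rw [← finsum_add_distrib (hF.subset fun i hi h => hi (by simp only [h, ite_self]))
    (hF.subset fun i hi h => hi (by simp only [h, ite_self]))]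
  exact finsum_congr fun i => by by_cases h : ξ i ∈ T <;> simp [h]

end RatFun

variable {X₁ X₂ Y : Scheme.{u}}

/-- If `α₁` and `α₂` have rationally equivalent push-forwards to `X = X₁ ∪ X₂`, both come from the
intersection up to rational equivalence. -/
theorem mv_exact [IsLocallyNoetherian X] (hd : Cyc.IsDimFun X δ) (i₁ : X₁ ⟶ X) (i₂ : X₂ ⟶ X) [IsClosedImmersion i₁]
    [IsClosedImmersion i₂] (hcov : Set.range i₁ ∪ Set.range i₂ = Set.univ) (j₁ : Y ⟶ X₁) (j₂ : Y ⟶ X₂)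
    [IsClosedImmersion j₁] [IsClosedImmersion j₂] (hcomm : j₁ ≫ i₁ = j₂ ≫ i₂)
    (hY : Set.range i₁ ∩ Set.range i₂ ⊆ Set.range (j₁ ≫ i₁))
    (α₁ : AlgebraicCycle X₁ ℤ) (α₂ : AlgebraicCycle X₂ ℤ)
    (h₁ : α₁ ∈ Cyc.Zk X₁ (fun x => δ (i₁ x)) k) {G : X → ℤ} (hG : RatFun δ k Set.univ G)
    (hGe : ∀ x, G x = AlgebraicCycle.map i₁ (fun x => δ (i₁ x)) δ α₁ x -
      AlgebraicCycle.map i₂ (fun x => δ (i₂ x)) δ α₂ x) :
    ∃ β : AlgebraicCycle Y ℤ, β ∈ Cyc.Zk Y (fun y => δ (i₁ (j₁ y))) k ∧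
      (∃ c : AlgebraicCycle X₁ ℤ, Cyc.RatEquivZero (fun x => δ (i₁ x)) k c ∧
        ∀ x, c x = α₁ x - AlgebraicCycle.map j₁ (fun y => δ (i₁ (j₁ y))) (fun x => δ (i₁ x)) β x) ∧
      (∃ c : AlgebraicCycle X₂ ℤ, Cyc.RatEquivZero (fun x => δ (i₂ x)) k c ∧
        ∀ x, c x = α₂ x - AlgebraicCycle.map j₂ (fun y => δ (i₁ (j₁ y))) (fun x => δ (i₂ x)) β x) := by
  obtain ⟨G₁, G₂, hG₁, hG₂, hadd⟩ := hG.split (Set.range i₁)
  have hS₂ : Set.univ ∩ (Set.range i₁)ᶜ ⊆ Set.range i₂ := fun x hx =>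
    (hcov.symm.subset hx.1).resolve_left hx.2
  have hc₁ : IsClosed (Set.range i₁) := i₁.isClosedEmbedding.isClosed_range
  have hc₂ : IsClosed (Set.range i₂) := i₂.isClosedEmbedding.isClosed_range
  obtain ⟨c₁, hc₁'⟩ := hG₁.exists_cycle hd
  obtain ⟨c₂, hc₂'⟩ := hG₂.exists_cycle hd
  obtain ⟨e₁, he₁⟩ := exists_cycle_restrict i₁ c₁
  obtain ⟨e₂, he₂⟩ := exists_cycle_restrict i₂ c₂
  obtain ⟨β, hβ⟩ := exists_cycle_restrict j₁ (α₁ - e₁)
  have hβ' : ∀ y, β y = α₁ (j₁ y) - G₁ (i₁ (j₁ y)) := fun y => by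
    rw [hβ]
    show α₁ (j₁ y) - e₁ (j₁ y) = _
    rw [he₁, hc₁']
  have hcomm' : ∀ y, i₁ (j₁ y) = i₂ (j₂ y) := fun y => congrArg (fun g : Y ⟶ X => g y) hcomm
  refine ⟨β, fun y hy => ?_, ⟨e₁, hG₁.toClosed i₁ Set.inter_subset_right (fun d => (he₁ d).trans (hc₁' _)), fun x => ?_⟩,
    ⟨-e₂, (hG₂.neg).toClosed i₂ hS₂ (fun d => congrArg Neg.neg ((he₂ d).trans (hc₂' _))), fun x => ?_⟩⟩
  · rw [hβ', h₁ _ hy, hG₁.eq_zero_of_dim hy, sub_zero]
  · rw [he₁, hc₁']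
    by_cases hx : x ∈ Set.range j₁
    · obtain ⟨y, rfl⟩ := hx
      rw [map_closed_apply (δ := fun x => δ (i₁ x)) j₁ β y, hβ', sub_sub_cancel]
    · have hx2 : i₁ x ∉ Set.range i₂ := fun h => by
        obtain ⟨y, hy⟩ := hY ⟨⟨x, rfl⟩, h⟩
        exact hx ⟨y, i₁.isClosedEmbedding.injective hy⟩
      rw [map_closed_notMem j₁ _ β hx, sub_zero]
      have := hGe (i₁ x)
      rw [map_closed_apply, map_closed_notMem i₂ _ α₂ hx2, sub_zero, hadd,
        hG₂.eq_zero_off hc₂ hS₂ hx2, add_zero] at this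
      exact this
  · show - e₂ x = _
    rw [he₂, hc₂']
    by_cases hx : x ∈ Set.range j₂
    · obtain ⟨y, rfl⟩ := hx
      have hδ : (fun y => δ (i₁ (j₁ y))) = fun y => δ (i₂ (j₂ y)) := funext fun y => congrArg δ (hcomm' y)
      rw [hδ, map_closed_apply (δ := fun x => δ (i₂ x)) j₂ β y, hβ']
      have := hGe (i₁ (j₁ y))
      rw [map_closed_apply, hcomm' y, map_closed_apply, ← hcomm' y, hadd] at this
      rw [← hcomm' y]
      linarith
    · have hx1 : i₂ x ∉ Set.range i₁ := fun h => by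
        obtain ⟨y, hy⟩ := hY ⟨h, ⟨x, rfl⟩⟩
        exact hx ⟨y, i₂.isClosedEmbedding.injective ((hcomm' y).symm.trans hy)⟩
      rw [map_closed_notMem j₂ _ β hx, sub_zero]
      have := hGe (i₂ x)
      rw [map_closed_apply, map_closed_notMem i₁ _ α₁ hx1, zero_sub, hadd,
        hG₁.eq_zero_off hc₁ Set.inter_subset_right hx1, zero_add] at this
      linarith

/-- Every cycle on `X₁ ∪ X₂` is a sum of cycles from `X₁` and `X₂`. -/
theorem mv_surjective (i₁ : X₁ ⟶ X) (i₂ : X₂ ⟶ X) [IsClosedImmersion i₁]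
    [IsClosedImmersion i₂] (hcov : Set.range i₁ ∪ Set.range i₂ = Set.univ) (α : AlgebraicCycle X ℤ)
    (hα : α ∈ Cyc.Zk X δ k) :
    ∃ (α₁ : AlgebraicCycle X₁ ℤ) (α₂ : AlgebraicCycle X₂ ℤ),
      α₁ ∈ Cyc.Zk X₁ (fun x => δ (i₁ x)) k ∧ α₂ ∈ Cyc.Zk X₂ (fun x => δ (i₂ x)) k ∧
      α = AlgebraicCycle.map i₁ (fun x => δ (i₁ x)) δ α₁ + AlgebraicCycle.map i₂ (fun x => δ (i₂ x)) δ α₂ := by
  obtain ⟨α₁, hα₁⟩ := exists_cycle_restrict i₁ α
  obtain ⟨α₂, hα₂⟩ := exists_cycle_restrict i₂ (α - AlgebraicCycle.map i₁ (fun x => δ (i₁ x)) δ α₁)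
  have hv : ∀ x, α₂ x = α (i₂ x) - AlgebraicCycle.map i₁ (fun x => δ (i₁ x)) δ α₁ (i₂ x) := hα₂
  refine ⟨α₁, α₂, fun x hx => (hα₁ x).trans (hα _ hx), fun x hx => ?_, DFunLike.ext _ _ fun x => ?_⟩
  · rw [hv, hα _ hx]
    by_cases h : i₂ x ∈ Set.range i₁
    · obtain ⟨x', hx'⟩ := h
      rw [← hx', map_closed_apply, hα₁, hx', hα _ hx, sub_zero]
    · rw [map_closed_notMem i₁ _ α₁ h, sub_zero]
  · show α x = AlgebraicCycle.map i₁ (fun x => δ (i₁ x)) δ α₁ x + AlgebraicCycle.map i₂ (fun x => δ (i₂ x)) δ α₂ x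
    by_cases h : x ∈ Set.range i₂
    · obtain ⟨x', rfl⟩ := h
      rw [map_closed_apply, hv]; ring
    · obtain ⟨x', rfl⟩ := (hcov.symm.subset (Set.mem_univ x)).resolve_right h
      rw [map_closed_notMem i₂ _ α₂ h, map_closed_apply, hα₁, add_zero]

/-- The local ring of the spectrum of a field is universally catenary. -/
theorem isUniversallyCatenary_stalk_field (K : Type u) [Field K] (p : ↥(Spec (CommRingCat.of K))) :
    CAlg.IsUniversallyCatenary ((Spec (CommRingCat.of K)).presheaf.stalk p) := by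
  haveI : IsRegularRing K := isRegularRing_iff.mpr fun q _ => RegLoc.isRegularLocalRing_localization K q
  haveI := UCat.isCM_of_regular K
  have h := UCat.isUniversallyCatenary_of_essFiniteType K (Localization.AtPrime p.asIdeal)
    (UCat.isUniversallyCatenary_of_cm K)
  let e : Localization.AtPrime p.asIdeal ≃+* (Spec (CommRingCat.of K)).presheaf.stalk p :=
    (StructureSheaf.stalkIso K p).toRingEquiv
  exact UCat.isUniversallyCatenary_of_surjective e.toRingHom e.surjective h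

end Groth.Agent.Cyc26
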