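import Groth.Agent.Lib.Cyc26.ZigzagStalk
import Groth.Agent.Lib.Cyc26.DegC1
import Groth.Agent.Lib.Cyc26.C1Apps
import Groth.Agent.Lib.Cyc26.PushRat
import Groth.Agent.Lib.Cyc26.MVExact
import Groth.Agent.Lib.NumPoly18.Num

/-! # Intersection numbers are degrees of iterated first Chern classes -/

set_option autoImplicit false
set_option linter.style.haveILetI false
universe u

set_option backward.isDefEq.respectTransparency.types false

open CategoryTheory CategoryTheory.Limits AlgebraicGeometry TopologicalSpace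
open scoped Classical

namespace Groth.Agent.Cyc26

variable {X : Scheme.{u}}

section SecMap

variable {L N : X.Modules}

/-- The image of a rational section under an isomorphism. -/
noncomputable def secMap (e : L ⟶ N) (ξ : X) : Cyc.secFibre L ξ →ₗ[X.presheaf.stalk ξ] Cyc.secFibre N ξ :=
  Submodule.mapQ _ _ (CurveCoh17.stalkLin e ξ) (by
    rw [← Submodule.map_le_iff_le_comap, Submodule.map_smul'']
    exact Submodule.smul_mono le_rfl le_top)

theorem secMap_fmk (e : L ⟶ N) (ξ : X) (m : L.presheaf.stalk ξ) :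
    secMap e ξ (fmk L ξ m) = fmk N ξ (CurveCoh17.stalkLin e ξ m) := rfl

theorem secMap_iso (e : L ≅ N) (hL : PicF.IsInvertible L) (hN : PicF.IsInvertible N) (ξ : X) {s : Cyc.secFibre L ξ}
    (hs : s ≠ 0) : secMap e.hom ξ s ≠ 0 ∧ ∀ (δ : X → ℤ) (x : X),
      Cyc.secDivFun δ N ξ (secMap e.hom ξ s) x = Cyc.secDivFun δ L ξ s x := by
  have hgen : ∀ (x : X) (g : L.presheaf.stalk x), Amp.Gen g → Amp.Gen (CurveCoh17.stalkLin e.hom x g) := fun x g hg => by
    have hb : Function.Bijective (CurveCoh17.stalkLin e.hom x) := (M1.isIso_iff_stalk e.hom).1 inferInstance x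
    show Function.Bijective fun r : X.presheaf.stalk x => r • CurveCoh17.stalkLin e.hom x g
    rw [show (fun r : X.presheaf.stalk x => r • CurveCoh17.stalkLin e.hom x g) =
      CurveCoh17.stalkLin e.hom x ∘ fun r : X.presheaf.stalk x => r • g from funext fun r => (map_smul _ r g).symm]
    exact hb.comp hg
  obtain ⟨g₀, hg₀⟩ := exists_gen hL ξ
  obtain ⟨ψ₀, hψ₀, rfl⟩ := exists_rep_gen hg₀ hs
  refine ⟨by rw [map_smul, secMap_fmk]; exact smul_ne_zero_of_residue (hgen ξ g₀ hg₀) hψ₀, fun δ x => ?_⟩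
  simp only [Cyc.secDivFun]
  split_ifs with h
  swap
  · rfl
  obtain ⟨g, hg⟩ := exists_gen hL x
  obtain ⟨ψ, hψ, hψe⟩ := exists_rep_gen (gen_stalkSpecializes hL h.1 hg) hs
  rw [hψe, secOrdAt_gen hL h.1 hg ψ hψ, map_smul, secMap_fmk, ← stalkLin_natural,
    secOrdAt_gen hN h.1 (hgen x g hg) ψ hψ]

/-- Rational sections of inverse modules have opposite divisors up to a principal divisor. -/
theorem exists_secDiv_add_eq_divFun {A : X.Modules} (hA : PicF.IsInvertible A) (hL : PicF.IsInvertible L)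
    (e : CohB1.tensorMod A L ≅ Coh.structureModule X) {ξ : X} {v : Cyc.secFibre A ξ} (hv : v ≠ 0)
    {s : Cyc.secFibre L ξ} (hs : s ≠ 0) : ∃ f : X.residueField ξ, f ≠ 0 ∧ ∀ (δ : X → ℤ) (x : X),
      Cyc.secDivFun δ A ξ v x + Cyc.secDivFun δ L ξ s x = Cyc.divFun δ ξ f x := by
  obtain ⟨hne, heq⟩ := secMap_iso e (Groth.Agent.M2.isInvertible_tensor hA hL) isInvertible_structure ξ
    (secTensor_ne_zero hA hL hv hs)
  obtain ⟨ψ, hψ, hψe⟩ := exists_rep ξ hne
  exact ⟨_, hψ, fun δ x => by rw [← secDivFun_secTensor hA hL δ hv hs x, ← heq, hψe, secDivFun_structure ξ ψ hψ x]⟩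

end SecMap

variable {k : Type u} [Field k] [X.Over (Spec (CommRingCat.of k))] [IsProper (X ↘ Spec (CommRingCat.of k))]
  {δ : X → ℤ}

variable (k δ) in
/-- The degree of an iterated intersection with first Chern classes. -/
noncomputable def capDeg : ∀ (r : ℕ) (L : Fin r → X.Modules), ((i : Fin r) → (ξ : X) → Cyc.secFibre (L i) ξ) →
    (X → ℤ) → ℤ
  | 0, _, _, a => ∑ᶠ x : X, ((X ↘ Spec (CommRingCat.of k)).residueDegree x : ℤ) * a x
  | r + 1, L, s, a => capDeg r (fun i => L i.succ) (fun i => s i.succ) (Cyc.c1CapFun δ (L 0) a (s 0))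

theorem capDeg_zero_apply (L : Fin 0 → X.Modules) (s : (i : Fin 0) → (ξ : X) → Cyc.secFibre (L i) ξ) (a : X → ℤ) :
    capDeg k δ 0 L s a = ∑ᶠ x : X, ((X ↘ Spec (CommRingCat.of k)).residueDegree x : ℤ) * a x := rfl

theorem capDeg_succ {r : ℕ} (L : Fin (r + 1) → X.Modules) (s : (i : Fin (r + 1)) → (ξ : X) → Cyc.secFibre (L i) ξ)
    (a : X → ℤ) : capDeg k δ (r + 1) L s a =
      capDeg k δ r (fun i => L i.succ) (fun i => s i.succ) (Cyc.c1CapFun δ (L 0) a (s 0)) := rfl

section
variable (hd : Cyc.IsDimFun X δ)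
include k hd

theorem finite_support_secDivFun {L : X.Modules} (hL : PicF.IsInvertible L) (ξ : X) {s : Cyc.secFibre L ξ}
    (hs : s ≠ 0) : (Function.support (Cyc.secDivFun δ L ξ s)).Finite := by
  haveI := CohFound.isNoetherian_of_isProper (X ↘ Spec (CommRingCat.of k))
  obtain ⟨a, ha⟩ := exists_cycle_secDivFun hL hd ξ hs
  exact ha ▸ Cyc26Lim.finite_support a

theorem finite_support_c1Cap {L : X.Modules} (hL : PicF.IsInvertible L) {a : X → ℤ} (ha : (Function.support a).Finite)
    {s : (ξ : X) → Cyc.secFibre L ξ} (hs : ∀ ξ, s ξ ≠ 0) : (Function.support (Cyc.c1CapFun δ L a s)).Finite := by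
  refine (ha.biUnion fun ξ _ => finite_support_secDivFun (k := k) hd hL ξ (hs ξ)).subset fun x hx => ?_
  obtain ⟨ξ, hξ⟩ : ∃ ξ, a ξ * Cyc.secDivFun δ L ξ (s ξ) x ≠ 0 := by
    by_contra hc
    push Not at hc
    exact hx (finsum_eq_zero_of_forall_eq_zero hc)
  exact Set.mem_biUnion (show ξ ∈ Function.support a from left_ne_zero_of_mul hξ) (right_ne_zero_of_mul hξ)

theorem capDeg_sum : ∀ (r : ℕ) (L : Fin r → X.Modules), (∀ i, PicF.IsInvertible (L i)) →
    ∀ (s : (i : Fin r) → (ξ : X) → Cyc.secFibre (L i) ξ), (∀ i ξ, s i ξ ≠ 0) →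
    ∀ {ι : Type u} (T : Finset ι) (c : ι → ℤ) (a : ι → X → ℤ), (∀ i ∈ T, (Function.support (a i)).Finite) →
      capDeg k δ r L s (fun x => ∑ i ∈ T, c i * a i x) = ∑ i ∈ T, c i * capDeg k δ r L s (a i) := by
  intro r
  induction r with
  | zero =>
    intro L _ s _ ι T c a ha
    simp only [capDeg_zero_apply]
    rw [finsum_congr fun x => by rw [Finset.mul_sum], finsum_sum_comm T _ fun i hi => (ha i hi).subset fun x hx => ?_]
    · refine Finset.sum_congr rfl fun i _ => ?_
      rw [mul_finsum]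
      exact finsum_congr fun x => by ring
    · rw [Function.mem_support] at hx ⊢
      exact fun h0 => hx (by rw [h0, mul_zero, mul_zero])
  | succ r IH =>
    intro L hL s hs ι T c a ha
    simp only [capDeg_succ]
    rw [← IH _ (fun i => hL i.succ) _ (fun i => hs i.succ) T c _ fun i hi =>
      finite_support_c1Cap (k := k) hd (hL 0) (ha i hi) (hs 0)]
    congr 1
    funext x
    simp only [Cyc.c1CapFun]
    rw [finsum_congr fun ξ => by rw [Finset.sum_mul], finsum_sum_comm T _ fun i hi => (ha i hi).subset fun ξ hξ => ?_]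
    · refine Finset.sum_congr rfl fun i _ => ?_
      rw [mul_finsum]
      exact finsum_congr fun x => by ring
    · rw [Function.mem_support] at hξ ⊢
      exact fun h0 => hξ (by rw [h0, mul_zero, zero_mul])

theorem capDeg_add (r : ℕ) (L : Fin r → X.Modules) (hL : ∀ i, PicF.IsInvertible (L i))
    (s : (i : Fin r) → (ξ : X) → Cyc.secFibre (L i) ξ) (hs : ∀ i ξ, s i ξ ≠ 0) {a b : X → ℤ}
    (ha : (Function.support a).Finite) (hb : (Function.support b).Finite) :
    capDeg k δ r L s (fun x => a x + b x) = capDeg k δ r L s a + capDeg k δ r L s b := by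
  have h := capDeg_sum (k := k) hd r L hL s hs (Finset.univ : Finset (ULift.{u} Bool)) (fun _ => 1)
    (fun i => bif i.down then a else b) (fun i _ => by rcases i with ⟨_ | _⟩ <;> assumption)
  have hu : (Finset.univ : Finset (ULift.{u} Bool)) = {⟨true⟩, ⟨false⟩} := by decide
  simpa [hu] using h

theorem capDeg_eq_sum (r : ℕ) (L : Fin r → X.Modules) (hL : ∀ i, PicF.IsInvertible (L i))
    (s : (i : Fin r) → (ξ : X) → Cyc.secFibre (L i) ξ) (hs : ∀ i ξ, s i ξ ≠ 0) {a : X → ℤ} (T : Finset X)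
    (ha : Function.support a ⊆ T) :
    capDeg k δ r L s a = ∑ ξ ∈ T, a ξ * capDeg k δ r L s (fun y => if y = ξ then 1 else 0) := by
  rw [← capDeg_sum (k := k) hd r L hL s hs T a (fun ξ y => if y = ξ then 1 else 0) fun ξ _ =>
    (Set.finite_singleton ξ).subset fun y hy => by_contra fun h => hy (if_neg h)]
  congr 1
  funext y
  simp only [mul_ite, mul_one, mul_zero, Finset.sum_ite_eq]
  split_ifs with hy
  · rfl
  · by_contra hne
    exact hy (ha hne)

theorem capDeg_ratEquivZero (hδ : Cyc.DeltaCompat (X ↘ Spec (CommRingCat.of k)) δ (fun _ => 0)) :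
    ∀ (r : ℕ) (L : Fin r → X.Modules), (∀ i, PicF.IsInvertible (L i)) →
    ∀ (s : (i : Fin r) → (ξ : X) → Cyc.secFibre (L i) ξ), (∀ i ξ, s i ξ ≠ 0) →
    ∀ α : AlgebraicCycle X ℤ, Cyc.RatEquivZero δ (r : ℤ) α → capDeg k δ r L s ⇑α = 0 := by
  haveI := CohFound.isNoetherian_of_isProper (X ↘ Spec (CommRingCat.of k))
  intro r
  induction r with
  | zero =>
    intro L _ s _ α hα
    have hY : Cyc.IsDimFun (Spec (CommRingCat.of k)) (fun _ => (0 : ℤ)) := fun a b _ hne =>
      absurd (Subsingleton.elim (α := PrimeSpectrum k) a b) hne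
    obtain ⟨ι, ξ, f, h1, -, -, h4⟩ := ratEquivZero_map (X ↘ Spec (CommRingCat.of k)) hd hY hδ hα
    let pt : ↥(Spec (CommRingCat.of k)) := IsLocalRing.closedPoint k
    have h0 : AlgebraicCycle.map (X ↘ Spec (CommRingCat.of k)) δ (fun _ => 0) α pt = 0 := by
      rw [h4]
      exact finsum_eq_zero_of_forall_eq_zero fun i => absurd (h1 i) (by norm_num)
    have hα0 : ∀ x, α x ≠ 0 → δ x = 0 := fun x hx => by
      by_contra h
      exact hx ((ratEquivZero_iff.1 hα).eq_zero_of_dim (by exact_mod_cast h))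
    rw [map_apply_eq_sum _ δ (fun _ => (0 : ℤ)) α pt (Cyc26Lim.finite_support α).toFinset
      (fun x _ => Subsingleton.elim (α := PrimeSpectrum k) _ _)
      (fun x _ hx _ => (Cyc26Lim.finite_support α).mem_toFinset.2 hx)] at h0
    rw [capDeg_zero_apply, finsum_eq_sum_of_support_subset _ (s := (Cyc26Lim.finite_support α).toFinset)
      (fun x hx => (Cyc26Lim.finite_support α).mem_toFinset.2 (right_ne_zero_of_mul hx)), ← h0]
    refine Finset.sum_congr rfl fun x hx => ?_
    rw [AlgebraicCycle.mapCoeff, if_pos (hα0 x ((Cyc26Lim.finite_support α).mem_toFinset.1 hx))]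
    exact mul_comm _ _
  | succ r IH =>
    intro L hL s hs α hα
    obtain ⟨γ, hγ⟩ := exists_cycle_c1Cap (hL 0) hd α (hs 0)
    have hγ' : Cyc.RatEquivZero δ (r : ℤ) γ := c1Cap_ratEquivZero hd (hL 0) (k := (r : ℤ))
      (by simpa using hα) (hs 0) hγ
    rw [capDeg_succ, ← hγ]
    exact IH _ (fun i => hL i.succ) _ (fun i => hs i.succ) γ hγ'

end

theorem finite_support_sheafFun {r : ℕ} {F : X.Modules} (hF : Coh.IsCoh F)
    (hδ : Cyc.DeltaCompat (X ↘ Spec (CommRingCat.of k)) δ (fun _ => 0))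
    (hr : topologicalKrullDim (CohB1.support F) ≤ (r : WithBot ℕ∞)) :
    ∃ T : Finset X, (∀ ξ, ξ ∈ T ↔ ξ ∈ CohB1.support F ∧
        topologicalKrullDim (closure ({ξ} : Set X)) = (r : WithBot ℕ∞)) ∧
      Function.support (Cyc.sheafFun δ (r : ℤ) F) ⊆ T ∧ ∀ ξ ∈ T, δ ξ = r := by
  haveI := CohFound.isNoetherian_of_isProper (X ↘ Spec (CommRingCat.of k))
  let c := X ↘ Spec (CommRingCat.of k)
  have hdim : ∀ ξ : X, topologicalKrullDim (closure ({ξ} : Set X)) = (VarDim.sdim c ξ : WithBot ℕ∞) :=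
    fun ξ => VarDim.dim_closure_singleton c ξ
  obtain ⟨T, hT⟩ := NumPoly18.exists_finset_top (M1.isClosed_support hF.2) hr
  refine ⟨T, hT, fun ξ hξ => (hT ξ).2 ?_, fun ξ hξ => ?_⟩
  · simp only [Function.mem_support, Cyc.sheafFun] at hξ
    split_ifs at hξ with h
    · refine ⟨?_, ?_⟩
      · show ¬ Subsingleton (F.presheaf.stalk ξ)
        exact not_subsingleton_iff_nontrivial.2 (nontrivial_of_length_toNat_ne_zero fun h0 => hξ (by exact_mod_cast h0))
      · rw [hdim]
        rw [delta_eq_sdim c hδ] at h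
        have h' : VarDim.sdim c ξ = r := by exact_mod_cast h
        rw [h']
    · exact absurd rfl hξ
  · have h := ((hT ξ).1 hξ).2
    rw [hdim] at h
    rw [delta_eq_sdim c hδ]
    have h' : VarDim.sdim c ξ = r := by exact_mod_cast h
    rw [h']

attribute [local instance] CurveCoh17.stalkMod in
/-- The intersection number equals the degree of the iterated first Chern class. -/
theorem md_eq_capDeg (hδ : Cyc.DeltaCompat (X ↘ Spec (CommRingCat.of k)) δ (fun _ => 0)) (hd : Cyc.IsDimFun X δ) :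
    ∀ (r : ℕ) (L M : Fin r → X.Modules), (∀ i, PicF.IsInvertible (L i)) → (∀ i, PicF.IsInvertible (M i)) →
      (∀ i, Nonempty (CohB1.tensorMod (M i) (L i) ≅ Coh.structureModule X)) →
      ∀ (s : (i : Fin r) → (ξ : X) → Cyc.secFibre (L i) ξ), (∀ i ξ, s i ξ ≠ 0) →
      ∀ F : X.Modules, Coh.IsCoh F → topologicalKrullDim (CohB1.support F) ≤ (r : WithBot ℕ∞) →
        (-1 : ℚ) ^ r * NumPoly18.md k M F = (capDeg k δ r L s (Cyc.sheafFun δ (r : ℤ) F) : ℚ) := by
  haveI := CohFound.isNoetherian_of_isProper (X ↘ Spec (CommRingCat.of k))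
  let c := X ↘ Spec (CommRingCat.of k)
  have hsd : ∀ x, δ x = VarDim.sdim c x := delta_eq_sdim c hδ
  intro r L M hL hM hLM s hs
  -- reduction to integral closed subschemes
  suffices hpt : ∀ ξ : X, δ ξ = r →
      (-1 : ℚ) ^ r * NumPoly18.md k M (NumPoly18.ptMod ξ) =
        (capDeg k δ r L s (fun y => if y = ξ then 1 else 0) : ℚ) by
    intro F hF hr
    obtain ⟨T, hT, hsupp, hTδ⟩ := finite_support_sheafFun (k := k) hF hδ hr
    rw [NumPoly18.md_eq_sum hM (M1.isClosed_support hF.2) hr T hT hF subset_rfl,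
      capDeg_eq_sum (k := k) hd r L hL s hs T hsupp]
    push_cast
    rw [Finset.mul_sum]
    refine Finset.sum_congr rfl fun ξ hξ => ?_
    rw [mul_left_comm, hpt ξ (hTδ ξ hξ)]
    simp only [Cyc.sheafFun, if_pos (hTδ ξ hξ), NumPoly18.lenAt]
    push_cast
    rfl
  induction r with
  | zero =>
    intro ξ hξ
    rw [pow_zero, one_mul, NumPoly18.md_zero_vars, capDeg_zero_apply,
      finsum_eq_single _ ξ (fun y hy => by rw [if_neg hy, mul_zero]), if_pos rfl, mul_one]
    obtain ⟨hI, z, hz, hzξ⟩ := NumPoly18.isIntegral_pt ξ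
    haveI := hI
    obtain rfl := (genericPoint_spec _).eq hz
    have hclosed : IsClosed ({ξ} : Set X) :=
      (VarDim.sdim_eq_zero_iff_isClosed c ξ).1 (by have := hsd ξ; omega)
    have hS : CurveCoh17.SuppIn (NumPoly18.ptMod ξ) {ξ} := by
      refine ⟨fun x hx => Finset.mem_singleton.1 hx ▸ hclosed, fun x hx a => ?_⟩
      have hnot : x ∉ CohB1.support (NumPoly18.ptMod ξ) := fun h => hx (Finset.mem_singleton.2
        (by simpa [hclosed.closure_eq] using NumPoly18.support_ptMod ξ h))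
      haveI : Subsingleton ((NumPoly18.ptMod ξ).presheaf.stalk x) := not_not.1 hnot
      exact Subsingleton.elim _ _
    have hfin := CohFound.finite_HH_of_isProper (A := k) (NumPoly18.ptMod ξ) (NumPoly18.isCoh_ptMod ξ) 0
    rw [hS.euler_eq hfin, (hS.h0Equiv k).finrank_eq]
    haveI : Module.Finite k ((NumPoly18.ptMod ξ).presheaf.stalk ξ) := hS.finite_stalk hfin ⟨ξ, Finset.mem_singleton_self ξ⟩
    haveI : ∀ x : ({ξ} : Finset X), Module.Finite k ((NumPoly18.ptMod ξ).presheaf.stalk (x : X)) := hS.finite_stalk hfin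
    rw [Module.finrank_pi_fintype, Finset.univ_eq_attach, Finset.attach_eq_univ]
    rw [Fintype.sum_unique]
    show (((Module.finrank k ((NumPoly18.ptMod ξ).presheaf.stalk ξ) : ℕ) : ℤ) : ℚ) = _
    letI : Algebra k (X.presheaf.stalk ξ) := (CurveCoh17.stalkRingMap k ξ).toAlgebra
    haveI : IsScalarTower k (X.presheaf.stalk ξ) ((NumPoly18.ptMod ξ).presheaf.stalk ξ) :=
      IsScalarTower.of_algebraMap_smul fun a m => rfl
    have hres : c.residueDegree ξ = Module.finrank k (IsLocalRing.ResidueField (X.presheaf.stalk ξ)) :=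
      residueDegree_toField c ξ
    haveI : Module.Finite k (IsLocalRing.ResidueField (X.presheaf.stalk ξ)) := by
      have h := finite_residueFieldMap_of_delta_eq c hδ (x := ξ) (by exact_mod_cast hξ)
      letI := (c.residueFieldMap ξ).hom.toAlgebra
      haveI : Module.Finite ((Spec (CommRingCat.of k)).residueField (c ξ)) (X.residueField ξ) := h
      have : 0 < c.residueDegree ξ := Module.finrank_pos
      exact Module.finite_of_finrank_pos (hres ▸ this)
    have hone : Module.length (X.presheaf.stalk ξ) ((NumPoly18.ptMod ξ).presheaf.stalk ξ) = 1 := by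
      have h := isPtGen_push (NumPoly18.ptIdeal ξ).subschemeι
      rw [hzξ] at h
      exact length_eq_one_of_gen h
    rw [finrank_eq_length_mul (k := k) (R := X.presheaf.stalk ξ), hone, ← hres]
    simp [c]
  | succ r IH =>
    intro ξ hξ
    obtain ⟨A, M', rfl⟩ : ∃ A M', M = Fin.cons A M' := ⟨M 0, Fin.tail M, (Fin.cons_self_tail M).symm⟩
    have hA : PicF.IsInvertible A := by simpa using hM 0
    have hM' : ∀ i, PicF.IsInvertible (M' i) := fun i => by simpa using hM i.succ
    obtain ⟨eAL⟩ : Nonempty (CohB1.tensorMod A (L 0) ≅ Coh.structureModule X) := by simpa using hLM 0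
    have hrec : ∀ K : X.Modules, Coh.IsCoh K → topologicalKrullDim (CohB1.support K) ≤ (r : WithBot ℕ∞) →
        (-1 : ℚ) ^ r * NumPoly18.md k M' K =
          (capDeg k δ r (fun i => L i.succ) (fun i => s i.succ) (Cyc.sheafFun δ (r : ℤ) K) : ℚ) := by
      intro K hK hKr
      obtain ⟨T, hT, hsupp, hTδ⟩ := finite_support_sheafFun (k := k) hK hδ hKr
      rw [NumPoly18.md_eq_sum hM' (M1.isClosed_support hK.2) hKr T hT hK subset_rfl,
        capDeg_eq_sum (k := k) hd r _ (fun i => hL i.succ) _ (fun i => hs i.succ) T hsupp]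
      push_cast
      rw [Finset.mul_sum]
      refine Finset.sum_congr rfl fun η hη => ?_
      rw [mul_left_comm, IH (fun i => L i.succ) M' (fun i => hL i.succ) hM' (fun i => by simpa using hLM i.succ)
        (fun i => s i.succ) (fun i => hs i.succ) η (hTδ η hη)]
      simp only [Cyc.sheafFun, if_pos (hTδ η hη), NumPoly18.lenAt]
      push_cast
      rfl
    -- the zigzag
    have hG : Coh.IsCoh (NumPoly18.ptMod ξ) := NumPoly18.isCoh_ptMod ξ
    have hG' : Coh.IsCoh (CohB1.tensorMod (NumPoly18.ptMod ξ) A) :=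
      CurveCoh17.isCoh_tensor hG (Snapper.isCoh_of_isInvertible hA)
    obtain ⟨V, hξV, ⟨eV⟩⟩ := hA ξ
    obtain ⟨U, hU, hξU, hUV⟩ := exists_isAffineOpen_mem_and_subset (U := V) hξV
    obtain ⟨eU⟩ := M2.nonempty_trivial_mono hUV eV
    obtain ⟨W, φ, ψ, hW, k1, c1, k2, c2⟩ := Snapper.exists_zigzag (CurveAmple18.isSeparated k X) hG hG'
      (NumPoly18.support_ptMod ξ) ((Snapper.support_tensor_subset _ _).trans (NumPoly18.support_ptMod ξ)) hU hξU
      (M2.restrictTensorIso U.ι (NumPoly18.ptMod ξ) A ≪≫ M2.tensorIso (Iso.refl _) eU ≪≫ M2.tensorRUnit _)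
    have hout : ∀ {K : X.Modules}, CohB1.support K ⊆ closure {ξ} \ (U : Set X) → Subsingleton (K.presheaf.stalk ξ) :=
      fun {K} hK => not_not.1 fun h => (hK h).2 hξU
    have hbij : ∀ {N : X.Modules} (θ : W ⟶ N), CohB1.support (kernel θ) ⊆ closure {ξ} \ (U : Set X) →
        CohB1.support (cokernel θ) ⊆ closure {ξ} \ (U : Set X) → Function.Bijective (CurveCoh17.stalkLin θ ξ) := by
      intro N θ hk hc
      haveI := hout hk
      haveI := hout hc
      constructor
      · rw [← LinearMap.ker_eq_bot, ← Submodule.subsingleton_iff_eq_bot, ← Module.length_eq_zero_iff (R := X.presheaf.stalk ξ),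
          ← length_stalk_kernel, Module.length_eq_zero_iff]
        infer_instance
      · rw [← LinearMap.range_eq_top, ← Submodule.Quotient.subsingleton_iff, ← Module.length_eq_zero_iff (R := X.presheaf.stalk ξ),
          ← length_stalk_cokernel, Module.length_eq_zero_iff]
        infer_instance
    obtain ⟨hI, z, hz, hzξ⟩ := NumPoly18.isIntegral_pt ξ
    haveI := hI
    obtain rfl := (genericPoint_spec _).eq hz
    have hg := isPtGen_push (NumPoly18.ptIdeal ξ).subschemeι
    rw [hzξ] at hg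
    obtain ⟨v, hv, hloc⟩ := exists_section_zigzag hd hA (fun θ => (M1.isCoh_cokernel hW.1 hG θ).1) hg φ ψ
      (hbij φ k1 c1) (hbij ψ k2 c2)
    have hsmall : ∀ {K : X.Modules}, CohB1.support K ⊆ closure {ξ} \ (U : Set X) →
        topologicalKrullDim (CohB1.support K) ≤ (r : WithBot ℕ∞) := fun {K} hK => by
      refine Snapper.dim_le_of_subset hK (Snapper.dim_le_of_notMem (isClosed_closure.sdiff U.isOpen)
        Set.sdiff_subset (fun h => h.2 hξU) ?_)
      rw [VarDim.dim_closure_singleton c ξ]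
      have h1 : VarDim.sdim c ξ = r + 1 := by have := hsd ξ; omega
      rw [h1]
    have cK1 : Coh.IsCoh (kernel φ) := CurveCoh17.isCoh_kernel hW hG.1 φ
    have cK2 : Coh.IsCoh (kernel ψ) := CurveCoh17.isCoh_kernel hW hG'.1 ψ
    have cC1 : Coh.IsCoh (cokernel φ) := M1.isCoh_cokernel hW.1 hG φ
    have cC2 : Coh.IsCoh (cokernel ψ) := M1.isCoh_cokernel hW.1 hG' ψ
    -- the identity of coefficient functions
    have hfun : ∀ x, Cyc.sheafFun δ (r : ℤ) (cokernel ψ) x + Cyc.sheafFun δ (r : ℤ) (kernel φ) x =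
        Cyc.sheafFun δ (r : ℤ) (cokernel φ) x + Cyc.sheafFun δ (r : ℤ) (kernel ψ) x +
          Cyc.secDivFun δ A ξ v x := by
      intro x
      by_cases hx : ξ ⤳ x ∧ δ x + 1 = δ ξ
      · obtain ⟨e1, e2⟩ := hloc x hx.1 hx.2
        simp only [Cyc.sheafFun]
        rw [if_pos (by omega), if_pos (by omega), if_pos (by omega), if_pos (by omega), e1]
        linarith
      · rw [show Cyc.secDivFun δ A ξ v x = 0 from dif_neg hx]
        simp only [Cyc.sheafFun]
        by_cases hδx : δ x = r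
        · have hns : ∀ {K : X.Modules}, CohB1.support K ⊆ closure {ξ} \ (U : Set X) →
              Module.length (X.presheaf.stalk x) (K.presheaf.stalk x) = 0 := fun {K} hK => by
            rw [Module.length_eq_zero_iff]
            refine not_not.1 fun h => hx ⟨specializes_iff_mem_closure.2 (hK h).1, ?_⟩
            push_cast at hξ
            omega
          rw [hns k1, hns c1, hns k2, hns c2]
          simp
        · simp [if_neg hδx]
    have f1 : ∀ {K : X.Modules}, Coh.IsCoh K → CohB1.support K ⊆ closure {ξ} \ (U : Set X) →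
        (Function.support (Cyc.sheafFun δ (r : ℤ) K)).Finite := fun {K} hK hKs => by
      obtain ⟨T, -, hT, -⟩ := finite_support_sheafFun (k := k) hK hδ (hsmall hKs)
      exact T.finite_toSet.subset hT
    have hL' := fun i : Fin r => hL i.succ
    have hs' := fun (i : Fin r) ξ => hs i.succ ξ
    have hcap := congrArg (capDeg k δ r (fun i => L i.succ) (fun i => s i.succ)) (funext hfun)
    rw [capDeg_add (k := k) hd r _ hL' _ hs' (f1 cC2 c2) (f1 cK1 k1),
      capDeg_add (k := k) hd r _ hL' _ hs'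
        ((f1 cC1 c1).union (f1 cK2 k2) |>.subset (Function.support_add _ _)) (finite_support_secDivFun (k := k) hd hA ξ hv),
      capDeg_add (k := k) hd r _ hL' _ hs' (f1 cC1 c1) (f1 cK2 k2)] at hcap
    -- comparison of the sections
    obtain ⟨f, hf, hdiv⟩ := exists_secDiv_add_eq_divFun hA (hL 0) eAL hv (hs 0 ξ)
    obtain ⟨α, hα⟩ := exists_cycle_sum_divFun hd (ι := PUnit.{u+1}) (fun _ => ξ) (fun _ => f)
      (fun x => ⟨Set.univ, isOpen_univ, trivial, Set.toFinite _⟩)
    have hα0 : Cyc.RatEquivZero δ (r : ℤ) α := ⟨PUnit.{u+1}, fun _ => ξ, fun _ => f,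
      fun _ => by push_cast at hξ; omega, fun _ => hf,
      fun x => ⟨Set.univ, isOpen_univ, trivial, Set.toFinite _⟩, hα⟩
    have hzero := capDeg_ratEquivZero (k := k) hd hδ r _ hL' _ hs' α hα0
    rw [show (⇑α : X → ℤ) = fun x => Cyc.secDivFun δ A ξ v x + Cyc.secDivFun δ (L 0) ξ (s 0 ξ) x from
        funext fun x => by rw [hα, finsum_unique, hdiv],
      capDeg_add (k := k) hd r _ hL' _ hs' (finite_support_secDivFun (k := k) hd hA ξ hv)
        (finite_support_secDivFun (k := k) hd (hL 0) ξ (hs 0 ξ))] at hzero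
    have hsingle : Cyc.c1CapFun δ (L 0) (fun y => if y = ξ then 1 else 0) (s 0) =
        fun x => Cyc.secDivFun δ (L 0) ξ (s 0 ξ) x := funext fun x => by
      simp only [Cyc.c1CapFun]
      rw [finsum_eq_single _ ξ fun y hy => by rw [if_neg hy, zero_mul], if_pos rfl, one_mul]
    rw [NumPoly18.md_cons, NumPoly18.md_hom hM' ψ hW hG', NumPoly18.md_hom hM' φ hW hG, capDeg_succ, hsingle]
    have q1 := hrec _ cC2 (hsmall c2)
    have q2 := hrec _ cK2 (hsmall k2)
    have q3 := hrec _ cC1 (hsmall c1)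
    have q4 := hrec _ cK1 (hsmall k1)
    have hcap' := congrArg (fun z : ℤ => (z : ℚ)) hcap
    have hzero' := congrArg (fun z : ℤ => (z : ℚ)) hzero
    push_cast at hcap' hzero'
    rw [pow_succ]
    linarith

end Groth.Agent.Cyc26
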