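import Groth.Agent.Lib.Cyc26.PullDiv
import Groth.Agent.Lib.Cyc26.Stalk
import Groth.Agent.Lib.Cyc26.C1Struct
import Groth.Agent.Lib.Cyc26.Pull

/-! # Flat pullback preserves rational equivalence -/

set_option autoImplicit false
universe u

set_option backward.isDefEq.respectTransparency.types false

open CategoryTheory AlgebraicGeometry

namespace Groth.Agent.Cyc26

variable {X Y : Scheme.{u}}

theorem shift_of_hasRelDim (f : X ⟶ Y) [LocallyOfFiniteType f] {δX : X → ℤ} {δY : Y → ℤ} {r : ℕ}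
    (hr : Cyc.HasRelDim f r) (hδ : Cyc.DeltaCompat f δX δY) (z : X)
    (hz : ∀ w, f w = f z → w ⤳ z → w = z) : δX z = δY (f z) + r := by
  rw [UCat26.delta_eq_add_rd f hδ z, UCat26.rd_eq_of_hasRelDim f hr fun w h1 h2 => hz w h2 h1]

theorem divFun_pow {δ : X → ℤ} {ξ : X} {g : X.residueField ξ} (hg : g ≠ 0) (n : ℕ) (x : X) :
    Cyc.divFun δ ξ (g ^ n) x = n * Cyc.divFun δ ξ g x := by
  simp only [Cyc.divFun]
  split_ifs with h
  · exact ordFrac_pow hg n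
  · rw [mul_zero]

theorem finite_fibre_maximal [IsLocallyNoetherian X] (f : X ⟶ Y) (η : Y) {U : X.Opens} (hU : IsAffineOpen U) :
    {ξ : X | f ξ = η ∧ (∀ w, f w = f ξ → w ⤳ ξ → w = ξ) ∧ ξ ∈ U}.Finite := by
  refine (finite_maximal_points (S := f ⁻¹' closure {η}) (isClosed_closure.preimage f.continuous) hU).subset ?_
  rintro ξ ⟨h1, h2, h3⟩
  refine ⟨subset_closure h1, fun w hw hwξ => h2 w ?_ hwξ, h3⟩
  exact (Specializes.antisymm (hwξ.map f.continuous) (h1 ▸ specializes_iff_mem_closure.2 hw)).eq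

/-- Flat pullback with a dimension shift preserves rational equivalence to zero. -/
theorem ratEquivZero_pullFun [IsLocallyNoetherian X] [IsLocallyNoetherian Y] (f : X ⟶ Y) [Flat f] {δX : X → ℤ}
    {δY : Y → ℤ} (hdX : Cyc.IsDimFun X δX) (hdY : Cyc.IsDimFun Y δY) {c : ℤ}
    (hc : ∀ z, (∀ w, f w = f z → w ⤳ z → w = z) → δX z = δY (f z) + c) {k : ℤ} {α : AlgebraicCycle Y ℤ}
    (h0 : Cyc.RatEquivZero δY k α) (α' : AlgebraicCycle X ℤ) (hα' : ⇑α' = Cyc.pullFun f δX δY c ⇑α) :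
    Cyc.RatEquivZero δX (k + c) α' := by
  classical
  obtain ⟨ι, η, g, hη, hg, hfin, hα⟩ := h0
  let J : Type u := Σ i : ι, {ξ : X // f ξ = η i ∧ ∀ w, f w = f ξ → w ⤳ ξ → w = ξ}
  let G : (j : J) → X.residueField j.2.1 := fun j =>
    (f.residueFieldMap j.2.1 ((Y.residueFieldCongr j.2.2.1.symm).hom (g j.1))) ^
      (Module.length (X.presheaf.stalk j.2.1) (X.presheaf.stalk j.2.1 ⧸ Ideal.map (f.stalkMap j.2.1).hom
        (IsLocalRing.maximalIdeal (Y.presheaf.stalk (f j.2.1))))).toNat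
  have hne : ∀ j : J, f.residueFieldMap j.2.1 ((Y.residueFieldCongr j.2.2.1.symm).hom (g j.1)) ≠ 0 := fun j =>
    (map_ne_zero _).2 ((map_ne_zero _).2 (hg j.1))
  have key : ∀ x : X, ∃ (U : X.Opens) (I : Finset ι)
      (T : (i : ι) → Finset {ξ : X // f ξ = η i ∧ ∀ w, f w = f ξ → w ⤳ ξ → w = ξ}), x ∈ U ∧
      (∀ i, η i ⤳ f x → i ∈ I) ∧ (∀ j : J, j.2.1 ∈ U → j.1 ∈ I ∧ j.2 ∈ T j.1) := by
    intro x
    obtain ⟨V, hV, hxV, hI⟩ := hfin (f x)
    obtain ⟨U, hU, hxU, hUV⟩ := exists_isAffineOpen_mem_and_subset (U := ⟨f ⁻¹' V, hV.preimage f.continuous⟩) (x := x) hxV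
    refine ⟨U, hI.toFinset, fun i => ((finite_fibre_maximal f (η i) hU).preimage
      Subtype.val_injective.injOn).toFinset, hxU, fun i hi => ?_, fun j hj => ?_⟩
    · exact hI.mem_toFinset.2 ⟨f x, specializes_iff_mem_closure.1 hi, hxV⟩
    · refine ⟨hI.mem_toFinset.2 ⟨f j.2.1, subset_closure j.2.2.1, hUV hj⟩, ?_⟩
      exact (Set.Finite.mem_toFinset _).2 ⟨j.2.2.1, j.2.2.2, hj⟩
  refine ⟨J, fun j => j.2.1, G, fun j => ?_, fun j => pow_ne_zero _ (hne j), fun x => ?_, fun x => ?_⟩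
  · rw [hc j.2.1 j.2.2.2, j.2.2.1, hη]; ring
  · obtain ⟨U, I, T, hx, -, hT⟩ := key x
    refine ⟨U, U.2, hx, (I.sigma T).finite_toSet.subset ?_⟩
    rintro j ⟨z, hz1, hz2⟩
    obtain ⟨h1, h2⟩ := hT j ((specializes_iff_mem_closure.2 hz1).mem_open U.2 hz2)
    exact Finset.mem_sigma.2 ⟨h1, h2⟩
  · obtain ⟨U, I, T, hx, hI, hT⟩ := key x
    rw [finsum_eq_sum_of_support_subset (s := I.sigma T) _ (fun j hj => by
      obtain ⟨h1, h2⟩ := hT j ((specializes_of_divFun_ne_zero hj).1.mem_open U.2 hx)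
      exact Finset.mem_sigma.2 ⟨h1, h2⟩), Finset.sum_sigma, hα']
    have hsum : ⇑α (f x) = ∑ i ∈ I, Cyc.divFun δY (η i) (g i) (f x) := by
      rw [hα, finsum_eq_sum_of_support_subset (s := I) _ (fun i hi => hI i (specializes_of_divFun_ne_zero hi).1)]
    have hlin : Cyc.pullFun f δX δY c ⇑α x = ∑ i ∈ I, Cyc.pullFun f δX δY c (Cyc.divFun δY (η i) (g i)) x := by
      simp only [Cyc.pullFun]
      split_ifs
      · rw [hsum, Finset.sum_mul]
      · rw [Finset.sum_const_zero]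
    rw [hlin]
    refine Finset.sum_congr rfl fun i _ => ?_
    rw [pullFun_divFun_general f hdX hdY hc (hη i) (g i) (hg i) x, finsum_eq_sum_of_support_subset (s := T i) _ ?_]
    · exact Finset.sum_congr rfl fun ξ _ => (divFun_pow (hne ⟨i, ξ⟩) _ x).symm
    · intro ξ hξ
      exact (hT ⟨i, ξ⟩ ((specializes_of_divFun_ne_zero (right_ne_zero_of_mul hξ)).1.mem_open U.2 hx)).2

theorem ratEquiv_pullFun [IsLocallyNoetherian X] [IsLocallyNoetherian Y] (f : X ⟶ Y) [Flat f] {δX : X → ℤ}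
    {δY : Y → ℤ} (hdX : Cyc.IsDimFun X δX) (hdY : Cyc.IsDimFun Y δY) {c : ℤ}
    (hc : ∀ z, (∀ w, f w = f z → w ⤳ z → w = z) → δX z = δY (f z) + c) {k : ℤ} {α β : AlgebraicCycle Y ℤ}
    (h0 : Cyc.RatEquiv δY k α β) (α' β' : AlgebraicCycle X ℤ) (hα' : ⇑α' = Cyc.pullFun f δX δY c ⇑α)
    (hβ' : ⇑β' = Cyc.pullFun f δX δY c ⇑β) : Cyc.RatEquiv δX (k + c) α' β' := by
  refine ratEquivZero_pullFun f hdX hdY hc h0 (α' - β') (funext fun x => ?_)
  show α' x - β' x = Cyc.pullFun f δX δY c (⇑(α - β)) x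
  rw [hα', hβ']
  simp only [Cyc.pullFun]
  split_ifs
  · exact (sub_mul (α (f x)) (β (f x)) _).symm
  · exact sub_zero 0

theorem pullFun_divFun_components [IsIntegral Y] [IsLocallyNoetherian X] [IsLocallyNoetherian Y] (f : X ⟶ Y) [Flat f]
    {δX : X → ℤ} {δY : Y → ℤ} (hdX : Cyc.IsDimFun X δX) (hdY : Cyc.IsDimFun Y δY) {c k : ℤ}
    (hc : ∀ z, (∀ w, f w = f z → w ⤳ z → w = z) → δX z = δY (f z) + c)
    (hk : δY (genericPoint Y) = k + 1) (g : Y.residueField (genericPoint Y)) (hg : g ≠ 0) (x : X) :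
    Cyc.pullFun f δX δY c (Cyc.divFun δY (genericPoint Y) g) x =
      ∑ᶠ ξ : {ξ : X // (∀ x' : X, x' ⤳ ξ → x' = ξ) ∧ f ξ = genericPoint Y},
        ((Module.length (X.presheaf.stalk ξ.1) (X.presheaf.stalk ξ.1)).toNat : ℤ) *
          Cyc.divFun δX ξ.1 (f.residueFieldMap ξ.1 ((Y.residueFieldCongr ξ.2.2.symm).hom g)) x := by
  rw [pullFun_divFun_general f hdX hdY hc hk g hg x]
  let e : {ξ : X // f ξ = genericPoint Y ∧ ∀ w, f w = f ξ → w ⤳ ξ → w = ξ} ≃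
      {ξ : X // (∀ x' : X, x' ⤳ ξ → x' = ξ) ∧ f ξ = genericPoint Y} := Equiv.subtypeEquivRight fun ξ =>
    ⟨fun h => ⟨fun w hw => h.2 w (((hw.map f.continuous).trans (specializes_of_eq h.1)).antisymm
        (genericPoint_specializes (f w)) |>.eq.trans h.1.symm) hw, h.1⟩,
     fun h => ⟨h.2, fun w _ hw => h.1 w hw⟩⟩
  rw [← finsum_comp_equiv e]
  refine finsum_congr fun ξ => ?_
  show _ = ((Module.length (X.presheaf.stalk ξ.1) (X.presheaf.stalk ξ.1)).toNat : ℤ) * _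
  congr 3
  have hm : Ideal.map (f.stalkMap ξ.1).hom (IsLocalRing.maximalIdeal (Y.presheaf.stalk (f ξ.1))) = ⊥ := by
    have hF : IsField (Y.presheaf.stalk (f ξ.1)) := by
      rw [ξ.2.1]; exact Field.toIsField Y.functionField
    rw [IsLocalRing.isField_iff_maximalIdeal_eq.1 hF, Ideal.map_bot]
  exact (Submodule.quotEquivOfEqBot _ hm).length_eq

end Groth.Agent.Cyc26
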