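import Groth.Agent.Lib.Cyc26.C1Apps
import Groth.Agent.Lib.Cyc26.RatPull
import Groth.Agent.Lib.Cyc26.PushRat
import Groth.Agent.Lib.Cyc26.C1Flat
import Groth.Agent.Lib.Cyc26.C1Push
import Groth.Agent.Lib.Cyc26.C1Tensor
import Groth.Agent.Lib.Cyc26.DegIter

/-! # All cycles modulo rational equivalence, with `c₁`, flat pull-back and push-forward -/

set_option autoImplicit false
set_option linter.style.haveILetI false

universe u

open CategoryTheory Limits AlgebraicGeometry TopologicalSpace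

set_option backward.isDefEq.respectTransparency.types false

noncomputable section

namespace Groth.Agent.Cyc26A

open Groth.Agent.Cyc26
open scoped Classical

variable {X Y Z : Scheme.{u}}

/-- The `k`-dimensional part of a cycle. -/
def part (δ : X → ℤ) (k : ℤ) (α : AlgebraicCycle X ℤ) : AlgebraicCycle X ℤ :=
  ⟨fun x => if δ x = k then α x else 0, Set.subset_univ _, fun x _ => by
    obtain ⟨V, hV, hxV, -⟩ := exists_isAffineOpen_mem_and_subset (U := (⊤ : X.Opens)) (x := x) trivial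
    refine ⟨V, V.isOpen.mem_nhds hxV, (finite_support_inter α hV).subset fun y hy => ⟨hy.1, fun h => hy.2 ?_⟩⟩
    show (if δ y = k then α y else 0) = 0
    rw [h, ite_self]⟩

theorem part_apply (δ : X → ℤ) (k : ℤ) (α : AlgebraicCycle X ℤ) (x : X) :
    part δ k α x = if δ x = k then α x else 0 := rfl

theorem part_mem (δ : X → ℤ) (k : ℤ) (α : AlgebraicCycle X ℤ) : part δ k α ∈ Cyc.Zk X δ k := fun x hx => if_neg hx

theorem part_of_mem {δ : X → ℤ} {k : ℤ} {α : AlgebraicCycle X ℤ} (h : α ∈ Cyc.Zk X δ k) (x : X) :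
    part δ k α x = α x := by
  rw [part_apply]
  split_ifs with hx
  · rfl
  · exact (h x hx).symm

theorem part_add (δ : X → ℤ) (k : ℤ) (α β : AlgebraicCycle X ℤ) : part δ k (α + β) = part δ k α + part δ k β := by
  ext x
  show (if δ x = k then α x + β x else 0) = (if δ x = k then α x else 0) + if δ x = k then β x else 0
  split_ifs <;> simp

/-- Cycles rationally equivalent to zero in each dimension. -/
def rat (δ : X → ℤ) : AddSubgroup (AlgebraicCycle X ℤ) where
  carrier := {α | ∀ k, Cyc.RatEquivZero δ k (part δ k α)}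
  zero_mem' := fun k => ratEquivZero_of_eq_zero fun x => ite_self 0
  add_mem' := fun {α β} hα hβ k =>
    ((ratEquivZero_iff.1 (hα k)).add (ratEquivZero_iff.1 (hβ k))).ratEquivZero fun x => by rw [part_add]; rfl
  neg_mem' := fun {α} hα k => ((ratEquivZero_iff.1 (hα k)).neg).ratEquivZero fun x => by
    show (if δ x = k then - α x else 0) = - if δ x = k then α x else 0
    split_ifs <;> simp

/-- Cycle classes of all dimensions. -/
abbrev A (δ : X → ℤ) : Type u := AlgebraicCycle X ℤ ⧸ rat δ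

/-- The class of a cycle. -/
def mk (δ : X → ℤ) : AlgebraicCycle X ℤ →+ A δ := QuotientAddGroup.mk' (rat δ)

theorem mk_surjective (δ : X → ℤ) : Function.Surjective (mk δ) := QuotientAddGroup.mk'_surjective _

theorem mk_eq_zero_iff (δ : X → ℤ) (α : AlgebraicCycle X ℤ) : mk δ α = 0 ↔ ∀ k, Cyc.RatEquivZero δ k (part δ k α) :=
  QuotientAddGroup.eq_zero_iff α

theorem mk_eq_mk_iff (δ : X → ℤ) (α β : AlgebraicCycle X ℤ) :
    mk δ α = mk δ β ↔ ∀ k, Cyc.RatEquiv δ k (part δ k α) (part δ k β) := by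
  rw [← sub_eq_zero, ← _root_.map_sub, mk_eq_zero_iff]
  refine forall_congr' fun k => ⟨fun h => ratEquivZero_congr (fun x => ?_) h, fun h => ratEquivZero_congr (fun x => ?_) h⟩
  all_goals
    show _ = _
    change _ = _
    simp only [part_apply, Function.locallyFinsuppWithin.coe_sub, Pi.sub_apply]
    split_ifs <;> simp

theorem mk_eq_zero_of_ratEquivZero {δ : X → ℤ} {k : ℤ} {α : AlgebraicCycle X ℤ} (h : Cyc.RatEquivZero δ k α) :
    mk δ α = 0 := by
  refine (mk_eq_zero_iff δ α).2 fun l => ?_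
  have hk : α ∈ Cyc.Zk X δ k := fun x hx => (ratEquivZero_iff.1 h).eq_zero_of_dim hx
  by_cases hl : l = k
  · subst hl
    exact ratEquivZero_congr (fun x => (part_of_mem hk x).symm) h
  · refine ratEquivZero_of_eq_zero fun x => ?_
    rw [part_apply]
    split_ifs with hx
    · exact hk x (by omega)
    · rfl

theorem ratEquivZero_of_mk {δ : X → ℤ} {k : ℤ} {α : AlgebraicCycle X ℤ} (hα : α ∈ Cyc.Zk X δ k)
    (h : mk δ α = 0) : Cyc.RatEquivZero δ k α :=
  ratEquivZero_congr (part_of_mem hα) ((mk_eq_zero_iff δ α).1 h k)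

theorem mk_eq_of_ratEquiv {δ : X → ℤ} {k : ℤ} {α β : AlgebraicCycle X ℤ} (h : Cyc.RatEquiv δ k α β) :
    mk δ α = mk δ β := by
  rw [← sub_eq_zero, ← _root_.map_sub]
  exact mk_eq_zero_of_ratEquivZero h

theorem ratEquiv_of_mk {δ : X → ℤ} {k : ℤ} {α β : AlgebraicCycle X ℤ} (hα : α ∈ Cyc.Zk X δ k)
    (hβ : β ∈ Cyc.Zk X δ k) (h : mk δ α = mk δ β) : Cyc.RatEquiv δ k α β :=
  ratEquivZero_of_mk (fun x hx => by show α x - β x = 0; rw [hα x hx, hβ x hx, sub_zero])
    (by rw [_root_.map_sub, h, sub_self])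

/-- Lift a homomorphism respecting rational equivalence in each dimension. -/
def liftHom {δ : X → ℤ} {δ' : Y → ℤ} (F : AlgebraicCycle X ℤ →+ AlgebraicCycle Y ℤ) (c : ℤ)
    (hpart : ∀ k α y, part δ' k (F α) y = F (part δ (k + c) α) y)
    (hrat : ∀ k α, Cyc.RatEquivZero δ (k + c) α → Cyc.RatEquivZero δ' k (F α)) : A δ →+ A δ' :=
  QuotientAddGroup.lift (rat δ) ((mk δ').comp F) fun α hα => by
    refine (mk_eq_zero_iff δ' (F α)).2 fun k => ?_
    exact ratEquivZero_congr (fun y => (hpart k α y).symm) (hrat k _ (hα (k + c)))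

theorem liftHom_mk {δ : X → ℤ} {δ' : Y → ℤ} (F : AlgebraicCycle X ℤ →+ AlgebraicCycle Y ℤ) (c : ℤ)
    (hpart : ∀ k α y, part δ' k (F α) y = F (part δ (k + c) α) y)
    (hrat : ∀ k α, Cyc.RatEquivZero δ (k + c) α → Cyc.RatEquivZero δ' k (F α)) (α : AlgebraicCycle X ℤ) :
    liftHom F c hpart hrat (mk δ α) = mk δ' (F α) := rfl

section c1

variable [IsLocallyNoetherian X] {δ : X → ℤ} (hd : Cyc.IsDimFun X δ) {L : X.Modules} (hL : PicF.IsInvertible L)

theorem exists_sec {X : Scheme.{u}} {L : X.Modules} (hL : PicF.IsInvertible L) :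
    ∃ s : (ξ : X) → Cyc.secFibre L ξ, ∀ ξ, s ξ ≠ 0 := by
  choose g hg using exists_gen hL
  refine ⟨fun ξ => fmk L ξ (g ξ), fun ξ h => smul_ne_zero_of_residue (hg ξ) (a := (1 : X.presheaf.stalk ξ))
    (by rw [map_one]; exact one_ne_zero) (by rw [one_smul]; exact h)⟩

/-- `c₁(L) ∩` on cycles with given rational sections. -/
def capCycle {s : (ξ : X) → Cyc.secFibre L ξ} (hs : ∀ ξ, s ξ ≠ 0) : AlgebraicCycle X ℤ →+ AlgebraicCycle X ℤ :=
  AddMonoidHom.mk' (fun α => (exists_cycle_c1Cap hL hd α hs).choose) fun α β => by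
    ext x
    show (exists_cycle_c1Cap hL hd (α + β) hs).choose x =
      (exists_cycle_c1Cap hL hd α hs).choose x + (exists_cycle_c1Cap hL hd β hs).choose x
    rw [(exists_cycle_c1Cap hL hd (α + β) hs).choose_spec, (exists_cycle_c1Cap hL hd α hs).choose_spec,
      (exists_cycle_c1Cap hL hd β hs).choose_spec]
    obtain ⟨V, hV, hxV, -⟩ := exists_isAffineOpen_mem_and_subset (U := (⊤ : X.Opens)) (x := x) trivial
    let I := (finite_support_inter α hV).toFinset ∪ (finite_support_inter β hV).toFinset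
    have hI : ∀ ξ ∈ V, α ξ ≠ 0 ∨ β ξ ≠ 0 → ξ ∈ I := fun ξ h1 h2 => h2.elim
      (fun h => Finset.mem_union_left _ ((finite_support_inter α hV).mem_toFinset.2 ⟨h1, h⟩))
      (fun h => Finset.mem_union_right _ ((finite_support_inter β hV).mem_toFinset.2 ⟨h1, h⟩))
    rw [c1CapFun_eq_sum δ (⇑(α + β)) s hxV I (fun ξ h1 h2 => hI ξ h1 (by
        by_contra h
        push Not at h
        exact h2 (show α ξ + β ξ = 0 by rw [h.1, h.2, add_zero]))),
      c1CapFun_eq_sum δ (⇑α) s hxV I (fun ξ h1 h2 => hI ξ h1 (Or.inl h2)),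
      c1CapFun_eq_sum δ (⇑β) s hxV I (fun ξ h1 h2 => hI ξ h1 (Or.inr h2)), ← Finset.sum_add_distrib]
    exact Finset.sum_congr rfl fun ξ _ => add_mul _ _ _

theorem capCycle_coe {s : (ξ : X) → Cyc.secFibre L ξ} (hs : ∀ ξ, s ξ ≠ 0) (α : AlgebraicCycle X ℤ) :
    ⇑(capCycle hd hL hs α) = Cyc.c1CapFun δ L ⇑α s := (exists_cycle_c1Cap hL hd α hs).choose_spec

theorem part_capCycle {s : (ξ : X) → Cyc.secFibre L ξ} (hs : ∀ ξ, s ξ ≠ 0) (k : ℤ) (α : AlgebraicCycle X ℤ) (x : X) :
    part δ k (capCycle hd hL hs α) x = capCycle hd hL hs (part δ (k + 1) α) x := by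
  rw [part_apply, capCycle_coe, capCycle_coe]
  by_cases hx : δ x = k
  · rw [if_pos hx]
    refine finsum_congr fun ξ => ?_
    by_cases h0 : Cyc.secDivFun δ L ξ (s ξ) x = 0
    · rw [h0, mul_zero, mul_zero]
    · have := (specializes_of_secDivFun_ne_zero h0).2
      rw [part_apply, if_pos (by omega)]
  · rw [if_neg hx]
    refine (finsum_eq_zero_of_forall_eq_zero fun ξ => ?_).symm
    by_contra h
    have := (specializes_of_secDivFun_ne_zero (right_ne_zero_of_mul h)).2
    have h2 := left_ne_zero_of_mul h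
    rw [part_apply] at h2
    split_ifs at h2 with h3
    · omega
    · exact h2 rfl

/-- `c₁(L) ∩` on classes. -/
def c1 : A δ →+ A δ :=
  liftHom (capCycle hd hL (exists_sec hL).choose_spec) 1 (part_capCycle hd hL _)
    fun _k α h => c1Cap_ratEquivZero hd hL h (exists_sec hL).choose_spec (capCycle_coe hd hL _ α)

theorem c1_mk {s : (ξ : X) → Cyc.secFibre L ξ} (hs : ∀ ξ, s ξ ≠ 0) (α γ : AlgebraicCycle X ℤ)
    (hγ : ⇑γ = Cyc.c1CapFun δ L ⇑α s) : c1 hd hL (mk δ α) = mk δ γ := by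
  rw [c1, liftHom_mk, mk_eq_mk_iff]
  intro k
  have e : γ = capCycle hd hL hs α := by
    ext x
    rw [capCycle_coe, hγ]
  subst e
  refine ratEquivZero_congr (fun x => ?_) (ratEquiv_c1Cap hL (part_mem δ (k + 1) α) (exists_sec hL).choose_spec hs
    (capCycle_coe hd hL (exists_sec hL).choose_spec _) (capCycle_coe hd hL hs _))
  show capCycle hd hL (exists_sec hL).choose_spec (part δ (k + 1) α) x - capCycle hd hL hs (part δ (k + 1) α) x = _
  rw [← part_capCycle, ← part_capCycle]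
  rfl

theorem c1_comm {N : X.Modules} (hN : PicF.IsInvertible N) (a : A δ) :
    c1 hd hL (c1 hd hN a) = c1 hd hN (c1 hd hL a) := by
  obtain ⟨α, rfl⟩ := mk_surjective δ a
  have hs := (exists_sec hL).choose_spec
  have ht := (exists_sec hN).choose_spec
  rw [c1_mk hd hN ht α _ (capCycle_coe hd hN ht α), c1_mk hd hL hs _ _ (capCycle_coe hd hL hs _),
    c1_mk hd hL hs α _ (capCycle_coe hd hL hs α), c1_mk hd hN ht _ _ (capCycle_coe hd hN ht _), mk_eq_mk_iff]
  intro k
  refine ratEquivZero_congr (fun x => ?_) (c1Cap_c1Cap_comm hd hL hN (k := k) (part_mem δ (k + 1 + 1) α |> fun h => by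
    rwa [show k + 2 = k + 1 + 1 by ring]) hs hs ht ht (γ₁ := capCycle hd hL hs (capCycle hd hN ht (part δ (k + 1 + 1) α)))
    (γ₂ := capCycle hd hN ht (capCycle hd hL hs (part δ (k + 1 + 1) α)))
    (by rw [capCycle_coe, capCycle_coe]) (by rw [capCycle_coe, capCycle_coe]))
  show capCycle hd hL hs (capCycle hd hN ht (part δ (k + 1 + 1) α)) x -
    capCycle hd hN ht (capCycle hd hL hs (part δ (k + 1 + 1) α)) x = _
  have e1 : capCycle hd hN ht (part δ (k + 1 + 1) α) = part δ (k + 1) (capCycle hd hN ht α) := by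
    ext y; rw [part_capCycle]
  have e2 : capCycle hd hL hs (part δ (k + 1 + 1) α) = part δ (k + 1) (capCycle hd hL hs α) := by
    ext y; rw [part_capCycle]
  rw [e1, e2, ← part_capCycle, ← part_capCycle]
  rfl

theorem c1_congr_iso {N : X.Modules} (hN : PicF.IsInvertible N) (e : L ≅ N) (a : A δ) :
    c1 hd hL a = c1 hd hN a := by
  obtain ⟨α, rfl⟩ := mk_surjective δ a
  obtain ⟨s, hs⟩ := exists_sec hL
  have h := fun ξ => secMap_iso e hL hN ξ (hs ξ)
  rw [c1_mk hd hL hs α _ (capCycle_coe hd hL hs α),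
    c1_mk hd hN (fun ξ => (h ξ).1) α (capCycle hd hL hs α)]
  rw [capCycle_coe]
  funext x
  exact finsum_congr fun ξ => by rw [(h ξ).2]

theorem c1_tensor {N : X.Modules} (hN : PicF.IsInvertible N) (a : A δ) :
    c1 hd (Groth.Agent.M2.isInvertible_tensor hL hN) a = c1 hd hL a + c1 hd hN a := by
  obtain ⟨α, rfl⟩ := mk_surjective δ a
  obtain ⟨s, hs⟩ := exists_sec hL
  obtain ⟨t, ht⟩ := exists_sec hN
  rw [c1_mk hd hL hs α _ (capCycle_coe hd hL hs α), c1_mk hd hN ht α _ (capCycle_coe hd hN ht α), ← map_add]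
  refine c1_mk hd _ (fun ξ => secTensor_ne_zero hL hN (hs ξ) (ht ξ)) α _ ?_
  funext x
  show capCycle hd hL hs α x + capCycle hd hN ht α x = _
  rw [capCycle_coe, capCycle_coe]
  obtain ⟨V, hV, hxV, -⟩ := exists_isAffineOpen_mem_and_subset (U := (⊤ : X.Opens)) (x := x) trivial
  have hI : ∀ ξ ∈ V, α ξ ≠ 0 → ξ ∈ (finite_support_inter α hV).toFinset := fun ξ h1 h2 =>
    (finite_support_inter α hV).mem_toFinset.2 ⟨h1, h2⟩
  rw [c1CapFun_eq_sum δ (⇑α) _ hxV _ hI, c1CapFun_eq_sum δ (⇑α) _ hxV _ hI, c1CapFun_eq_sum δ (⇑α) _ hxV _ hI,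
    ← Finset.sum_add_distrib]
  exact Finset.sum_congr rfl fun ξ _ => by rw [secDivFun_secTensor hL hN δ (hs ξ) (ht ξ), mul_add]

theorem c1_structure (a : A δ) : c1 hd isInvertible_structure a = (0 : A δ) := by
  obtain ⟨α, rfl⟩ := mk_surjective δ a
  rw [c1_mk hd isInvertible_structure (fun ξ => fmk_one_ne_zero ξ) α (0 : AlgebraicCycle X ℤ), map_zero]
  funext x
  exact (c1Cap_one (δ := δ) (⇑α) x).symm

end c1

section pull

variable [IsLocallyNoetherian X] [IsLocallyNoetherian Y] (f : X ⟶ Y) {δX : X → ℤ} {δY : Y → ℤ} {c : ℤ}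

/-- Dimensions shift by `c` along the fibres. -/
def Shift (δX : X → ℤ) (δY : Y → ℤ) (c : ℤ) : Prop :=
  ∀ z, (∀ w, f w = f z → w ⤳ z → w = z) → δX z = δY (f z) + c

variable (hdX : Cyc.IsDimFun X δX) (hdY : Cyc.IsDimFun Y δY) (hc : Shift f δX δY c)

/-- Pull-back of cycles. -/
def pullCycle : AlgebraicCycle Y ℤ →+ AlgebraicCycle X ℤ :=
  AddMonoidHom.mk' (fun α => (exists_cycle_pullFun f hdX hc α).choose) fun α β => by
    ext x
    show (exists_cycle_pullFun f hdX hc (α + β)).choose x =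
      (exists_cycle_pullFun f hdX hc α).choose x + (exists_cycle_pullFun f hdX hc β).choose x
    rw [(exists_cycle_pullFun f hdX hc (α + β)).choose_spec, (exists_cycle_pullFun f hdX hc α).choose_spec,
      (exists_cycle_pullFun f hdX hc β).choose_spec]
    simp only [Cyc.pullFun]
    split_ifs
    · exact add_mul _ _ _
    · rw [add_zero]

omit [IsLocallyNoetherian Y] in
theorem pullCycle_coe (α : AlgebraicCycle Y ℤ) : ⇑(pullCycle f hdX hc α) = Cyc.pullFun f δX δY c ⇑α :=
  (exists_cycle_pullFun f hdX hc α).choose_spec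

omit [IsLocallyNoetherian Y] in
theorem part_pullCycle (k : ℤ) (α : AlgebraicCycle Y ℤ) (x : X) :
    part δX k (pullCycle f hdX hc α) x = pullCycle f hdX hc (part δY (k + -c) α) x := by
  rw [part_apply, pullCycle_coe, pullCycle_coe]
  simp only [Cyc.pullFun, part_apply]
  split_ifs <;> first | omega | rfl | simp

variable [Flat f]

/-- Flat pull-back of classes. -/
def pull : A δY →+ A δX :=
  liftHom (pullCycle f hdX hc) (-c) (part_pullCycle f hdX hc) fun k α h => by
    have h1 := ratEquivZero_pullFun f hdX hdY hc h _ (pullCycle_coe f hdX hc α)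
    rwa [show k + -c + c = k by ring] at h1

theorem pull_mk (α : AlgebraicCycle Y ℤ) (γ : AlgebraicCycle X ℤ) (hγ : ⇑γ = Cyc.pullFun f δX δY c ⇑α) :
    pull f hdX hdY hc (mk δY α) = mk δX γ := by
  rw [pull, liftHom_mk]
  congr 1
  ext x
  rw [pullCycle_coe, hγ]

theorem pull_c1 {L : Y.Modules} (hL : PicF.IsInvertible L) (a : A δY) :
    pull f hdX hdY hc (c1 hdY hL a) =
      c1 hdX (Groth.Agent.Twist.isInvertible_pullback f hL) (pull f hdX hdY hc a) := by
  obtain ⟨α, rfl⟩ := mk_surjective δY a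
  obtain ⟨s, hs⟩ := exists_sec hL
  rw [c1_mk hdY hL hs α _ (capCycle_coe hdY hL hs α), pull_mk f hdX hdY hc _ _ (pullCycle_coe f hdX hc _),
    pull_mk f hdX hdY hc _ _ (pullCycle_coe f hdX hc α)]
  refine (c1_mk hdX _ (fun ξ => secPull_ne_zero f hL ξ (hs (f ξ))) _ _ ?_).symm
  rw [pullCycle_coe, capCycle_coe, pullCycle_coe]
  exact pullFun_c1Cap_secPull f hdX hdY hc hL α s hs

end pull

section push

variable [IsLocallyNoetherian X] [IsLocallyNoetherian Y] (p : X ⟶ Y) [IsProper p] {δX : X → ℤ} {δY : Y → ℤ}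
  (hdX : Cyc.IsDimFun X δX) (hdY : Cyc.IsDimFun Y δY) (hδ : Cyc.DeltaCompat p δX δY)

/-- Push-forward of cycles. -/
def pushCycle (δX : X → ℤ) (δY : Y → ℤ) : AlgebraicCycle X ℤ →+ AlgebraicCycle Y ℤ :=
  AddMonoidHom.ofMapSub (fun α => AlgebraicCycle.map p δX δY α) (map_sub p δX δY)

omit [IsLocallyNoetherian Y] in
theorem part_pushCycle (k : ℤ) (α : AlgebraicCycle X ℤ) (y : Y) :
    part δY k (pushCycle p δX δY α) y = pushCycle p δX δY (part δX (k + 0) α) y := by
  show (if δY y = k then AlgebraicCycle.map p δX δY α y else 0) = AlgebraicCycle.map p δX δY (part δX (k + 0) α) y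
  obtain ⟨W, hW, hyW, -⟩ := exists_isAffineOpen_mem_and_subset (U := (⊤ : Y.Opens)) (x := y) trivial
  let T : Finset X :=
    (α.locallyFiniteSupport.finite_inter_support_of_isCompact (p.isCompact_preimage hW.isCompact)).toFinset.filter
      fun x => p x = y
  have hT : ∀ x ∈ T, p x = y := fun x hx => (Finset.mem_filter.1 hx).2
  have hmem : ∀ x, p x = y → α x ≠ 0 → x ∈ T := fun x hx h =>
    Finset.mem_filter.2 ⟨(Set.Finite.mem_toFinset _).2 ⟨show p x ∈ W by rw [hx]; exact hyW, h⟩, hx⟩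
  have hmem' : ∀ x, p x = y → part δX (k + 0) α x ≠ 0 → x ∈ T := fun x hx h => hmem x hx fun h0 => h (by
    rw [part_apply, h0, ite_self])
  rw [map_apply_eq_sum p δX δY α y T hT fun x hx h _ => hmem x hx h,
    map_apply_eq_sum p δX δY _ y T hT fun x hx h _ => hmem' x hx h]
  split_ifs with hk
  · refine Finset.sum_congr rfl fun x hx => ?_
    simp only [AlgebraicCycle.mapCoeff, part_apply]
    split_ifs with h1 h2
    · rfl
    · exfalso
      apply h2
      rw [h1, show p.base x = y from hT x hx, hk, add_zero]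
    all_goals simp
  · refine (Finset.sum_eq_zero fun x hx => ?_).symm
    simp only [AlgebraicCycle.mapCoeff, part_apply]
    split_ifs with h1 h2
    · exfalso
      apply hk
      rw [show p.base x = y from hT x hx] at h2
      omega
    all_goals simp

/-- Proper push-forward of classes. -/
def push : A δX →+ A δY :=
  liftHom (pushCycle p δX δY) 0 (part_pushCycle p) fun k α h => ratEquivZero_map p hdX hdY hδ (by simpa using h)

theorem push_mk (α : AlgebraicCycle X ℤ) : push p hdX hdY hδ (mk δX α) = mk δY (AlgebraicCycle.map p δX δY α) := rfl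

theorem push_c1 {L : Y.Modules} (hL : PicF.IsInvertible L) (a : A δX) :
    push p hdX hdY hδ (c1 hdX (Groth.Agent.Twist.isInvertible_pullback p hL) a) =
      c1 hdY hL (push p hdX hdY hδ a) := by
  obtain ⟨α, rfl⟩ := mk_surjective δX a
  obtain ⟨s, hs⟩ := exists_sec hL
  have hs' := fun ξ => secPull_ne_zero p hL ξ (hs (p ξ))
  have hL' := Groth.Agent.Twist.isInvertible_pullback p hL
  rw [c1_mk hdX hL' hs' α _ (capCycle_coe hdX hL' hs' α), push_mk, push_mk]
  exact (c1_mk hdY hL hs _ _ (map_c1Cap_secPull p hdX hdY hδ hL α s hs _ (capCycle_coe hdX hL' hs' α))).symm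

end push

end Groth.Agent.Cyc26A
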