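import Groth.Agent.Lib.Cyc26.PBInst
import Groth.Agent.Lib.Cyc26.ChowA
import Groth.Agent.Lib.Cyc26.Stalk
import Groth.Agent.Lib.VeryAmple11.ProjCrit
import Groth.Agent.Lib.RelProj11.Exists
import Groth.Agent.Lib.RelProj11.TwistExist
import Groth.Agent.Lib.VeryAmple11.SymGr
import Groth.Agent.Lib.DPerf.Top
import Groth.Agent.Lib.CurveCoh17.Bases
import Groth.Agent.Lib.ModLimH13.Flat
import Groth.Agent.S5732
import Groth.Agent.S5733
import Groth.Agent.S9126

/-! # Projective bundles of locally free modules, and one step of splitting -/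

set_option autoImplicit false
set_option linter.style.haveILetI false

universe u

open CategoryTheory Limits AlgebraicGeometry TopologicalSpace

set_option backward.isDefEq.respectTransparency false

noncomputable section

namespace Groth.Agent.Cyc26Split

open Groth.Agent

variable {X Y : Scheme.{u}}

/-- A scheme locally of finite type over a setup is a setup. -/
theorem isSetup_of_lft (f : Y ⟶ X) [LocallyOfFiniteType f] {δ : X → ℤ} (hX : Cyc.IsSetup X δ) {δY : Y → ℤ}
    (hf : Cyc.DeltaCompat f δY δ) : Cyc.IsSetup Y δY := by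
  haveI := hX.1
  refine ⟨LocallyOfFiniteType.isLocallyNoetherian f, fun y => ?_, UCat26.isDimFun_of_deltaCompat f hX.2.1 hX.2.2 hf⟩
  letI : Algebra (X.presheaf.stalk (f y)) (Y.presheaf.stalk y) := (f.stalkMap y).hom.toAlgebra
  haveI : Algebra.EssFiniteType (X.presheaf.stalk (f y)) (Y.presheaf.stalk y) :=
    LocallyOfFiniteType.stalkMap f y
  exact S9126.result _ _ (hX.2.1 (f y))

/-- The flat pullback of a short exact sequence. -/
theorem shortExact_pullback (f : Y ⟶ X) [Flat f] {A B C : X.Modules} (a : A ⟶ B) (b : B ⟶ C) (hab : a ≫ b = 0)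
    (hS : (ShortComplex.mk a b hab).ShortExact) :
    ∃ h : (Scheme.Modules.pullback f).map a ≫ (Scheme.Modules.pullback f).map b = 0,
      (ShortComplex.mk _ _ h).ShortExact := by
  haveI := hS.mono_f
  haveI := hS.epi_g
  haveI : Mono a := hS.mono_f
  haveI : Epi b := hS.epi_g
  haveI : (Scheme.Modules.pullback f).IsLeftAdjoint :=
    ⟨_, ⟨Scheme.Modules.pullbackPushforwardAdjunction f⟩⟩
  have h : (Scheme.Modules.pullback f).map a ≫ (Scheme.Modules.pullback f).map b = 0 := by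
    rw [← Functor.map_comp, hab]
    exact (Scheme.Modules.pullback f).map_zero _ _
  refine ⟨h, ?_⟩
  haveI := ModLimH13.mono_pullback_map_of_flat f a
  haveI : Epi ((Scheme.Modules.pullback f).map b) := inferInstance
  exact { exact := ShortComplex.exact_of_g_is_cokernel _
            (CokernelCofork.mapIsColimit _ hS.gIsCokernel (Scheme.Modules.pullback f))
          mono_f := ‹_›
          epi_g := ‹_› }

/-- The rank of a kernel. -/
theorem isFinLocFreeOfRank_kernel {A B D : X.Modules} (i : A ⟶ B) (p : B ⟶ D) (w : i ≫ p = 0)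
    (hS : (ShortComplex.mk i p w).ShortExact) {n d : ℕ} (hB : FlatMod.IsFinLocFreeOfRank (n + d) B)
    (hD : FlatMod.IsFinLocFreeOfRank d D) : FlatMod.IsFinLocFreeOfRank n A := fun y => by
  obtain ⟨U, m, hy, ⟨e⟩⟩ := DPerf.isFinLocFree_kernel i p w hS (M2.isFinLocFree_of_ofRank hB)
    (M2.isFinLocFree_of_ofRank hD) y
  refine ⟨U, hy, ?_⟩
  suffices m = n by subst this; exact ⟨e⟩
  have hres : ∀ {k : ℕ} {M : X.Modules}, FlatMod.IsFinLocFreeOfRank k M →
      FlatMod.IsFinLocFreeOfRank k (M.restrict U.ι) := fun h =>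
    M2.isFinLocFreeOfRank_of_iso ((Scheme.Modules.restrictFunctorIsoPullback U.ι).app _).symm
      (M2.isFinLocFreeOfRank_pullback U.ι h)
  have hA : FlatMod.IsFinLocFreeOfRank m (A.restrict U.ι) :=
    M2.isFinLocFreeOfRank_of_iso e.symm (M2.isFinLocFreeOfRank_freeMod _ m)
  have hR := hS.map_of_exact (Scheme.Modules.restrictFunctor U.ι)
  obtain ⟨hinj, hex, hsurj⟩ := Cyc26.stalkLin_exact hR (⟨y, hy⟩ : U)
  obtain ⟨eA⟩ := CurveCoh17.nonempty_stalk_equiv hA (⟨y, hy⟩ : U)
  obtain ⟨eB⟩ := CurveCoh17.nonempty_stalk_equiv (hres hB) (⟨y, hy⟩ : U)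
  obtain ⟨eD⟩ := CurveCoh17.nonempty_stalk_equiv (hres hD) (⟨y, hy⟩ : U)
  let R := U.toScheme.presheaf.stalk (⟨y, hy⟩ : U)
  let F : (Fin m → R) →ₗ[R] (Fin (n + d) → R) := (eB.toLinearMap ∘ₗ Cyc26.stalkLin ((Scheme.Modules.restrictFunctor U.ι).map i) (⟨y, hy⟩ : U)) ∘ₗ eA.symm.toLinearMap
  let G : (Fin (n + d) → R) →ₗ[R] (Fin d → R) := (eD.toLinearMap ∘ₗ Cyc26.stalkLin ((Scheme.Modules.restrictFunctor U.ι).map p) (⟨y, hy⟩ : U)) ∘ₗ eB.symm.toLinearMap
  have hF : Function.Injective F := eB.injective.comp (hinj.comp eA.symm.injective)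
  have hG : Function.Surjective G := eD.surjective.comp (hsurj.comp eB.symm.surjective)
  have hFG : Function.Exact F G := fun b => by
    constructor
    · intro hb
      obtain ⟨a, ha⟩ := (hex (eB.symm b)).1 (eD.map_eq_zero_iff.1 hb)
      refine ⟨eA a, ?_⟩
      show eB (Cyc26.stalkLin ((Scheme.Modules.restrictFunctor U.ι).map i) (⟨y, hy⟩ : U) (eA.symm (eA a))) = b
      refine (congrArg (fun z => eB (Cyc26.stalkLin ((Scheme.Modules.restrictFunctor U.ι).map i) (⟨y, hy⟩ : U) z))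
        (eA.symm_apply_apply a)).trans ?_
      exact (congrArg eB ha).trans (eB.apply_symm_apply b)
    · rintro ⟨a, rfl⟩
      show eD (Cyc26.stalkLin ((Scheme.Modules.restrictFunctor U.ι).map p) (⟨y, hy⟩ : U)
        (eB.symm (eB (Cyc26.stalkLin ((Scheme.Modules.restrictFunctor U.ι).map i) (⟨y, hy⟩ : U) (eA.symm a))))) = 0
      refine (congrArg (fun z => eD (Cyc26.stalkLin ((Scheme.Modules.restrictFunctor U.ι).map p) (⟨y, hy⟩ : U) z))
        (eB.symm_apply_apply _)).trans ?_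
      exact (congrArg eD ((hex _).2 ⟨_, rfl⟩)).trans (map_zero eD)
  obtain ⟨s, hs⟩ := Module.projective_lifting_property G LinearMap.id hG
  have h := ((hFG.splitSurjectiveEquiv hF) ⟨s, hs⟩).1.finrank_eq
  rw [Module.finrank_prod, Module.finrank_fin_fun, Module.finrank_fin_fun, Module.finrank_fin_fun] at h
  omega

/-- Projective bundles of locally free modules exist, with a locally free kernel. -/
theorem exists_projBundle {n : ℕ} {E : X.Modules} (hE : FlatMod.IsFinLocFreeOfRank (n + 1) E) :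
    ∃ (P : Scheme.{u}) (π : P ⟶ X) (O1 : P.Modules) (q : (Scheme.Modules.pullback π).obj E ⟶ O1),
      KRR.IsProjBundle π E O1 q ∧ RelProj.IsProjective π ∧ IsProper π ∧
      FlatMod.IsFinLocFreeOfRank n (kernel q) := by
  have hf := M2.isFinLocFree_of_ofRank hE
  have hq := M2.isQCoh_of_isFinLocFree hf
  have hft : CohB1.IsFT E := M1.isFP_isFT (M1.isFP_of_isFinLocFree hf)
  let 𝒮 := VA11.symGr hq
  obtain ⟨j, hj⟩ : ∃ j, RelProj.IsGrSymAlg E 𝒮 j := ⟨_, VA11.isGrSymAlg_symGr hq⟩
  obtain ⟨P, p, chart, hP⟩ := RelProj11.exists_isRelProj 𝒮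
  obtain ⟨O1, lam, hO⟩ := RelProj11.exists_isRelTwist hP 1
  have hI := RelProj11.isInvertible_relTwist (VA11.isGenDegOne_of_isGrSymAlg hq hj) hO
  obtain ⟨φ, hφ⟩ := VA11.exists_can hq hj hP hO
  have hφ' : ∀ (U : X.Opens) (hU : IsAffineOpen U) (e : Γ(E, U))
      (y : ↥(RelProj.emb p chart U hU ⁻¹ᵁ (p ⁻¹ᵁ U))),
      GrTwist.val (V := RelProj.emb p chart U hU ⁻¹ᵁ (p ⁻¹ᵁ U))
          ((lam U hU).app (p ⁻¹ᵁ U) ((φ.app U) e)) y =
        algebraMap (𝒮.presheaf.obj (Opposite.op U)) (GrTwist.Loc (𝒮.deg U hU) y.1)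
          ((j.app U) e : 𝒮.presheaf.obj (Opposite.op U)) := fun U hU e y => by
    rw [hφ U hU e]
    exact (VA11.cval_phi hO U hU (j.app U e) (hj.2 U hU e) y.1 y.2).trans (Localization.mk_one_eq_algebraMap _)
  let q := ((Scheme.Modules.pullbackPushforwardAdjunction p).homEquiv E O1).symm φ
  have hPB : KRR.IsProjBundle p E O1 q :=
    ⟨(M2.isInvertible_iff_isFinLocFreeOfRank_one O1).1 hI,
      S5732.result E hq 𝒮 j hj p chart hP O1 lam hO φ hφ', fun T g L hL s hs =>
      S5733.result E hq 𝒮 j hj p chart hP O1 lam hO φ hφ' g L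
        ((M2.isInvertible_iff_isFinLocFreeOfRank_one L).2 hL) s hs⟩
  have hproj := VA11.isProjective_of_isRelProj hq hft hj hP
  haveI := hPB.epi
  refine ⟨P, p, O1, q, hPB, hproj, QuotProj11.isProper_of_isProjective hproj, ?_⟩
  exact isFinLocFreeOfRank_kernel (kernel.ι q) q (kernel.condition q)
    { exact := ShortComplex.exact_kernel q } (M2.isFinLocFreeOfRank_pullback p hE) hPB.invertible

end Groth.Agent.Cyc26Split
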