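import Groth.Agent.Lib.Cyc26.PushDivFinite
import Groth.Agent.Lib.Cyc26.Closure
import Mathlib.LinearAlgebra.Dimension.Finite

/-! # The norm formula and changes of source and target -/

set_option autoImplicit false
universe u

set_option backward.isDefEq.respectTransparency.types false

open CategoryTheory AlgebraicGeometry

namespace Groth.Agent.Cyc26

variable {X Y U V : Scheme.{u}}

open Classical in
/-- `ord_y N(f) = Σ_x deg(x/y) ord_x(f)` over the points `x` of the closure of `ξ` above `y`. -/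
def NormFormula (p : X ⟶ Y) (ξ : X) (y : Y) : Prop :=
  ∀ hy : p ξ ⤳ y, ∃ T : Finset X, (∀ x, x ∈ T ↔ p x = y ∧ ξ ⤳ x) ∧
    ∀ f : X.residueField ξ, f ≠ 0 → Cyc.ordAt y (p ξ) hy (Cyc.normGen p ξ f) =
      ∑ x ∈ T, (p.residueDegree x : ℤ) * (if h : ξ ⤳ x then Cyc.ordAt x ξ h f else 0)

theorem residueDegree_of_bijective (p : X ⟶ Y) (x : X) (h : Function.Bijective (p.residueFieldMap x).hom) :
    p.residueDegree x = 1 := by
  letI := (p.residueFieldMap x).hom.toAlgebra
  show Module.finrank (Y.residueField (p x)) (X.residueField x) = 1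
  rw [← Module.finrank_self (Y.residueField (p x))]
  exact (LinearEquiv.ofBijective (Algebra.linearMap (Y.residueField (p x)) (X.residueField x)) h).finrank_eq.symm

theorem residueDegree_comp (p : X ⟶ Y) (q : Y ⟶ U) (x : X) :
    (p ≫ q).residueDegree x = q.residueDegree (p x) * p.residueDegree x := by
  letI := (p.residueFieldMap x).hom.toAlgebra
  letI := (q.residueFieldMap (p x)).hom.toAlgebra
  letI : Algebra (U.residueField (q (p x))) (X.residueField x) :=
    ((q.residueFieldMap (p x) ≫ p.residueFieldMap x).hom).toAlgebra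
  haveI : IsScalarTower (U.residueField (q (p x))) (Y.residueField (p x)) (X.residueField x) :=
    IsScalarTower.of_algebraMap_eq fun _ => rfl
  have h := Module.finrank_mul_finrank (U.residueField (q (p x))) (Y.residueField (p x)) (X.residueField x)
  refine Eq.trans ?_ h.symm
  show @Module.finrank _ (X.residueField x) _ _
    ((p ≫ q).residueFieldMap x).hom.toAlgebra.toModule = _
  rw [Scheme.residueFieldMap_comp]
  rfl

theorem normGen_left (j : U ⟶ X) [SurjectiveOnStalks j] (p : X ⟶ Y) (ξ : U) (f : X.residueField (j ξ)) :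
    Cyc.normGen (j ≫ p) ξ (j.residueFieldMap ξ f) = Cyc.normGen p (j ξ) f := by
  letI : Algebra (Y.residueField (p (j ξ))) (X.residueField (j ξ)) := (p.residueFieldMap (j ξ)).hom.toAlgebra
  letI i2 : Algebra (Y.residueField (p (j ξ))) (U.residueField ξ) := ((j ≫ p).residueFieldMap ξ).hom.toAlgebra
  show @Algebra.norm (Y.residueField (p (j ξ))) (U.residueField ξ) _ _ i2 _ = _
  let e : X.residueField (j ξ) ≃ₐ[Y.residueField (p (j ξ))] U.residueField ξ :=
    AlgEquiv.ofBijective
      { (j.residueFieldMap ξ).hom with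
        commutes' := fun a => (ConcreteCategory.congr_hom (Scheme.residueFieldMap_comp j p ξ) a).symm }
      (residueFieldMap_bijective j ξ)
  exact Algebra.norm_eq_of_algEquiv e f

theorem normGen_right (p : U ⟶ V) (k : V ⟶ Y) [SurjectiveOnStalks k] (ξ : U) (f : U.residueField ξ) :
    k.residueFieldMap (p ξ) (Cyc.normGen (p ≫ k) ξ f) = Cyc.normGen p ξ f := by
  letI i1 : Algebra (V.residueField (p ξ)) (U.residueField ξ) := (p.residueFieldMap ξ).hom.toAlgebra
  letI i2 : Algebra (Y.residueField (k (p ξ))) (U.residueField ξ) := ((p ≫ k).residueFieldMap ξ).hom.toAlgebra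
  let e : Y.residueField (k (p ξ)) ≃+* V.residueField (p ξ) :=
    RingEquiv.ofBijective (k.residueFieldMap (p ξ)).hom (residueFieldMap_bijective k (p ξ))
  have h := Algebra.norm_eq_of_equiv_equiv (A₁ := Y.residueField (k (p ξ))) (B₁ := U.residueField ξ)
    (A₂ := V.residueField (p ξ)) (B₂ := U.residueField ξ) e (RingEquiv.refl _) (by
      ext a
      exact (ConcreteCategory.congr_hom (Scheme.residueFieldMap_comp p k ξ) a).symm) f
  show e (@Algebra.norm (Y.residueField (k (p ξ))) (U.residueField ξ) _ _ i2 f) = _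
  rw [h, RingEquiv.apply_symm_apply]
  rfl

theorem normFormula_finite [IsLocallyNoetherian X] [IsLocallyNoetherian Y] (p : X ⟶ Y) [IsFinite p] {ξ : X} {y : Y}
    (hdim : ∀ hy : p ξ ⤳ y, ringKrullDim (Cyc.LocQuot y (p ξ) hy) ≤ 1) : NormFormula p ξ y :=
  fun hy => norm_formula_finite p hy (hdim hy)

/-- Enlarging the target. -/
theorem normFormula_right (p : U ⟶ V) (k : V ⟶ Y) [IsPreimmersion k] {ξ : U} {y : V}
    (h : NormFormula p ξ y) : NormFormula (p ≫ k) ξ (k y) := by
  intro hy
  obtain ⟨T, hT, hf⟩ := h (k.isEmbedding.isInducing.specializes_iff.1 hy)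
  refine ⟨T, fun x => (hT x).trans (and_congr_left' ⟨fun e => ?_, fun e => k.isEmbedding.injective e⟩), fun f hf0 => ?_⟩
  · show k (p x) = k y
    rw [e]
  · have h1 : Cyc.ordAt (k y) (k (p ξ)) hy (Cyc.normGen (p ≫ k) ξ f) =
        Cyc.ordAt y (p ξ) (k.isEmbedding.isInducing.specializes_iff.1 hy)
          (k.residueFieldMap (p ξ) (Cyc.normGen (p ≫ k) ξ f)) :=
      (ordAt_preimmersion k _ _).symm
    refine h1.trans ?_
    rw [normGen_right, hf f hf0]
    refine Finset.sum_congr rfl fun x _ => ?_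
    rw [residueDegree_comp, residueDegree_of_bijective k (p x) (residueFieldMap_bijective k (p x)), one_mul]

/-- Shrinking the source. -/
theorem normFormula_left (j : U ⟶ X) [IsPreimmersion j] (p : X ⟶ Y) {ξ : U} {y : Y}
    (hrange : ∀ x, p x = y → j ξ ⤳ x → x ∈ Set.range j) (h : NormFormula (j ≫ p) ξ y) :
    NormFormula p (j ξ) y := by
  classical
  intro hy
  obtain ⟨T, hT, hf⟩ := h hy
  refine ⟨T.map ⟨j, j.isEmbedding.injective⟩, fun x => ?_, fun f hf0 => ?_⟩
  · rw [Finset.mem_map]
    constructor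
    · rintro ⟨u, hu, rfl⟩
      obtain ⟨h1, h2⟩ := (hT u).1 hu
      exact ⟨h1, h2.map j.continuous⟩
    · rintro ⟨h1, h2⟩
      obtain ⟨u, rfl⟩ := hrange x h1 h2
      exact ⟨u, (hT u).2 ⟨h1, j.isEmbedding.isInducing.specializes_iff.1 h2⟩, rfl⟩
  · have h1 := hf (j.residueFieldMap ξ f) ((map_ne_zero _).2 hf0)
    rw [normGen_left] at h1
    refine h1.trans ?_
    rw [Finset.sum_map]
    refine Finset.sum_congr rfl fun u hu => ?_
    obtain ⟨-, h2⟩ := (hT u).1 hu
    rw [residueDegree_comp, residueDegree_of_bijective j u (residueFieldMap_bijective j u), mul_one, dif_pos h2]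
    refine congrArg _ ?_
    show _ = dite (j ξ ⤳ j u) _ _
    rw [dif_pos (h2.map j.continuous), ordAt_preimmersion j h2 f]
    rfl

end Groth.Agent.Cyc26
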