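import Groth.Agent.Lib.Cyc26.Frac
import Groth.Agent.Lib.Herbrand26.DimOne

/-! # Flat pullback of principal divisors -/

set_option autoImplicit false
universe u

set_option backward.isDefEq.respectTransparency.types false

open CategoryTheory AlgebraicGeometry TopologicalSpace Pointwise

namespace Groth.Agent.Cyc26

variable {X Y : Scheme.{u}}

theorem isLocalization_stalkSpecializes {x ξ : X} (h : ξ ⤳ x) :
    letI := (X.presheaf.stalkSpecializes h).hom.toAlgebra
    IsLocalization (RingHom.ker (Cyc.specMap x ξ h)).primeCompl (X.presheaf.stalk ξ) := by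
  letI := (X.presheaf.stalkSpecializes h).hom.toAlgebra
  obtain ⟨U, hU, hx, -⟩ := exists_isAffineOpen_mem_and_subset (U := (⊤ : X.Opens)) (x := x) trivial
  have hξ : ξ ∈ U := h.mem_open U.isOpen hx
  letI := TopCat.Presheaf.algebra_section_stalk X.presheaf (⟨x, hx⟩ : U)
  haveI := hU.isLocalization_stalk ⟨x, hx⟩
  letI := TopCat.Presheaf.algebra_section_stalk X.presheaf (⟨ξ, hξ⟩ : U)
  haveI := hU.isLocalization_stalk ⟨ξ, hξ⟩
  haveI : IsScalarTower Γ(X, U) (X.presheaf.stalk x) (X.presheaf.stalk ξ) := IsScalarTower.of_algebraMap_eq fun r =>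
    (TopCat.Presheaf.germ_stalkSpecializes_apply X.presheaf hx h r).symm
  have hle : (hU.primeIdealOf ⟨x, hx⟩).asIdeal.primeCompl ≤ (hU.primeIdealOf ⟨ξ, hξ⟩).asIdeal.primeCompl :=
    fun r hr hr' => hr ((VarDim.primeIdealOf_le_iff hU ⟨ξ, hξ⟩ ⟨x, hx⟩).2 h hr')
  haveI := IsLocalization.isLocalization_of_submonoid_le (X.presheaf.stalk x) (X.presheaf.stalk ξ) _ _ hle
  refine IsLocalization.of_le (Submonoid.map (algebraMap Γ(X, U) (X.presheaf.stalk x))
    (hU.primeIdealOf ⟨ξ, hξ⟩).asIdeal.primeCompl) _ ?_ fun r hr => ?_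
  · rintro _ ⟨r, hr, rfl⟩ hk
    have hu : IsUnit (algebraMap Γ(X, U) (X.presheaf.stalk ξ) r) := IsLocalization.map_units _ ⟨r, hr⟩
    rw [IsScalarTower.algebraMap_apply Γ(X, U) (X.presheaf.stalk x) (X.presheaf.stalk ξ)] at hu
    exact (hu.map (X.residue ξ).hom).ne_zero hk
  · by_contra hn
    exact hr ((residue_eq_zero ξ (X.presheaf.stalkSpecializes h r)).2 hn)

theorem map_ker_specMap {x ξ : X} (h : ξ ⤳ x) :
    (RingHom.ker (Cyc.specMap x ξ h)).map (X.presheaf.stalkSpecializes h).hom =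
      IsLocalRing.maximalIdeal (X.presheaf.stalk ξ) := by
  letI := (X.presheaf.stalkSpecializes h).hom.toAlgebra
  haveI := isLocalization_stalkSpecializes h
  haveI : IsLocalization.AtPrime (X.presheaf.stalk ξ) (RingHom.ker (Cyc.specMap x ξ h)) := isLocalization_stalkSpecializes h
  exact IsLocalization.AtPrime.map_eq_maximalIdeal (RingHom.ker (Cyc.specMap x ξ h)) (X.presheaf.stalk ξ)

theorem ordAt_mk [IsLocallyNoetherian X] {δ : X → ℤ} (hd : Cyc.IsDimFun X δ) {x ξ : X} (h : ξ ⤳ x)
    (hδ : δ x + 1 = δ ξ) {a : X.presheaf.stalk x} (ha : a ∉ RingHom.ker (Cyc.specMap x ξ h)) :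
    Cyc.ordAt x ξ h (Cyc.specMap x ξ h a) =
        ((Ring.ord (Cyc.LocQuot x ξ h) (Ideal.Quotient.mk _ a)).toNat : ℤ) ∧
      Ring.ord (Cyc.LocQuot x ξ h) (Ideal.Quotient.mk _ a) < ⊤ := by
  haveI := isFractionRing_locQuot h
  haveI := noetherian_locQuot h
  exact Lattice26.ordFrac_algebraMap (A := Cyc.LocQuot x ξ h) (K := X.residueField ξ) (dim_locQuot_le_one hd h hδ)
    (a := Ideal.Quotient.mk _ a) fun h0 => ha (Ideal.Quotient.eq_zero_iff_mem.1 h0)

theorem length_locLen {x : X} (f : X ⟶ Y) {ξ : X} (h : ξ ⤳ x) {η : Y} (he : f ξ = η) (hη : η ⤳ f x) :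
    Herbrand26.locLen (⟨RingHom.ker (Cyc.specMap x ξ h), RingHom.ker_isPrime _⟩ : PrimeSpectrum (X.presheaf.stalk x))
      (X.presheaf.stalk x ⧸ (RingHom.ker (Cyc.specMap (f x) η hη)).map (f.stalkMap x).hom) =
    Module.length (X.presheaf.stalk ξ) (X.presheaf.stalk ξ ⧸ Ideal.map (f.stalkMap ξ).hom
      (IsLocalRing.maximalIdeal (Y.presheaf.stalk (f ξ)))) := by
  subst he
  letI := (X.presheaf.stalkSpecializes h).hom.toAlgebra
  haveI hL := isLocalization_stalkSpecializes h
  set q : PrimeSpectrum (X.presheaf.stalk x) := ⟨RingHom.ker (Cyc.specMap x ξ h), RingHom.ker_isPrime _⟩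
  set I := (RingHom.ker (Cyc.specMap (f x) (f ξ) hη)).map (f.stalkMap x).hom
  have hI : I.map (X.presheaf.stalkSpecializes h).hom =
      Ideal.map (f.stalkMap ξ).hom (IsLocalRing.maximalIdeal (Y.presheaf.stalk (f ξ))) := by
    rw [← map_ker_specMap hη, Ideal.map_map, Ideal.map_map]
    congr 1
    exact (congrArg CommRingCat.Hom.hom (Scheme.Hom.stalkSpecializes_stalkMap f ξ x h)).symm
  let e : Localization.AtPrime q.asIdeal ≃ₐ[X.presheaf.stalk x] X.presheaf.stalk ξ :=
    IsLocalization.algEquiv q.asIdeal.primeCompl _ _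
  have h1 : Module.length (Localization.AtPrime q.asIdeal)
      (Localization.AtPrime q.asIdeal ⧸ I.map (algebraMap _ (Localization.AtPrime q.asIdeal))) =
      Module.length (X.presheaf.stalk ξ) (X.presheaf.stalk ξ ⧸ I.map (X.presheaf.stalkSpecializes h).hom) := by
    let g := Ideal.quotientEquiv (I.map (algebraMap _ (Localization.AtPrime q.asIdeal)))
      (I.map (X.presheaf.stalkSpecializes h).hom) e.toRingEquiv
      (((Ideal.map_map _ _).trans (congrArg (fun φ => Ideal.map φ I) (RingHom.ext fun r => e.commutes r))).symm)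
    refine length_eq_of_semilinear (σ := e.toRingEquiv.toRingHom) e.surjective (e := g.toAddEquiv) ?_
    intro r m
    obtain ⟨m, rfl⟩ := Ideal.Quotient.mk_surjective m
    show g (Ideal.Quotient.mk _ (r * m)) = e r • g (Ideal.Quotient.mk _ m)
    simp [g, Algebra.smul_def]
  rw [← hI, ← h1, Herbrand26.locLen]
  let g : (X.presheaf.stalk x ⧸ I) →ₗ[X.presheaf.stalk x]
      (Localization.AtPrime q.asIdeal ⧸ I.map (algebraMap _ (Localization.AtPrime q.asIdeal))) :=
    Submodule.mapQ I ((I.map (algebraMap _ (Localization.AtPrime q.asIdeal))).restrictScalars (X.presheaf.stalk x))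
      (Algebra.linearMap _ _) (fun a ha => Ideal.mem_map_of_mem _ ha)
  haveI : IsLocalizedModule q.asIdeal.primeCompl g := by
    have := IsLocalizedModule.toLocalizedQuotient' (Localization.AtPrime q.asIdeal) q.asIdeal.primeCompl
      (Algebra.linearMap (X.presheaf.stalk x) (Localization.AtPrime q.asIdeal)) I
    have hloc : Submodule.localized' (Localization.AtPrime q.asIdeal) q.asIdeal.primeCompl
        (Algebra.linearMap (X.presheaf.stalk x) (Localization.AtPrime q.asIdeal)) I =
        I.map (algebraMap _ (Localization.AtPrime q.asIdeal)) := Ideal.localized'_eq_map _ _ I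
    have h2 := this.of_linearEquiv (e := (Submodule.quotEquivOfEq _ _ hloc).restrictScalars (X.presheaf.stalk x))
    convert h2 using 1
    refine LinearMap.ext fun z => ?_
    obtain ⟨z, rfl⟩ := Submodule.Quotient.mk_surjective _ z
    rfl
  exact (LinearEquiv.extendScalarsOfIsLocalization q.asIdeal.primeCompl (Localization.AtPrime q.asIdeal)
    (IsLocalizedModule.iso q.asIdeal.primeCompl g)).length_eq

open Classical in
/-- The divisor formula for one element of the local ring. -/
theorem length_mul_eq_sum [IsLocallyNoetherian X] [IsLocallyNoetherian Y] (f : X ⟶ Y) [Flat f] {δX : X → ℤ}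
    {δY : Y → ℤ} (hdX : Cyc.IsDimFun X δX) (hdY : Cyc.IsDimFun Y δY) {c k : ℤ} (hle : ∀ z, δX z ≤ δY (f z) + c)
    {η : Y} (hη : δY η = k + 1) {x : X} (hsp : η ⤳ f x) (hy : δY (f x) = k) (hxk : δX x = k + c)
    (hc : ∀ z, (∀ w, f w = f z → w ⤳ z → w = z) → δX z = δY (f z) + c) :
    ∃ T : Finset X, (∀ ξ, ξ ∈ T ↔ f ξ = η ∧ (∀ w, f w = f ξ → w ⤳ ξ → w = ξ) ∧ ξ ⤳ x) ∧
      (∀ ξ ∈ T, δX x + 1 = δX ξ) ∧
      ∀ a : Y.presheaf.stalk (f x), a ∉ RingHom.ker (Cyc.specMap (f x) η hsp) →
        (Cyc.ordAt (f x) η hsp (Cyc.specMap (f x) η hsp a)) *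
          ((Module.length (X.presheaf.stalk x) (X.presheaf.stalk x ⧸ Ideal.map (f.stalkMap x).hom
            (IsLocalRing.maximalIdeal (Y.presheaf.stalk (f x))))).toNat : ℤ) =
        ∑ ξ ∈ T, ((Module.length (X.presheaf.stalk ξ) (X.presheaf.stalk ξ ⧸ Ideal.map (f.stalkMap ξ).hom
            (IsLocalRing.maximalIdeal (Y.presheaf.stalk (f ξ))))).toNat : ℤ) *
          (if h : ξ ⤳ x then Cyc.ordAt x ξ h (Cyc.specMap x ξ h (f.stalkMap x a)) else 0) := by
  classical
  set A := Y.presheaf.stalk (f x)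
  set B := X.presheaf.stalk x
  set P := RingHom.ker (Cyc.specMap (f x) η hsp)
  letI : Algebra A B := (f.stalkMap x).hom.toAlgebra
  haveI : Module.Flat A B := (Flat.iff_flat_stalkMap f).1 inferInstance x
  haveI : IsLocalHom (algebraMap A B) := inferInstanceAs (IsLocalHom (f.stalkMap x).hom)
  set I := P.map (f.stalkMap x).hom
  have hTmem : ∀ ξ (hξ : ξ ⤳ x), I ≤ RingHom.ker (Cyc.specMap x ξ hξ) → RingHom.ker (Cyc.specMap x ξ hξ) ≠
      IsLocalRing.maximalIdeal B → f ξ = η ∧ (∀ w, f w = f ξ → w ⤳ ξ → w = ξ) ∧ δX x + 1 = δX ξ := by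
    intro ξ hξ hI hne
    have h1 : η ⤳ f ξ := by
      rw [← UCat26.fromSpecStalk_ker hsp, ← UCat26.fromSpecStalk_ker (hξ.map f.continuous)]
      refine (UCat26.specializes_map_iff _ (Y.fromSpecStalk (f x)).isEmbedding _ _).2 ?_
      show P ≤ RingHom.ker (Cyc.specMap (f x) (f ξ) _)
      intro a ha
      have h2 := hI (Ideal.mem_map_of_mem _ ha)
      rw [RingHom.mem_ker] at h2 ⊢
      have h3 : f.residueFieldMap ξ (Cyc.specMap (f x) (f ξ) (hξ.map f.continuous) a) =
          Cyc.specMap x ξ hξ (f.stalkMap x a) := by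
        show f.residueFieldMap ξ (Y.residue _ (Y.presheaf.stalkSpecializes _ a)) =
          X.residue ξ (X.presheaf.stalkSpecializes hξ (f.stalkMap x a))
        rw [← Scheme.Hom.stalkSpecializes_stalkMap_apply f ξ x hξ a]
        exact ConcreteCategory.congr_hom (Scheme.residue_residueFieldMap f _) _
      rw [h2] at h3
      exact (map_eq_zero _).1 h3
    have hξx : ξ ≠ x := by
      rintro rfl
      refine hne (Ideal.ext fun a => ?_)
      show X.residue _ (X.presheaf.stalkSpecializes hξ a) = 0 ↔ _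
      rw [show X.presheaf.stalkSpecializes hξ = 𝟙 _ from TopCat.Presheaf.stalkSpecializes_refl X.presheaf _]
      exact residue_eq_zero _ a
    have h4 := (hdX ξ x hξ hξx).1
    have h5 := hle ξ
    have h6 := UCat26.delta_le_of_specializes hdY h1
    have h7 : f ξ = η := by
      by_contra hn
      have := (hdY η (f ξ) h1 fun e => hn e.symm).1
      omega
    refine ⟨h7, fun w hw hwξ => ?_, by rw [h7] at h5; omega⟩
    by_contra hn
    have := (hdX w ξ hwξ hn).1
    have h8 := hle w
    rw [hw, h7] at h8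
    rw [h7] at h5
    omega
  set M := B ⧸ I
  have hsupp : ∀ q : PrimeSpectrum B, q ∈ Module.support B M ↔ I ≤ q.asIdeal := fun q => by
    rw [Module.support_eq_zeroLocus, Ideal.annihilator_quotient, PrimeSpectrum.mem_zeroLocus]; rfl
  let pt : PrimeSpectrum B → X := fun q => X.fromSpecStalk x q
  have hpt : ∀ q, pt q ⤳ x := fun q => by
    have hr : pt q ∈ Set.range (X.fromSpecStalk x) := ⟨q, rfl⟩
    rw [Scheme.range_fromSpecStalk] at hr
    exact hr
  have hqker : ∀ q, q.asIdeal = RingHom.ker (Cyc.specMap x (pt q) (hpt q)) := fun q =>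
    congrArg PrimeSpectrum.asIdeal ((X.fromSpecStalk x).isEmbedding.injective
      (UCat26.fromSpecStalk_ker (hpt q)).symm : q = ⟨_, RingHom.ker_isPrime _⟩)
  have hmem : ∀ q, q ∈ Module.support B M → q.asIdeal ≠ IsLocalRing.maximalIdeal B →
      f (pt q) = η ∧ (∀ w, f w = f (pt q) → w ⤳ pt q → w = pt q) ∧ δX x + 1 = δX (pt q) :=
    fun q h1 h2 => hTmem (pt q) (hpt q) (hqker q ▸ (hsupp q).1 h1) (hqker q ▸ h2)
  have hinv : ∀ ξ, f ξ = η → (∀ w, f w = f ξ → w ⤳ ξ → w = ξ) → ∀ h : ξ ⤳ x,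
      (⟨_, RingHom.ker_isPrime (Cyc.specMap x ξ h)⟩ : PrimeSpectrum B) ∈ Module.support B M ∧
      RingHom.ker (Cyc.specMap x ξ h) ≠ IsLocalRing.maximalIdeal B := by
    intro ξ he hm h
    refine ⟨(hsupp _).2 ?_, fun e => ?_⟩
    · subst he
      rw [Ideal.map_le_iff_le_comap]
      intro a ha
      show Cyc.specMap x ξ h (f.stalkMap x a) = 0
      have h3 : f.residueFieldMap ξ (Cyc.specMap (f x) (f ξ) hsp a) = Cyc.specMap x ξ h (f.stalkMap x a) := by
        show f.residueFieldMap ξ (Y.residue _ (Y.presheaf.stalkSpecializes _ a)) =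
          X.residue ξ (X.presheaf.stalkSpecializes h (f.stalkMap x a))
        rw [← Scheme.Hom.stalkSpecializes_stalkMap_apply f ξ x h a]
        exact ConcreteCategory.congr_hom (Scheme.residue_residueFieldMap f _) _
      rw [← h3, show Cyc.specMap (f x) (f ξ) hsp a = 0 from ha, map_zero]
    · have e2 := UCat26.fromSpecStalk_ker h
      rw [show (⟨RingHom.ker (Cyc.specMap x ξ h), RingHom.ker_isPrime _⟩ : PrimeSpectrum B) =
        IsLocalRing.closedPoint B from PrimeSpectrum.ext e, Scheme.fromSpecStalk_closedPoint] at e2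
      have h5 := hc ξ hm
      rw [he] at h5
      rw [← e2] at h5
      omega
  haveI : IsNoetherianRing B := inferInstance
  have hminS : ∀ q : PrimeSpectrum B, q ∈ Module.support B M → q.asIdeal ≠ IsLocalRing.maximalIdeal B →
      ∀ q' ∈ Module.support B M, q' ≤ q → q' = q := by
    intro q h1 h2 q' h1' hle'
    have h2' : q'.asIdeal ≠ IsLocalRing.maximalIdeal B := fun e =>
      h2 (le_antisymm (IsLocalRing.le_maximalIdeal q.2.ne_top) (e ▸ hle'))
    obtain ⟨a1, a2, -⟩ := hmem q h1 h2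
    obtain ⟨b1, -, -⟩ := hmem q' h1' h2'
    refine (X.fromSpecStalk x).isEmbedding.injective (a2 (pt q') (b1.trans a1.symm) ?_)
    exact (UCat26.specializes_map_iff _ (X.fromSpecStalk x).isEmbedding _ _).2 hle'
  have hfinS : {q : PrimeSpectrum B | q ∈ Module.support B M ∧ q.asIdeal ≠ IsLocalRing.maximalIdeal B}.Finite := by
    refine ((Ideal.finite_minimalPrimes_of_isNoetherianRing B I).preimage
      (f := fun q : PrimeSpectrum B => q.asIdeal) (fun a _ b _ => PrimeSpectrum.ext)).subset fun q hq => ?_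
    refine ⟨⟨q.2, (hsupp q).1 hq.1⟩, fun Q hQ hQle => ?_⟩
    exact (congrArg PrimeSpectrum.asIdeal (hminS q hq.1 hq.2 ⟨Q, hQ.1⟩ ((hsupp _).2 hQ.2) hQle)).ge
  let S := hfinS.toFinset
  refine ⟨S.image pt, fun ξ => ⟨fun hξ => ?_, fun ⟨he, hm, h⟩ => ?_⟩, fun ξ hξ => ?_, fun a ha => ?_⟩
  · obtain ⟨q, hq, rfl⟩ := Finset.mem_image.1 hξ
    obtain ⟨h1, h2⟩ := hfinS.mem_toFinset.1 hq
    exact ⟨(hmem q h1 h2).1, (hmem q h1 h2).2.1, hpt q⟩
  · exact Finset.mem_image.2 ⟨⟨_, RingHom.ker_isPrime _⟩, hfinS.mem_toFinset.2 (hinv ξ he hm h),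
      UCat26.fromSpecStalk_ker h⟩
  · obtain ⟨q, hq, rfl⟩ := Finset.mem_image.1 hξ
    obtain ⟨h1, h2⟩ := hfinS.mem_toFinset.1 hq
    exact (hmem q h1 h2).2.2
  · have hnotmem : ∀ q ∈ S, f.stalkMap x a ∉ q.asIdeal := by
      intro q hq hin
      obtain ⟨h1, h2⟩ := hfinS.mem_toFinset.1 hq
      obtain ⟨h3, -, -⟩ := hmem q h1 h2
      subst h3
      refine ha ?_
      rw [hqker q, RingHom.mem_ker] at hin
      have h4 : f.residueFieldMap (pt q) (Cyc.specMap (f x) (f (pt q)) hsp a) =
          Cyc.specMap x (pt q) (hpt q) (f.stalkMap x a) := by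
        show f.residueFieldMap _ (Y.residue _ (Y.presheaf.stalkSpecializes _ a)) =
          X.residue _ (X.presheaf.stalkSpecializes (hpt q) (f.stalkMap x a))
        rw [← Scheme.Hom.stalkSpecializes_stalkMap_apply f (pt q) x (hpt q) a]
        exact ConcreteCategory.congr_hom (Scheme.residue_residueFieldMap f _) _
      rw [hin] at h4
      exact (map_eq_zero _).1 h4
    have key := Herbrand26.length_quot_eq M (f.stalkMap x a) S (fun q => hfinS.mem_toFinset) hnotmem
      (fun q hq => hminS q (hfinS.mem_toFinset.1 hq).1 (hfinS.mem_toFinset.1 hq).2)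
    have hker : LinearMap.ker (LinearMap.lsmul B M (f.stalkMap x a)) = ⊥ := by
      haveI : IsDomain (A ⧸ P) := inferInstance
      have hinj : Function.Injective (LinearMap.lsmul A (A ⧸ P) a) := by
        intro u v huv
        obtain ⟨u, rfl⟩ := Ideal.Quotient.mk_surjective u
        obtain ⟨v, rfl⟩ := Ideal.Quotient.mk_surjective v
        have h0 : Ideal.Quotient.mk P a * Ideal.Quotient.mk P u = Ideal.Quotient.mk P a * Ideal.Quotient.mk P v := huv
        exact mul_left_cancel₀ (fun h0 => ha (Ideal.Quotient.eq_zero_iff_mem.1 h0)) h0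
      have ht := Module.Flat.lTensor_preserves_injective_linearMap (M := B) _ hinj
      let e := (Algebra.TensorProduct.quotIdealMapEquivTensorQuot B P).toLinearEquiv
      rw [eq_bot_iff]
      intro z hz
      have h0 : f.stalkMap x a • z = 0 := hz
      have h1 : (LinearMap.lsmul A (A ⧸ P) a).lTensor B (e z) = (LinearMap.lsmul A (A ⧸ P) a).lTensor B 0 := by
        have hcomm : ∀ w : TensorProduct A B (A ⧸ P), (LinearMap.lsmul A (A ⧸ P) a).lTensor B w = f.stalkMap x a • w := by
          intro w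
          induction w using TensorProduct.induction_on with
          | zero => rw [map_zero, smul_zero]
          | tmul b m =>
            rw [LinearMap.lTensor_tmul, LinearMap.lsmul_apply, ← TensorProduct.smul_tmul, TensorProduct.smul_tmul']
            rfl
          | add u v hu hv => rw [map_add, hu, hv, smul_add]
        rw [map_zero, hcomm, ← map_smul, h0, map_zero]
      exact e.injective ((ht h1).trans (map_zero e).symm)
    rw [hker, Module.length_eq_zero (M := (⊥ : Submodule B M)), zero_add] at key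
    have hlhs : Module.length B (M ⧸ f.stalkMap x a • (⊤ : Submodule B M)) =
        Ring.ord (Cyc.LocQuot (f x) η hsp) (Ideal.Quotient.mk _ a) *
          Module.length B (B ⧸ Ideal.map (f.stalkMap x).hom (IsLocalRing.maximalIdeal A)) := by
      have e1 : Module.length B (M ⧸ f.stalkMap x a • (⊤ : Submodule B M)) =
          Module.length B (B ⧸ (P ⊔ Ideal.span {a}).map (algebraMap A B)) := by
        rw [Ideal.map_sup, Ideal.map_span, Set.image_singleton]
        have hmk : f.stalkMap x a • (⊤ : Submodule B M) =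
            Submodule.map (Submodule.mkQ I) (I ⊔ Ideal.span {f.stalkMap x a}) := by
          rw [Submodule.map_sup, Submodule.map_span, Set.image_singleton]
          rw [show Submodule.map I.mkQ I = ⊥ from by rw [eq_bot_iff, Submodule.map_le_iff_le_comap, Submodule.comap_bot, Submodule.ker_mkQ], bot_sup_eq]
          refine le_antisymm ?_ ?_
          · intro z hz
            obtain ⟨m, -, rfl⟩ := (Submodule.mem_smul_pointwise_iff_exists _ _ _).1 hz
            obtain ⟨b, rfl⟩ := Ideal.Quotient.mk_surjective m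
            refine Submodule.mem_span_singleton.2 ⟨b, ?_⟩
            show Ideal.Quotient.mk I (b * f.stalkMap x a) = Ideal.Quotient.mk I (f.stalkMap x a * b)
            rw [mul_comm]
          · rw [Submodule.span_singleton_le_iff_mem]
            exact (Submodule.mem_smul_pointwise_iff_exists _ _ _).2 ⟨Ideal.Quotient.mk I 1, trivial, by
              show Ideal.Quotient.mk I (f.stalkMap x a * 1) = Ideal.Quotient.mk I (f.stalkMap x a)
              rw [mul_one]⟩
        rw [hmk]
        exact (Submodule.quotientQuotientEquivQuotient I (I ⊔ Ideal.span {f.stalkMap x a}) le_sup_left).length_eq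
      rw [e1, length_quotient_map A B]
      congr 1
      show _ = Module.length (A ⧸ P) ((A ⧸ P) ⧸ Ideal.span {Ideal.Quotient.mk P a})
      rw [← Module.length_eq_of_surjective (S := A) (R := A ⧸ P) Ideal.Quotient.mk_surjective]
      have hmap : Ideal.span {Ideal.Quotient.mk P a} = (Ideal.span {a}).map (Ideal.Quotient.mk P) := by
        rw [Ideal.map_span, Set.image_singleton]
      rw [hmap]
      exact (DoubleQuot.quotQuotEquivQuotSupₐ A P (Ideal.span {a})).toLinearEquiv.length_eq.symm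
    rw [hlhs] at key
    rw [(ordAt_mk hdY hsp (by omega) ha).1, ← Nat.cast_mul, ← ENat.toNat_mul, key]
    have hterm : ∀ q ∈ S, Ring.ord (B ⧸ q.asIdeal) (Ideal.Quotient.mk q.asIdeal (f.stalkMap x a)) *
        Herbrand26.locLen q M ≠ ⊤ := by
      intro q hq h
      have hle1 := Finset.single_le_sum (f := fun q : PrimeSpectrum B =>
        Ring.ord (B ⧸ q.asIdeal) (Ideal.Quotient.mk q.asIdeal (f.stalkMap x a)) * Herbrand26.locLen q M)
        (fun _ _ => bot_le) hq
      have hpos : Module.length B (M ⧸ f.stalkMap x a • (⊤ : Submodule B M)) ≠ ⊤ := by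
        refine Herbrand26.isFiniteLength_of_support_subset fun p hp => by_contra fun hne => ?_
        rw [← Submodule.ideal_span_singleton_smul, Module.support_quotient, PrimeSpectrum.zeroLocus_span] at hp
        exact hnotmem p (hfinS.mem_toFinset.2 ⟨hp.1, hne⟩) (by simpa using hp.2)
      rw [hlhs, key] at hpos
      simp only [h, top_le_iff] at hle1
      exact hpos hle1
    rw [ENat.toNat_sum hterm, Finset.sum_image (g := pt) (fun u _ v _ e => (X.fromSpecStalk x).isEmbedding.injective e)]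
    push_cast
    refine Finset.sum_congr rfl fun q hq => ?_
    obtain ⟨h1, h2⟩ := hfinS.mem_toFinset.1 hq
    obtain ⟨h3, -, h4⟩ := hmem q h1 h2
    rw [dif_pos (hpt q), ENat.toNat_mul, Nat.cast_mul, mul_comm,
      (ordAt_mk hdX (hpt q) h4 (by rw [← hqker q]; exact hnotmem q hq)).1]
    have hq' : q = ⟨_, RingHom.ker_isPrime (Cyc.specMap x (pt q) (hpt q))⟩ := PrimeSpectrum.ext (hqker q)
    congr 2
    · congr 1
      conv_lhs => rw [hq']
      exact length_locLen f (hpt q) h3 hsp
    · congr 1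
      exact (length_quotient_transfer (Ideal.quotEquivOfEq (hqker q))
        (Ideal.Quotient.mk q.asIdeal (f.stalkMap x a))).trans rfl

theorem finsum_subtype_eq_sum {α : Type*} (p : α → Prop) (g : α → ℤ) (T : Finset α) (h1 : ∀ a ∈ T, p a)
    (h2 : ∀ a, p a → g a ≠ 0 → a ∈ T) : ∑ᶠ i : {a // p a}, g i.1 = ∑ a ∈ T, g a := by
  classical
  rw [finsum_eq_sum_of_support_subset (s := T.subtype p) _ (fun i hi => by
    rw [Finset.mem_coe, Finset.mem_subtype]; exact h2 _ i.2 hi)]
  exact Finset.sum_subtype_of_mem g h1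

theorem specMap_residueFieldMap (f : X ⟶ Y) {x ξ : X} (h : ξ ⤳ x) (a : Y.presheaf.stalk (f x)) :
    f.residueFieldMap ξ (Cyc.specMap (f x) (f ξ) (h.map f.continuous) a) = Cyc.specMap x ξ h (f.stalkMap x a) := by
  show f.residueFieldMap ξ (Y.residue _ (Y.presheaf.stalkSpecializes _ a)) =
    X.residue ξ (X.presheaf.stalkSpecializes h (f.stalkMap x a))
  rw [← Scheme.Hom.stalkSpecializes_stalkMap_apply f ξ x h a]
  exact ConcreteCategory.congr_hom (Scheme.residue_residueFieldMap f _) _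

theorem residueFieldCongr_specMap {x η η' : Y} (e : η = η') (h : η ⤳ x) (a : Y.presheaf.stalk x) :
    (Y.residueFieldCongr e).hom (Cyc.specMap x η h a) = Cyc.specMap x η' (e ▸ h) a := by
  subst e
  rw [Scheme.residueFieldCongr_refl]
  rfl

/-- The flat pullback of a principal divisor. -/
theorem pullFun_divFun_general [IsLocallyNoetherian X] [IsLocallyNoetherian Y] (f : X ⟶ Y) [Flat f] {δX : X → ℤ}
    {δY : Y → ℤ} (hdX : Cyc.IsDimFun X δX) (hdY : Cyc.IsDimFun Y δY) {c k : ℤ}
    (hc : ∀ z, (∀ w, f w = f z → w ⤳ z → w = z) → δX z = δY (f z) + c)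
    {η : Y} (hη : δY η = k + 1) (g : Y.residueField η) (hg : g ≠ 0) (x : X) :
    Cyc.pullFun f δX δY c (Cyc.divFun δY η g) x =
      ∑ᶠ ξ : {ξ : X // f ξ = η ∧ ∀ w, f w = f ξ → w ⤳ ξ → w = ξ},
        ((Module.length (X.presheaf.stalk ξ.1) (X.presheaf.stalk ξ.1 ⧸ Ideal.map (f.stalkMap ξ.1).hom
            (IsLocalRing.maximalIdeal (Y.presheaf.stalk (f ξ.1))))).toNat : ℤ) *
          Cyc.divFun δX ξ.1 (f.residueFieldMap ξ.1 ((Y.residueFieldCongr ξ.2.1.symm).hom g)) x := by
  classical
  have hle : ∀ z, δX z ≤ δY (f z) + c := fun z => by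
    obtain ⟨z₀, h1, h2, h3⟩ := exists_maximal_fibre hdX f z
    have h4 := hc z₀ h3
    rw [h2] at h4
    have := UCat26.delta_le_of_specializes hdX h1
    omega
  have hlx := hle x
  by_cases hxk : δX x = k + c
  swap
  · rw [finsum_eq_zero_of_forall_eq_zero (fun ξ => ?_)]
    · simp only [Cyc.pullFun, Cyc.divFun]
      split_ifs with h1 h2
      · omega
      · rw [zero_mul]
      · rfl
    · have h5 := hc ξ.1 ξ.2.2
      rw [ξ.2.1] at h5
      rw [mul_eq_zero]
      exact Or.inr (by_contra fun h => by have := (specializes_of_divFun_ne_zero h).2; omega)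
  by_cases hsp : η ⤳ f x
  swap
  · rw [finsum_eq_zero_of_forall_eq_zero (fun ξ => ?_)]
    · simp only [Cyc.pullFun, Cyc.divFun]
      split_ifs with h1 h2
      · exact absurd h2.1 hsp
      · rw [zero_mul]
      · rfl
    · rw [mul_eq_zero]
      exact Or.inr (by_contra fun h => hsp (ξ.2.1 ▸ ((specializes_of_divFun_ne_zero h).1.map f.continuous)))
  haveI := isFractionRing_locQuot hsp
  obtain ⟨a, b, hb, hgab⟩ := IsFractionRing.div_surjective (A := Cyc.LocQuot (f x) η hsp) g
  obtain ⟨a, rfl⟩ := Ideal.Quotient.mk_surjective a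
  obtain ⟨b, rfl⟩ := Ideal.Quotient.mk_surjective b
  replace hgab : Cyc.specMap (f x) η hsp a / Cyc.specMap (f x) η hsp b = g := hgab
  have hbS : Cyc.specMap (f x) η hsp b ≠ 0 :=
    IsFractionRing.to_map_ne_zero_of_mem_nonZeroDivisors (K := Y.residueField η) hb
  have haS : Cyc.specMap (f x) η hsp a ≠ 0 := fun h0 => hg (by rw [← hgab, h0, zero_div])
  have hlyη := UCat26.delta_le_of_specializes hdY hsp
  have hval : ∀ (ξ : X) (e : f ξ = η) (h : ξ ⤳ x),
      Cyc.ordAt x ξ h (f.residueFieldMap ξ ((Y.residueFieldCongr e.symm).hom g)) =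
        Cyc.ordAt x ξ h (Cyc.specMap x ξ h (f.stalkMap x a)) - Cyc.ordAt x ξ h (Cyc.specMap x ξ h (f.stalkMap x b)) := by
    intro ξ e h
    subst e
    rw [Scheme.residueFieldCongr_refl]
    show Cyc.ordAt x ξ h (f.residueFieldMap ξ g) = _
    rw [← hgab, map_div₀, specMap_residueFieldMap f h, specMap_residueFieldMap f h]
    have haX : Cyc.specMap x ξ h (f.stalkMap x a) ≠ 0 := by
      rw [← specMap_residueFieldMap f h]; exact (map_ne_zero _).2 haS
    have hbX : Cyc.specMap x ξ h (f.stalkMap x b) ≠ 0 := by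
      rw [← specMap_residueFieldMap f h]; exact (map_ne_zero _).2 hbS
    have h' := ordFrac_mul_all (R := Cyc.LocQuot x ξ h) (div_ne_zero haX hbX) hbX
    rw [div_mul_cancel₀ _ hbX] at h'
    unfold Cyc.ordAt
    omega
  rcases eq_or_ne (δY (f x)) k with hy | hy
  · obtain ⟨T, hT, hTδ, hform⟩ := length_mul_eq_sum f hdX hdY hle hη hsp hy hxk hc
    simp only [Cyc.pullFun]
    rw [if_pos (show δX x = δY (f x) + c by omega), Cyc.divFun,
      dif_pos (show η ⤳ f x ∧ δY (f x) + 1 = δY η from ⟨hsp, by omega⟩), ← hgab]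
    have hdiv : Cyc.ordAt (f x) η hsp (Cyc.specMap (f x) η hsp a / Cyc.specMap (f x) η hsp b) =
        Cyc.ordAt (f x) η hsp (Cyc.specMap (f x) η hsp a) - Cyc.ordAt (f x) η hsp (Cyc.specMap (f x) η hsp b) := by
      have h' := ordFrac_mul_all (R := Cyc.LocQuot (f x) η hsp) (div_ne_zero haS hbS) hbS
      rw [div_mul_cancel₀ _ hbS] at h'
      unfold Cyc.ordAt
      omega
    rw [hdiv, sub_mul, hform a (fun h => haS h), hform b (fun h => hbS h), ← Finset.sum_sub_distrib, hgab]
    let G : X → ℤ := fun ξ => if e : f ξ = η then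
      ((Module.length (X.presheaf.stalk ξ) (X.presheaf.stalk ξ ⧸ Ideal.map (f.stalkMap ξ).hom
            (IsLocalRing.maximalIdeal (Y.presheaf.stalk (f ξ))))).toNat : ℤ) *
          Cyc.divFun δX ξ (f.residueFieldMap ξ ((Y.residueFieldCongr e.symm).hom g)) x else 0
    rw [finsum_congr (g := fun ξ : {ξ : X // f ξ = η ∧ ∀ w, f w = f ξ → w ⤳ ξ → w = ξ} => G ξ.1)
      (fun ξ => (dif_pos ξ.2.1).symm), finsum_subtype_eq_sum _ G T (fun ξ hξ => ⟨((hT ξ).1 hξ).1, ((hT ξ).1 hξ).2.1⟩)
      (fun ξ hξ hne => (hT ξ).2 ⟨hξ.1, hξ.2, by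
        simp only [G, dif_pos hξ.1] at hne
        exact (specializes_of_divFun_ne_zero (right_ne_zero_of_mul hne)).1⟩)]
    refine Finset.sum_congr rfl fun ξ hξ => ?_
    obtain ⟨e, hm, h⟩ := (hT ξ).1 hξ
    simp only [G, dif_pos e, dif_pos h, Cyc.divFun]
    rw [dif_pos (show ξ ⤳ x ∧ δX x + 1 = δX ξ from ⟨h, hTδ ξ hξ⟩), hval ξ e h]
    ring
  · have hyη : f x = η := by
      by_contra hne
      have := (hdY η (f x) hsp fun e => hne e.symm).1
      omega
    rw [finsum_eq_zero_of_forall_eq_zero (fun ξ => ?_)]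
    · simp only [Cyc.pullFun]
      rw [if_neg (show ¬ δX x = δY (f x) + c by rw [hyη]; omega)]
    · rw [mul_eq_zero]
      refine Or.inr (by_contra fun h => ?_)
      obtain ⟨h1, h2⟩ := specializes_of_divFun_ne_zero h
      refine h ?_
      simp only [Cyc.divFun]
      rw [dif_pos (show ξ.1 ⤳ x ∧ δX x + 1 = δX ξ.1 from ⟨h1, h2⟩), hval ξ.1 ξ.2.1 h1,
        ordAt_eq_zero_of_isUnit h1 ((isUnit_of_specMap_ne_zero hyη hsp haS).map _),
        ordAt_eq_zero_of_isUnit h1 ((isUnit_of_specMap_ne_zero hyη hsp hbS).map _), sub_zero]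

end Groth.Agent.Cyc26
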