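import Groth.Agent.Lib.Cyc26.RatAlg
import Groth.Agent.Lib.Cyc26.Closure

/-! # Sums of principal divisors supported in a set of points -/

set_option autoImplicit false
universe u

set_option backward.isDefEq.respectTransparency.types false

open CategoryTheory AlgebraicGeometry TopologicalSpace
open scoped Classical

namespace Groth.Agent.Cyc26

variable {X : Scheme.{u}} {δ : X → ℤ} {k : ℤ}

/-- A locally finite sum of principal divisors on closures of points of `S` of dimension `k + 1`. -/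
def RatFun (δ : X → ℤ) (k : ℤ) (S : Set X) (G : X → ℤ) : Prop :=
  ∃ (ι : Type u) (ξ : ι → X) (f : (i : ι) → X.residueField (ξ i)),
    (∀ i, δ (ξ i) = k + 1) ∧ (∀ i, f i ≠ 0) ∧ (∀ i, ξ i ∈ S) ∧
    (∀ x : X, ∃ U : Set X, IsOpen U ∧ x ∈ U ∧ {i | (closure {ξ i} ∩ U).Nonempty}.Finite) ∧
    ∀ x : X, G x = ∑ᶠ i, Cyc.divFun δ (ξ i) (f i) x

theorem ratEquivZero_iff {α : AlgebraicCycle X ℤ} : Cyc.RatEquivZero δ k α ↔ RatFun δ k Set.univ ⇑α :=
  ⟨fun ⟨ι, ξ, f, h1, h2, h3, h4⟩ => ⟨ι, ξ, f, h1, h2, fun _ => trivial, h3, h4⟩,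
    fun ⟨ι, ξ, f, h1, h2, _, h3, h4⟩ => ⟨ι, ξ, f, h1, h2, h3, h4⟩⟩

namespace RatFun

variable {S : Set X} {G G' : X → ℤ}

theorem congr (h : RatFun δ k S G) (he : ∀ x, G x = G' x) : RatFun δ k S G' := by
  obtain ⟨ι, ξ, f, h1, h2, h3, h4, h5⟩ := h
  exact ⟨ι, ξ, f, h1, h2, h3, h4, fun x => (he x).symm.trans (h5 x)⟩

theorem mono {S' : Set X} (h : RatFun δ k S G) (hS : S ⊆ S') : RatFun δ k S' G := by
  obtain ⟨ι, ξ, f, h1, h2, h3, h4, h5⟩ := h
  exact ⟨ι, ξ, f, h1, h2, fun i => hS (h3 i), h4, h5⟩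

theorem ratEquivZero {α : AlgebraicCycle X ℤ} (h : RatFun δ k S G) (he : ∀ x, α x = G x) :
    Cyc.RatEquivZero δ k α :=
  ratEquivZero_iff.2 ((h.mono (Set.subset_univ S)).congr fun x => (he x).symm)

theorem zero (he : ∀ x, G x = 0) : RatFun δ k S G :=
  ⟨PEmpty, fun i => i.elim, fun i => i.elim, fun i => i.elim, fun i => i.elim, fun i => i.elim,
    fun _ => ⟨Set.univ, isOpen_univ, trivial, Set.toFinite _⟩,
    fun x => (he x).trans (finsum_eq_zero_of_forall_eq_zero fun i : PEmpty => i.elim).symm⟩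

theorem add (hG : RatFun δ k S G) (hG' : RatFun δ k S G') : RatFun δ k S fun x => G x + G' x := by
  obtain ⟨ι, ξ, f, a1, a2, aS, a3, a4⟩ := hG
  obtain ⟨κ, ζ, g, b1, b2, bS, b3, b4⟩ := hG'
  let ξ' : ι ⊕ κ → X := Sum.elim ξ ζ
  let f' : (i : ι ⊕ κ) → X.residueField (ξ' i) := fun i => match i with
    | Sum.inl a => f a
    | Sum.inr b => g b
  have hlf : ∀ x : X, ∃ U : Set X, IsOpen U ∧ x ∈ U ∧ {i | (closure {ξ' i} ∩ U).Nonempty}.Finite := fun x => by
    obtain ⟨U, hU, hxU, hfU⟩ := a3 x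
    obtain ⟨V, hV, hxV, hfV⟩ := b3 x
    refine ⟨U ∩ V, hU.inter hV, ⟨hxU, hxV⟩, ((hfU.image Sum.inl).union (hfV.image Sum.inr)).subset ?_⟩
    rintro (i | i) ⟨y, hy, hy'⟩
    · exact Or.inl ⟨i, ⟨y, hy, hy'.1⟩, rfl⟩
    · exact Or.inr ⟨i, ⟨y, hy, hy'.2⟩, rfl⟩
  refine ⟨ι ⊕ κ, ξ', f', fun i => by rcases i with a | b; exacts [a1 a, b1 b],
    fun i => by rcases i with a | b; exacts [a2 a, b2 b],
    fun i => by rcases i with a | b; exacts [aS a, bS b], hlf, fun x => ?_⟩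
  show G x + G' x = _
  rw [a4, b4]
  obtain ⟨s, hs⟩ : ∃ s : Finset ι, Function.support (fun i => Cyc.divFun δ (ξ i) (f i) x) ⊆ s :=
    ⟨(finite_support_family (δ := δ) f a3 x).toFinset, by simp⟩
  obtain ⟨t, ht⟩ : ∃ t : Finset κ, Function.support (fun i => Cyc.divFun δ (ζ i) (g i) x) ⊆ t :=
    ⟨(finite_support_family (δ := δ) g b3 x).toFinset, by simp⟩
  rw [finsum_eq_sum_of_support_subset _ hs, finsum_eq_sum_of_support_subset _ ht,
    finsum_eq_sum_of_support_subset (s := s.disjSum t) (fun i => Cyc.divFun δ (ξ' i) (f' i) x) ?_, Finset.sum_disjSum]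
  · rfl
  · rintro (i | i) hi
    · exact Finset.inl_mem_disjSum.2 (hs hi)
    · exact Finset.inr_mem_disjSum.2 (ht hi)

theorem smul (hG : RatFun δ k S G) (m : ℤ) : RatFun δ k S fun x => m * G x := by
  obtain ⟨ι, ξ, f, a1, a2, aS, a3, a4⟩ := hG
  refine ⟨ι, ξ, fun i => f i ^ m, a1, fun i => zpow_ne_zero _ (a2 i), aS, a3, fun x => ?_⟩
  show m * G x = _
  rw [a4, mul_finsum]
  refine finsum_congr fun i => ?_
  simp only [Cyc.divFun]
  split_ifs with h
  · exact (ordFrac_zpow (a2 i) m).symm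
  · exact mul_zero m

theorem neg (hG : RatFun δ k S G) : RatFun δ k S fun x => - G x :=
  (hG.smul (-1)).congr fun x => neg_one_mul _

theorem sub (hG : RatFun δ k S G) (hG' : RatFun δ k S G') : RatFun δ k S fun x => G x - G' x :=
  (hG.add hG'.neg).congr fun x => (sub_eq_add_neg _ _).symm

theorem eq_zero_of_not_specializes {ζ : X} (hG : RatFun δ k (closure {ζ}) G) {x : X} (hx : ¬ ζ ⤳ x) : G x = 0 := by
  obtain ⟨ι, ξ, f, -, -, hS, -, h⟩ := hG
  rw [h]
  refine finsum_eq_zero_of_forall_eq_zero fun i => ?_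
  by_contra hne
  exact hx ((specializes_iff_mem_closure.2 (hS i)).trans (specializes_of_divFun_ne_zero hne).1)

/-- Locally finite sums. -/
theorem finsum {J : Type u} (ζ : J → X)
    (hζ : ∀ x : X, ∃ U : Set X, IsOpen U ∧ x ∈ U ∧ {j | (closure {ζ j} ∩ U).Nonempty}.Finite)
    (G : J → X → ℤ) (h : ∀ j, RatFun δ k (S ∩ closure {ζ j}) (G j)) : RatFun δ k S fun x => ∑ᶠ j, G j x := by
  choose ι ξ f h1 h2 h3 h4 h5 using h
  have hlf : ∀ x : X, ∃ U : Set X, IsOpen U ∧ x ∈ U ∧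
      {i : Σ j, ι j | (closure {ξ i.1 i.2} ∩ U).Nonempty}.Finite := fun x => by
    obtain ⟨U, hU, hxU, hJ⟩ := hζ x
    choose V hV hxV hfin using fun j => h4 j x
    refine ⟨U ∩ ⋂ j ∈ hJ.toFinset, V j, hU.inter (isOpen_biInter_finset fun j _ => hV j),
      ⟨hxU, Set.mem_iInter₂.2 fun j _ => hxV j⟩,
      (hJ.toFinset.sigma fun j => (hfin j).toFinset).finite_toSet.subset ?_⟩
    rintro ⟨j, i⟩ ⟨y, hy, hyU, hyV⟩
    have hj : j ∈ hJ.toFinset := hJ.mem_toFinset.2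
      ⟨y, closure_minimal (Set.singleton_subset_iff.2 (h3 j i).2) isClosed_closure hy, hyU⟩
    exact Finset.mem_sigma.2 ⟨hj, (hfin j).mem_toFinset.2 ⟨y, hy, Set.mem_iInter₂.1 hyV j hj⟩⟩
  refine ⟨Σ j, ι j, fun i => ξ i.1 i.2, fun i => f i.1 i.2, fun i => h1 i.1 i.2, fun i => h2 i.1 i.2,
    fun i => (h3 i.1 i.2).1, hlf, fun x => ?_⟩
  obtain ⟨U, -, hxU, hJ⟩ := hζ x
  have hJ' : ∀ j i, Cyc.divFun δ (ξ j i) (f j i) x ≠ 0 → j ∈ hJ.toFinset := fun j i hne => hJ.mem_toFinset.2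
    ⟨x, closure_minimal (Set.singleton_subset_iff.2 (h3 j i).2) isClosed_closure
      (specializes_iff_mem_closure.1 (specializes_of_divFun_ne_zero hne).1), hxU⟩
  have hsupp : Function.support (fun j => G j x) ⊆ hJ.toFinset := fun j hj => by
    have hne : G j x ≠ 0 := hj
    rw [h5] at hne
    obtain ⟨i, hi⟩ : ∃ i, Cyc.divFun δ (ξ j i) (f j i) x ≠ 0 := by
      by_contra hc
      push Not at hc
      exact hne (finsum_eq_zero_of_forall_eq_zero hc)
    exact hJ' j i hi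
  choose T hT using fun j => (⟨(finite_support_family (δ := δ) (f j) (h4 j) x).toFinset, by simp⟩ :
    ∃ t : Finset (ι j), Function.support (fun i => Cyc.divFun δ (ξ j i) (f j i) x) ⊆ t)
  show ∑ᶠ j, G j x = _
  rw [finsum_eq_sum_of_support_subset _ hsupp,
    finsum_eq_sum_of_support_subset (s := hJ.toFinset.sigma T) _ (fun p hp =>
      Finset.mem_sigma.2 ⟨hJ' p.1 p.2 hp, hT p.1 hp⟩), Finset.sum_sigma]
  exact Finset.sum_congr rfl fun j _ => by rw [h5, finsum_eq_sum_of_support_subset _ (hT j)]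

/-- A family given by a function on all points. -/
theorem of_total (F : (ξ : X) → X.residueField ξ) (hne : ∀ ξ, F ξ ≠ 0)
    (hF : ∀ ξ, F ξ ≠ 1 → δ ξ = k + 1 ∧ ξ ∈ S)
    (hfin : ∀ x : X, ∃ W : Set X, IsOpen W ∧ x ∈ W ∧ {ξ | ξ ∈ W ∧ F ξ ≠ 1}.Finite)
    (he : ∀ x, G x = ∑ᶠ i : {ξ : X // F ξ ≠ 1}, Cyc.divFun δ i.1 (F i.1) x) : RatFun δ k S G := by
  refine ⟨{ξ : X // F ξ ≠ 1}, fun i => i.1, fun i => F i.1, fun i => (hF i.1 i.2).1, fun i => hne i.1,
    fun i => (hF i.1 i.2).2, fun x => ?_, he⟩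
  obtain ⟨W, hW, hxW, hf⟩ := hfin x
  refine ⟨W, hW, hxW, (hf.preimage Subtype.val_injective.injOn).subset ?_⟩
  rintro i ⟨y, hy, hy'⟩
  exact ⟨(specializes_iff_mem_closure.2 hy).mem_open hW hy', i.2⟩

/-- Restriction to a closed subscheme. -/
theorem toClosed {D : Scheme.{u}} (i : D ⟶ X) [IsClosedImmersion i] (hG : RatFun δ k S G)
    (hS : S ⊆ Set.range i) {γ : AlgebraicCycle D ℤ} (hγ : ∀ d, γ d = G (i d)) :
    Cyc.RatEquivZero (fun d => δ (i d)) k γ := by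
  obtain ⟨ι, ξ, f, h1, h2, h3, h4, h5⟩ := hG
  choose d hd using fun j => hS (h3 j)
  obtain rfl : ξ = fun j => i (d j) := funext fun j => (hd j).symm
  refine ⟨ι, d, fun j => i.residueFieldMap (d j) (f j), h1, fun j => (map_ne_zero _).2 (h2 j), fun x => ?_, fun x => ?_⟩
  · obtain ⟨U, hU, hxU, hfin⟩ := h4 (i x)
    refine ⟨i ⁻¹' U, hU.preimage i.continuous, hxU, hfin.subset ?_⟩
    rintro j ⟨y, hy, hyU⟩
    exact ⟨i y, specializes_iff_mem_closure.1 ((specializes_iff_mem_closure.2 hy).map i.continuous), hyU⟩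
  · rw [hγ, h5]
    exact finsum_congr fun j => (divFun_preimmersion i δ (d j) x (f j)).symm

/-- Push forward along a closed immersion. -/
theorem pushClosed {W : Scheme.{u}} (i : W ⟶ X) [IsClosedImmersion i] {S' : Set W} {H : W → ℤ}
    (hH : RatFun (fun w => δ (i w)) k S' H) (hGi : ∀ w, G (i w) = H w) (hG : ∀ x ∉ Set.range i, G x = 0) :
    RatFun δ k (i '' S') G := by
  obtain ⟨ι, ξ, f, h1, h2, h3, h4, h5⟩ := hH
  choose g hg using fun j => (residueFieldMap_bijective i (ξ j)).2 (f j)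
  refine ⟨ι, fun j => i (ξ j), g, h1, fun j h0 => h2 j (by rw [← hg j, h0, map_zero]), fun j => ⟨_, h3 j, rfl⟩,
    fun x => ?_, fun x => ?_⟩
  · by_cases hx : x ∈ Set.range i
    · obtain ⟨w, rfl⟩ := hx
      obtain ⟨U, hU, hwU, hfin⟩ := h4 w
      obtain ⟨U', hU', rfl⟩ := i.isClosedEmbedding.isInducing.isOpen_iff.1 hU
      refine ⟨U', hU', hwU, hfin.subset ?_⟩
      rintro j ⟨y, hy, hyU⟩
      obtain ⟨w', rfl⟩ := closure_minimal (Set.singleton_subset_iff.2 (Set.mem_range_self (f := i) (ξ j))) i.isClosedEmbedding.isClosed_range hy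
      exact ⟨w', specializes_iff_mem_closure.1
        (i.isClosedEmbedding.isInducing.specializes_iff.1 (specializes_iff_mem_closure.2 hy)), hyU⟩
    · refine ⟨(Set.range i)ᶜ, i.isClosedEmbedding.isClosed_range.isOpen_compl, hx, Set.finite_empty.subset ?_⟩
      rintro j ⟨y, hy, hyU⟩
      exact (hyU (closure_minimal (Set.singleton_subset_iff.2 (Set.mem_range_self (f := i) (ξ j))) i.isClosedEmbedding.isClosed_range hy)).elim
  · by_cases hx : x ∈ Set.range i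
    · obtain ⟨w, rfl⟩ := hx
      rw [hGi, h5]
      refine finsum_congr fun j => ?_
      rw [← divFun_preimmersion i δ (ξ j) w (g j)]
      exact congrArg (fun z => Cyc.divFun _ (ξ j) z w) (hg j).symm
    · rw [hG x hx, finsum_eq_zero_of_forall_eq_zero fun j => ?_]
      by_contra hne
      exact hx (closure_minimal (Set.singleton_subset_iff.2 (Set.mem_range_self (f := i) (ξ j))) i.isClosedEmbedding.isClosed_range
        (specializes_iff_mem_closure.1 (specializes_of_divFun_ne_zero hne).1))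

end RatFun

end Groth.Agent.Cyc26
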