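import Groth.Agent.Lib.Cyc26.C1Inv
import Groth.Agent.Lib.Cyc26.RatFun
import Groth.Agent.Lib.Cyc26.PullDiv
import Groth.Agent.Lib.Tame26.Sym2

/-! # Intersecting the divisors of two invertible modules on an integral scheme -/

set_option autoImplicit false
universe u

set_option backward.isDefEq.respectTransparency.types false

open CategoryTheory AlgebraicGeometry TopologicalSpace Groth.Agent.M1
open scoped Classical

namespace Groth.Agent.Cyc26

variable {X : Scheme.{u}} [IsIntegral X] [IsLocallyNoetherian X] {δ : X → ℤ} {L N : X.Modules}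

theorem gen_to (x : X) : genericPoint X ⤳ x := genericPoint_specializes x

/-- The specialisation map of stalks. -/
noncomputable abbrev spc {ξ x : X} (h : ξ ⤳ x) : X.presheaf.stalk x →+* X.presheaf.stalk ξ :=
  (X.presheaf.stalkSpecializes h).hom

theorem spc_spc {ξ ζ x : X} (h : ξ ⤳ ζ) (h' : ζ ⤳ x) (a : X.presheaf.stalk x) :
    spc h (spc h' a) = spc (h.trans h') a := by
  exact ConcreteCategory.congr_hom (TopCat.Presheaf.stalkSpecializes_comp X.presheaf h h') a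

theorem spc_injective (x : X) : Function.Injective (spc (gen_to x)) := by
  refine (injective_iff_map_eq_zero _).2 fun a ha => ?_
  have : a ∈ RingHom.ker (Cyc.specMap x (genericPoint X) (gen_to x)) := by
    show X.residue _ (spc (gen_to x) a) = 0
    rw [ha, map_zero]
  rwa [ker_specMap_generic (gen_to x), Ideal.mem_bot] at this

theorem spc_injective' {ξ x : X} (h : ξ ⤳ x) : Function.Injective (spc h) := fun a b hab =>
  spc_injective x (by rw [← spc_spc (gen_to ξ) h, ← spc_spc (gen_to ξ) h, hab])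

theorem spc_ne_zero {ξ x : X} (h : ξ ⤳ x) {a : X.presheaf.stalk x} (ha : a ≠ 0) : spc h a ≠ 0 :=
  (map_ne_zero_iff _ (spc_injective' h)).2 ha

theorem residue_spc_ne_zero {x : X} {a : X.presheaf.stalk x} (ha : a ≠ 0) :
    X.residue (genericPoint X) (spc (gen_to x) a) ≠ 0 := fun h => ha (by
  have : a ∈ RingHom.ker (Cyc.specMap x (genericPoint X) (gen_to x)) := h
  rwa [ker_specMap_generic (gen_to x), Ideal.mem_bot] at this)

theorem ringKrullDim_stalk (hd : Cyc.IsDimFun X δ) (x : X) :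
    ringKrullDim (X.presheaf.stalk x) = ((δ (genericPoint X) - δ x).toNat : WithBot ℕ∞) := by
  rw [← UCat26.ringKrullDim_locQuot hd (genericPoint X) x (gen_to x)]
  exact ringKrullDim_eq_of_ringEquiv
    ((RingEquiv.quotientBot _).symm.trans (Ideal.quotEquivOfEq (ker_specMap_generic (gen_to x)).symm))

theorem dim_stalk_le_one (hd : Cyc.IsDimFun X δ) {x : X} (hx : δ x + 1 = δ (genericPoint X)) :
    ringKrullDim (X.presheaf.stalk x) ≤ 1 := by
  rw [ringKrullDim_stalk hd, show (δ (genericPoint X) - δ x).toNat = 1 by omega]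
  exact le_of_eq Nat.cast_one

/-- `s` is the fraction `a / b` times the generator `g`. -/
def Rep (L : X.Modules) {x : X} (s : Cyc.secFibre L (genericPoint X)) (g : L.presheaf.stalk x)
    (a b : X.presheaf.stalk x) : Prop :=
  a ≠ 0 ∧ b ≠ 0 ∧ spc (gen_to x) b • s = spc (gen_to x) a • fmk L (genericPoint X) (L.presheaf.stalkSpecializes (gen_to x) g)

theorem Rep.congr (hL : PicF.IsInvertible L) {x : X} {s : Cyc.secFibre L (genericPoint X)} {g : L.presheaf.stalk x}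
    (hg : Amp.Gen g) {a b a' b' : X.presheaf.stalk x} (h : Rep L s g a b) (h' : Rep L s g a' b') :
    a * b' = a' * b := by
  obtain ⟨-, -, e⟩ := h
  obtain ⟨-, -, e'⟩ := h'
  have key : spc (gen_to x) (a * b') • fmk L (genericPoint X) (L.presheaf.stalkSpecializes (gen_to x) g) =
      spc (gen_to x) (a' * b) • fmk L (genericPoint X) (L.presheaf.stalkSpecializes (gen_to x) g) := by
    rw [map_mul, map_mul, mul_comm, mul_smul, ← e, mul_comm (spc (gen_to x) a'), mul_smul, ← e', ← mul_smul, ← mul_smul,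
      mul_comm]
  have h2 := residue_eq_of_smul_eq (gen_stalkSpecializes hL (gen_to x) hg) key
  by_contra hne
  exact residue_spc_ne_zero (sub_ne_zero.2 hne) (by rw [map_sub, map_sub, h2, sub_self])

theorem Rep.spec {ξ x : X} (h : ξ ⤳ x) {s : Cyc.secFibre L (genericPoint X)} {g : L.presheaf.stalk x}
    {a b : X.presheaf.stalk x} (hr : Rep L s g a b) :
    Rep L s (L.presheaf.stalkSpecializes h g) (spc h a) (spc h b) := by
  obtain ⟨ha, hb, e⟩ := hr
  refine ⟨spc_ne_zero h ha, spc_ne_zero h hb, ?_⟩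
  rw [spc_spc, spc_spc, show L.presheaf.stalkSpecializes (gen_to ξ) (L.presheaf.stalkSpecializes h g) =
    L.presheaf.stalkSpecializes (gen_to x) g from
      ConcreteCategory.congr_hom (TopCat.Presheaf.stalkSpecializes_comp L.presheaf (gen_to ξ) h) g]
  exact e

theorem Rep.smul {x : X} {s : Cyc.secFibre L (genericPoint X)} {g : L.presheaf.stalk x} {α : X.presheaf.stalk x}
    (hα : IsUnit α) {a b : X.presheaf.stalk x} (hr : Rep L s (α • g) a b) : Rep L s g (a * α) b := by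
  obtain ⟨ha, hb, e⟩ := hr
  refine ⟨mul_ne_zero ha hα.ne_zero, hb, ?_⟩
  rw [e, stalkSpecializes_smul]
  show spc (gen_to x) a • Submodule.Quotient.mk _ = _
  rw [Submodule.Quotient.mk_smul, ← mul_smul, map_mul]

theorem exists_frac_rep (hL : PicF.IsInvertible L) {x : X} {s : Cyc.secFibre L (genericPoint X)} (hs : s ≠ 0)
    {g : L.presheaf.stalk x} (hg : Amp.Gen g) : ∃ a b, Rep L s g a b := by
  obtain ⟨ψ, hψ, rfl⟩ := exists_rep_gen (gen_stalkSpecializes hL (gen_to x) hg) hs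
  haveI := isFractionRing_locQuot (gen_to x)
  obtain ⟨a, b, hb, he⟩ := IsFractionRing.div_surjective (A := Cyc.LocQuot x (genericPoint X) (gen_to x))
    (X.residue (genericPoint X) ψ)
  obtain ⟨a, rfl⟩ := Ideal.Quotient.mk_surjective a
  obtain ⟨b, rfl⟩ := Ideal.Quotient.mk_surjective b
  have hb' : X.residue (genericPoint X) (spc (gen_to x) b) ≠ 0 :=
    IsFractionRing.to_map_ne_zero_of_mem_nonZeroDivisors (K := X.residueField (genericPoint X)) hb
  replace he : X.residue (genericPoint X) (spc (gen_to x) a) / X.residue (genericPoint X) (spc (gen_to x) b) =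
      X.residue (genericPoint X) ψ := he
  refine ⟨a, b, fun h0 => hψ ?_, fun h0 => hb' (by rw [h0, map_zero, map_zero]), ?_⟩
  · rw [← he, h0, map_zero, map_zero, zero_div]
  · rw [← mul_smul, ← sub_eq_zero, ← sub_smul]
    refine smul_eq_zero_of_residue ?_ _
    rw [map_sub, map_mul, ← he, mul_div_cancel₀ _ hb', sub_self]

theorem Rep.secOrdAt (hL : PicF.IsInvertible L) (hd : Cyc.IsDimFun X δ) {x : X}
    (hx : δ x + 1 = δ (genericPoint X)) {s : Cyc.secFibre L (genericPoint X)} {g : L.presheaf.stalk x}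
    (hg : Amp.Gen g) {a b : X.presheaf.stalk x} (hr : Rep L s g a b) :
    Cyc.secOrdAt L (genericPoint X) x (gen_to x) s =
      ((Ring.ord (X.presheaf.stalk x) a).toNat : ℤ) - (Ring.ord (X.presheaf.stalk x) b).toNat := by
  obtain ⟨ha, hb, e⟩ := hr
  have hb' := residue_spc_ne_zero hb
  have hu : IsUnit (spc (gen_to x) b) := by
    by_contra hn
    exact hb' ((residue_eq_zero _ _).2 hn)
  let ψ := (hu.unit⁻¹ : (X.presheaf.stalk (genericPoint X))ˣ).1 * spc (gen_to x) a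
  have hs : s = ψ • fmk L (genericPoint X) (L.presheaf.stalkSpecializes (gen_to x) g) := by
    rw [mul_smul, ← e, ← mul_smul, IsUnit.val_inv_mul, one_smul]
  have hψ : X.residue (genericPoint X) ψ ≠ 0 := by
    rw [map_mul]
    exact mul_ne_zero ((hu.unit⁻¹).isUnit.map _).ne_zero (residue_spc_ne_zero ha)
  rw [hs, secOrdAt_gen hL (gen_to x) hg ψ hψ]
  have h1 : Cyc.ordAt x (genericPoint X) (gen_to x) (X.residue _ ψ * X.residue _ (spc (gen_to x) b)) =
      Cyc.ordAt x (genericPoint X) (gen_to x) (X.residue _ ψ) +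
        Cyc.ordAt x (genericPoint X) (gen_to x) (X.residue _ (spc (gen_to x) b)) := ordFrac_mul_all hψ hb'
  rw [← map_mul, show ψ * spc (gen_to x) b = spc (gen_to x) a by
    simp only [ψ]
    rw [mul_comm (hu.unit⁻¹).1, mul_assoc, IsUnit.val_inv_mul, mul_one]] at h1
  have h2 := ordAt_specMap_generic hd (gen_to x) hx ha
  have h3 := ordAt_specMap_generic hd (gen_to x) hx hb
  change Cyc.ordAt x (genericPoint X) (gen_to x) (X.residue _ (spc (gen_to x) a)) = _ at h2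
  change Cyc.ordAt x (genericPoint X) (gen_to x) (X.residue _ (spc (gen_to x) b)) = _ at h3
  rw [h2, h3] at h1
  show _ = ((Module.length _ (X.presheaf.stalk x ⧸ Ideal.span {a})).toNat : ℤ) -
    (Module.length _ (X.presheaf.stalk x ⧸ Ideal.span {b})).toNat
  omega

/-- The tame symbol at a generalisation of two functions at a point. -/
noncomputable def symAt (x ξ : X) (a c : X.presheaf.stalk x) : X.residueField ξ :=
  if h : ξ ⤳ x then CycAlg.tameSymbol (X.presheaf.stalk ξ) (spc h a) (spc h c) else 1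

theorem divFun_one (ξ x : X) : Cyc.divFun δ ξ 1 x = 0 := by
  simp only [Cyc.divFun]
  split_ifs with h
  · exact ordFrac_one
  · rfl

/-- The key lemma at a point of codimension two. -/
theorem sum_symAt (hd : Cyc.IsDimFun X δ) {x : X} (hx : δ x + 2 = δ (genericPoint X)) {a c : X.presheaf.stalk x}
    (ha : a ≠ 0) (hc : c ≠ 0) (I : Finset X) (hI : ∀ ξ ∈ I, δ ξ + 1 = δ (genericPoint X))
    (hcov : ∀ ξ (h : ξ ⤳ x), δ ξ + 1 = δ (genericPoint X) → ¬ (IsUnit (spc h a) ∧ IsUnit (spc h c)) → ξ ∈ I) :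
    ∑ ξ ∈ I, Cyc.divFun δ ξ (symAt x ξ a c) x = 0 := by
  let A := X.presheaf.stalk x
  have hA : ringKrullDim A = 2 := by
    rw [ringKrullDim_stalk hd, show (δ (genericPoint X) - δ x).toNat = 2 by omega]; rfl
  have key := Tame26.key_lemma hA a c (mem_nonZeroDivisors_of_ne_zero ha) (mem_nonZeroDivisors_of_ne_zero hc)
  let J := I.filter fun ξ => ξ ⤳ x
  have hJ : ∀ ξ : J, ξ.1 ⤳ x := fun ξ => (Finset.mem_filter.1 ξ.2).2
  let φ : J → PrimeSpectrum A := fun ξ => ⟨RingHom.ker (Cyc.specMap x ξ.1 (hJ ξ)), RingHom.ker_isPrime _⟩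
  have hφ : ∀ ξ, X.fromSpecStalk x (φ ξ) = ξ.1 := fun ξ => UCat26.fromSpecStalk_ker (hJ ξ)
  have hφi : Function.Injective φ := fun p q h => Subtype.ext (by rw [← hφ p, ← hφ q, h])
  have hdim : ∀ {ξ : X} (h : ξ ⤳ x), (RingHom.ker (Cyc.specMap x ξ h)).height = ((δ (genericPoint X) - δ ξ).toNat : ℕ∞) := by
    intro ξ h
    letI := (X.presheaf.stalkSpecializes h).hom.toAlgebra
    haveI : IsLocalization.AtPrime (X.presheaf.stalk ξ) (RingHom.ker (Cyc.specMap x ξ h)) :=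
      isLocalization_stalkSpecializes h
    have h1 := IsLocalization.AtPrime.ringKrullDim_eq_height (RingHom.ker (Cyc.specMap x ξ h)) (X.presheaf.stalk ξ)
    rw [ringKrullDim_stalk hd] at h1
    exact (WithBot.coe_eq_coe.1 h1).symm
  have hterm : ∀ ξ : J, Cyc.divFun δ ξ.1 (symAt x ξ.1 a c) x =
      CycAlg.ordFrac (A ⧸ (φ ξ).asIdeal) (φ ξ).asIdeal.ResidueField
        (CycAlg.tameSymbol (Localization.AtPrime (φ ξ).asIdeal) (algebraMap A _ a) (algebraMap A _ c)) := by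
    intro ξ
    have hξ := hI ξ.1 (Finset.mem_filter.1 ξ.2).1
    simp only [Cyc.divFun, symAt]
    rw [dif_pos ⟨hJ ξ, show δ x + 1 = δ ξ.1 by omega⟩, dif_pos (hJ ξ)]
    letI := (X.presheaf.stalkSpecializes (hJ ξ)).hom.toAlgebra
    haveI : IsLocalization.AtPrime (X.presheaf.stalk ξ.1) (φ ξ).asIdeal := isLocalization_stalkSpecializes (hJ ξ)
    let e : Localization.AtPrime (φ ξ).asIdeal ≃ₐ[A] X.presheaf.stalk ξ.1 :=
      IsLocalization.algEquiv (φ ξ).asIdeal.primeCompl _ _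
    haveI : IsNoetherianRing (Localization.AtPrime (φ ξ).asIdeal) :=
      IsLocalization.isNoetherianRing (φ ξ).asIdeal.primeCompl _ inferInstance
    have hd1 : ringKrullDim (Localization.AtPrime (φ ξ).asIdeal) ≤ 1 :=
      (ringKrullDim_eq_of_ringEquiv e.toRingEquiv).trans_le (dim_stalk_le_one hd hξ)
    have hn : ∀ {z : A}, z ≠ 0 → algebraMap A (Localization.AtPrime (φ ξ).asIdeal) z ∈ nonZeroDivisors _ :=
      fun hz => IsLocalization.nonZeroDivisors_le_comap (φ ξ).asIdeal.primeCompl _ (mem_nonZeroDivisors_of_ne_zero hz)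
    have ht := Tame26.tameSymbol_equiv hd1 e.toRingEquiv (hn ha) (hn hc)
    rw [show e.toRingEquiv (algebraMap A _ a) = spc (hJ ξ) a from e.commutes a,
      show e.toRingEquiv (algebraMap A _ c) = spc (hJ ξ) c from e.commutes c] at ht
    rw [ht]
    let e' : (φ ξ).asIdeal.ResidueField ≃+* X.residueField ξ.1 := IsLocalRing.ResidueField.mapEquiv e.toRingEquiv
    exact ordFrac_congr (R := A ⧸ (φ ξ).asIdeal) (R' := Cyc.LocQuot x ξ.1 (hJ ξ)) (RingEquiv.refl _)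
      e' (fun r => by
        obtain ⟨r, rfl⟩ := Ideal.Quotient.mk_surjective r
        exact congrArg (X.residue ξ.1) (e.commutes r)) _
  have key' : ∑ q ∈ Finset.univ.image φ, CycAlg.ordFrac (A ⧸ q.asIdeal) q.asIdeal.ResidueField
      (CycAlg.tameSymbol (Localization.AtPrime q.asIdeal) (algebraMap A _ a) (algebraMap A _ c)) = 0 := by
    refine (finsum_mem_eq_sum_of_subset (s := {q : PrimeSpectrum A | q.asIdeal.height = 1})
      (fun q : PrimeSpectrum A => CycAlg.ordFrac (A ⧸ q.asIdeal) q.asIdeal.ResidueField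
        (CycAlg.tameSymbol (Localization.AtPrime q.asIdeal) (algebraMap A _ a) (algebraMap A _ c))) ?_ ?_).symm.trans key
    · rintro q ⟨hq, hne⟩
      let ξ := X.fromSpecStalk x q
      have hξ : ξ ⤳ x := by
        have hr : ξ ∈ Set.range (X.fromSpecStalk x) := ⟨q, rfl⟩
        rw [Scheme.range_fromSpecStalk] at hr
        exact hr
      have hqe : (⟨RingHom.ker (Cyc.specMap x ξ hξ), RingHom.ker_isPrime _⟩ : PrimeSpectrum A) = q :=
        (X.fromSpecStalk x).isEmbedding.injective (UCat26.fromSpecStalk_ker hξ)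
      have hh := hdim hξ
      rw [show RingHom.ker (Cyc.specMap x ξ hξ) = q.asIdeal from congrArg PrimeSpectrum.asIdeal hqe,
        show q.asIdeal.height = 1 from hq] at hh
      have hδ : δ ξ + 1 = δ (genericPoint X) := by
        have : (δ (genericPoint X) - δ ξ).toNat = 1 := by exact_mod_cast hh.symm
        omega
      have hmem : ξ ∈ I := by
        refine hcov ξ hξ hδ fun hu => hne ?_
        have hu' : ∀ {z : A}, IsUnit (spc hξ z) → IsUnit (algebraMap A (Localization.AtPrime q.asIdeal) z) := by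
          intro z hz
          refine IsLocalization.map_units (Localization.AtPrime q.asIdeal) (⟨z, ?_⟩ : q.asIdeal.primeCompl)
          intro hzq
          rw [← show RingHom.ker (Cyc.specMap x ξ hξ) = q.asIdeal from congrArg PrimeSpectrum.asIdeal hqe] at hzq
          exact (hz.map (X.residue ξ).hom).ne_zero hzq
        haveI : IsNoetherianRing (Localization.AtPrime q.asIdeal) :=
          IsLocalization.isNoetherianRing q.asIdeal.primeCompl _ inferInstance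
        have hd1 : ringKrullDim (Localization.AtPrime q.asIdeal) ≤ 1 := by
          rw [IsLocalization.AtPrime.ringKrullDim_eq_height q.asIdeal, show q.asIdeal.height = 1 from hq]; rfl
        show CycAlg.ordFrac _ _ _ = 0
        rw [Tame26.T_unit hd1 (hu' hu.1) (hu' hu.2).ne_zero, Ring.ord_of_isUnit (hu' hu.2)]
        simp only [ENat.toNat_zero, pow_zero]
        exact ordFrac_one
      exact Finset.mem_image.2 ⟨⟨ξ, Finset.mem_filter.2 ⟨hmem, hξ⟩⟩, Finset.mem_univ _, hqe⟩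
    · intro q hq
      obtain ⟨ξ, -, rfl⟩ := Finset.mem_image.1 hq
      show (RingHom.ker _).height = 1
      rw [hdim, show (δ (genericPoint X) - δ ξ.1).toNat = 1 by
        have := hI ξ.1 (Finset.mem_filter.1 ξ.2).1
        omega]
      exact Nat.cast_one
  rw [Finset.sum_image hφi.injOn, Finset.univ_eq_attach] at key'
  rw [← Finset.sum_filter_of_ne (p := fun ξ => ξ ⤳ x)
      (fun ξ _ hne => (specializes_of_divFun_ne_zero hne).1), ← Finset.sum_attach]
  exact (Finset.sum_congr rfl fun ξ _ => hterm ξ).trans key'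

theorem fmk_ne_zero {ξ : X} {g : L.presheaf.stalk ξ} (hg : Amp.Gen g) : fmk L ξ g ≠ 0 := by
  have := smul_ne_zero_of_residue hg (a := 1) (by rw [map_one]; exact one_ne_zero)
  rwa [one_smul] at this

/-- Rational sections on an affine open on which the module is trivial. -/
theorem exists_rep_sections {W : X.Opens} (hW : IsAffineOpen W) (hη : genericPoint X ∈ W) {U : X.Opens}
    (hWU : W ≤ U) {e : Γ(L, U)} (he : Groth.Agent.M2.IsGenerator e) {s : Cyc.secFibre L (genericPoint X)} (hs : s ≠ 0) :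
    ∃ a b : Γ(X, W), ∀ (y : X) (hy : y ∈ W),
      Rep L s (Amp.gm L y (hWU hy) e) (X.presheaf.germ W y hy a) (X.presheaf.germ W y hy b) := by
  obtain ⟨ψ, hψ, rfl⟩ := exists_rep_gen (Amp.gen_of_isGenerator he (hWU hη)) hs
  obtain ⟨a, b, hab⟩ := VarDim.exists_evaluation_eq_div hW (genericPoint X) hη (X.residue _ ψ)
  refine ⟨a, b, fun y hy => ?_⟩
  have hev : ∀ c, X.residue (genericPoint X) (spc (gen_to y) (X.presheaf.germ W y hy c)) =
      X.evaluation W (genericPoint X) hη c := fun c =>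
    congrArg (X.residue _) (TopCat.Presheaf.germ_stalkSpecializes_apply X.presheaf hy (gen_to y) c)
  have hb0 : X.evaluation W (genericPoint X) hη b ≠ 0 := fun h0 => hψ (by rw [hab, h0, div_zero])
  have ha0 : X.evaluation W (genericPoint X) hη a ≠ 0 := fun h0 => hψ (by rw [hab, h0, zero_div])
  refine ⟨fun h0 => ha0 ?_, fun h0 => hb0 ?_, ?_⟩
  · rw [← hev, h0, map_zero, map_zero]
  · rw [← hev, h0, map_zero, map_zero]
  · rw [show L.presheaf.stalkSpecializes (gen_to y) (Amp.gm L y (hWU hy) e) = Amp.gm L _ (hWU hη) e from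
      TopCat.Presheaf.germ_stalkSpecializes_apply L.presheaf (hWU hy) (gen_to y) e, ← mul_smul, ← sub_eq_zero, ← sub_smul]
    refine smul_eq_zero_of_residue ?_ _
    rw [map_sub, map_mul, hev, hev, hab, mul_div_cancel₀ _ hb0, sub_self]

theorem divFun_mul (ξ x : X) {f g : X.residueField ξ} (hf : f ≠ 0) (hg : g ≠ 0) :
    Cyc.divFun δ ξ (f * g) x = Cyc.divFun δ ξ f x + Cyc.divFun δ ξ g x := by
  simp only [Cyc.divFun]
  split_ifs with h
  · exact ordFrac_mul_all hf hg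
  · rfl

theorem divFun_zpow (ξ x : X) {f : X.residueField ξ} (hf : f ≠ 0) (m : ℤ) :
    Cyc.divFun δ ξ (f ^ m) x = m * Cyc.divFun δ ξ f x := by
  simp only [Cyc.divFun]
  split_ifs with h
  · exact ordFrac_zpow hf m
  · rw [mul_zero]

theorem divFun_div (ξ x : X) {f g : X.residueField ξ} (hf : f ≠ 0) (hg : g ≠ 0) :
    Cyc.divFun δ ξ (f / g) x = Cyc.divFun δ ξ f x - Cyc.divFun δ ξ g x := by
  rw [div_eq_mul_inv, divFun_mul ξ x hf (inv_ne_zero hg), divFun_inv ξ hg, sub_eq_add_neg]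

/-- `v` is the value at `ξ` of `s`, and generates there. -/
def Ext {Y : Scheme.{u}} (M : Y.Modules) {η : Y} (s : Cyc.secFibre M η) (ξ : Y) (v : Cyc.secFibre M ξ) : Prop :=
  ∃ (h : η ⤳ ξ) (g : M.presheaf.stalk ξ), Amp.Gen g ∧ v = fmk M ξ g ∧ s = fmk M η (M.presheaf.stalkSpecializes h g)

theorem rep_one_of_ext {x : X} {s : Cyc.secFibre L (genericPoint X)} {g : L.presheaf.stalk x}
    (h : s = fmk L (genericPoint X) (L.presheaf.stalkSpecializes (gen_to x) g)) : Rep L s g 1 1 :=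
  ⟨one_ne_zero, one_ne_zero, by rw [map_one, one_smul, one_smul]; exact h⟩

set_option maxHeartbeats 2000000 in
/-- On an integral scheme the difference of `c₁(N) ∩ div_L(s)` and `c₁(L) ∩ div_N(t)` is a sum of principal
divisors, supported where the chosen sections do not extend `s` and `t`. -/
theorem comm_family_integral (hd : Cyc.IsDimFun X δ) {n : ℤ} (hn : δ (genericPoint X) = n)
    (hL : PicF.IsInvertible L) (hN : PicF.IsInvertible N) {s : Cyc.secFibre L (genericPoint X)} (hs : s ≠ 0)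
    {t : Cyc.secFibre N (genericPoint X)} (ht : t ≠ 0) {u : (ξ : X) → Cyc.secFibre N ξ} (hu : ∀ ξ, u ξ ≠ 0)
    {v : (ξ : X) → Cyc.secFibre L ξ} (hv : ∀ ξ, v ξ ≠ 0) (S T : Set X)
    (hS : ∀ ξ, δ ξ + 1 = δ (genericPoint X) → ξ ∉ S → Ext L s ξ (v ξ))
    (hT : ∀ ξ, δ ξ + 1 = δ (genericPoint X) → ξ ∉ T → Ext N t ξ (u ξ)) :
    RatFun δ (n - 2) (S ∩ T) fun x => Cyc.c1CapFun δ N (Cyc.secDivFun δ L (genericPoint X) s) u x -
      Cyc.c1CapFun δ L (Cyc.secDivFun δ N (genericPoint X) t) v x := by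
  have hgex : ∀ ξ : X, ∃ g : L.presheaf.stalk ξ, Amp.Gen g ∧ (δ ξ + 1 = δ (genericPoint X) → ξ ∉ S →
      v ξ = fmk L ξ g ∧ s = fmk L _ (L.presheaf.stalkSpecializes (gen_to ξ) g)) := fun ξ => by
    by_cases hc : δ ξ + 1 = δ (genericPoint X) ∧ ξ ∉ S
    · obtain ⟨_, g, hg, h1, h2⟩ := hS ξ hc.1 hc.2
      exact ⟨g, hg, fun _ _ => ⟨h1, h2⟩⟩
    · obtain ⟨g, hg⟩ := exists_gen hL ξ
      exact ⟨g, hg, fun h1 h2 => (hc ⟨h1, h2⟩).elim⟩
  have hhex : ∀ ξ : X, ∃ h : N.presheaf.stalk ξ, Amp.Gen h ∧ (δ ξ + 1 = δ (genericPoint X) → ξ ∉ T →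
      u ξ = fmk N ξ h ∧ t = fmk N _ (N.presheaf.stalkSpecializes (gen_to ξ) h)) := fun ξ => by
    by_cases hc : δ ξ + 1 = δ (genericPoint X) ∧ ξ ∉ T
    · obtain ⟨_, g, hg, h1, h2⟩ := hT ξ hc.1 hc.2
      exact ⟨g, hg, fun _ _ => ⟨h1, h2⟩⟩
    · obtain ⟨g, hg⟩ := exists_gen hN ξ
      exact ⟨g, hg, fun h1 h2 => (hc ⟨h1, h2⟩).elim⟩
  choose g hg hgS using hgex
  choose h hh hhT using hhex
  let u₀ : (ξ : X) → Cyc.secFibre N ξ := fun ξ => fmk N ξ (h ξ)
  let v₀ : (ξ : X) → Cyc.secFibre L ξ := fun ξ => fmk L ξ (g ξ)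
  choose pu hpu hpu' using fun ξ : X => exists_ratio hN (fmk_ne_zero (hh ξ)) (hu ξ)
  choose pv hpv hpv' using fun ξ : X => exists_ratio hL (fmk_ne_zero (hg ξ)) (hv ξ)
  choose a b hab using fun ξ : X => exists_frac_rep hL hs (hg ξ)
  choose c d hcd using fun ξ : X => exists_frac_rep hN ht (hh ξ)
  let F : (ξ : X) → X.residueField ξ := fun ξ => Tame26.sym2 (X.presheaf.stalk ξ) (a ξ) (b ξ) (c ξ) (d ξ)
  have hF : ∀ ξ, δ ξ + 1 = δ (genericPoint X) → F ξ ≠ 0 := fun ξ hξ =>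
    Tame26.sym2_ne_zero (dim_stalk_le_one hd hξ) (hab ξ).1 (hab ξ).2.1 (hcd ξ).1 (hcd ξ).2.1
  -- the relation between the chosen representatives and those of a frame
  have hrel : ∀ (ξ : X), δ ξ + 1 = δ (genericPoint X) → ∀ (gl : L.presheaf.stalk ξ) (hl : N.presheaf.stalk ξ),
      Amp.Gen gl → Amp.Gen hl → ∀ {A B C D : X.presheaf.stalk ξ}, Rep L s gl A B → Rep N t hl C D →
      ∃ αu βu : X.presheaf.stalk ξ, IsUnit αu ∧ IsUnit βu ∧ gl = αu • g ξ ∧ hl = βu • h ξ ∧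
        F ξ = Tame26.sym2 (X.presheaf.stalk ξ) (A * αu) B (C * βu) D := by
    intro ξ hξ gl hl hgl hhl A B C D hAB hCD
    obtain ⟨αu, hαu⟩ := (hg ξ).2 gl
    obtain ⟨βu, hβu⟩ := (hh ξ).2 hl
    simp only at hαu hβu
    have hαunit : IsUnit αu := ((hg ξ).ne_zero_smul αu).1 (hαu ▸ hgl)
    have hβunit : IsUnit βu := ((hh ξ).ne_zero_smul βu).1 (hβu ▸ hhl)
    have h1 := (hαu ▸ hAB : Rep L s (αu • g ξ) A B).smul hαunit
    have h2 := (hβu ▸ hCD : Rep N t (βu • h ξ) C D).smul hβunit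
    refine ⟨αu, βu, hαunit, hβunit, hαu.symm, hβu.symm, ?_⟩
    show Tame26.sym2 (X.presheaf.stalk ξ) (a ξ) (b ξ) (c ξ) (d ξ) = _
    rw [Tame26.sym2_congr_left (dim_stalk_le_one hd hξ) (hab ξ).1 (hab ξ).2.1 h1.1 h1.2.1 (hcd ξ).1 (hcd ξ).2.1
        ((hab ξ).congr hL (hg ξ) h1),
      Tame26.sym2_congr_right (dim_stalk_le_one hd hξ) h1.1 h1.2.1 (hcd ξ).1 (hcd ξ).2.1 h2.1 h2.2.1
        ((hcd ξ).congr hN (hh ξ) h2)]
  -- frames near a point
  have hchart : ∀ x : X, ∃ W : X.Opens, x ∈ W ∧ ∃ (gW : (y : X) → y ∈ W → L.presheaf.stalk y)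
      (hW : (y : X) → y ∈ W → N.presheaf.stalk y) (Aw Bw Cw Dw : (y : X) → y ∈ W → X.presheaf.stalk y) (B : Finset X),
      (∀ y hy, Amp.Gen (gW y hy) ∧ Amp.Gen (hW y hy) ∧ Rep L s (gW y hy) (Aw y hy) (Bw y hy) ∧
        Rep N t (hW y hy) (Cw y hy) (Dw y hy)) ∧
      (∀ y hy y' hy' (hyy : y' ⤳ y), spc hyy (Aw y hy) = Aw y' hy' ∧ spc hyy (Bw y hy) = Bw y' hy' ∧
        spc hyy (Cw y hy) = Cw y' hy' ∧ spc hyy (Dw y hy) = Dw y' hy') ∧
      (∀ ξ ∈ B, δ ξ + 1 = δ (genericPoint X)) ∧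
      ∀ ξ hξ, δ ξ + 1 = δ (genericPoint X) → ξ ∉ B →
        IsUnit (Aw ξ hξ) ∧ IsUnit (Bw ξ hξ) ∧ IsUnit (Cw ξ hξ) ∧ IsUnit (Dw ξ hξ) := by
    intro x
    obtain ⟨U, e, hxU, -, -, he⟩ := Amp.exists_isGenerator hL (V := ⊤) (x := x) trivial
    obtain ⟨U', e', hxU', hU'le, -, he'⟩ := Amp.exists_isGenerator hN (V := U) (x := x) hxU
    obtain ⟨W, hWaff, hxW, hWU'⟩ := exists_isAffineOpen_mem_and_subset (U := U') (x := x) hxU'
    have hη : genericPoint X ∈ W := (gen_to x).mem_open W.isOpen hxW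
    obtain ⟨A, B, hAB⟩ := exists_rep_sections hWaff hη (hWU'.trans hU'le) he hs
    obtain ⟨C, D, hCD⟩ := exists_rep_sections hWaff hη hWU' he' ht
    let P := A * B * (C * D)
    have hPη : genericPoint X ∈ X.basicOpen P := by
      rw [Scheme.mem_basicOpen X P _ hη]
      by_contra hn
      have h0 : X.residue (genericPoint X) (X.presheaf.germ W _ hη P) = 0 := (residue_eq_zero _ _).2 hn
      have hne : ∀ {z : Γ(X, W)}, X.presheaf.germ W (genericPoint X) hη z ≠ 0 →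
          X.residue (genericPoint X) (X.presheaf.germ W (genericPoint X) hη z) ≠ 0 := fun {z} hz hz0 =>
        residue_spc_ne_zero hz (by
          rw [show spc (gen_to (genericPoint X)) (X.presheaf.germ W _ hη z) = X.presheaf.germ W _ hη z from
            TopCat.Presheaf.germ_stalkSpecializes_apply X.presheaf hη (gen_to _) z]
          exact hz0)
      simp only [P, map_mul] at h0
      exact mul_ne_zero (mul_ne_zero (hne (hAB _ hη).1) (hne (hAB _ hη).2.1))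
        (mul_ne_zero (hne (hCD _ hη).1) (hne (hCD _ hη).2.1)) h0
    have hfin : {ξ : X | ξ ∈ W ∧ ξ ∉ X.basicOpen P ∧ δ ξ + 1 = δ (genericPoint X)}.Finite := by
      refine (finite_maximal_points (S := (X.basicOpen P : Set X)ᶜ) (X.basicOpen P).isOpen.isClosed_compl hWaff).subset ?_
      rintro ξ ⟨hξW, hξP, hξδ⟩
      refine ⟨hξP, fun y hy hyξ => ?_, hξW⟩
      by_contra hne
      have h1 := (hd y ξ hyξ hne).1
      have h2 := (hd (genericPoint X) y (gen_to y) fun e0 => hy (e0 ▸ hPη)).1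
      omega
    refine ⟨W, hxW, fun y hy => Amp.gm L y (hU'le (hWU' hy)) e, fun y hy => Amp.gm N y (hWU' hy) e',
      fun y hy => X.presheaf.germ W y hy A, fun y hy => X.presheaf.germ W y hy B, fun y hy => X.presheaf.germ W y hy C,
      fun y hy => X.presheaf.germ W y hy D, hfin.toFinset,
      fun y hy => ⟨Amp.gen_of_isGenerator he _, Amp.gen_of_isGenerator he' _, hAB y hy, hCD y hy⟩,
      fun y hy y' hy' hyy => ⟨TopCat.Presheaf.germ_stalkSpecializes_apply X.presheaf hy hyy A,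
        TopCat.Presheaf.germ_stalkSpecializes_apply X.presheaf hy hyy B,
        TopCat.Presheaf.germ_stalkSpecializes_apply X.presheaf hy hyy C,
        TopCat.Presheaf.germ_stalkSpecializes_apply X.presheaf hy hyy D⟩,
      fun ξ hξ => ((Set.Finite.mem_toFinset _).1 hξ).2.2, fun ξ hξ hδξ hξB => ?_⟩
    have hP : ξ ∈ X.basicOpen P := by_contra fun hn => hξB ((Set.Finite.mem_toFinset _).2 ⟨hξ, hn, hδξ⟩)
    rw [Scheme.mem_basicOpen X P ξ hξ] at hP
    simp only [P, map_mul, IsUnit.mul_iff] at hP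
    exact ⟨hP.1.1, hP.1.2, hP.2.1, hP.2.2⟩
  let F' : (ξ : X) → X.residueField ξ := fun ξ => if δ ξ + 1 = δ (genericPoint X) then
    F ξ * (X.residue ξ (pu ξ) ^ Cyc.secDivFun δ L (genericPoint X) s ξ *
      (X.residue ξ (pv ξ) ^ Cyc.secDivFun δ N (genericPoint X) t ξ)⁻¹) else 1
  have hsec : ∀ ξ, δ ξ + 1 = δ (genericPoint X) → ∀ {gl : L.presheaf.stalk ξ} {A B : X.presheaf.stalk ξ},
      Amp.Gen gl → Rep L s gl A B → Cyc.secDivFun δ L (genericPoint X) s ξ =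
        ((Ring.ord _ A).toNat : ℤ) - (Ring.ord _ B).toNat := fun ξ hξ {gl A B} hgl hr => by
    simp only [Cyc.secDivFun]
    rw [dif_pos ⟨gen_to ξ, hξ⟩]
    exact hr.secOrdAt hL hd hξ hgl
  have htec : ∀ ξ, δ ξ + 1 = δ (genericPoint X) → ∀ {gl : N.presheaf.stalk ξ} {A B : X.presheaf.stalk ξ},
      Amp.Gen gl → Rep N t gl A B → Cyc.secDivFun δ N (genericPoint X) t ξ =
        ((Ring.ord _ A).toNat : ℤ) - (Ring.ord _ B).toNat := fun ξ hξ {gl A B} hgl hr => by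
    simp only [Cyc.secDivFun]
    rw [dif_pos ⟨gen_to ξ, hξ⟩]
    exact hr.secOrdAt hN hd hξ hgl
  have hF' : ∀ ξ, F' ξ ≠ 0 := fun ξ => by
    simp only [F']
    split_ifs with hξ
    · exact mul_ne_zero (hF ξ hξ) (mul_ne_zero (zpow_ne_zero _ (hpu ξ)) (inv_ne_zero (zpow_ne_zero _ (hpv ξ))))
    · exact one_ne_zero
  have hsupp : ∀ ξ, F' ξ ≠ 1 → δ ξ = n - 2 + 1 ∧ ξ ∈ S ∩ T := by
    intro ξ hne
    by_cases hξ : δ ξ + 1 = δ (genericPoint X)
    swap
    · exact (hne (by simp only [F', if_neg hξ])).elim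
    refine ⟨by omega, by_contra fun hc => hne ?_⟩
    have hdim := dim_stalk_le_one hd hξ
    simp only [F', if_pos hξ]
    rcases not_and_or.1 hc with hc | hc
    · obtain ⟨hv1, hs1⟩ := hgS ξ hξ hc
      have hr := rep_one_of_ext hs1
      have h1 : F ξ = 1 := by
        show Tame26.sym2 _ (a ξ) (b ξ) (c ξ) (d ξ) = 1
        rw [Tame26.sym2_congr_left hdim (hab ξ).1 (hab ξ).2.1 one_ne_zero one_ne_zero (hcd ξ).1 (hcd ξ).2.1
          ((hab ξ).congr hL (hg ξ) hr), Tame26.sym2]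
        rw [div_self (Tame26.T_ne hdim one_ne_zero (hcd ξ).1), div_self (Tame26.T_ne hdim one_ne_zero (hcd ξ).2.1), mul_one]
      have h2 : X.residue ξ (pv ξ) = 1 := by
        have := residue_eq_of_smul_eq (hg ξ) (a := pv ξ) (b := 1) (by rw [one_smul]; exact (hpv' ξ).symm.trans hv1)
        rwa [map_one] at this
      rw [h1, h2, hsec ξ hξ (hg ξ) hr, sub_self, zpow_zero, one_zpow, inv_one, mul_one, mul_one]
    · obtain ⟨hu1, ht1⟩ := hhT ξ hξ hc
      have hr := rep_one_of_ext ht1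
      have h1 : F ξ = 1 := by
        show Tame26.sym2 _ (a ξ) (b ξ) (c ξ) (d ξ) = 1
        rw [Tame26.sym2_congr_right hdim (hab ξ).1 (hab ξ).2.1 (hcd ξ).1 (hcd ξ).2.1 one_ne_zero one_ne_zero
          ((hcd ξ).congr hN (hh ξ) hr), Tame26.sym2]
        have z1 := Tame26.T_ne hdim (hab ξ).1 (one_ne_zero (α := X.presheaf.stalk ξ))
        have z2 := Tame26.T_ne hdim (hab ξ).2.1 (one_ne_zero (α := X.presheaf.stalk ξ))
        field_simp
      have h2 : X.residue ξ (pu ξ) = 1 := by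
        have := residue_eq_of_smul_eq (hh ξ) (a := pu ξ) (b := 1) (by rw [one_smul]; exact (hpu' ξ).symm.trans hu1)
        rwa [map_one] at this
      rw [h1, h2, htec ξ hξ (hh ξ) hr, sub_self, zpow_zero, one_zpow, inv_one, mul_one, mul_one]
  have hone : ∀ ξ, δ ξ + 1 = δ (genericPoint X) → ∀ {gl : L.presheaf.stalk ξ} {hl : N.presheaf.stalk ξ}
      {A B C D : X.presheaf.stalk ξ}, Amp.Gen gl → Amp.Gen hl → Rep L s gl A B → Rep N t hl C D →
      IsUnit A → IsUnit B → IsUnit C → IsUnit D → F' ξ = 1 := by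
    intro ξ hξ gl hl A B C D h1 h2 h3 h4 uA uB uC uD
    obtain ⟨αu, βu, hαu, hβu, -, -, hFe⟩ := hrel ξ hξ _ _ h1 h2 h3 h4
    simp only [F', if_pos hξ]
    rw [hFe, Tame26.sym2_unit (dim_stalk_le_one hd hξ) (uA.mul hαu) uB (uC.mul hβu) uD, hsec ξ hξ h1 h3, htec ξ hξ h2 h4,
      Ring.ord_of_isUnit uA, Ring.ord_of_isUnit uB, Ring.ord_of_isUnit uC, Ring.ord_of_isUnit uD, sub_self, zpow_zero,
      zpow_zero, inv_one, mul_one, mul_one]
    rfl
  refine RatFun.of_total F' hF' hsupp (fun x => ?_) fun x => ?_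
  · obtain ⟨W, hxW, gW, hW', Aw, Bw, Cw, Dw, B, hrep, -, -, hunit⟩ := hchart x
    refine ⟨W, W.isOpen, hxW, B.finite_toSet.subset ?_⟩
    rintro ξ ⟨hξW, hne⟩
    have hξδ : δ ξ + 1 = δ (genericPoint X) := by have := (hsupp ξ hne).1; omega
    by_contra hξB
    obtain ⟨h1, h2, h3, h4⟩ := hrep ξ hξW
    obtain ⟨uA, uB, uC, uD⟩ := hunit ξ hξW hξδ hξB
    exact hne (hone ξ hξδ h1 h2 h3 h4 uA uB uC uD)
  by_cases hx : δ x + 2 = δ (genericPoint X)
  swap
  · rw [finsum_eq_zero_of_forall_eq_zero (fun i : {ξ : X // F' ξ ≠ 1} => by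
      simp only [Cyc.divFun]
      rw [dif_neg fun h0 => hx (by have := (hsupp i.1 i.2).1; omega)])]
    show Cyc.c1CapFun δ N _ u x - Cyc.c1CapFun δ L _ v x = 0
    rw [show Cyc.c1CapFun δ N (Cyc.secDivFun δ L (genericPoint X) s) u x = 0 from finsum_eq_zero_of_forall_eq_zero
        fun ξ => by_contra fun h0 => hx (by
          have := (specializes_of_secDivFun_ne_zero (left_ne_zero_of_mul h0)).2
          have := (specializes_of_secDivFun_ne_zero (right_ne_zero_of_mul h0)).2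
          omega),
      show Cyc.c1CapFun δ L (Cyc.secDivFun δ N (genericPoint X) t) v x = 0 from finsum_eq_zero_of_forall_eq_zero
        fun ξ => by_contra fun h0 => hx (by
          have := (specializes_of_secDivFun_ne_zero (left_ne_zero_of_mul h0)).2
          have := (specializes_of_secDivFun_ne_zero (right_ne_zero_of_mul h0)).2
          omega), sub_zero]
  obtain ⟨W, hxW, gW, hW', Aw, Bw, Cw, Dw, B, hrep, hspc, hBδ, hunit⟩ := hchart x
  have hα0 : ∀ ξ ∈ W, Cyc.secDivFun δ L (genericPoint X) s ξ ≠ 0 → ξ ∈ B := by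
    intro ξ hξW hne
    obtain ⟨-, hξδ⟩ := specializes_of_secDivFun_ne_zero hne
    by_contra hξB
    obtain ⟨uA, uB, -, -⟩ := hunit ξ hξW hξδ hξB
    refine hne ?_
    simp only [Cyc.secDivFun]
    rw [dif_pos ⟨gen_to ξ, hξδ⟩, (hrep ξ hξW).2.2.1.secOrdAt hL hd hξδ (hrep ξ hξW).1, Ring.ord_of_isUnit uA,
      Ring.ord_of_isUnit uB, sub_self]
  have hβ0 : ∀ ξ ∈ W, Cyc.secDivFun δ N (genericPoint X) t ξ ≠ 0 → ξ ∈ B := by
    intro ξ hξW hne
    obtain ⟨-, hξδ⟩ := specializes_of_secDivFun_ne_zero hne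
    by_contra hξB
    obtain ⟨-, -, uC, uD⟩ := hunit ξ hξW hξδ hξB
    refine hne ?_
    simp only [Cyc.secDivFun]
    rw [dif_pos ⟨gen_to ξ, hξδ⟩, (hrep ξ hξW).2.2.2.secOrdAt hN hd hξδ (hrep ξ hξW).2.1, Ring.ord_of_isUnit uC,
      Ring.ord_of_isUnit uD, sub_self]
  show Cyc.c1CapFun δ N _ u x - Cyc.c1CapFun δ L _ v x = _
  rw [c1CapFun_eq_sum δ _ u hxW B hα0, c1CapFun_eq_sum δ _ v hxW B hβ0, ← Finset.sum_sub_distrib]
  rw [finsum_subtype_eq_sum (fun ξ : X => F' ξ ≠ 1) (fun ξ => Cyc.divFun δ ξ (F' ξ) x)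
    (B.filter fun ξ => F' ξ ≠ 1) (fun ξ hξ => (Finset.mem_filter.1 hξ).2)
    (fun ξ hξ hne => Finset.mem_filter.2 ⟨by
      have hξW : ξ ∈ W := (specializes_of_divFun_ne_zero hne).1.mem_open W.isOpen hxW
      have hξδ : δ ξ + 1 = δ (genericPoint X) := by have := (hsupp ξ hξ).1; omega
      by_contra hξB
      obtain ⟨h1, h2, h3, h4⟩ := hrep ξ hξW
      obtain ⟨uA, uB, uC, uD⟩ := hunit ξ hξW hξδ hξB
      exact hξ (hone ξ hξδ h1 h2 h3 h4 uA uB uC uD), hξ⟩),
    Finset.sum_filter_of_ne (p := fun ξ => F' ξ ≠ 1) (f := fun ξ => Cyc.divFun δ ξ (F' ξ) x)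
      (fun ξ _ hne h0 => hne (by rw [h0, divFun_one]))]
  obtain ⟨hgx, hhx, hABx, hCDx⟩ := hrep x hxW
  have hcov : ∀ {p q : X.presheaf.stalk x}, (∀ ξ (hξ : ξ ⤳ x) (hξW : ξ ∈ W), δ ξ + 1 = δ (genericPoint X) → ξ ∉ B →
      IsUnit (spc hξ p) ∧ IsUnit (spc hξ q)) → ∀ ξ (hξ : ξ ⤳ x), δ ξ + 1 = δ (genericPoint X) →
        ¬ (IsUnit (spc hξ p) ∧ IsUnit (spc hξ q)) → ξ ∈ B := fun hpq ξ hξ hδξ hn =>
    by_contra fun hξB => hn (hpq ξ hξ (hξ.mem_open W.isOpen hxW) hδξ hξB)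
  have hS := fun (p q : X.presheaf.stalk x) hp hq hpq => sum_symAt hd hx (a := p) (c := q) hp hq B hBδ (hcov hpq)
  have k1 := hS _ _ hABx.1 hCDx.1 fun ξ hξ hξW h1 h2 => by
    rw [(hspc x hxW ξ hξW hξ).1, (hspc x hxW ξ hξW hξ).2.2.1]; exact ⟨(hunit ξ hξW h1 h2).1, (hunit ξ hξW h1 h2).2.2.1⟩
  have k2 := hS _ _ hABx.2.1 hCDx.1 fun ξ hξ hξW h1 h2 => by
    rw [(hspc x hxW ξ hξW hξ).2.1, (hspc x hxW ξ hξW hξ).2.2.1]; exact ⟨(hunit ξ hξW h1 h2).2.1, (hunit ξ hξW h1 h2).2.2.1⟩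
  have k3 := hS _ _ hABx.2.1 hCDx.2.1 fun ξ hξ hξW h1 h2 => by
    rw [(hspc x hxW ξ hξW hξ).2.1, (hspc x hxW ξ hξW hξ).2.2.2]; exact ⟨(hunit ξ hξW h1 h2).2.1, (hunit ξ hξW h1 h2).2.2.2⟩
  have k4 := hS _ _ hABx.1 hCDx.2.1 fun ξ hξ hξW h1 h2 => by
    rw [(hspc x hxW ξ hξW hξ).1, (hspc x hxW ξ hξW hξ).2.2.2]; exact ⟨(hunit ξ hξW h1 h2).1, (hunit ξ hξW h1 h2).2.2.2⟩
  rw [← sub_eq_zero, ← Finset.sum_sub_distrib]
  have hzero := congrArg₂ (fun p q : ℤ => p + q) (congrArg₂ (fun p q : ℤ => p - q) k2 k1)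
    (congrArg₂ (fun p q : ℤ => p - q) k4 k3)
  simp only [← Finset.sum_sub_distrib, ← Finset.sum_add_distrib, sub_self, add_zero] at hzero
  refine Eq.trans (Finset.sum_congr rfl fun ξ hξB => ?_) hzero
  have hξδ := hBδ ξ hξB
  by_cases hξ : ξ ⤳ x
  swap
  · have hz : ∀ f, Cyc.divFun δ ξ f x = 0 := fun f => dif_neg fun h0 => hξ h0.1
    simp only [hz, Cyc.secDivFun, dif_neg (fun h0 : ξ ⤳ x ∧ δ x + 1 = δ ξ => hξ h0.1), mul_zero, sub_self, add_zero]
  have hxξ : δ x + 1 = δ ξ := by omega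
  obtain ⟨αu, βu, hαu, hβu, hgα, hhβ, hFe⟩ := hrel ξ hξδ _ _ (gen_stalkSpecializes hL hξ hgx)
    (gen_stalkSpecializes hN hξ hhx) (hABx.spec hξ) (hCDx.spec hξ)
  have hdim := dim_stalk_le_one hd hξδ
  have nA := spc_ne_zero hξ hABx.1
  have nB := spc_ne_zero hξ hABx.2.1
  have nC := spc_ne_zero hξ hCDx.1
  have nD := spc_ne_zero hξ hCDx.2.1
  have eα : Cyc.secDivFun δ L (genericPoint X) s ξ = ((Ring.ord _ (spc hξ (Aw x hxW))).toNat : ℤ) -
      (Ring.ord _ (spc hξ (Bw x hxW))).toNat := by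
    simp only [Cyc.secDivFun]
    rw [dif_pos ⟨gen_to ξ, hξδ⟩]
    exact (hABx.spec hξ).secOrdAt hL hd hξδ (gen_stalkSpecializes hL hξ hgx)
  have eβ : Cyc.secDivFun δ N (genericPoint X) t ξ = ((Ring.ord _ (spc hξ (Cw x hxW))).toNat : ℤ) -
      (Ring.ord _ (spc hξ (Dw x hxW))).toNat := by
    simp only [Cyc.secDivFun]
    rw [dif_pos ⟨gen_to ξ, hξδ⟩]
    exact (hCDx.spec hξ).secOrdAt hN hd hξδ (gen_stalkSpecializes hN hξ hhx)
  have hfib : ∀ {M : X.Modules} (hM : PicF.IsInvertible M) {γ : X.presheaf.stalk ξ} (hγ : IsUnit γ)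
      {gx : M.presheaf.stalk x} (hgx : Amp.Gen gx) {gξ : M.presheaf.stalk ξ},
      M.presheaf.stalkSpecializes hξ gx = γ • gξ →
      Cyc.secDivFun δ M ξ (fmk M ξ gξ) x = - Cyc.divFun δ ξ (X.residue ξ γ) x := by
    intro M hM γ hγ gx hgx gξ he
    have hne : X.residue ξ (hγ.unit⁻¹ : (X.presheaf.stalk ξ)ˣ).1 ≠ 0 := ((hγ.unit⁻¹).isUnit.map _).ne_zero
    have : fmk M ξ gξ = (hγ.unit⁻¹ : (X.presheaf.stalk ξ)ˣ).1 • fmk M ξ (M.presheaf.stalkSpecializes hξ gx) := by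
      rw [he]
      show _ = _ • Submodule.Quotient.mk _
      rw [Submodule.Quotient.mk_smul, ← mul_smul, IsUnit.val_inv_mul, one_smul]
    rw [← divFun_inv ξ (hγ.map _).ne_zero]
    simp only [Cyc.secDivFun, Cyc.divFun]
    rw [dif_pos ⟨hξ, hxξ⟩, dif_pos ⟨hξ, hxξ⟩, this, secOrdAt_gen hM hξ hgx _ hne]
    congr 1
    rw [map_units_inv, IsUnit.unit_spec]
  rw [hpu' ξ, hpv' ξ, secDivFun_smul hN δ ξ x _ (hpu ξ) (fmk_ne_zero (hh ξ)),
    secDivFun_smul hL δ ξ x _ (hpv ξ) (fmk_ne_zero (hg ξ))]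
  simp only [F', if_pos hξδ]
  rw [divFun_mul ξ x (hF ξ hξδ) (mul_ne_zero (zpow_ne_zero _ (hpu ξ)) (inv_ne_zero (zpow_ne_zero _ (hpv ξ)))),
    divFun_mul ξ x (zpow_ne_zero _ (hpu ξ)) (inv_ne_zero (zpow_ne_zero _ (hpv ξ))),
    divFun_inv ξ (zpow_ne_zero _ (hpv ξ)), divFun_zpow ξ x (hpu ξ), divFun_zpow ξ x (hpv ξ),
    eα, eβ, hfib hN hβu hhx hhβ, hfib hL hαu hgx hgα]
  rw [hFe, Tame26.sym2_mul_unit hdim nA nB nC nD hαu hβu]
  have z1 := Tame26.T_ne hdim nA nC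
  have z2 := Tame26.T_ne hdim nB nC
  have z3 := Tame26.T_ne hdim nB nD
  have z4 := Tame26.T_ne hdim nA nD
  have rα : X.residue ξ αu ≠ 0 := (hαu.map _).ne_zero
  have rβ : X.residue ξ βu ≠ 0 := (hβu.map _).ne_zero
  simp only [symAt, dif_pos hξ]
  rw [show Cyc.divFun δ ξ (Tame26.sym2 _ (spc hξ (Aw x hxW)) (spc hξ (Bw x hxW)) (spc hξ (Cw x hxW))
      (spc hξ (Dw x hxW)) * (IsLocalRing.residue _ αu ^ (((Ring.ord _ (spc hξ (Cw x hxW))).toNat : ℤ) -
        (Ring.ord _ (spc hξ (Dw x hxW))).toNat) * IsLocalRing.residue _ βu ^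
        (((Ring.ord _ (spc hξ (Bw x hxW))).toNat : ℤ) - (Ring.ord _ (spc hξ (Aw x hxW))).toNat))) x =
      ((Cyc.divFun δ ξ (CycAlg.tameSymbol _ (spc hξ (Aw x hxW)) (spc hξ (Cw x hxW))) x -
        Cyc.divFun δ ξ (CycAlg.tameSymbol _ (spc hξ (Bw x hxW)) (spc hξ (Cw x hxW))) x) +
        (Cyc.divFun δ ξ (CycAlg.tameSymbol _ (spc hξ (Bw x hxW)) (spc hξ (Dw x hxW))) x -
          Cyc.divFun δ ξ (CycAlg.tameSymbol _ (spc hξ (Aw x hxW)) (spc hξ (Dw x hxW))) x)) +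
        ((((Ring.ord _ (spc hξ (Cw x hxW))).toNat : ℤ) - (Ring.ord _ (spc hξ (Dw x hxW))).toNat) *
          Cyc.divFun δ ξ (X.residue ξ αu) x +
        (((Ring.ord _ (spc hξ (Bw x hxW))).toNat : ℤ) - (Ring.ord _ (spc hξ (Aw x hxW))).toNat) *
          Cyc.divFun δ ξ (X.residue ξ βu) x) from by
    rw [← divFun_zpow ξ x rα, ← divFun_zpow ξ x rβ, ← divFun_mul ξ x (zpow_ne_zero _ rα) (zpow_ne_zero _ rβ),
      ← divFun_div ξ x z1 z2, ← divFun_div ξ x z3 z4, ← divFun_mul ξ x (div_ne_zero z1 z2) (div_ne_zero z3 z4),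
      ← divFun_mul ξ x (mul_ne_zero (div_ne_zero z1 z2) (div_ne_zero z3 z4))
        (mul_ne_zero (zpow_ne_zero _ rα) (zpow_ne_zero _ rβ))]
    rfl]
  ring

/-- On an integral scheme `c₁(N) ∩ div_L(s)` and `c₁(L) ∩ div_N(t)` are rationally equivalent. -/
theorem c1Cap_comm_integral (hd : Cyc.IsDimFun X δ) {n : ℤ} (hn : δ (genericPoint X) = n)
    (hL : PicF.IsInvertible L) (hN : PicF.IsInvertible N) {s : Cyc.secFibre L (genericPoint X)} (hs : s ≠ 0)
    {t : Cyc.secFibre N (genericPoint X)} (ht : t ≠ 0) {u : (ξ : X) → Cyc.secFibre N ξ} (hu : ∀ ξ, u ξ ≠ 0)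
    {v : (ξ : X) → Cyc.secFibre L ξ} (hv : ∀ ξ, v ξ ≠ 0) {γ₁ γ₂ : AlgebraicCycle X ℤ}
    (h₁ : ⇑γ₁ = Cyc.c1CapFun δ N (Cyc.secDivFun δ L (genericPoint X) s) u)
    (h₂ : ⇑γ₂ = Cyc.c1CapFun δ L (Cyc.secDivFun δ N (genericPoint X) t) v) : Cyc.RatEquiv δ (n - 2) γ₁ γ₂ :=
  (comm_family_integral hd hn hL hN hs ht hu hv Set.univ Set.univ (fun _ _ h => (h trivial).elim)
    (fun _ _ h => (h trivial).elim)).ratEquivZero fun x => by
      show γ₁ x - γ₂ x = _
      rw [h₁, h₂]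

end Groth.Agent.Cyc26
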