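import Groth.Agent.Lib.Cyc26.C1Inv
import Groth.Agent.Lib.Cyc26.DivSheaf
import Groth.Agent.Lib.TensorMod.PullStalk

/-! # `c₁ ∩` of the cycle of a sheaf via a global section -/

set_option autoImplicit false
universe u

set_option backward.isDefEq.respectTransparency.types false

open CategoryTheory AlgebraicGeometry TopologicalSpace
open scoped Pointwise

namespace Groth.Agent.Cyc26

variable {X D : Scheme.{u}}

theorem nontrivial_of_length_toNat_ne_zero {R M : Type*} [Ring R] [AddCommGroup M] [Module R M]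
    (h : ((Module.length R M).toNat : ℤ) ≠ 0) : Nontrivial M := by
  by_contra hn
  rw [not_nontrivial_iff_subsingleton, ← Module.length_eq_zero_iff (R := R)] at hn
  exact h (by rw [hn]; rfl)

/-- `c₁(L) ∩ [F]_{k+1}` is `[F / sF]_k` when `s` is regular on `F`. -/
theorem c1Cap_sheafFun_apply [IsLocallyNoetherian X] {δ : X → ℤ} (hd : Cyc.IsDimFun X δ) {L : X.Modules}
    (hL : PicF.IsInvertible L) (s : L.presheaf.obj (Opposite.op ⊤)) {F : X.Modules} (hF : Coh.IsCoh F) {k : ℤ}
    (hdim : ∀ z, Nontrivial (F.presheaf.stalk z) → δ z ≤ k + 1) (σ : (ξ : X) → Cyc.secFibre L ξ)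
    (hσ : ∀ ξ, δ ξ = k + 1 → (Submodule.Quotient.mk ((L.presheaf.germ ⊤ ξ trivial) s) : Cyc.secFibre L ξ) ≠ 0 →
      σ ξ = Submodule.Quotient.mk ((L.presheaf.germ ⊤ ξ trivial) s))
    {x : X} (hx : δ x = k) {t : L.presheaf.stalk x} (ht : Amp.Gen t) {g : X.presheaf.stalk x}
    (hgs : (L.presheaf.germ ⊤ x trivial) s = g • t)
    (hg : Function.Injective fun m : F.presheaf.stalk x => g • m) :
    Cyc.c1CapFun δ L (Cyc.sheafFun δ (k + 1) F) σ x =
      ((Module.length (X.presheaf.stalk x) (F.presheaf.stalk x ⧸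
          g • (⊤ : Submodule (X.presheaf.stalk x) (F.presheaf.stalk x)))).toNat : ℤ) := by
  obtain ⟨T, hT, hne, hsum⟩ := length_quot_stalk hd hF hdim hx g hg
  rw [hsum]
  refine (finsum_eq_sum_of_support_subset (s := T) _ fun ξ hξ => ?_).trans (Finset.sum_congr rfl fun ξ hξ => ?_)
  · rw [Function.mem_support] at hξ
    have h1 := left_ne_zero_of_mul hξ
    simp only [Cyc.sheafFun] at h1
    split_ifs at h1 with hk
    · exact (hT ξ).2 ⟨nontrivial_of_length_toNat_ne_zero h1,
        (specializes_of_secDivFun_ne_zero (right_ne_zero_of_mul hξ)).1, hk⟩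
    · exact absurd rfl h1
  · obtain ⟨-, h, hk⟩ := (hT ξ).1 hξ
    have hsξ : (L.presheaf.germ ⊤ ξ trivial) s =
        X.presheaf.stalkSpecializes h g • L.presheaf.stalkSpecializes h t := by
      rw [← stalkSpecializes_smul, ← hgs, TopCat.Presheaf.germ_stalkSpecializes_apply]
    have hres : X.residue ξ (X.presheaf.stalkSpecializes h g) ≠ 0 := hne ξ hξ h
    have hmk : (Submodule.Quotient.mk ((L.presheaf.germ ⊤ ξ trivial) s) : Cyc.secFibre L ξ) =
        X.presheaf.stalkSpecializes h g • fmk L ξ (L.presheaf.stalkSpecializes h t) := by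
      rw [hsξ]; exact Submodule.Quotient.mk_smul _ _ _
    have hmk0 := smul_ne_zero_of_residue (gen_stalkSpecializes hL h ht) hres
    rw [← hmk] at hmk0
    simp only [Cyc.sheafFun, Cyc.secDivFun]
    rw [if_pos hk, dif_pos (show ξ ⤳ x ∧ δ x + 1 = δ ξ from ⟨h, by omega⟩), dif_pos h, hσ ξ hk hmk0, hmk,
      secOrdAt_gen hL h ht _ hres]
    rfl

/-- The stalk of the restriction of `F` to a closed subscheme cut out by `g`. -/
theorem length_stalk_pullback_closed (i : D ⟶ X) [IsClosedImmersion i] (F : X.Modules) (d : D)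
    {g : X.presheaf.stalk (i d)} (hg : RingHom.ker (i.stalkMap d).hom = Ideal.span {g}) :
    Module.length (D.presheaf.stalk d) (((Scheme.Modules.pullback i).obj F).presheaf.stalk d) =
      Module.length (X.presheaf.stalk (i d)) (F.presheaf.stalk (i d) ⧸
        g • (⊤ : Submodule (X.presheaf.stalk (i d)) (F.presheaf.stalk (i d)))) := by
  letI : Algebra (X.presheaf.stalk (i d)) (D.presheaf.stalk d) := (i.stalkMap d).hom.toAlgebra
  have hsurj : Function.Surjective (algebraMap (X.presheaf.stalk (i d)) (D.presheaf.stalk d)) :=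
    i.stalkMap_surjective d
  rw [← (M2.pullStalkEquiv i d F).length_eq,
    ← Module.length_eq_of_surjective (R := D.presheaf.stalk d) (S := X.presheaf.stalk (i d)) hsurj]
  let e : D.presheaf.stalk d ≃ₐ[X.presheaf.stalk (i d)] (X.presheaf.stalk (i d) ⧸ Ideal.span {g}) :=
    ((Ideal.quotientEquivAlgOfEq (X.presheaf.stalk (i d)) hg.symm).trans
      (Ideal.quotientKerAlgEquivOfSurjective (f := Algebra.ofId (X.presheaf.stalk (i d)) (D.presheaf.stalk d))
        hsurj)).symm
  rw [← Submodule.ideal_span_singleton_smul]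
  exact ((TensorProduct.congr e.toLinearEquiv (LinearEquiv.refl _ _)).trans
    (TensorProduct.quotTensorEquivQuotSMul (F.presheaf.stalk (i d)) (Ideal.span {g}))).length_eq

end Groth.Agent.Cyc26
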