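import Mathlib
import Groth.Prelude.Def_P1
import Groth.Agent.Lib.ProjSpace.Basic
import Groth.Agent.Lib.ProjSpace.Chart

/-! # The coordinate functions and sections of `P¹_X` -/

set_option autoImplicit false
universe u

set_option backward.isDefEq.respectTransparency false
set_option backward.isDefEq.respectTransparency.types false

open CategoryTheory CategoryTheory.Limits AlgebraicGeometry TopologicalSpace HomogeneousLocalization

noncomputable section

namespace Groth.Agent.P1S26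

abbrev o (i : Fin (1 + 1)) : Fin (1 + 1) := i + 1

theorem o_o (i : Fin (1 + 1)) : o (o i) = i := by fin_cases i <;> rfl
theorem eq_or (i j : Fin (1 + 1)) : j = i ∨ j = o i := by fin_cases i <;> fin_cases j <;> simp [o]
theorem ne_o (i : Fin (1 + 1)) : o i ≠ i := by fin_cases i <;> simp [o]

abbrev D (i : Fin (1 + 1)) : (CohB1.ProjSpace 1 P1.R0.{u}).Opens := Proj.basicOpen P1.grading.{u} (P1.T i)

/-- The coordinate `T_{1-i}/T_i`. -/
def c (i : Fin (1 + 1)) : Away P1.grading.{u} (P1.T i) := ProjSpace.coord P1.R0.{u} i (o i)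

def d (i : Fin (1 + 1)) : Γ(CohB1.ProjSpace 1 P1.R0.{u}, D i) :=
  (Proj.awayToSection P1.grading.{u} (P1.T i)).hom (c i)

theorem generate_away (i : Fin (1 + 1)) (S : Subring (Away P1.grading.{u} (P1.T i))) (hc : c i ∈ S) : S = ⊤ := by
  suffices h : ∀ z, z ∈ S from eq_top_iff.2 fun z _ => h z
  intro z
  obtain ⟨p, rfl⟩ := (ProjSpace.toAway_bijective P1.R0.{u} i).2 z
  induction p using MvPolynomial.induction_on with
  | C r =>
    rw [ProjSpace.toAway_C]
    have : ProjSpace.const P1.R0.{u} i r = ((ULift.ringEquiv r : ℤ) : Away P1.grading.{u} (P1.T i)) :=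
      RingHom.congr_fun (RingHom.ext_int ((ProjSpace.const P1.R0.{u} i).comp ULift.ringEquiv.symm.toRingHom)
        (Int.castRingHom _)) (ULift.ringEquiv r)
    rw [this]
    exact intCast_mem S _
  | add p q hp hq => rw [map_add]; exact add_mem hp hq
  | mul_X p j hp =>
    rw [map_mul, ProjSpace.toAway_X]
    obtain ⟨j, hj⟩ := j
    rcases eq_or i j with rfl | rfl
    · exact absurd rfl hj
    · exact mul_mem hp hc

theorem evalAway_c (i : Fin (1 + 1)) : P1.evalAway i (c.{u} i) = 0 := by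
  rw [c, ProjSpace.coord_eq_mk]
  have hu : IsUnit ((MvPolynomial.aeval (Pi.single i (1 : P1.R0.{u}) : Fin (1 + 1) → P1.R0)).toRingHom (P1.T i)) := by
    simp
  show IsLocalization.Away.lift (S := Localization.Away (P1.T.{u} i)) (P1.T i) hu
    (Away.mk P1.grading (ProjSpace.X_mem P1.R0.{u} i) 1 (MvPolynomial.X (o i)) _).val = 0
  rw [Away.val_mk, Localization.mk_eq_mk', IsLocalization.Away.lift]
  erw [IsLocalization.lift_mk'_spec]
  simp [Pi.single_apply, ne_o]

theorem comp_ι_appLE {Y Z : Scheme.{u}} {V : Z.Opens} (f : Y ⟶ V.toScheme) (h : (⊤ : Y.Opens) ≤ (f ≫ V.ι) ⁻¹ᵁ V) :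
    (f ≫ V.ι).appLE V ⊤ h = V.topIso.inv ≫ f.appTop := by
  rw [← Scheme.Hom.appLE_comp_appLE f V.ι V ⊤ ⊤ (V.ι_preimage_self.ge) le_top]
  congr 1
  · simp [Scheme.Hom.appLE, Scheme.Opens.topIso_inv, Scheme.Opens.ι_app, ← Functor.map_comp]
    rfl
  · exact Scheme.Hom.appLE_eq_app _

theorem appLE_eq_id {Z : Scheme.{u}} {V : Z.Opens} (f : Z ⟶ Z) (hf : f = 𝟙 Z) (h : V ≤ f ⁻¹ᵁ V) (a : Γ(Z, V)) :
    f.appLE V V h a = a := by
  subst hf
  simp [Scheme.Hom.appLE]
  erw [CategoryTheory.Functor.map_id]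
  rfl

theorem awayι_appLE (i : Fin (1 + 1)) (h : (⊤ : (Spec (CommRingCat.of (Away P1.grading.{u} (P1.T i)))).Opens) ≤
      Proj.awayι P1.grading.{u} (P1.T i) (P1.X_mem i) one_pos ⁻¹ᵁ D i) (a : Away P1.grading.{u} (P1.T i)) :
    (Proj.awayι P1.grading.{u} (P1.T i) (P1.X_mem i) one_pos).appLE (D i) ⊤ h
        ((Proj.awayToSection P1.grading.{u} (P1.T i)).hom a) =
      (Scheme.ΓSpecIso (CommRingCat.of (Away P1.grading.{u} (P1.T i)))).inv a := by
  let I := Proj.basicOpenIsoSpec P1.grading.{u} (P1.T i) (P1.X_mem i) one_pos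
  have hh : I.hom.appTop ((Scheme.ΓSpecIso _).inv a) =
      (D i).topIso.inv ((Proj.awayToSection P1.grading.{u} (P1.T i)).hom a) := by
    show (Proj.basicOpenToSpec P1.grading.{u} (P1.T i)).app ⊤ _ = _
    rw [Proj.basicOpenToSpec_app_top]
    simp only [CommRingCat.comp_apply, Iso.inv_hom_id_apply]
    rfl
  have h2 : (Proj.awayι P1.grading.{u} (P1.T i) (P1.X_mem i) one_pos).appLE (D i) ⊤ h
        ((Proj.awayToSection P1.grading.{u} (P1.T i)).hom a) =
      I.inv.appTop ((D i).topIso.inv ((Proj.awayToSection P1.grading.{u} (P1.T i)).hom a)) := by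
    rw [← CommRingCat.comp_apply (D i).topIso.inv I.inv.appTop]
    congr 2
    exact comp_ι_appLE I.inv h
  rw [h2, ← hh, ← CommRingCat.comp_apply, ← Scheme.Hom.comp_appTop, I.inv_hom_id, Scheme.Hom.id_appTop]
  rfl

variable (X : Scheme.{u})

abbrev P : Scheme.{u} := CohB1.ProjSpaceOver 1 X
abbrev q1 : P X ⟶ CohB1.ProjSpace 1 P1.R0.{u} :=
  pullback.fst (CohB1.ProjSpace.toSpec 1 (ULift.{u} ℤ)) (specULiftZIsTerminal.from X)
abbrev π : P X ⟶ X := CohB1.ProjSpaceOver.toBase 1 X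

/-- The chart `T_i ≠ 0`. -/
def U (i : Fin (1 + 1)) : (P X).Opens := q1 X ⁻¹ᵁ D i

/-- The coordinate `T_{1-i}/T_i` on the chart. -/
def t (i : Fin (1 + 1)) : Γ(P X, U X i) := (q1 X).app (D i) (d i)

theorem sect_π (i : Fin (1 + 1)) : P1.sect X i ≫ π X = 𝟙 X := pullback.lift_snd _ _ _

theorem π_sect_apply (i : Fin (1 + 1)) (x : X) : π X (P1.sect X i x) = x := by
  rw [← Scheme.Hom.comp_apply, sect_π]; rfl

theorem mem_U_or (p : P X) (i : Fin (1 + 1)) : p ∈ U X i ∨ p ∈ U X (o i) := by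
  obtain ⟨j, hj⟩ := ProjSpace.exists_mem_chart 1 P1.R0.{u} (q1 X p)
  rw [ProjSpace.opensRange_chart] at hj
  rcases eq_or i j with rfl | rfl
  · exact Or.inl hj
  · exact Or.inr hj

theorem sect_mem (i : Fin (1 + 1)) (x : X) : P1.sect X i x ∈ U X i := by
  show q1 X (P1.sect X i x) ∈ D i
  rw [← Scheme.Hom.comp_apply, show P1.sect X i ≫ q1 X = specULiftZIsTerminal.from X ≫ P1.point i from
    pullback.lift_fst _ _ _, Scheme.Hom.comp_apply, P1.point, Scheme.Hom.comp_apply]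
  exact (Proj.opensRange_awayι P1.grading.{u} (P1.T i) (P1.X_mem i) one_pos).le ⟨_, rfl⟩

theorem top_le_sect (i : Fin (1 + 1)) : (⊤ : X.Opens) ≤ P1.sect X i ⁻¹ᵁ U X i := fun x _ => sect_mem X i x

theorem sect_appLE_t (i : Fin (1 + 1)) :
    (P1.sect X i).appLE (U X i) ⊤ (top_le_sect X i) (t X i) = 0 := by
  have e0 : P1.sect X i ≫ q1 X = specULiftZIsTerminal.from X ≫ P1.point i := pullback.lift_fst _ _ _
  have h1 : (⊤ : X.Opens) ≤ (P1.sect X i ≫ q1 X) ⁻¹ᵁ D i := top_le_sect X i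
  have hpt : (⊤ : (Spec (CommRingCat.of P1.R0.{u})).Opens) ≤ P1.point i ⁻¹ᵁ D i := fun y _ => by
    show P1.point i y ∈ D i
    rw [P1.point, Scheme.Hom.comp_apply]
    exact (Proj.opensRange_awayι P1.grading.{u} (P1.T i) (P1.X_mem i) one_pos).le ⟨_, rfl⟩
  have hz : (P1.point i).appLE (D i) ⊤ hpt (d i) = 0 := by
    have e1 : (⊤ : (Spec (CommRingCat.of (Away P1.grading.{u} (P1.T i)))).Opens) ≤
        Proj.awayι P1.grading.{u} (P1.T i) (P1.X_mem i) one_pos ⁻¹ᵁ D i := fun y _ =>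
      (Proj.opensRange_awayι P1.grading.{u} (P1.T i) (P1.X_mem i) one_pos).le ⟨_, rfl⟩
    show (Spec.map (CommRingCat.ofHom (P1.evalAway i)) ≫
      Proj.awayι P1.grading.{u} (P1.T i) (P1.X_mem i) one_pos).appLE (D i) ⊤ hpt (d i) = 0
    rw [← Scheme.Hom.appLE_comp_appLE _ _ (D i) ⊤ ⊤ e1 le_top, CommRingCat.comp_apply, d, awayι_appLE]
    show (Spec.map (CommRingCat.ofHom (P1.evalAway i))).appLE ⊤ ⊤ le_top ((Scheme.ΓSpecIso _).inv (c i)) = 0
    rw [show (Spec.map (CommRingCat.ofHom (P1.evalAway i))).appLE ⊤ ⊤ le_top =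
      (Spec.map (CommRingCat.ofHom (P1.evalAway i))).appTop from Scheme.Hom.appLE_eq_app _ ,
      ← CommRingCat.comp_apply, ← Scheme.ΓSpecIso_inv_naturality, CommRingCat.comp_apply]
    refine (congrArg (Scheme.ΓSpecIso (CommRingCat.of P1.R0.{u})).inv (?_ : CommRingCat.ofHom (P1.evalAway i) (c i) = 0)).trans (map_zero _)
    exact evalAway_c i
  have key : (P1.sect X i ≫ q1 X).appLE (D i) ⊤ h1 (d i) = 0 := by
    simp only [e0]
    rw [← Scheme.Hom.appLE_comp_appLE _ _ (D i) ⊤ ⊤ hpt le_top, CommRingCat.comp_apply, hz, map_zero]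
  rw [← key, ← Scheme.Hom.appLE_comp_appLE (P1.sect X i) (q1 X) (D i) (U X i) ⊤ le_rfl (top_le_sect X i),
    CommRingCat.comp_apply, t, Scheme.Hom.app_eq_appLE]
  rfl

/-- The part of a chart over an affine open. -/
abbrev W (V : X.Opens) (i : Fin (1 + 1)) : (P X).Opens := U X i ⊓ π X ⁻¹ᵁ V

theorem generate_W {V : X.Opens} (hV : IsAffineOpen V) (i : Fin (1 + 1)) :
    IsAffineOpen (W X V i) ∧ ∀ S : Subring Γ(P X, W X V i),
      (∀ a : Γ(X, V), (π X).appLE V (W X V i) inf_le_right a ∈ S) →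
      (P X).presheaf.map (homOfLE inf_le_left).op (t X i) ∈ S → S = ⊤ := by
  haveI : IsAffine (D i).toScheme := Proj.isAffineOpen_basicOpen _ _ (P1.X_mem i) one_pos
  haveI : IsAffine V.toScheme := hV
  let a1 := (D i).ι ≫ CohB1.ProjSpace.toSpec 1 P1.R0.{u}
  let a2 := V.ι ≫ specULiftZIsTerminal.from X
  let j : pullback a1 a2 ⟶ P X := pullback.map a1 a2 _ _ (D i).ι V.ι (𝟙 _) (Category.comp_id _) (Category.comp_id _)
  haveI : IsOpenImmersion j := by dsimp only [j]; infer_instance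
  haveI : IsAffine (pullback a1 a2) := IsAffine.of_isPullback (IsPullback.of_hasPullback a1 a2)
  have hjr : j.opensRange = W X V i := by
    ext1
    rw [Scheme.Hom.coe_opensRange]
    refine (Scheme.Pullback.range_map _ _ _ _ _ _ _ _ _).trans ?_
    rw [Scheme.Opens.range_ι, Scheme.Opens.range_ι]
    rfl
  have hW : IsAffineOpen (W X V i) := hjr ▸ isAffineOpen_opensRange j
  refine ⟨hW, fun S hA ht => ?_⟩
  have e : (⊤ : (pullback a1 a2).Opens) ≤ j ⁻¹ᵁ W X V i := fun z _ => hjr.le ⟨z, rfl⟩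
  let φ : Γ(P X, W X V i) ⟶ Γ(pullback a1 a2, ⊤) := j.appLE (W X V i) ⊤ e
  have hφ : Function.Bijective φ.hom := by
    haveI : IsIso (j.app (W X V i)) := j.isIso_app (W X V i) hjr.ge
    haveI : IsIso φ := by
      dsimp only [φ, Scheme.Hom.appLE]
      have : IsIso (homOfLE e) := ⟨homOfLE le_top, Subsingleton.elim _ _, Subsingleton.elim _ _⟩
      infer_instance
    exact ConcreteCategory.bijective_of_isIso φ
  have hj1 : j ≫ q1 X = pullback.fst a1 a2 ≫ (D i).ι := pullback.lift_fst _ _ _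
  have hj2 : j ≫ π X = pullback.snd a1 a2 ≫ V.ι := pullback.lift_snd _ _ _
  have key1 : φ ((P X).presheaf.map (homOfLE (inf_le_left : W X V i ≤ U X i)).op (t X i)) =
      (pullback.fst a1 a2).appTop ((D i).topIso.inv (d i)) := by
    have h0 : (⊤ : (pullback a1 a2).Opens) ≤ (j ≫ q1 X) ⁻¹ᵁ D i := fun z _ =>
      show q1 X (j z) ∈ D i from (e (Set.mem_univ z)).1
    have lhs : φ ((P X).presheaf.map (homOfLE (inf_le_left : W X V i ≤ U X i)).op (t X i)) =
        (j ≫ q1 X).appLE (D i) ⊤ h0 (d i) := by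
      rw [← Scheme.Hom.appLE_comp_appLE j (q1 X) (D i) (W X V i) ⊤ inf_le_left e, CommRingCat.comp_apply]
      rfl
    rw [lhs, ← CommRingCat.comp_apply (D i).topIso.inv]
    simp only [hj1]
    congr 2
    exact comp_ι_appLE _ _
  have key2 : ∀ a : Γ(X, V), φ ((π X).appLE V (W X V i) inf_le_right a) =
      (pullback.snd a1 a2).appTop (V.topIso.inv a) := by
    intro a
    have h0 : (⊤ : (pullback a1 a2).Opens) ≤ (j ≫ π X) ⁻¹ᵁ V := fun z _ =>
      show π X (j z) ∈ V from (e (Set.mem_univ z)).2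
    have lhs : φ ((π X).appLE V (W X V i) inf_le_right a) = (j ≫ π X).appLE V ⊤ h0 a := by
      rw [← Scheme.Hom.appLE_comp_appLE j (π X) V (W X V i) ⊤ inf_le_right e, CommRingCat.comp_apply]
    rw [lhs, ← CommRingCat.comp_apply V.topIso.inv]
    simp only [hj2]
    congr 2
    exact comp_ι_appLE _ _
  let T : Subring Γ(pullback a1 a2, ⊤) := S.map φ.hom
  suffices hT : T = ⊤ by
    refine eq_top_iff.2 fun w _ => ?_
    obtain ⟨w', hw', he⟩ := Subring.mem_map.1 (hT.ge (Subring.mem_top (φ.hom w)))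
    exact hφ.1 he ▸ hw'
  have po := isPushout_appTop_of_isPullback (IsPullback.of_hasPullback a1 a2)
  have hB : ∀ b : Γ((D i).toScheme, ⊤), (pullback.fst a1 a2).appTop b ∈ T := by
    intro b
    let g : Away P1.grading.{u} (P1.T i) →+* Γ(pullback a1 a2, ⊤) :=
      ((pullback.fst a1 a2).appTop.hom.comp (D i).topIso.inv.hom).comp
        (Proj.awayToSection P1.grading.{u} (P1.T i)).hom
    have hg : T.comap g = ⊤ := generate_away i _ ⟨_, ht, key1⟩
    let I := Proj.basicOpenIsoAway P1.grading.{u} (P1.T i) (P1.X_mem i) one_pos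
    have hb : b = (D i).topIso.inv ((Proj.awayToSection P1.grading.{u} (P1.T i)).hom
        (I.inv ((D i).topIso.hom b))) := by
      rw [show (Proj.awayToSection P1.grading.{u} (P1.T i)).hom (I.inv ((D i).topIso.hom b)) =
        (D i).topIso.hom b from Iso.inv_hom_id_apply I _]
      exact (Iso.hom_inv_id_apply (D i).topIso b).symm
    rw [hb]
    exact (hg.ge (Subring.mem_top _) : _)
  have hC : ∀ b : Γ(V.toScheme, ⊤), (pullback.snd a1 a2).appTop b ∈ T := fun b => by
    refine ⟨_, hA (V.topIso.hom b), (key2 _).trans ?_⟩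
    rw [Iso.hom_inv_id_apply]
  let l : Γ((D i).toScheme, ⊤) ⟶ CommRingCat.of T :=
    CommRingCat.ofHom ((pullback.fst a1 a2).appTop.hom.codRestrict T hB)
  let r : Γ(V.toScheme, ⊤) ⟶ CommRingCat.of T :=
    CommRingCat.ofHom ((pullback.snd a1 a2).appTop.hom.codRestrict T hC)
  have hw : a1.appTop ≫ l = a2.appTop ≫ r := by
    ext z
    exact ConcreteCategory.congr_hom po.w z
  have hd : po.desc l r hw ≫ CommRingCat.ofHom T.subtype = 𝟙 _ := po.hom_ext
    (by rw [po.inl_desc_assoc, Category.comp_id]; rfl) (by rw [po.inr_desc_assoc, Category.comp_id]; rfl)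
  refine eq_top_iff.2 fun z _ => ?_
  have h9 := ConcreteCategory.congr_hom hd z
  have h8 : ((po.desc l r hw z : T) : Γ(pullback a1 a2, ⊤)) = z := h9
  rw [← h8]
  exact (po.desc l r hw z).2

theorem isUnit_germ_t (i : Fin (1 + 1)) (p : P X) (hi : p ∈ U X i) (ho : p ∈ U X (o i)) :
    (P X).presheaf.germ (U X i) p hi (t X i) * (P X).presheaf.germ (U X (o i)) p ho (t X (o i)) = 1 := by
  have h1 : q1 X p ∈ D i := hi
  have h2 : q1 X p ∈ D (o i) := ho
  have hg : ∀ (k : Fin (1 + 1)) (hk : q1 X p ∈ D k),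
      (P X).presheaf.germ (U X k) p hk (t X k) =
        (q1 X).stalkMap p ((CohB1.ProjSpace 1 P1.R0.{u}).presheaf.germ (D k) (q1 X p) hk (d k)) := fun k hk =>
    (Scheme.Hom.germ_stalkMap_apply (q1 X) (D k) p hk (d k)).symm
  rw [hg i h1, hg (o i) h2, ← map_mul]
  have key : (CohB1.ProjSpace 1 P1.R0.{u}).presheaf.germ (D i) (q1 X p) h1 (d i) *
      (CohB1.ProjSpace 1 P1.R0.{u}).presheaf.germ (D (o i)) (q1 X p) h2 (d (o i)) = 1 := by
    let E : (CohB1.ProjSpace 1 P1.R0.{u}).Opens := D i ⊓ D (o i)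
    rw [← (CohB1.ProjSpace 1 P1.R0.{u}).presheaf.germ_res_apply (homOfLE (inf_le_left : E ≤ D i)) _ ⟨h1, h2⟩,
      ← (CohB1.ProjSpace 1 P1.R0.{u}).presheaf.germ_res_apply (homOfLE (inf_le_right : E ≤ D (o i))) _ ⟨h1, h2⟩,
      ← map_mul]
    convert map_one ((CohB1.ProjSpace 1 P1.R0.{u}).presheaf.germ E (q1 X p) ⟨h1, h2⟩).hom using 2
    refine Subtype.ext (funext fun x => ?_)
    refine HomogeneousLocalization.val_injective _ ?_
    show ((((Proj.awayToSection P1.grading.{u} (P1.T i)).hom (c i)).1 ⟨x.1, x.2.1⟩) *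
      (((Proj.awayToSection P1.grading.{u} (P1.T (o i))).hom (c (o i))).1 ⟨x.1, x.2.2⟩)).val = _
    rw [HomogeneousLocalization.val_mul]
    erw [AlgebraicGeometry.ProjectiveSpectrum.Proj.awayToSection_apply, AlgebraicGeometry.ProjectiveSpectrum.Proj.awayToSection_apply]
    simp only [c, o_o, ProjSpace.val_coord, Localization.mk_eq_mk', IsLocalization.map_mk', RingHom.id_apply,
      ← IsLocalization.mk'_mul]
    refine Eq.trans ?_ HomogeneousLocalization.val_one.symm
    rw [IsLocalization.mk'_eq_iff_eq_mul, one_mul]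
    simp only [Submonoid.coe_mul, P1.T]
    rw [mul_comm]
  rw [key, map_one]

theorem germ_t_sect (i : Fin (1 + 1)) (x : X) :
    (P1.sect X i).stalkMap x ((P X).presheaf.germ (U X i) _ (sect_mem X i x) (t X i)) = 0 := by
  rw [Scheme.Hom.germ_stalkMap_apply,
    ← X.presheaf.germ_res_apply (homOfLE (top_le_sect X i)) x (Set.mem_univ x)]
  refine (congrArg (X.presheaf.germ ⊤ x (Set.mem_univ x)) ?_).trans (map_zero _)
  exact sect_appLE_t X i

theorem not_isUnit_sect (i : Fin (1 + 1)) (x : X) :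
    ¬ IsUnit ((P X).presheaf.germ (U X i) _ (sect_mem X i x) (t X i)) := fun h =>
  not_isUnit_zero (germ_t_sect X i x ▸ h.map ((P1.sect X i).stalkMap x).hom)

theorem sect_not_mem (i : Fin (1 + 1)) (x : X) : P1.sect X i x ∉ U X (o i) := fun h =>
  not_isUnit_sect X i x (IsUnit.of_mul_eq_one _ (isUnit_germ_t X i _ (sect_mem X i x) h))

theorem exists_retraction {V : X.Opens} (hV : IsAffineOpen V) (i : Fin (1 + 1)) :
    ∃ ψ : Γ(P X, W X V i) →+* Γ(X, V),
      (∀ (x : X) (hxV : x ∈ V) (hxW : P1.sect X i x ∈ W X V i) (w : Γ(P X, W X V i)),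
        (P1.sect X i).stalkMap x ((P X).presheaf.germ _ _ hxW w) = X.presheaf.germ V x hxV (ψ w)) ∧
      ∀ w, w - (π X).appLE V (W X V i) inf_le_right (ψ w) ∈
        Ideal.span {(P X).presheaf.map (homOfLE inf_le_left).op (t X i)} := by
  have e : V ≤ P1.sect X i ⁻¹ᵁ W X V i := fun x hx =>
    ⟨sect_mem X i x, show π X (P1.sect X i x) ∈ V by rw [π_sect_apply]; exact hx⟩
  let ψ := ((P1.sect X i).appLE (W X V i) V e).hom
  refine ⟨ψ, fun x hxV hxW w => ?_, ?_⟩
  · rw [Scheme.Hom.germ_stalkMap_apply, ← X.presheaf.germ_res_apply (homOfLE e) x hxV]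
    rfl
  have hret : ∀ a, ψ ((π X).appLE V (W X V i) inf_le_right a) = a := fun a => by
    show ((π X).appLE V (W X V i) inf_le_right ≫ (P1.sect X i).appLE (W X V i) V e) a = a
    rw [Scheme.Hom.appLE_comp_appLE]
    exact appLE_eq_id _ (sect_π X i) _ a
  let ρ := ((π X).appLE V (W X V i) inf_le_right).hom.comp ψ
  let J := Ideal.span {(P X).presheaf.map (homOfLE (inf_le_left : W X V i ≤ U X i)).op (t X i)}
  have hS : RingHom.eqLocus (Ideal.Quotient.mk J) ((Ideal.Quotient.mk J).comp ρ) = ⊤ := by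
    refine (generate_W X hV i).2 _ (fun a => ?_) ?_
    · show Ideal.Quotient.mk J _ = Ideal.Quotient.mk J ((π X).appLE V (W X V i) inf_le_right (ψ _))
      rw [hret]
    · show Ideal.Quotient.mk J _ = Ideal.Quotient.mk J ((π X).appLE V (W X V i) inf_le_right (ψ _))
      have : ψ ((P X).presheaf.map (homOfLE (inf_le_left : W X V i ≤ U X i)).op (t X i)) = 0 := by
        show ((P1.sect X i).appLE (W X V i) V e) _ = 0
        rw [← CommRingCat.comp_apply, Scheme.Hom.map_appLE,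
          ← Scheme.Hom.appLE_map (P1.sect X i) (top_le_sect X i) (homOfLE (le_top : V ≤ ⊤)).op,
          CommRingCat.comp_apply, sect_appLE_t, map_zero]
      rw [this, map_zero, map_zero, Ideal.Quotient.eq_zero_iff_mem]
      exact Ideal.mem_span_singleton_self _
  intro w
  rw [← Ideal.Quotient.eq]
  exact hS.ge (Subring.mem_top w)

theorem eq_sect_of_not_isUnit (i : Fin (1 + 1)) (p : P X) (hp : p ∈ U X i)
    (ht : ¬ IsUnit ((P X).presheaf.germ (U X i) p hp (t X i))) : p = P1.sect X i (π X p) := by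
  obtain ⟨V, hV, hpV, -⟩ := exists_isAffineOpen_mem_and_subset (U := (⊤ : X.Opens)) (x := π X p) trivial
  obtain ⟨hW, -⟩ := generate_W X hV i
  obtain ⟨ψ, -, hψ⟩ := exists_retraction X hV i
  have hpW : p ∈ W X V i := ⟨hp, hpV⟩
  have hqW : P1.sect X i (π X p) ∈ W X V i :=
    ⟨sect_mem X i _, show π X (P1.sect X i (π X p)) ∈ V by rw [π_sect_apply]; exact hpV⟩
  have key : ∀ (z : P X) (hz : z ∈ W X V i), π X z = π X p → (∀ hzU : z ∈ U X i,
      ¬ IsUnit ((P X).presheaf.germ (U X i) z hzU (t X i))) →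
      ∀ w, IsUnit ((P X).presheaf.germ _ z hz w) ↔ IsUnit (X.presheaf.germ V (π X p) hpV (ψ w)) := by
    intro z hz hπ hzt w
    obtain ⟨b, hb⟩ := Ideal.mem_span_singleton'.1 (hψ w)
    have hdiff : (P X).presheaf.germ _ z hz w - (P X).presheaf.germ _ z hz ((π X).appLE V (W X V i) inf_le_right (ψ w)) ∈
        IsLocalRing.maximalIdeal ((P X).presheaf.stalk z) := by
      rw [← map_sub, ← hb, map_mul]
      refine Ideal.mul_mem_left _ _ ?_
      rw [IsLocalRing.mem_maximalIdeal, mem_nonunits_iff, TopCat.Presheaf.germ_res_apply]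
      exact hzt _
    have h3 : IsUnit ((P X).presheaf.germ _ z hz w) ↔
        IsUnit ((P X).presheaf.germ _ z hz ((π X).appLE V (W X V i) inf_le_right (ψ w))) := by
      rw [← not_iff_not, ← mem_nonunits_iff, ← mem_nonunits_iff, ← IsLocalRing.mem_maximalIdeal,
        ← IsLocalRing.mem_maximalIdeal]
      constructor
      · intro h; simpa using Ideal.sub_mem _ h hdiff
      · intro h; simpa using Ideal.add_mem _ hdiff h
    rw [h3]
    have hz' : π X z ∈ V := hz.2
    have h4 : (P X).presheaf.germ _ z hz ((π X).appLE V (W X V i) inf_le_right (ψ w)) =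
        (π X).stalkMap z (X.presheaf.germ V (π X z) hz' (ψ w)) := by
      rw [Scheme.Hom.germ_stalkMap_apply, ← (P X).presheaf.germ_res_apply (homOfLE inf_le_right) z hz]
      rfl
    have h5 : ∀ (y : X) (hy : y ∈ V), y = π X p →
        (IsUnit (X.presheaf.germ V y hy (ψ w)) ↔ IsUnit (X.presheaf.germ V (π X p) hpV (ψ w))) := by
      rintro y hy rfl; rfl
    rw [h4, isUnit_map_iff]
    exact h5 _ hz' hπ
  have hprime : hW.primeIdealOf ⟨p, hpW⟩ = hW.primeIdealOf ⟨P1.sect X i (π X p), hqW⟩ := by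
    refine PrimeSpectrum.ext (Ideal.ext fun w => ?_)
    have h6 : ∀ (z : P X) (hz : z ∈ W X V i),
        w ∈ (hW.primeIdealOf ⟨z, hz⟩).asIdeal ↔ ¬ IsUnit ((P X).presheaf.germ _ z hz w) := by
      intro z hz
      letI := (P X).presheaf.algebra_section_stalk ⟨z, hz⟩
      haveI := hW.isLocalization_stalk ⟨z, hz⟩
      rw [← mem_nonunits_iff, ← IsLocalRing.mem_maximalIdeal]
      exact (IsLocalization.AtPrime.to_map_mem_maximal_iff ((P X).presheaf.stalk z)
        (hW.primeIdealOf ⟨z, hz⟩).asIdeal w).symm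
    rw [h6 p hpW, h6 _ hqW, key p hpW rfl (fun _ => ht),
      key _ hqW (π_sect_apply X i _) (fun _ => not_isUnit_sect X i _)]
  have := congrArg hW.fromSpec hprime
  rwa [IsAffineOpen.fromSpec_primeIdealOf, IsAffineOpen.fromSpec_primeIdealOf] at this

theorem mem_range_sect_iff (i : Fin (1 + 1)) (p : P X) :
    p ∈ Set.range (P1.sect X i) ↔ ∃ hp : p ∈ U X i, ¬ IsUnit ((P X).presheaf.germ (U X i) p hp (t X i)) := by
  constructor
  · rintro ⟨x, rfl⟩
    exact ⟨sect_mem X i x, not_isUnit_sect X i x⟩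
  · rintro ⟨hp, ht⟩
    exact ⟨π X p, (eq_sect_of_not_isUnit X i p hp ht).symm⟩

theorem isUnit_of_not_range (i : Fin (1 + 1)) (p : P X) (hp : p ∈ U X i) (hr : p ∉ Set.range (P1.sect X i)) :
    IsUnit ((P X).presheaf.germ (U X i) p hp (t X i)) :=
  Classical.not_not.1 fun h => hr ((mem_range_sect_iff X i p).2 ⟨hp, h⟩)

theorem d_basicOpen_le (i : Fin (1 + 1)) {y : CohB1.ProjSpace 1 P1.R0.{u}} (hy : y ∈ D i)
    (hd : y ∈ (CohB1.ProjSpace 1 P1.R0.{u}).basicOpen (d i)) : y ∈ D (o i) := by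
  obtain ⟨q, rfl⟩ := (Proj.opensRange_awayι P1.grading.{u} (P1.T i) (P1.X_mem i) one_pos).ge hy
  have e1 : (⊤ : (Spec (CommRingCat.of (Away P1.grading.{u} (P1.T i)))).Opens) ≤
      Proj.awayι P1.grading.{u} (P1.T i) (P1.X_mem i) one_pos ⁻¹ᵁ D i := fun z _ =>
    (Proj.opensRange_awayι P1.grading.{u} (P1.T i) (P1.X_mem i) one_pos).le ⟨_, rfl⟩
  have h1 : q ∈ (Spec (CommRingCat.of (Away P1.grading.{u} (P1.T i)))).basicOpen
      ((Proj.awayι P1.grading.{u} (P1.T i) (P1.X_mem i) one_pos).appLE (D i) ⊤ e1 (d i)) := by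
    rw [Scheme.basicOpen_appLE]
    exact ⟨trivial, hd⟩
  rw [d, awayι_appLE, basicOpen_eq_of_affine (R := CommRingCat.of (Away P1.grading.{u} (P1.T i)))] at h1
  show q ∈ Proj.awayι P1.grading.{u} (P1.T i) (P1.X_mem i) one_pos ⁻¹ᵁ D (o i)
  rw [D, Proj.awayι_preimage_basicOpen (𝒜 := P1.grading.{u}) (g_deg := P1.X_mem.{u} (o i)) (hm' := one_pos)]
  convert h1 using 2
  refine HomogeneousLocalization.val_injective (Submonoid.powers (P1.T.{u} i)) ?_
  rw [c, ProjSpace.val_coord, Away.isLocalizationElem, Away.val_mk]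
  simp

theorem mem_U_of_not_range (i : Fin (1 + 1)) (p : P X) (hr : p ∉ Set.range (P1.sect X (o i))) : p ∈ U X i := by
  rcases mem_U_or X p i with h | h
  · exact h
  · have hu := isUnit_of_not_range X (o i) p h hr
    have hb : p ∈ (P X).basicOpen (t X (o i)) := ((P X).mem_basicOpen (t X (o i)) p h).2 hu
    rw [t, ← Scheme.preimage_basicOpen] at hb
    have h2 := d_basicOpen_le (o i) h hb
    rw [o_o] at h2
    exact h2

theorem ker_sect (i : Fin (1 + 1)) (x : X) :
    RingHom.ker ((P1.sect X i).stalkMap x).hom =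
      Ideal.span {(P X).presheaf.germ (U X i) _ (sect_mem X i x) (t X i)} := by
  refine le_antisymm (fun a ha => ?_) ((Ideal.span_singleton_le_iff_mem _).2 (germ_t_sect X i x))
  obtain ⟨V, hV, hxV, -⟩ := exists_isAffineOpen_mem_and_subset (U := (⊤ : X.Opens)) (x := x) trivial
  obtain ⟨hW, -⟩ := generate_W X hV i
  obtain ⟨ψ, hψ1, hψ⟩ := exists_retraction X hV i
  have hxW : P1.sect X i x ∈ W X V i :=
    ⟨sect_mem X i x, show π X (P1.sect X i x) ∈ V by rw [π_sect_apply]; exact hxV⟩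
  letI := (P X).presheaf.algebra_section_stalk ⟨P1.sect X i x, hxW⟩
  haveI := hW.isLocalization_stalk ⟨P1.sect X i x, hxW⟩
  obtain ⟨⟨w, s⟩, hs⟩ := IsLocalization.surj (hW.primeIdealOf ⟨P1.sect X i x, hxW⟩).asIdeal.primeCompl a
  have hu : IsUnit ((P X).presheaf.germ _ _ hxW s.1) :=
    IsLocalization.map_units ((P X).presheaf.stalk (P1.sect X i x)) s
  have h0 : X.presheaf.germ V x hxV (ψ w) = 0 := by
    rw [← hψ1 x hxV hxW w, ← show a * (P X).presheaf.germ _ _ hxW s.1 = (P X).presheaf.germ _ _ hxW w from hs,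
      map_mul, show (P1.sect X i).stalkMap x a = 0 from ha, zero_mul]
  obtain ⟨b, hb⟩ := Ideal.mem_span_singleton'.1 (hψ w)
  have hz : π X (P1.sect X i x) ∈ V := hxW.2
  have h4 : (P X).presheaf.germ _ _ hxW ((π X).appLE V (W X V i) inf_le_right (ψ w)) = 0 := by
    have h5 : X.presheaf.germ V (π X (P1.sect X i x)) hz (ψ w) = 0 := by
      have : ∀ (y : X) (hy : y ∈ V), y = x → X.presheaf.germ V y hy (ψ w) = 0 := by rintro y hy rfl; exact h0
      exact this _ hz (π_sect_apply X i x)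
    have := congrArg ((π X).stalkMap (P1.sect X i x)) h5
    rw [map_zero, Scheme.Hom.germ_stalkMap_apply] at this
    rw [← this, ← (P X).presheaf.germ_res_apply (homOfLE inf_le_right) _ hxW]
    rfl
  have h6 : (P X).presheaf.germ _ _ hxW w ∈ Ideal.span {(P X).presheaf.germ (U X i) _ (sect_mem X i x) (t X i)} := by
    have := congrArg ((P X).presheaf.germ _ _ hxW) hb
    rw [map_sub, h4, sub_zero, map_mul, TopCat.Presheaf.germ_res_apply] at this
    rw [← this]
    exact Ideal.mul_mem_left _ _ (Ideal.mem_span_singleton_self _)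
  rw [← show a * (P X).presheaf.germ _ _ hxW s.1 = (P X).presheaf.germ _ _ hxW w from hs] at h6
  exact (Ideal.mul_unit_mem_iff_mem _ hu).1 h6

end Groth.Agent.P1S26
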