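import Mathlib
import Groth.Agent.Lib.Cyc26.P1Sect
import Groth.Agent.Lib.Cyc26.PushRat
import Groth.Agent.Lib.Cyc26.DivSheaf
import Groth.Agent.Lib.Cyc26.DivFun
import Groth.Agent.Lib.Cyc26.C1Push
import Groth.Agent.Lib.Cyc26.C1Struct
import Groth.Agent.Lib.Cyc26.C1Sheaf
import Groth.Agent.Lib.Cyc26.Closure
import Groth.Agent.Lib.Cyc26.NormFormula
import Groth.Agent.Lib.ModM1.Coh
import Groth.Agent.Lib.UCat26.DimFun

/-! # Fibres over `0` and `∞` of sheaves on `P¹_X` are rationally equivalent -/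

set_option autoImplicit false
universe u

set_option backward.isDefEq.respectTransparency false
set_option backward.isDefEq.respectTransparency.types false

open CategoryTheory CategoryTheory.Limits AlgebraicGeometry TopologicalSpace IsLocalRing Groth.Agent.M1
open scoped Pointwise

noncomputable section

namespace Groth.Agent.P1S26

variable (X : Scheme.{u})

instance isProper_π : IsProper (π X) := MorphismProperty.pullback_snd _ _ inferInstance

instance isClosedImmersion_sect (i : Fin (1 + 1)) : IsClosedImmersion (P1.sect X i) := by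
  haveI : IsClosedImmersion (P1.sect X i ≫ π X) := by rw [sect_π]; infer_instance
  exact IsClosedImmersion.of_comp (P1.sect X i) (π X)

theorem residue_bijective (i : Fin (1 + 1)) (x : X) :
    Function.Bijective ((π X).residueFieldMap (P1.sect X i x)).hom := by
  refine ⟨RingHom.injective _, fun b => ?_⟩
  obtain ⟨b, rfl⟩ := (P X).residue_surjective _ b
  haveI : IsIso (P1.sect X i ≫ π X) := by rw [sect_π]; infer_instance
  obtain ⟨a, ha⟩ : ∃ a : X.presheaf.stalk (π X (P1.sect X i x)),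
      (P1.sect X i).stalkMap x ((π X).stalkMap (P1.sect X i x) a) = (P1.sect X i).stalkMap x b := by
    obtain ⟨a, ha⟩ := (P1.sect X i ≫ π X).stalkMap_surjective x ((P1.sect X i).stalkMap x b)
    rw [Scheme.Hom.stalkMap_comp] at ha
    exact ⟨a, ha⟩
  refine ⟨X.residue _ a, ?_⟩
  refine (ConcreteCategory.congr_hom (Scheme.residue_residueFieldMap (π X) (P1.sect X i x)) a).trans ?_
  show (P X).residue _ ((π X).stalkMap _ a) = _
  refine sub_eq_zero.1 ((map_sub ((P X).residue (P1.sect X i x)).hom _ b).symm.trans ?_)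
  refine (IsLocalRing.residue_eq_zero_iff _).2 ?_
  rw [mem_maximalIdeal, mem_nonunits_iff]
  intro hu
  have h1 := hu.map ((P1.sect X i).stalkMap x).hom
  refine not_isUnit_zero (M₀ := X.presheaf.stalk x) ?_
  refine (congrArg IsUnit ?_).mp h1
  rw [map_sub]
  exact sub_eq_zero.2 ha

theorem residueDegree_sect (i : Fin (1 + 1)) (x : X) : (π X).residueDegree (P1.sect X i x) = 1 :=
  Cyc26.residueDegree_of_bijective _ _ (residue_bijective X i x)

variable {δ : X → ℤ} {δP : ↥(P X) → ℤ}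

theorem delta_sect (hP : Cyc.DeltaCompat (π X) δP δ) (i : Fin (1 + 1)) (x : X) :
    δP (P1.sect X i x) = δ x := by
  obtain ⟨n, hn, he⟩ := hP (P1.sect X i x)
  letI := ((π X).residueFieldMap (P1.sect X i x)).hom.toAlgebra
  haveI : Algebra.IsAlgebraic (X.residueField (π X (P1.sect X i x))) ((P X).residueField (P1.sect X i x)) :=
    ⟨fun b => by
      obtain ⟨a, rfl⟩ := (residue_bijective X i x).2 b
      exact isAlgebraic_algebraMap a⟩
  rw [trdeg_eq_zero (R := X.residueField (π X (P1.sect X i x))) (A := (P X).residueField (P1.sect X i x))] at hn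
  have h0 : n = 0 := by exact_mod_cast hn.symm
  subst h0
  rw [he, π_sect_apply]
  simp

/-- A zero divisor on a stalk gives an associated point. -/
theorem exists_assoc_point {Y : Scheme.{u}} [IsLocallyNoetherian Y] {F : Y.Modules} (hF : Coh.IsCoh F) (y : Y)
    (g : Y.presheaf.stalk y) (hg : ¬ Function.Injective fun m : F.presheaf.stalk y => g • m) :
    ∃ (ξ : Y) (h : ξ ⤳ y), Cyc.specMap y ξ h g = 0 ∧
      IsAssociatedPrime (maximalIdeal (Y.presheaf.stalk ξ)) (F.presheaf.stalk ξ) := by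
  haveI := finite_stalk hF.1 (isFP_isFT (isFP_of_isCoh hF)) y
  obtain ⟨a, b, hab, hne⟩ := Function.not_injective_iff.1 hg
  have hz : g ∈ ⋃ p ∈ associatedPrimes (Y.presheaf.stalk y) (F.presheaf.stalk y), (p : Set (Y.presheaf.stalk y)) := by
    rw [biUnion_associatedPrimes_eq_zero_divisors]
    exact ⟨a - b, sub_ne_zero.2 hne, by rw [smul_sub]; exact sub_eq_zero.2 hab⟩
  obtain ⟨p, hp, hgp⟩ := Set.mem_iUnion₂.1 hz
  let q : PrimeSpectrum (Y.presheaf.stalk y) := ⟨p, hp.isPrime⟩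
  let ξ := Y.fromSpecStalk y q
  have h : ξ ⤳ y := by
    have hr : ξ ∈ Set.range (Y.fromSpecStalk y) := ⟨q, rfl⟩
    rw [Scheme.range_fromSpecStalk] at hr
    exact hr
  have hq : q = ⟨RingHom.ker (Cyc.specMap y ξ h), RingHom.ker_isPrime _⟩ :=
    (Y.fromSpecStalk y).isEmbedding.injective (UCat26.fromSpecStalk_ker h).symm
  have hpe : p = RingHom.ker (Cyc.specMap y ξ h) := congrArg PrimeSpectrum.asIdeal hq
  refine ⟨ξ, h, by rw [hpe] at hgp; exact hgp, ?_⟩
  obtain ⟨σ, e, he⟩ := Cyc26.exists_equiv_stalk hF.1 h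
  haveI : (RingHom.ker (Cyc.specMap y ξ h)).IsPrime := RingHom.ker_isPrime _
  have ha : RingHom.ker (Cyc.specMap y ξ h) ∈ associatedPrimes (Y.presheaf.stalk y) (F.presheaf.stalk y) := hpe ▸ hp
  obtain ⟨hpr, m, hm⟩ := Module.associatedPrimes.mem_associatedPrimes_atPrime_of_mem_associatedPrimes ha
  refine ⟨(maximalIdeal.isMaximal _).isPrime, e m, ?_⟩
  ext t
  obtain ⟨r, rfl⟩ := σ.surjective t
  have hr := SetLike.ext_iff.1 hm r
  simp only [Ideal.mem_radical_iff, Submodule.mem_colon_singleton, Submodule.mem_bot] at hr ⊢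
  have hmax : σ r ∈ maximalIdeal (Y.presheaf.stalk ξ) ↔ r ∈ maximalIdeal _ := by
    simp only [mem_maximalIdeal, mem_nonunits_iff, isUnit_map_iff]
  rw [hmax, hr]
  refine exists_congr fun n => ?_
  rw [← map_pow, ← he, map_eq_zero_iff _ e.injective]

variable {F : (P X).Modules}

/-- The length of `F_p / t_i F_p` at the point of the section. -/
def fibLen (δ : X → ℤ) (k : ℤ) (i : Fin (1 + 1)) (F : (P X).Modules) : X → ℤ := fun x =>
  if δ x = k then ((Module.length ((P X).presheaf.stalk (P1.sect X i x))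
    (F.presheaf.stalk (P1.sect X i x) ⧸ ((P X).presheaf.germ (U X i) _ (sect_mem X i x) (t X i)) •
      (⊤ : Submodule ((P X).presheaf.stalk (P1.sect X i x)) (F.presheaf.stalk (P1.sect X i x))))).toNat : ℤ) else 0

theorem subsingleton_quot {R M : Type*} [CommRing R] [AddCommGroup M] [Module R M] {g : R} (hg : IsUnit g) :
    Subsingleton (M ⧸ g • (⊤ : Submodule R M)) := by
  rw [Submodule.Quotient.subsingleton_iff, eq_top_iff]
  intro m _
  obtain ⟨u, rfl⟩ := hg
  exact ⟨(↑u⁻¹ : R) • m, trivial, by simp [smul_smul]⟩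

/-- The principal divisors of the coordinate function. -/
theorem exists_cycle_fibres [IsLocallyNoetherian X] (huc : ∀ x : X, CAlg.IsUniversallyCatenary (X.presheaf.stalk x))
    (hd : Cyc.IsDimFun X δ) (hP : Cyc.DeltaCompat (π X) δP δ) (k : ℤ) (hF : Coh.IsCoh F)
    (hsupp : ∀ p, Nontrivial (F.presheaf.stalk p) → δP p ≤ k + 1)
    (hsec : ∀ (i : Fin (1 + 1)) (x : X), Nontrivial (F.presheaf.stalk (P1.sect X i x)) → δ x ≤ k)
    (hreg : ∀ (i : Fin (1 + 1)) (x : X), δ x = k → Function.Injective fun m : F.presheaf.stalk (P1.sect X i x) =>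
      ((P X).presheaf.germ (U X i) _ (sect_mem X i x) (t X i)) • m)
    : ∃ c : AlgebraicCycle (P X) ℤ, Cyc.RatEquivZero δP k c ∧
      (∀ (ξ0 : P X) (h0 : ξ0 ∈ U X 0), δP ξ0 = k + 1 → Nontrivial (F.presheaf.stalk ξ0) →
        (∀ ξ, δP ξ = k + 1 → Nontrivial (F.presheaf.stalk ξ) → ξ = ξ0) →
        ⇑c = fun p => ((Module.length ((P X).presheaf.stalk ξ0) (F.presheaf.stalk ξ0)).toNat : ℤ) *
          Cyc.divFun δP ξ0 ((P X).residue ξ0 ((P X).presheaf.germ (U X 0) ξ0 h0 (t X 0))) p) ∧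
      ∀ x, AlgebraicCycle.map (π X) δP δ c x = fibLen X δ k 0 F x - fibLen X δ k 1 F x := by
  classical
  haveI : IsLocallyNoetherian (P X) := LocallyOfFiniteType.isLocallyNoetherian (π X)
  have hdP : Cyc.IsDimFun (P X) δP := UCat26.isDimFun_of_deltaCompat (π X) huc hd hP
  have hoff : ∀ ξ, δP ξ = k + 1 → Nontrivial (F.presheaf.stalk ξ) → ∀ i, ξ ∉ Set.range (P1.sect X i) := by
    rintro ξ hξ hnt i ⟨x, rfl⟩
    have := hsec i x hnt
    rw [delta_sect X hP] at hξ
    omega
  let J : Type u := {ξ : P X // δP ξ = k + 1 ∧ Nontrivial (F.presheaf.stalk ξ)}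
  have hJU : ∀ (ξ : J) (i : Fin (1 + 1)), ξ.1 ∈ U X i := fun ξ i =>
    mem_U_of_not_range X i ξ.1 (hoff ξ.1 ξ.2.1 ξ.2.2 (o i))
  let res : (ξ : J) → Fin (1 + 1) → (P X).residueField ξ.1 := fun ξ i =>
    (P X).residue ξ.1 ((P X).presheaf.germ (U X i) ξ.1 (hJU ξ i) (t X i))
  have hres : ∀ ξ : J, res ξ 0 * res ξ 1 = 1 := fun ξ => by
    show (P X).residue ξ.1 _ * (P X).residue ξ.1 _ = 1
    rw [← map_mul]
    exact (congrArg _ (isUnit_germ_t X 0 ξ.1 (hJU ξ 0) (hJU ξ 1))).trans (map_one _)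
  have hres0 : ∀ ξ i, res ξ i ≠ 0 := fun ξ i => by
    fin_cases i
    · exact left_ne_zero_of_mul_eq_one (hres ξ)
    · exact right_ne_zero_of_mul_eq_one (hres ξ)
  let n : J → ℕ := fun ξ => (Module.length ((P X).presheaf.stalk ξ.1) (F.presheaf.stalk ξ.1)).toNat
  let φ : (ξ : J) → (P X).residueField ξ.1 := fun ξ => res ξ 0 ^ n ξ
  have hlf : ∀ p : P X, ∃ W : Set (P X), IsOpen W ∧ p ∈ W ∧
      {ξ : J | (closure {ξ.1} ∩ W).Nonempty}.Finite := by
    intro p
    obtain ⟨W, hW, hpW, -⟩ := exists_isAffineOpen_mem_and_subset (U := (⊤ : (P X).Opens)) (x := p) trivial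
    refine ⟨W, W.isOpen, hpW, ?_⟩
    refine ((Cyc26.finite_maximal_points (isClosed_support (isFP_isFT (isFP_of_isCoh hF))) hW).preimage
      Subtype.val_injective.injOn).subset ?_
    rintro ξ ⟨z, hz, hzW⟩
    refine ⟨not_subsingleton_iff_nontrivial.2 ξ.2.2, fun w hw hwξ => ?_,
      (specializes_iff_mem_closure.2 hz).mem_open W.isOpen hzW⟩
    by_contra hne
    have h1 := (hdP w ξ.1 hwξ hne).1
    have h2 := hsupp w (not_subsingleton_iff_nontrivial.1 hw)
    have h3 := ξ.2.1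
    omega
  obtain ⟨c, hc⟩ := Cyc26.exists_cycle_sum_divFun hdP (fun ξ : J => ξ.1) φ hlf
  have hrat : Cyc.RatEquivZero δP k c := ⟨J, _, φ, fun ξ => ξ.2.1, fun ξ => pow_ne_zero _ (hres0 ξ 0), hlf, hc⟩
  have hinj : ∀ (p : P X) (i : Fin (1 + 1)) (hp : p ∈ U X i), δP p = k →
      Function.Injective fun m : F.presheaf.stalk p => ((P X).presheaf.germ (U X i) p hp (t X i)) • m := by
    intro p i hp hpk
    by_cases hr : p ∈ Set.range (P1.sect X i)
    · obtain ⟨x, rfl⟩ := hr
      exact hreg i x ((delta_sect X hP i x).symm.trans hpk)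
    · exact fun a b hab => (isUnit_of_not_range X i p hp hr).smul_left_cancel.1 hab
  have hcp : ∀ (p : P X) (i : Fin (1 + 1)) (hp : p ∈ U X i), δP p = k →
      ∑ᶠ ξ : J, (n ξ : ℤ) * Cyc.divFun δP ξ.1 (res ξ i) p =
        ((Module.length ((P X).presheaf.stalk p) (F.presheaf.stalk p ⧸ ((P X).presheaf.germ (U X i) p hp (t X i)) •
          (⊤ : Submodule ((P X).presheaf.stalk p) (F.presheaf.stalk p)))).toNat : ℤ) := by
    intro p i hp hpk
    obtain ⟨T, hT, -, hsum⟩ := Cyc26.length_quot_stalk hdP hF hsupp hpk _ (hinj p i hp hpk)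
    rw [hsum, finsum_eq_sum_of_support_subset (s := T.subtype fun ξ => δP ξ = k + 1 ∧ Nontrivial (F.presheaf.stalk ξ))]
    swap
    · intro ξ hξ
      rw [Finset.mem_coe, Finset.mem_subtype, hT]
      exact ⟨ξ.2.2, (Cyc26.specializes_of_divFun_ne_zero (right_ne_zero_of_mul hξ)).1, ξ.2.1⟩
    refine Eq.trans ?_ (Finset.sum_subtype_of_mem (p := fun ξ => δP ξ = k + 1 ∧ Nontrivial (F.presheaf.stalk ξ)) (s := T) (fun ξ => ((Module.length ((P X).presheaf.stalk ξ) (F.presheaf.stalk ξ)).toNat : ℤ) *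
      (if h : ξ ⤳ p then Cyc.ordAt p ξ h (Cyc.specMap p ξ h ((P X).presheaf.germ (U X i) p hp (t X i))) else 0))
      (fun ξ hξ => ⟨((hT ξ).1 hξ).2.2, ((hT ξ).1 hξ).1⟩))
    refine Finset.sum_congr rfl fun ξ hξ => ?_
    have h3 := (hT ξ.1).1 (Finset.mem_subtype.1 hξ)
    rw [dif_pos h3.2.1]
    simp only [Cyc.divFun]
    rw [dif_pos (show ξ.1 ⤳ p ∧ δP p + 1 = δP ξ.1 from ⟨h3.2.1, by rw [hpk, h3.2.2]⟩)]
    congr 2
    show res ξ i = (P X).residue ξ.1 ((P X).presheaf.stalkSpecializes h3.2.1 _)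
    rw [TopCat.Presheaf.germ_stalkSpecializes_apply]
  have hc0 : ∀ (p : P X) (hp : p ∈ U X 0), δP p = k → c p =
      ((Module.length ((P X).presheaf.stalk p) (F.presheaf.stalk p ⧸ ((P X).presheaf.germ (U X 0) p hp (t X 0)) •
          (⊤ : Submodule ((P X).presheaf.stalk p) (F.presheaf.stalk p)))).toNat : ℤ) := by
    intro p hp hpk
    rw [hc, ← hcp p 0 hp hpk]
    exact finsum_congr fun ξ => Cyc26.divFun_npow δP ξ.1 p (hres0 ξ 0) _
  have hc1 : ∀ (p : P X) (hp : p ∈ U X 1), δP p = k → c p =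
      -((Module.length ((P X).presheaf.stalk p) (F.presheaf.stalk p ⧸ ((P X).presheaf.germ (U X 1) p hp (t X 1)) •
          (⊤ : Submodule ((P X).presheaf.stalk p) (F.presheaf.stalk p)))).toNat : ℤ) := by
    intro p hp hpk
    rw [hc, ← hcp p 1 hp hpk, ← finsum_neg_distrib]
    refine finsum_congr fun ξ => ?_
    show Cyc.divFun δP ξ.1 (res ξ 0 ^ n ξ) p = _
    rw [Cyc26.divFun_npow δP ξ.1 p (hres0 ξ 0)]
    simp only [Cyc.divFun]
    split_ifs with h
    · have h5 := Cyc26.ordFrac_mul_all (R := Cyc.LocQuot p ξ.1 h.1) (hres0 ξ 0) (hres0 ξ 1)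
      rw [hres] at h5
      have h7 : CycAlg.ordFrac (Cyc.LocQuot p ξ.1 h.1) ((P X).residueField ξ.1) 1 = 0 := by
        have h8 := Cyc26.ordFrac_mul_all (R := Cyc.LocQuot p ξ.1 h.1) (one_ne_zero (α := (P X).residueField ξ.1)) one_ne_zero
        rw [one_mul] at h8
        omega
      rw [h7] at h5
      have h6 : Cyc.ordAt p ξ.1 h.1 (res ξ 0) = - Cyc.ordAt p ξ.1 h.1 (res ξ 1) := by
        unfold Cyc.ordAt; omega
      rw [h6, mul_neg]
    · simp
  have hzero : ∀ p, δP p ≠ k → c p = 0 := fun p hp => by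
    rw [hc]
    refine finsum_eq_zero_of_forall_eq_zero fun ξ => by_contra fun hne => hp ?_
    have := (Cyc26.specializes_of_divFun_ne_zero hne).2
    have := ξ.2.1
    omega
  refine ⟨c, hrat, fun ξ0 h0 hξ0 hnt huniq => ?_, fun x => ?_⟩
  · funext p
    rw [hc, finsum_eq_single _ (⟨ξ0, hξ0, hnt⟩ : J) fun ξ hξ => absurd (Subtype.ext (huniq ξ.1 ξ.2.1 ξ.2.2)) hξ]
    exact Cyc26.divFun_npow δP ξ0 p (hres0 ⟨ξ0, hξ0, hnt⟩ 0) _
  simp only [fibLen]
  by_cases hx : δ x = k
  · have hne : P1.sect X 0 x ≠ P1.sect X 1 x := fun e => sect_not_mem X 0 x (by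
      rw [e]; exact sect_mem X 1 x)
    rw [if_pos hx, if_pos hx, Cyc26.map_apply_eq_sum (π X) δP δ c x {P1.sect X 0 x, P1.sect X 1 x} ?_ ?_,
      Finset.sum_pair hne, hc0 _ (sect_mem X 0 x) ((delta_sect X hP 0 x).trans hx),
      hc1 _ (sect_mem X 1 x) ((delta_sect X hP 1 x).trans hx), AlgebraicCycle.mapCoeff, AlgebraicCycle.mapCoeff,
      if_pos, if_pos, residueDegree_sect, residueDegree_sect]
    · ring
    · rw [delta_sect X hP]; exact congrArg δ (π_sect_apply X 1 x).symm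
    · rw [delta_sect X hP]; exact congrArg δ (π_sect_apply X 0 x).symm
    · intro p hp
      simp only [Finset.mem_insert, Finset.mem_singleton] at hp
      rcases hp with rfl | rfl <;> exact π_sect_apply X _ x
    · intro p hp hne' _
      simp only [Finset.mem_insert, Finset.mem_singleton]
      by_contra hcon
      have hr : ∀ i, p ∉ Set.range (P1.sect X i) := by
        rintro i ⟨y, rfl⟩
        rw [π_sect_apply] at hp
        subst hp
        fin_cases i <;> simp at hcon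
      have hpk : δP p = k := by_contra fun h => hne' (hzero p h)
      have hpU : p ∈ U X 0 := mem_U_of_not_range X 0 p (hr _)
      refine hne' ?_
      rw [hc0 p hpU hpk]
      haveI := subsingleton_quot (M := F.presheaf.stalk p) (isUnit_of_not_range X 0 p hpU (hr 0))
      rw [Module.length_eq_zero]
      rfl
  · rw [if_neg hx, if_neg hx, Cyc26.map_apply_eq_sum (π X) δP δ c x ∅ (by simp) ?_, Finset.sum_empty, sub_zero]
    intro p hp hne' hδ
    exact absurd (by
      rw [← hp, ← hδ]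
      exact by_contra fun h => hne' (hzero p h)) hx

theorem ratEquiv_fibres [IsLocallyNoetherian X] (huc : ∀ x : X, CAlg.IsUniversallyCatenary (X.presheaf.stalk x))
    (hd : Cyc.IsDimFun X δ) (hP : Cyc.DeltaCompat (π X) δP δ) (k : ℤ) (hF : Coh.IsCoh F)
    (hsupp : ∀ p, Nontrivial (F.presheaf.stalk p) → δP p ≤ k + 1)
    (hsec : ∀ (i : Fin (1 + 1)) (x : X), Nontrivial (F.presheaf.stalk (P1.sect X i x)) → δ x ≤ k)
    (hreg : ∀ (i : Fin (1 + 1)) (x : X), δ x = k → Function.Injective fun m : F.presheaf.stalk (P1.sect X i x) =>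
      ((P X).presheaf.germ (U X i) _ (sect_mem X i x) (t X i)) • m)
    (α β : AlgebraicCycle X ℤ) (hα : ⇑α = fibLen X δ k 0 F) (hβ : ⇑β = fibLen X δ k 1 F) :
    Cyc.RatEquiv δ k α β := by
  haveI : IsLocallyNoetherian (P X) := LocallyOfFiniteType.isLocallyNoetherian (π X)
  obtain ⟨c, hrat, -, hmap⟩ := exists_cycle_fibres X huc hd hP k hF hsupp hsec hreg
  have h : AlgebraicCycle.map (π X) δP δ c = α - β := by
    ext x
    show AlgebraicCycle.map (π X) δP δ c x = α x - β x
    rw [hα, hβ]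
    exact hmap x
  show Cyc.RatEquivZero δ k (α - β)
  rw [← h]
  exact Cyc26.ratEquivZero_map (π X) (UCat26.isDimFun_of_deltaCompat (π X) huc hd hP) hd hP hrat

theorem fibLen_eq_sheafFun (hFt : CohB1.IsFT F) (k : ℤ) (i : Fin (1 + 1)) :
    fibLen X δ k i F = Cyc.sheafFun δ k ((Scheme.Modules.pullback (P1.sect X i)).obj F) := by
  funext x
  simp only [fibLen, Cyc.sheafFun]
  rw [Cyc26.length_stalk_pullback_closed (P1.sect X i) F x (ker_sect X i x)]

theorem nontrivial_pullback_sect [IsLocallyNoetherian X] (hF : Coh.IsCoh F) (i : Fin (1 + 1)) (x : X)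
    (h : Nontrivial (F.presheaf.stalk (P1.sect X i x))) :
    Nontrivial (((Scheme.Modules.pullback (P1.sect X i)).obj F).presheaf.stalk x) := by
  haveI : IsLocallyNoetherian (P X) := LocallyOfFiniteType.isLocallyNoetherian (π X)
  haveI := finite_stalk hF.1 (isFP_isFT (isFP_of_isCoh hF)) (P1.sect X i x)
  by_contra hn
  rw [not_nontrivial_iff_subsingleton, ← Module.length_eq_zero_iff (R := X.presheaf.stalk x),
    Cyc26.length_stalk_pullback_closed (P1.sect X i) F x (ker_sect X i x), Module.length_eq_zero_iff,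
    Submodule.Quotient.subsingleton_iff] at hn
  have h2 : (⊤ : Submodule ((P X).presheaf.stalk (P1.sect X i x)) (F.presheaf.stalk (P1.sect X i x))) = ⊥ := by
    refine Submodule.eq_bot_of_le_smul_of_le_jacobson_bot
      (Ideal.span {(P X).presheaf.germ (U X i) _ (sect_mem X i x) (t X i)}) _ Module.Finite.fg_top ?_ ?_
    · rw [Submodule.ideal_span_singleton_smul, hn]
    · rw [IsLocalRing.jacobson_eq_maximalIdeal ⊥ bot_ne_top, Ideal.span_singleton_le_iff_mem]
      exact (mem_maximalIdeal _).2 (not_isUnit_sect X i x)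
  exact not_subsingleton _ ((Submodule.subsingleton_iff _).1 (subsingleton_of_bot_eq_top h2.symm))

end Groth.Agent.P1S26
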