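import Mathlib
import Groth.Agent.Lib.Cyc26.Special
import Groth.Agent.Lib.Cyc26.Stalk
import Groth.Agent.Lib.CohFound.ClosedImmPush

/-! # Specialisation of the cycle of a flat closed subscheme -/

set_option autoImplicit false
universe u

set_option backward.isDefEq.respectTransparency.types false

open CategoryTheory CategoryTheory.Limits AlgebraicGeometry IsLocalRing Groth.Agent.M1
open scoped Pointwise

namespace Groth.Agent.Cyc26Sp

theorem exists_stalk_push_equiv {X Z : Scheme.{u}} (i : Z ⟶ X) [IsClosedImmersion i] (z : Z) :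
    ∃ E : ((Coh.push i).obj (Coh.structureModule Z)).presheaf.stalk (i z) ≃+ Z.presheaf.stalk z,
      ∀ r m, E (r • m) = i.stalkMap z r * E m := by
  let M := Coh.structureModule Z
  let φ : ((Coh.push i).obj M).presheaf.stalk (i z) ⟶ M.presheaf.stalk z :=
    TopCat.Presheaf.stalkPushforward AddCommGrpCat.{u} i.base M.presheaf z
  haveI : IsIso φ := TopCat.Presheaf.stalkPushforward.stalkPushforward_iso_of_isInducing AddCommGrpCat.{u}
    (f := i.base) i.isClosedEmbedding.isInducing M.presheaf z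
  let L : Z.presheaf.stalk z ≃ₗ[Z.presheaf.stalk z] M.presheaf.stalk z :=
    LinearEquiv.ofBijective (LinearMap.toSpanSingleton _ _ _) (Cyc26.structureModule_stalk_bijective z)
  have hφ : ∀ (r : X.presheaf.stalk (i z)) a, φ (r • a) = i.stalkMap z r • φ a := by
    intro r a
    obtain ⟨V, hV, r, rfl⟩ := X.presheaf.exists_germ_eq r
    obtain ⟨W, hW, m, rfl⟩ := ((Coh.push i).obj M).presheaf.exists_germ_eq a
    rw [← X.presheaf.germ_res_apply (homOfLE inf_le_left) (i z) (show i z ∈ V ⊓ W from ⟨hV, hW⟩) r,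
      ← germ_mres ((Coh.push i).obj M) (inf_le_right : V ⊓ W ≤ W) ⟨hV, hW⟩ m, ← germ_smul]
    have hgerm : ∀ t, φ (((Coh.push i).obj M).presheaf.germ (V ⊓ W) (i z) ⟨hV, hW⟩ t) =
        M.presheaf.germ (i ⁻¹ᵁ (V ⊓ W)) z ⟨hV, hW⟩ t :=
      fun t => ConcreteCategory.congr_hom
        (TopCat.Presheaf.stalkPushforward_germ AddCommGrpCat.{u} i.base M.presheaf (V ⊓ W) z ⟨hV, hW⟩) t
    rw [hgerm, hgerm, Scheme.Hom.germ_stalkMap_apply, ← germ_smul]
    rfl
  refine ⟨(asIso φ).addCommGroupIsoToAddEquiv.trans L.symm.toAddEquiv, fun r m => ?_⟩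
  show L.symm (φ (r • m)) = i.stalkMap z r * L.symm (φ m)
  rw [hφ, map_smul]
  rfl

theorem length_quot_push {X Z : Scheme.{u}} (i : Z ⟶ X) [IsClosedImmersion i] (z : Z) (g : X.presheaf.stalk (i z)) :
    Module.length (X.presheaf.stalk (i z)) (((Coh.push i).obj (Coh.structureModule Z)).presheaf.stalk (i z) ⧸
        g • (⊤ : Submodule (X.presheaf.stalk (i z))
          (((Coh.push i).obj (Coh.structureModule Z)).presheaf.stalk (i z)))) =
      Module.length (Z.presheaf.stalk z) (Z.presheaf.stalk z ⧸ Ideal.span {i.stalkMap z g}) := by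
  obtain ⟨E, hE⟩ := exists_stalk_push_equiv i z
  let A : AddSubgroup (((Coh.push i).obj (Coh.structureModule Z)).presheaf.stalk (i z)) :=
    (g • (⊤ : Submodule (X.presheaf.stalk (i z))
      (((Coh.push i).obj (Coh.structureModule Z)).presheaf.stalk (i z)))).toAddSubgroup
  let B : AddSubgroup (Z.presheaf.stalk z) := (Ideal.span {i.stalkMap z g}).toAddSubgroup
  have hAB : A.map E.toAddMonoidHom = B := by
    ext b
    constructor
    · rintro ⟨_, ⟨m, -, rfl⟩, rfl⟩
      exact Ideal.mem_span_singleton'.2 ⟨E m, (mul_comm _ _).trans (hE g m).symm⟩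
    · intro hb
      obtain ⟨c, rfl⟩ := Ideal.mem_span_singleton'.1 hb
      exact ⟨g • E.symm c, ⟨E.symm c, trivial, rfl⟩, by
        show E (g • E.symm c) = _
        rw [hE, E.apply_symm_apply, mul_comm]⟩
  refine Cyc26.length_eq_of_semilinear (i.stalkMap z).hom (i.stalkMap_surjective z)
    (QuotientAddGroup.congr A B E hAB) ?_
  intro r m
  obtain ⟨m, rfl⟩ := Submodule.Quotient.mk_surjective _ m
  show QuotientAddGroup.mk (E (r • m)) = _
  rw [hE]
  rfl

theorem length_stalk_iso {X Y : Scheme.{u}} (e : X ≅ Y) (x : X) :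
    Module.length (X.presheaf.stalk x) (X.presheaf.stalk x) =
      Module.length (Y.presheaf.stalk (e.hom x)) (Y.presheaf.stalk (e.hom x)) := by
  let σ := (asIso (e.hom.stalkMap x)).commRingCatIsoToRingEquiv
  exact (Cyc26.length_eq_of_semilinear σ.toRingHom σ.surjective (e := σ.toAddEquiv) fun r m => map_mul σ r m).symm

variable (R : Type u) [CommRing R] [IsDomain R] [IsDiscreteValuationRing R]
variable {X W : Scheme.{u}} (a : X ⟶ Spec (CommRingCat.of R)) [LocallyOfFiniteType a]
  (ι : W ⟶ X) [IsClosedImmersion ι]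

theorem isFlatOver_push [Flat (ι ≫ a)] :
    FlatMod.IsFlatOver a ((Coh.push ι).obj (Coh.structureModule W)) := by
  intro x
  letI := FlatMod.moduleStalkOver a ((Coh.push ι).obj (Coh.structureModule W)) x
  show Module.Flat _ _
  by_cases hx : x ∈ Set.range ι
  · obtain ⟨w, rfl⟩ := hx
    obtain ⟨E, hE⟩ := exists_stalk_push_equiv ι w
    let σ : (Spec (CommRingCat.of R)).presheaf.stalk (a (ι w)) →+* W.presheaf.stalk w :=
      ((ι ≫ a).stalkMap w).hom
    letI := σ.toAlgebra
    haveI : Module.Flat ((Spec (CommRingCat.of R)).presheaf.stalk (a (ι w))) (W.presheaf.stalk w) :=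
      (Flat.iff_flat_stalkMap (ι ≫ a)).1 inferInstance w
    refine Module.Flat.of_linearEquiv (M := W.presheaf.stalk w) (LinearEquiv.mk
      { toFun := E, map_add' := map_add E, map_smul' := fun r m => ?_ } E.symm E.left_inv E.right_inv)
    show E (a.stalkMap (ι w) r • m) = σ r * E m
    rw [hE]
    congr 1
    exact ((congrArg (fun φ => φ.hom r) (Scheme.Hom.stalkMap_comp ι a w)).trans rfl).symm
  · haveI := Cyc26.subsingleton_stalk_push ι (Coh.structureModule W)
      ⟨(Set.range ι)ᶜ, ι.isClosedEmbedding.isClosed_range.isOpen_compl⟩ (x := x) hx fun z hz => hz ⟨z, rfl⟩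
    infer_instance

theorem nontrivial_push_iff (x : X) :
    Nontrivial (((Coh.push ι).obj (Coh.structureModule W)).presheaf.stalk x) ↔ x ∈ Set.range ι := by
  constructor
  · intro h
    by_contra hx
    haveI := Cyc26.subsingleton_stalk_push ι (Coh.structureModule W)
      ⟨(Set.range ι)ᶜ, ι.isClosedEmbedding.isClosed_range.isOpen_compl⟩ (x := x) hx fun z hz => hz ⟨z, rfl⟩
    exact not_subsingleton _ this
  · rintro ⟨w, rfl⟩
    obtain ⟨E, -⟩ := exists_stalk_push_equiv ι w
    exact E.toEquiv.nontrivial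

/-- Lengths of local rings of a fibre of `W`. -/
theorem length_pullback_fibre (s : ↥(Spec (CommRingCat.of R))) (z : ↥(pullback ι (a.fiberι s))) :
    Module.length ((pullback ι (a.fiberι s)).presheaf.stalk z) ((pullback ι (a.fiberι s)).presheaf.stalk z) =
      Module.length (W.presheaf.stalk (pullback.fst ι (a.fiberι s) z))
        (W.presheaf.stalk (pullback.fst ι (a.fiberι s) z) ⧸
          Ideal.map ((ι ≫ a).stalkMap (pullback.fst ι (a.fiberι s) z)).hom
            (maximalIdeal ((Spec (CommRingCat.of R)).presheaf.stalk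
              ((ι ≫ a) (pullback.fst ι (a.fiberι s) z))))) := by
  let e : pullback ι (a.fiberι s) ≅ (ι ≫ a).fiber s :=
    pullbackRightPullbackFstIso a ((Spec (CommRingCat.of R)).fromSpecResidueField s) ι
  have he : e.hom ≫ (ι ≫ a).fiberι s = pullback.fst ι (a.fiberι s) :=
    pullbackRightPullbackFstIso_hom_fst a ((Spec (CommRingCat.of R)).fromSpecResidueField s) ι
  rw [length_stalk_iso e z]
  have hz : (ι ≫ a).fiberι s (e.hom z) = pullback.fst ι (a.fiberι s) z := by
    rw [← he, Scheme.Hom.comp_apply]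
  rw [← hz]
  obtain ⟨σ, -⟩ := EGA43Top.exists_ringEquiv_fiber_stalk (ι ≫ a) s (e.hom z)
  rw [Module.length_eq_of_surjective (R := (W.presheaf.stalk ((ι ≫ a).fiberι s (e.hom z)) ⧸
      Ideal.map ((ι ≫ a).stalkMap ((ι ≫ a).fiberι s (e.hom z))).hom (maximalIdeal _)))
    (S := W.presheaf.stalk ((ι ≫ a).fiberι s (e.hom z))) (M := (W.presheaf.stalk ((ι ≫ a).fiberι s (e.hom z)) ⧸
      Ideal.map ((ι ≫ a).stalkMap ((ι ≫ a).fiberι s (e.hom z))).hom (maximalIdeal _))) Ideal.Quotient.mk_surjective]
  exact (Cyc26.length_eq_of_semilinear σ.toRingHom σ.surjective (e := σ.toAddEquiv) fun r m => map_mul σ r m).symm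

theorem fibre_singleton (s : ↥(Spec (CommRingCat.of R))) (x : ↥(a.fiber s)) (w : W) (hw : ι w = a.fiberι s x) :
    ∃ z, {z' : ↥(pullback ι (a.fiberι s)) | pullback.snd ι (a.fiberι s) z' = x} = {z} ∧
      pullback.fst ι (a.fiberι s) z = w := by
  obtain ⟨z, hz1, hz2⟩ := Scheme.Pullback.exists_preimage_pullback w x hw
  refine ⟨z, Set.ext fun z' => ⟨fun h => (pullback.snd ι (a.fiberι s)).isClosedEmbedding.injective (h.trans hz2.symm),
    fun h => h ▸ hz2⟩, hz1⟩

theorem fibre_empty (s : ↥(Spec (CommRingCat.of R))) (x : ↥(a.fiber s)) (hx : a.fiberι s x ∉ Set.range ι) :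
    {z' : ↥(pullback ι (a.fiberι s)) | pullback.snd ι (a.fiberι s) z' = x} = ∅ :=
  Set.eq_empty_iff_forall_notMem.2 fun z hz => hx ⟨pullback.fst ι (a.fiberι s) z, by
    rw [← Scheme.Hom.comp_apply, pullback.condition, Scheme.Hom.comp_apply, hz]⟩

/-- Specialisation of the cycle of the generic fibre of a flat closed subscheme. -/
theorem spFun_subscheme [Flat (ι ≫ a)] {δη : ↥(a.fiber (genericPoint ↥(Spec (CommRingCat.of R)))) → ℤ}
    {δs : ↥(a.fiber (closedPoint R)) → ℤ}
    (hδη : Cyc.DeltaCompat (a.fiberToSpecResidueField (genericPoint ↥(Spec (CommRingCat.of R)))) δη (fun _ => 0))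
    (hδs : Cyc.DeltaCompat (a.fiberToSpecResidueField (closedPoint R)) δs (fun _ => 0))
    (r : ℤ) (hdim : ∀ ζ : ↥(a.fiber (genericPoint ↥(Spec (CommRingCat.of R)))),
      a.fiberι _ ζ ∈ Set.range ι → δη ζ ≤ r) :
    (∀ x : ↥(a.fiber (closedPoint R)), a.fiberι _ x ∈ Set.range ι → δs x ≤ r) ∧
    Cyc.spFun a (genericPoint ↥(Spec (CommRingCat.of R))) (closedPoint R) δη δs r
        (Cyc.subschemeFun δη r (pullback.snd ι (a.fiberι _))) =
      Cyc.subschemeFun δs r (pullback.snd ι (a.fiberι _)) := by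
  haveI : IsLocallyNoetherian X := LocallyOfFiniteType.isLocallyNoetherian a
  haveI : IsLocallyNoetherian W := LocallyOfFiniteType.isLocallyNoetherian ι
  let F := (Coh.push ι).obj (Coh.structureModule W)
  have hF : Coh.IsCoh F := CohFound.isCoh_push_closedImm ι (M1.isCoh_structureModule W)
  have hd : ∀ ζ : ↥(a.fiber (genericPoint ↥(Spec (CommRingCat.of R)))),
      Nontrivial (F.presheaf.stalk (a.fiberι _ ζ)) → δη ζ ≤ r :=
    fun ζ h => hdim ζ ((nontrivial_push_iff ι _).1 h)
  obtain ⟨-, hsp⟩ := spFun_sheafFun R a hδη hδs r F hF (isFlatOver_push R a ι) hd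
  refine ⟨fun x hx => ?_, ?_⟩
  · have hpt : a (a.fiberι (closedPoint R) x) = closedPoint R := (a.range_fiberι _).le ⟨x, rfl⟩
    have h := delta_le R a hF (isFlatOver_push R a ι) (r := r) (fun z hz hnt => by
      obtain ⟨ζ, rfl⟩ := (a.range_fiberι _).ge hz
      rw [δX_fiberι R a _ hδη, show δR R (genericPoint ↥(Spec (CommRingCat.of R))) = 1 from
        if_neg (generic_ne_closed R)]
      have := hd ζ hnt
      omega) hpt ((nontrivial_push_iff ι _).2 hx)
    rwa [δX_fiberι R a _ hδs, show δR R (closedPoint R) = 0 from if_pos rfl, zero_add] at h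
  have e1 : Cyc.sheafFun δη r ((Scheme.Modules.pullback (a.fiberι _)).obj F) =
      Cyc.subschemeFun δη r (pullback.snd ι (a.fiberι _)) := by
    funext ζ
    simp only [Cyc.sheafFun, Cyc.subschemeFun]
    split_ifs
    swap
    · rfl
    rw [(stalk_generic R a F ζ).1]
    by_cases hr : a.fiberι _ ζ ∈ Set.range ι
    · obtain ⟨w, hw⟩ := hr
      obtain ⟨z, hz, hzw⟩ := fibre_singleton R a ι _ ζ w hw
      rw [hz, finsum_mem_singleton, length_pullback_fibre R a ι, ← hw, hzw,
        Cyc26.length_stalk_push_closedImmersion]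
      congr 2
      have hF0 : IsField ((Spec (CommRingCat.of R)).presheaf.stalk ((ι ≫ a) w)) := by
        rw [show (ι ≫ a) w = genericPoint ↥(Spec (CommRingCat.of R)) by
          rw [Scheme.Hom.comp_apply, hw]; exact (a.range_fiberι _).le ⟨ζ, rfl⟩]
        exact Field.toIsField (Spec (CommRingCat.of R)).functionField
      rw [IsLocalRing.isField_iff_maximalIdeal_eq.1 hF0, Ideal.map_bot]
      exact ((LinearEquiv.ofBijective (LinearMap.toSpanSingleton _ _ _)
        (Cyc26.structureModule_stalk_bijective w)).length_eq.symm).trans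
          (Submodule.quotEquivOfEqBot (⊥ : Ideal (W.presheaf.stalk w)) rfl).length_eq.symm
    · rw [fibre_empty R a ι _ ζ hr, finsum_mem_empty]
      haveI := not_nontrivial_iff_subsingleton.1 (mt (nontrivial_push_iff ι _).1 hr)
      rw [Module.length_eq_zero]
      rfl
  have e2 : Cyc.sheafFun δs r ((Scheme.Modules.pullback (a.fiberι _)).obj F) =
      Cyc.subschemeFun δs r (pullback.snd ι (a.fiberι _)) := by
    funext x
    simp only [Cyc.sheafFun, Cyc.subschemeFun]
    split_ifs
    swap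
    · rfl
    obtain ⟨g, hg, -, -⟩ := exists_uniformizer R a _ ((a.range_fiberι _).le ⟨x, rfl⟩)
    rw [(stalk_closed R a F x g hg).1]
    by_cases hr : a.fiberι _ x ∈ Set.range ι
    · obtain ⟨w, hw⟩ := hr
      obtain ⟨z, hz, hzw⟩ := fibre_singleton R a ι _ x w hw
      rw [hz, finsum_mem_singleton, length_pullback_fibre R a ι, hzw]
      clear hz hzw z
      generalize a.fiberι (closedPoint R) x = y at g hg hw ⊢
      subst hw
      rw [length_quot_push]
      rw [show Ideal.span {ι.stalkMap w g} = Ideal.map ((ι ≫ a).stalkMap w).hom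
          (maximalIdeal ((Spec (CommRingCat.of R)).presheaf.stalk ((ι ≫ a) w))) by
        rw [← Set.image_singleton, ← Ideal.map_span, hg, Ideal.map_map, Scheme.Hom.stalkMap_comp]
        rfl]
    · rw [fibre_empty R a ι _ x hr, finsum_mem_empty]
      haveI := not_nontrivial_iff_subsingleton.1 (mt (nontrivial_push_iff ι _).1 hr)
      rw [Module.length_eq_zero]
      rfl
  rw [← e1, ← e2]
  exact hsp

end Groth.Agent.Cyc26Sp
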