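import Mathlib
import Groth.Agent.Lib.Cyc26.P1Rat
import Groth.Agent.Lib.Cyc26.SpecialSub

/-! # Fibres over `0` and `∞` of closed subschemes of `P¹_X` -/

set_option autoImplicit false
universe u

set_option backward.isDefEq.respectTransparency false
set_option backward.isDefEq.respectTransparency.types false

open CategoryTheory CategoryTheory.Limits AlgebraicGeometry TopologicalSpace IsLocalRing Groth.Agent.M1
open scoped Pointwise

noncomputable section

namespace Groth.Agent.P1S26

variable (X : Scheme.{u}) {δ : X → ℤ} {δP : ↥(P X) → ℤ}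

theorem not_isUnit_of_specMap_eq_zero {Y : Scheme.{u}} {U : Y.Opens} {y ξ : Y} (h : ξ ⤳ y) (hy : y ∈ U) (s : Γ(Y, U))
    (h0 : Cyc.specMap y ξ h (Y.presheaf.germ U y hy s) = 0) :
    ¬ IsUnit (Y.presheaf.germ U ξ (h.mem_open U.isOpen hy) s) := fun hu => by
  have h1 : Y.residue ξ (Y.presheaf.stalkSpecializes h (Y.presheaf.germ U y hy s)) = 0 := h0
  rw [TopCat.Presheaf.germ_stalkSpecializes_apply] at h1
  exact (hu.map (Y.residue ξ).hom).ne_zero h1

theorem reg_of_assoc (hd : Cyc.IsDimFun X δ) [IsLocallyNoetherian X]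
    (huc : ∀ x : X, CAlg.IsUniversallyCatenary (X.presheaf.stalk x)) (hP : Cyc.DeltaCompat (π X) δP δ) (k : ℤ)
    {F : (P X).Modules} (hF : Coh.IsCoh F)
    (hemb : ∀ p : P X, IsAssociatedPrime (maximalIdeal ((P X).presheaf.stalk p)) (F.presheaf.stalk p) →
      p ∉ Set.range (P1.sect X 0) ∪ Set.range (P1.sect X 1) ∨ δP p < k)
    (i : Fin (1 + 1)) (x : X) (hx : δ x = k) :
    Function.Injective fun m : F.presheaf.stalk (P1.sect X i x) =>
      ((P X).presheaf.germ (U X i) _ (sect_mem X i x) (t X i)) • m := by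
  haveI : IsLocallyNoetherian (P X) := LocallyOfFiniteType.isLocallyNoetherian (π X)
  have hdP : Cyc.IsDimFun (P X) δP := UCat26.isDimFun_of_deltaCompat (π X) huc hd hP
  by_contra hg
  obtain ⟨ξ, h, h0, hass⟩ := exists_assoc_point hF _ _ hg
  have hr : ξ ∈ Set.range (P1.sect X i) :=
    (mem_range_sect_iff X i ξ).2 ⟨_, not_isUnit_of_specMap_eq_zero h (sect_mem X i x) _ h0⟩
  rcases hemb ξ hass with h1 | h1
  · fin_cases i
    · exact h1 (Or.inl hr)
    · exact h1 (Or.inr hr)
  · have := UCat26.delta_le_of_specializes hdP h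
    rw [delta_sect X hP] at this
    omega

theorem germ_stalkMap_congr {A B : Scheme.{u}} (f g : A ⟶ B) (e : f = g) {U : B.Opens} (s : Γ(B, U)) (a : A)
    (hf : f a ∈ U) (hg : g a ∈ U) :
    f.stalkMap a (B.presheaf.germ U (f a) hf s) = g.stalkMap a (B.presheaf.germ U (g a) hg s) := by
  subst e; rfl

theorem factor_sect (i : Fin (1 + 1)) (p : P X) (hp : p ∈ U X i) {L : CommRingCat.{u}} [IsLocalRing L]
    (φ : (P X).presheaf.stalk p ⟶ L) [IsLocalHom φ.hom]
    (h0 : φ ((P X).presheaf.germ (U X i) p hp (t X i)) = 0) :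
    Spec.map φ ≫ (P X).fromSpecStalk p ≫ π X ≫ P1.sect X i = Spec.map φ ≫ (P X).fromSpecStalk p := by
  obtain ⟨x, rfl⟩ := (mem_range_sect_iff X i p).2 ⟨hp, fun hu => not_isUnit_zero (h0 ▸ hu.map φ.hom)⟩
  let s := (P1.sect X i).stalkMap x
  have hs : Function.Surjective s.hom := (P1.sect X i).stalkMap_surjective x
  have hk : RingHom.ker s.hom ≤ RingHom.ker φ.hom := by
    rw [ker_sect, Ideal.span_singleton_le_iff_mem]
    exact h0
  let ρ : X.presheaf.stalk x ⟶ L := CommRingCat.ofHom (s.hom.liftOfSurjective hs ⟨φ.hom, hk⟩)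
  have hφ : φ = s ≫ ρ := by
    ext a
    exact (RingHom.liftOfSurjective_comp_apply s.hom hs ⟨φ.hom, hk⟩ a).symm
  rw [hφ, Spec.map_comp, Category.assoc, Category.assoc]
  congr 1
  rw [← Category.assoc (Spec.map s), Scheme.SpecMap_stalkMap_fromSpecStalk, Category.assoc, ← Category.assoc (P1.sect X i),
    sect_π, Category.id_comp]

theorem length_pullback_sect {Z : Scheme.{u}} (ι : Z ⟶ P X) (i : Fin (1 + 1)) (z0 : ↥(pullback ι (P1.sect X i)))
    (hz : ι (pullback.fst ι (P1.sect X i) z0) ∈ U X i) :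
    Module.length ((pullback ι (P1.sect X i)).presheaf.stalk z0) ((pullback ι (P1.sect X i)).presheaf.stalk z0) =
      Module.length (Z.presheaf.stalk (pullback.fst ι (P1.sect X i) z0))
        (Z.presheaf.stalk (pullback.fst ι (P1.sect X i) z0) ⧸
          Ideal.span {ι.stalkMap _ ((P X).presheaf.germ (U X i) _ hz (t X i))}) := by
  set g := ι.stalkMap _ ((P X).presheaf.germ (U X i) _ hz (t X i)) with hg
  let β := (pullback.fst ι (P1.sect X i)).stalkMap z0
  have hβs : Function.Surjective β.hom := (pullback.fst ι (P1.sect X i)).stalkMap_surjective z0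
  have hβg : β g = 0 := by
    have hz' : (pullback.fst ι (P1.sect X i) ≫ ι) z0 ∈ U X i := hz
    have h1 : (pullback.fst ι (P1.sect X i) ≫ ι).stalkMap z0
        ((P X).presheaf.germ (U X i) ((pullback.fst ι (P1.sect X i) ≫ ι) z0) hz' (t X i)) = 0 := by
      rw [germ_stalkMap_congr _ _ pullback.condition (t X i) z0 hz'
        (show (pullback.snd ι (P1.sect X i) ≫ P1.sect X i) z0 ∈ U X i from sect_mem X i _), Scheme.Hom.stalkMap_comp]
      exact (congrArg ((pullback.snd ι (P1.sect X i)).stalkMap z0) (germ_t_sect X i _)).trans (map_zero _)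
    rw [Scheme.Hom.stalkMap_comp] at h1
    exact h1
  haveI : Nontrivial (Z.presheaf.stalk (pullback.fst ι (P1.sect X i) z0) ⧸ Ideal.span {g}) :=
    Ideal.Quotient.nontrivial_iff.2 fun ht => (RingHom.ker_ne_top β.hom) (top_le_iff.1 (ht ▸
      (Ideal.span_singleton_le_iff_mem _).2 (RingHom.mem_ker.2 hβg)))
  haveI : IsLocalRing (Z.presheaf.stalk (pullback.fst ι (P1.sect X i) z0) ⧸ Ideal.span {g}) :=
    IsLocalRing.of_surjective' (Ideal.Quotient.mk _) Ideal.Quotient.mk_surjective
  let L := CommRingCat.of (Z.presheaf.stalk (pullback.fst ι (P1.sect X i) z0) ⧸ Ideal.span {g})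
  let q : Z.presheaf.stalk (pullback.fst ι (P1.sect X i) z0) ⟶ L := CommRingCat.ofHom (Ideal.Quotient.mk _)
  haveI : IsLocalHom q.hom := IsLocalHom.of_surjective _ Ideal.Quotient.mk_surjective
  haveI : IsLocalHom (ι.stalkMap (pullback.fst ι (P1.sect X i) z0) ≫ q).hom := by
    show IsLocalHom (q.hom.comp (ι.stalkMap (pullback.fst ι (P1.sect X i) z0)).hom)
    infer_instance
  let m : Spec L ⟶ pullback ι (P1.sect X i) := pullback.lift (Spec.map q ≫ Z.fromSpecStalk _)
    (Spec.map q ≫ Z.fromSpecStalk _ ≫ ι ≫ π X) (by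
      have h2 := factor_sect X i _ hz (ι.stalkMap (pullback.fst ι (P1.sect X i) z0) ≫ q)
        (Ideal.Quotient.eq_zero_iff_mem.2 (Ideal.mem_span_singleton_self g))
      simp only [Spec.map_comp, Category.assoc, Scheme.SpecMap_stalkMap_fromSpecStalk_assoc,
        Scheme.SpecMap_stalkMap_fromSpecStalk] at h2
      simp only [Category.assoc]
      exact h2.symm)
  have hm1 : m ≫ pullback.fst ι (P1.sect X i) = Spec.map q ≫ Z.fromSpecStalk _ := pullback.lift_fst _ _ _
  have hm : m (closedPoint L) = z0 := by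
    apply (pullback.fst ι (P1.sect X i)).isClosedEmbedding.injective
    rw [← Scheme.Hom.comp_apply, hm1, Scheme.Hom.comp_apply]
    refine Eq.trans ?_ Scheme.fromSpecStalk_closedPoint
    congr 1
    exact IsLocalRing.comap_closedPoint (Ideal.Quotient.mk (Ideal.span {g}))
  let γ : (pullback ι (P1.sect X i)).presheaf.stalk z0 ⟶ L :=
    (pullback ι (P1.sect X i)).presheaf.stalkSpecializes (specializes_of_eq hm) ≫ Scheme.stalkClosedPointTo m
  have hγ : β ≫ γ = q := by
    apply Spec.map_injective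
    rw [← cancel_mono (Z.fromSpecStalk (pullback.fst ι (P1.sect X i) z0)), Spec.map_comp, Category.assoc,
      Scheme.SpecMap_stalkMap_fromSpecStalk, Spec.map_comp, Category.assoc,
      Scheme.SpecMap_stalkSpecializes_fromSpecStalk_assoc, Scheme.Spec_stalkClosedPointTo_fromSpecStalk_assoc, hm1]
  have hker : RingHom.ker β.hom = Ideal.span {g} :=
    le_antisymm (fun b hb => Ideal.Quotient.eq_zero_iff_mem.1 (by
      show q.hom b = 0
      rw [← hγ]
      show γ.hom (β.hom b) = 0
      rw [show β.hom b = 0 from hb, map_zero]))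
      ((Ideal.span_singleton_le_iff_mem _).2 (RingHom.mem_ker.2 hβg))
  let σ := (Ideal.quotEquivOfEq hker.symm).trans (RingHom.quotientKerEquivOfSurjective (f := β.hom) hβs)
  rw [Module.length_eq_of_surjective (R := (Z.presheaf.stalk (pullback.fst ι (P1.sect X i) z0) ⧸ Ideal.span {g}))
    (S := Z.presheaf.stalk (pullback.fst ι (P1.sect X i) z0))
    (M := Z.presheaf.stalk (pullback.fst ι (P1.sect X i) z0) ⧸ Ideal.span {g}) Ideal.Quotient.mk_surjective]
  exact (Cyc26.length_eq_of_semilinear σ.toRingHom σ.surjective (e := σ.toAddEquiv) fun r m => map_mul σ r m).symm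

variable {Z : Scheme.{u}} (ι : Z ⟶ P X) [IsClosedImmersion ι]

theorem fibLen_push (k : ℤ) (i : Fin (1 + 1)) :
    fibLen X δ k i ((Coh.push ι).obj (Coh.structureModule Z)) =
      Cyc.subschemeFun δ k (pullback.snd ι (P1.sect X i)) := by
  funext x
  simp only [fibLen, Cyc.subschemeFun]
  split_ifs
  swap
  · rfl
  by_cases hr : P1.sect X i x ∈ Set.range ι
  · obtain ⟨w, hw⟩ := hr
    obtain ⟨z, hz1, hz2⟩ := Scheme.Pullback.exists_preimage_pullback w x hw
    have hs : {z' : ↥(pullback ι (P1.sect X i)) | pullback.snd ι (P1.sect X i) z' = x} = {z} :=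
      Set.ext fun z' => ⟨fun h => (pullback.snd ι (P1.sect X i)).isClosedEmbedding.injective (h.trans hz2.symm),
        fun h => h ▸ hz2⟩
    subst hz1
    have hzU : ι (pullback.fst ι (P1.sect X i) z) ∈ U X i := by rw [hw]; exact sect_mem X i x
    rw [hs, finsum_mem_singleton, length_pullback_sect X ι i z hzU]
    revert hw hzU
    generalize pullback.fst ι (P1.sect X i) z = w
    intro hw hzU
    have key : ∀ (p : P X) (hp : p ∈ U X i), ι w = p →
        Module.length ((P X).presheaf.stalk p) (((Coh.push ι).obj (Coh.structureModule Z)).presheaf.stalk p ⧸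
          ((P X).presheaf.germ (U X i) p hp (t X i)) • (⊤ : Submodule ((P X).presheaf.stalk p)
            (((Coh.push ι).obj (Coh.structureModule Z)).presheaf.stalk p))) =
        Module.length (Z.presheaf.stalk w) (Z.presheaf.stalk w ⧸
          Ideal.span {ι.stalkMap w ((P X).presheaf.germ (U X i) _ hzU (t X i))}) := by
      rintro p hp rfl
      exact Cyc26Sp.length_quot_push ι w _
    rw [key _ (sect_mem X i x) hw]
  · have he : {z' : ↥(pullback ι (P1.sect X i)) | pullback.snd ι (P1.sect X i) z' = x} = ∅ :=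
      Set.eq_empty_iff_forall_notMem.2 fun z hz => hr ⟨pullback.fst ι (P1.sect X i) z, by
        rw [← Scheme.Hom.comp_apply, pullback.condition, Scheme.Hom.comp_apply, hz]⟩
    rw [he, finsum_mem_empty]
    haveI := not_nontrivial_iff_subsingleton.1 (mt (Cyc26Sp.nontrivial_push_iff ι _).1 hr)
    rw [Module.length_eq_zero]
    rfl

theorem hyps_subscheme [IsLocallyNoetherian X] (huc : ∀ x : X, CAlg.IsUniversallyCatenary (X.presheaf.stalk x))
    (hd : Cyc.IsDimFun X δ) (hP : Cyc.DeltaCompat (π X) δP δ) (k : ℤ)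
    (hZ : ∀ z : Z, δP (ι z) ≤ k + 1)
    (hZ0 : ∀ z : Z, ι z ∈ Set.range (P1.sect X 0) ∪ Set.range (P1.sect X 1) → δP (ι z) ≤ k)
    (hemb : ∀ z : Z, IsAssociatedPrime (maximalIdeal (Z.presheaf.stalk z)) (Z.presheaf.stalk z) →
      ι z ∉ Set.range (P1.sect X 0) ∪ Set.range (P1.sect X 1) ∨ δP (ι z) < k)
    : (∀ p, Nontrivial (((Coh.push ι).obj (Coh.structureModule Z)).presheaf.stalk p) → δP p ≤ k + 1) ∧
    (∀ (i : Fin (1 + 1)) (x : X), Nontrivial (((Coh.push ι).obj (Coh.structureModule Z)).presheaf.stalk (P1.sect X i x)) → δ x ≤ k) ∧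
    (∀ (i : Fin (1 + 1)) (x : X), δ x = k → Function.Injective fun m : ((Coh.push ι).obj (Coh.structureModule Z)).presheaf.stalk (P1.sect X i x) =>
      ((P X).presheaf.germ (U X i) _ (sect_mem X i x) (t X i)) • m) := by
  haveI : IsLocallyNoetherian (P X) := LocallyOfFiniteType.isLocallyNoetherian (π X)
  haveI : IsLocallyNoetherian Z := LocallyOfFiniteType.isLocallyNoetherian ι
  have hdP : Cyc.IsDimFun (P X) δP := UCat26.isDimFun_of_deltaCompat (π X) huc hd hP
  refine ⟨fun p hp => ?_, fun i x hx => ?_, fun i x hx => ?_⟩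
  · obtain ⟨z, rfl⟩ := (Cyc26Sp.nontrivial_push_iff ι p).1 hp
    exact hZ z
  · obtain ⟨z, hz⟩ := (Cyc26Sp.nontrivial_push_iff ι _).1 hx
    rw [← delta_sect X hP i x, ← hz]
    refine hZ0 z ?_
    rw [hz]
    fin_cases i
    · exact Or.inl ⟨x, rfl⟩
    · exact Or.inr ⟨x, rfl⟩
  · by_cases hr : P1.sect X i x ∈ Set.range ι
    swap
    · haveI := not_nontrivial_iff_subsingleton.1 (mt (Cyc26Sp.nontrivial_push_iff ι _).1 hr)
      exact fun a b _ => Subsingleton.elim a b
    obtain ⟨z, hz⟩ := hr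
    have hzU : ι z ∈ U X i := by rw [hz]; exact sect_mem X i x
    have hzk : δP (ι z) = k := by rw [hz, delta_sect X hP, hx]
    have key : Function.Injective fun m : ((Coh.push ι).obj (Coh.structureModule Z)).presheaf.stalk (ι z) =>
        ((P X).presheaf.germ (U X i) _ hzU (t X i)) • m := by
      obtain ⟨E, hE⟩ := Cyc26Sp.exists_stalk_push_equiv ι z
      set g := ι.stalkMap z ((P X).presheaf.germ (U X i) _ hzU (t X i)) with hg
      suffices hinj : Function.Injective fun r : Z.presheaf.stalk z => g * r by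
        intro a b hab
        refine E.injective (hinj ?_)
        show g * E a = g * E b
        rw [← hE, ← hE]
        exact congrArg E hab
      let L : ∀ w : Z, Z.presheaf.stalk w ≃ₗ[Z.presheaf.stalk w] (Coh.structureModule Z).presheaf.stalk w := fun w =>
        LinearEquiv.ofBijective (LinearMap.toSpanSingleton _ _ _) (Cyc26.structureModule_stalk_bijective w)
      by_contra hg'
      have hgM : ¬ Function.Injective fun m : (Coh.structureModule Z).presheaf.stalk z => g • m := fun h =>
        hg' fun a b hab => (L z).injective (h (show g • L z a = g • L z b by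
          rw [← map_smul, ← map_smul]; exact congrArg (L z) hab))
      obtain ⟨w, h, h0, hass⟩ := exists_assoc_point (M1.isCoh_structureModule Z) z g hgM
      have hass' : IsAssociatedPrime (maximalIdeal (Z.presheaf.stalk w)) (Z.presheaf.stalk w) :=
        (LinearEquiv.AssociatedPrimes.eq (L w)).ge hass
      have h0' : Cyc.specMap (ι z) (ι w) (h.map ι.continuous) ((P X).presheaf.germ (U X i) _ hzU (t X i)) = 0 := by
        refine (map_eq_zero_iff (ι.residueFieldMap w).hom (RingHom.injective _)).1 ?_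
        rw [Cyc26.specMap_residueFieldMap ι h]
        exact h0
      have hr' : ι w ∈ Set.range (P1.sect X i) :=
        (mem_range_sect_iff X i _).2 ⟨_, not_isUnit_of_specMap_eq_zero (h.map ι.continuous) hzU _ h0'⟩
      rcases hemb w hass' with h1 | h1
      · fin_cases i
        · exact h1 (Or.inl hr')
        · exact h1 (Or.inr hr')
      · have := UCat26.delta_le_of_specializes hdP (h.map ι.continuous)
        omega
    revert key hzU
    rw [hz]
    exact fun _ key => key

theorem ratEquiv_subscheme [IsLocallyNoetherian X] (huc : ∀ x : X, CAlg.IsUniversallyCatenary (X.presheaf.stalk x))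
    (hd : Cyc.IsDimFun X δ) (hP : Cyc.DeltaCompat (π X) δP δ) (k : ℤ)
    (hZ : ∀ z : Z, δP (ι z) ≤ k + 1)
    (hZ0 : ∀ z : Z, ι z ∈ Set.range (P1.sect X 0) ∪ Set.range (P1.sect X 1) → δP (ι z) ≤ k)
    (hemb : ∀ z : Z, IsAssociatedPrime (maximalIdeal (Z.presheaf.stalk z)) (Z.presheaf.stalk z) →
      ι z ∉ Set.range (P1.sect X 0) ∪ Set.range (P1.sect X 1) ∨ δP (ι z) < k)
    (α β : AlgebraicCycle X ℤ) (hα : ⇑α = Cyc.subschemeFun δ k (pullback.snd ι (P1.sect X 0)))
    (hβ : ⇑β = Cyc.subschemeFun δ k (pullback.snd ι (P1.sect X 1))) :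
    Cyc.RatEquiv δ k α β := by
  haveI : IsLocallyNoetherian (P X) := LocallyOfFiniteType.isLocallyNoetherian (π X)
  haveI : IsLocallyNoetherian Z := LocallyOfFiniteType.isLocallyNoetherian ι
  obtain ⟨h1, h2, h3⟩ := hyps_subscheme X ι huc hd hP k hZ hZ0 hemb
  exact ratEquiv_fibres X huc hd hP k (CohFound.isCoh_push_closedImm ι (M1.isCoh_structureModule Z)) h1 h2 h3 α β
    (hα.trans (fibLen_push X ι k 0).symm) (hβ.trans (fibLen_push X ι k 1).symm)

end Groth.Agent.P1S26
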