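import Mathlib
import Groth.Agent.Lib.Cyc26.P1Sub
import Groth.Agent.Lib.SchImage14.Immersion

/-! # The graph of a rational function and its fibres over `0` and `∞` -/

set_option autoImplicit false
universe u

set_option backward.isDefEq.respectTransparency false
set_option backward.isDefEq.respectTransparency.types false

open CategoryTheory CategoryTheory.Limits AlgebraicGeometry TopologicalSpace IsLocalRing Groth.Agent.M1
open HomogeneousLocalization
open scoped Pointwise

noncomputable section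

namespace Groth.Agent.P1S26

theorem delta_eq_of_bijective {Y X : Scheme.{u}} {f : Y ⟶ X} {δY : Y → ℤ} {δX : X → ℤ}
    (hP : Cyc.DeltaCompat f δY δX) (y : Y) (hb : Function.Bijective (f.residueFieldMap y).hom) :
    δY y = δX (f y) := by
  obtain ⟨n, hn, he⟩ := hP y
  letI := (f.residueFieldMap y).hom.toAlgebra
  haveI : Algebra.IsAlgebraic (X.residueField (f y)) (Y.residueField y) :=
    ⟨fun b => by
      obtain ⟨a, rfl⟩ := hb.2 b
      exact isAlgebraic_algebraMap a⟩
  rw [trdeg_eq_zero (R := X.residueField (f y)) (A := Y.residueField y)] at hn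
  have h0 : n = 0 := by exact_mod_cast hn.symm
  subst h0
  simpa using he

theorem normGen_of_bijective {Y X : Scheme.{u}} (f : Y ⟶ X) (y : Y)
    (hb : Function.Bijective (f.residueFieldMap y).hom) (a : X.residueField (f y)) :
    Cyc.normGen f y (f.residueFieldMap y a) = a := by
  letI := (f.residueFieldMap y).hom.toAlgebra
  show Algebra.norm (X.residueField (f y)) (algebraMap (X.residueField (f y)) (Y.residueField y) a) = a
  rw [Algebra.norm_algebraMap, ← (AlgEquiv.ofBijective (Algebra.ofId (X.residueField (f y)) (Y.residueField y))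
    hb).toLinearEquiv.finrank_eq, Module.finrank_self, pow_one]

theorem eq_genericPoint_of_assoc {W : Scheme.{u}} [IsIntegral W] [IsLocallyNoetherian W] (z : W)
    (hass : IsAssociatedPrime (maximalIdeal (W.presheaf.stalk z)) (W.presheaf.stalk z)) : z = genericPoint W := by
  have hbot : maximalIdeal (W.presheaf.stalk z) = ⊥ := by
    rw [eq_bot_iff]
    intro r hr
    by_contra hr0
    have h2 : r ∈ ((nonZeroDivisors (W.presheaf.stalk z) : Set (W.presheaf.stalk z)))ᶜ := by
      rw [← biUnion_associatedPrimes_eq_compl_nonZeroDivisors]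
      exact Set.mem_biUnion hass hr
    exact h2 (mem_nonZeroDivisors_of_ne_zero hr0)
  have hm : genericPoint W ∈ Set.range (W.fromSpecStalk z) := by
    rw [Scheme.range_fromSpecStalk]
    exact genericPoint_specializes z
  obtain ⟨q, hq⟩ := hm
  have hq' : q = closedPoint (W.presheaf.stalk z) := by
    apply PrimeSpectrum.ext
    have hle : q.asIdeal ≤ maximalIdeal (W.presheaf.stalk z) := le_maximalIdeal q.isPrime.ne_top
    rw [hbot, le_bot_iff] at hle
    exact hle.trans hbot.symm
  rw [← hq, hq', Scheme.fromSpecStalk_closedPoint]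

variable (X : Scheme.{u}) {δ : X → ℤ} {δP : ↥(P X) → ℤ}

/-- For an integral `W ⊆ P¹_X` the difference of the fibres is a pushed-forward principal divisor. -/
theorem exists_cycle_integral [IsLocallyNoetherian X] (huc : ∀ x : X, CAlg.IsUniversallyCatenary (X.presheaf.stalk x))
    (hd : Cyc.IsDimFun X δ) (hP : Cyc.DeltaCompat (π X) δP δ) (k : ℤ)
    {W : Scheme.{u}} [IsIntegral W] (ι : W ⟶ P X) [IsClosedImmersion ι]
    (hW : δP (ι (genericPoint W)) = k + 1) (h0 : ι (genericPoint W) ∉ Set.range (P1.sect X 0))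
    (h1 : ι (genericPoint W) ∉ Set.range (P1.sect X 1)) :
    ∃ c : AlgebraicCycle (P X) ℤ,
      (∀ hU : ι (genericPoint W) ∈ U X 0, ⇑c = Cyc.divFun δP (ι (genericPoint W))
        ((P X).residue _ ((P X).presheaf.germ (U X 0) _ hU (t X 0)))) ∧
      ∀ x, AlgebraicCycle.map (π X) δP δ c x =
        Cyc.subschemeFun δ k (pullback.snd ι (P1.sect X 0)) x - Cyc.subschemeFun δ k (pullback.snd ι (P1.sect X 1)) x := by
  haveI : IsLocallyNoetherian (P X) := LocallyOfFiniteType.isLocallyNoetherian (π X)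
  haveI : IsLocallyNoetherian W := LocallyOfFiniteType.isLocallyNoetherian ι
  have hdP : Cyc.IsDimFun (P X) δP := UCat26.isDimFun_of_deltaCompat (π X) huc hd hP
  have hsp : ∀ z : W, ι (genericPoint W) ⤳ ι z := fun z => (genericPoint_specializes z).map ι.continuous
  have hlt : ∀ z : W, δP (ι z) = k + 1 → z = genericPoint W := fun z hz => by
    by_contra hne
    have := (hdP _ _ (hsp z) fun e => hne (ι.isClosedEmbedding.injective e).symm).1
    omega
  obtain ⟨g1, g2, g3⟩ := hyps_subscheme X ι huc hd hP k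
    (fun z => (UCat26.delta_le_of_specializes hdP (hsp z)).trans hW.le)
    (fun z hz => by
      rcases (UCat26.delta_le_of_specializes hdP (hsp z)).trans hW.le |>.lt_or_eq with h | h
      · omega
      · rw [hlt z h] at hz
        exact (hz.elim h0 h1).elim)
    (fun z hz => Or.inl (by
      rw [eq_genericPoint_of_assoc z hz]
      exact fun h => h.elim h0 h1))
  obtain ⟨c, -, hc, hmap⟩ := exists_cycle_fibres X huc hd hP k
    (CohFound.isCoh_push_closedImm ι (M1.isCoh_structureModule W)) g1 g2 g3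
  refine ⟨c, fun hU => ?_, fun x => ?_⟩
  · rw [hc _ hU hW ((Cyc26Sp.nontrivial_push_iff ι _).2 ⟨_, rfl⟩) fun ξ hξ hnt => by
      obtain ⟨z, rfl⟩ := (Cyc26Sp.nontrivial_push_iff ι _).1 hnt
      rw [hlt z hξ]]
    obtain ⟨E, hE⟩ := Cyc26Sp.exists_stalk_push_equiv ι (genericPoint W)
    have hlen : Module.length ((P X).presheaf.stalk (ι (genericPoint W)))
        (((Coh.push ι).obj (Coh.structureModule W)).presheaf.stalk (ι (genericPoint W))) = 1 :=
      (Cyc26.length_eq_of_semilinear (ι.stalkMap _).hom (ι.stalkMap_surjective _) (e := E) hE).trans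
        (Module.length_eq_one_iff.2 (inferInstanceAs (IsSimpleModule W.functionField W.functionField)))
    rw [hlen]
    funext p
    simp
  · rw [hmap, ← fibLen_push X ι k 0, ← fibLen_push X ι k 1]

/-! ## Graphs -/

theorem graph_π (V : X.Opens) (f : Γ(X, V)) : P1.graph X V f ≫ π X = V.ι := pullback.lift_snd _ _ _

theorem graph_q1 (V : X.Opens) (f : Γ(X, V)) : P1.graph X V f ≫ q1 X = V.toSpecΓ ≫
    Spec.map (CommRingCat.ofHom (P1.chartMap 0 Γ(X, V) f)) ≫
      Proj.awayι P1.grading.{u} (P1.T 0) (P1.X_mem 0) one_pos := pullback.lift_fst _ _ _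

theorem chartMap_c (B : Type u) [CommRing B] (b : B) : P1.chartMap 0 B b (c.{u} 0) = b := by
  rw [c, ProjSpace.coord_eq_mk]
  let g : MvPolynomial (Fin (1 + 1)) P1.R0.{u} →+* B :=
    MvPolynomial.eval₂Hom ((Int.castRingHom B).comp ULift.ringEquiv.toRingHom) (Function.update (fun _ => b) (0 : Fin (1 + 1)) 1)
  have hu : IsUnit (g (P1.T 0)) := by
    simp [g]
  have e : P1.chartMap 0 B b = (IsLocalization.Away.lift (S := Localization.Away (P1.T.{u} 0)) (P1.T 0) hu).comp
      (algebraMap (Away P1.grading.{u} (P1.T 0)) (Localization.Away (P1.T.{u} 0))) := rfl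
  rw [e, RingHom.comp_apply]
  show (IsLocalization.Away.lift (S := Localization.Away (P1.T.{u} 0)) (P1.T 0) hu) (Away.mk P1.grading (ProjSpace.X_mem P1.R0.{u} 0) 1 (MvPolynomial.X (o 0)) _).val = b
  rw [Away.val_mk, Localization.mk_eq_mk', IsLocalization.Away.lift]
  erw [IsLocalization.lift_mk'_spec]
  simp [g, o]

theorem top_le_graph (V : X.Opens) (f : Γ(X, V)) : (⊤ : V.toScheme.Opens) ≤ P1.graph X V f ⁻¹ᵁ U X 0 := fun v _ => by
  show q1 X (P1.graph X V f v) ∈ D 0
  rw [← Scheme.Hom.comp_apply, graph_q1, Scheme.Hom.comp_apply, Scheme.Hom.comp_apply]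
  exact (Proj.opensRange_awayι P1.grading.{u} (P1.T 0) (P1.X_mem 0) one_pos).le ⟨_, rfl⟩

theorem graph_appLE_t (V : X.Opens) (f : Γ(X, V)) :
    (P1.graph X V f).appLE (U X 0) ⊤ (top_le_graph X V f) (t X 0) = V.topIso.inv f := by
  have h1 : (⊤ : V.toScheme.Opens) ≤ (P1.graph X V f ≫ q1 X) ⁻¹ᵁ D 0 := top_le_graph X V f
  have e1 : (⊤ : (Spec (CommRingCat.of (Away P1.grading.{u} (P1.T 0)))).Opens) ≤
        Proj.awayι P1.grading.{u} (P1.T 0) (P1.X_mem 0) one_pos ⁻¹ᵁ D 0 := fun y _ =>
      (Proj.opensRange_awayι P1.grading.{u} (P1.T 0) (P1.X_mem 0) one_pos).le ⟨_, rfl⟩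
  have h2 : (⊤ : V.toScheme.Opens) ≤ ((V.toSpecΓ ≫ Spec.map (CommRingCat.ofHom (P1.chartMap 0 Γ(X, V) f))) ≫
      Proj.awayι P1.grading.{u} (P1.T 0) (P1.X_mem 0) one_pos) ⁻¹ᵁ D 0 := by
    rw [Category.assoc, ← graph_q1]; exact h1
  have key : (P1.graph X V f ≫ q1 X).appLE (D 0) ⊤ h1 (d 0) = V.topIso.inv f := by
    simp only [graph_q1, ← Category.assoc]
    rw [← Scheme.Hom.appLE_comp_appLE _ _ (D 0) ⊤ ⊤ e1 le_top, CommRingCat.comp_apply, d]
    erw [awayι_appLE]
    rw [show (V.toSpecΓ ≫ Spec.map (CommRingCat.ofHom (P1.chartMap 0 Γ(X, V) f))).appLE ⊤ ⊤ le_top =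
        (V.toSpecΓ ≫ Spec.map (CommRingCat.ofHom (P1.chartMap 0 Γ(X, V) f))).appTop from Scheme.Hom.appLE_eq_app _,
      Scheme.Hom.comp_appTop, CommRingCat.comp_apply]
    erw [← CommRingCat.comp_apply (Scheme.ΓSpecIso _).inv, ← Scheme.ΓSpecIso_inv_naturality]
    rw [Scheme.Opens.toSpecΓ_appTop]
    simp only [CommRingCat.comp_apply, Iso.inv_hom_id_apply]
    erw [Iso.inv_hom_id_apply]
    exact congrArg V.topIso.inv (chartMap_c Γ(X, V) f)
  rw [← key, ← Scheme.Hom.appLE_comp_appLE (P1.graph X V f) (q1 X) (D 0) (U X 0) ⊤ le_rfl (top_le_graph X V f),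
    CommRingCat.comp_apply, t, Scheme.Hom.app_eq_appLE]
  rfl

theorem graph_stalk_t (V : X.Opens) (f : Γ(X, V)) (v : V.toScheme) :
    (P1.graph X V f).stalkMap v ((P X).presheaf.germ (U X 0) _ (top_le_graph X V f (Set.mem_univ v)) (t X 0)) =
      V.ι.stalkMap v (X.presheaf.germ V (V.ι v) v.2 f) := by
  rw [Scheme.Hom.germ_stalkMap_apply, Scheme.Hom.germ_stalkMap_apply,
    ← V.toScheme.presheaf.germ_res_apply (homOfLE (top_le_graph X V f)) v (Set.mem_univ v),
    ← V.toScheme.presheaf.germ_res_apply (homOfLE (V.ι_preimage_self.ge : (⊤ : V.toScheme.Opens) ≤ _)) v (Set.mem_univ v)]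
  refine congrArg (V.toScheme.presheaf.germ ⊤ v (Set.mem_univ v)) ((graph_appLE_t X V f).trans ?_)
  have h := congrArg (fun φ => φ f) (comp_ι_appLE (𝟙 V.toScheme) (V := V) V.ι_preimage_self.ge)
  simp only [Category.id_comp, Scheme.Hom.id_appTop, Category.comp_id] at h
  exact h.symm

theorem graph_bijective (V : X.Opens) (f : Γ(X, V)) (v : V.toScheme) :
    Function.Bijective ((π X).residueFieldMap (P1.graph X V f v)).hom := by
  refine ⟨RingHom.injective _, fun b => ?_⟩
  have hb : Function.Bijective ((P1.graph X V f ≫ π X).residueFieldMap v).hom := by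
    rw [graph_π]
    exact Cyc26.residueFieldMap_bijective V.ι v
  obtain ⟨a, ha⟩ := hb.2 ((P1.graph X V f).residueFieldMap v b)
  refine ⟨a, RingHom.injective ((P1.graph X V f).residueFieldMap v).hom ?_⟩
  rw [Scheme.residueFieldMap_comp] at ha
  exact ha

theorem graph_residue_t (V : X.Opens) (f : Γ(X, V)) (v : V.toScheme) (h : π X (P1.graph X V f v) ∈ V) :
    (P X).residue _ ((P X).presheaf.germ (U X 0) _ (top_le_graph X V f (Set.mem_univ v)) (t X 0)) =
      (π X).residueFieldMap (P1.graph X V f v) (X.evaluation V _ h f) := by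
  have hc : ∀ (g : V.toScheme ⟶ X) (e : g = V.ι) (h : g v ∈ V),
      g.stalkMap v (X.presheaf.germ V (g v) h f) = V.ι.stalkMap v (X.presheaf.germ V (V.ι v) v.2 f) := by
    rintro g rfl h; rfl
  refine RingHom.injective ((P1.graph X V f).residueFieldMap v).hom ?_
  refine (ConcreteCategory.congr_hom (Scheme.residue_residueFieldMap (P1.graph X V f) v) _).trans ?_
  have h3 := ConcreteCategory.congr_hom (Scheme.residue_residueFieldMap (P1.graph X V f ≫ π X) v)
    (X.presheaf.germ V _ h f)
  simp only [Scheme.residueFieldMap_comp, CommRingCat.comp_apply] at h3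
  refine Eq.trans ?_ h3.symm
  show V.toScheme.residue v ((P1.graph X V f).stalkMap v _) = V.toScheme.residue v _
  rw [graph_stalk_t, ← hc _ (graph_π X V f) h]
  rfl

theorem divFun_map_congr {a b : X} (e : a = b) (δ : X → ℤ) {V : X.Opens} (f : Γ(X, V)) (ha : a ∈ V) (hb : b ∈ V) :
    Cyc.divFun δ a (X.evaluation V a ha f) = Cyc.divFun δ b (X.evaluation V b hb f) := by
  subst e; rfl

theorem not_mem_sect_of_unit (p : P X) (hp : p ∈ U X 0)
    (hne : (P X).residue p ((P X).presheaf.germ (U X 0) p hp (t X 0)) ≠ 0) :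
    p ∉ Set.range (P1.sect X 0) ∧ p ∉ Set.range (P1.sect X 1) := by
  constructor
  · intro hr
    obtain ⟨_, hn⟩ := (mem_range_sect_iff X 0 p).1 hr
    exact hne ((residue_eq_zero_iff _).2 hn)
  · rintro ⟨y, rfl⟩
    exact sect_not_mem X 1 y hp

theorem map_eq_divFun [IsLocallyNoetherian X] (huc : ∀ x : X, CAlg.IsUniversallyCatenary (X.presheaf.stalk x))
    (hd : Cyc.IsDimFun X δ) (hP : Cyc.DeltaCompat (π X) δP δ) (V : X.Opens) (f : Γ(X, V)) (v : V.toScheme)
    (hne : X.evaluation V (V.ι v) v.2 f ≠ 0) (c : AlgebraicCycle (P X) ℤ)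
    (hc : ⇑c = Cyc.divFun δP (P1.graph X V f v)
      ((P X).residue _ ((P X).presheaf.germ (U X 0) _ (top_le_graph X V f (Set.mem_univ v)) (t X 0)))) :
    ⇑(AlgebraicCycle.map (π X) δP δ c) = Cyc.divFun δ (V.ι v) (X.evaluation V (V.ι v) v.2 f) := by
  haveI : IsLocallyNoetherian (P X) := LocallyOfFiniteType.isLocallyNoetherian (π X)
  have hπv : π X (P1.graph X V f v) = V.ι v := by rw [← Scheme.Hom.comp_apply, graph_π]
  have hmem : π X (P1.graph X V f v) ∈ V := hπv ▸ v.2
  have hne' : X.evaluation V _ hmem f ≠ 0 := by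
    revert hmem
    rw [hπv]
    exact fun _ => hne
  rw [graph_residue_t X V f v hmem] at hc
  rw [Cyc26.map_divFun_eq_norm (π X) (UCat26.isDimFun_of_deltaCompat (π X) huc hd hP) hd hP
    (delta_eq_of_bijective hP _ (graph_bijective X V f v)).symm _
    ((map_ne_zero _).2 hne') c hc, normGen_of_bijective _ _ (graph_bijective X V f v)]
  exact divFun_map_congr X hπv δ f hmem v.2

/-- The induced dimension function along a morphism locally of finite type. -/
theorem exists_deltaCompat {Y S : Scheme.{u}} (g : Y ⟶ S) [LocallyOfFiniteType g] (δS : S → ℤ) :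
    ∃ δY : Y → ℤ, Cyc.DeltaCompat g δY δS := by
  have key : ∀ y : Y, ∃ n : ℕ, (letI := (g.residueFieldMap y).hom.toAlgebra
      Algebra.trdeg (S.residueField (g y)) (Y.residueField y)) = n := by
    intro y
    letI := (g.residueFieldMap y).hom.toAlgebra
    letI : Algebra (S.presheaf.stalk (g y)) (Y.presheaf.stalk y) := (g.stalkMap y).hom.toAlgebra
    letI : Algebra (S.presheaf.stalk (g y)) (Y.residueField y) :=
      ((Y.residue y).hom.comp (g.stalkMap y).hom).toAlgebra
    letI : Algebra (Y.presheaf.stalk y) (Y.residueField y) := (Y.residue y).hom.toAlgebra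
    letI : Algebra (S.presheaf.stalk (g y)) (S.residueField (g y)) := (S.residue (g y)).hom.toAlgebra
    haveI : IsScalarTower (S.presheaf.stalk (g y)) (Y.presheaf.stalk y) (Y.residueField y) :=
      IsScalarTower.of_algebraMap_eq fun _ => rfl
    haveI : IsScalarTower (S.presheaf.stalk (g y)) (S.residueField (g y)) (Y.residueField y) :=
      IsScalarTower.of_algebraMap_eq fun a => congrArg (fun φ => φ a)
        (congrArg CommRingCat.Hom.hom (Scheme.residue_residueFieldMap g y).symm)
    haveI : Algebra.EssFiniteType (S.presheaf.stalk (g y)) (Y.presheaf.stalk y) :=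
      LocallyOfFiniteType.stalkMap g y
    haveI : Algebra.EssFiniteType (Y.presheaf.stalk y) (Y.residueField y) :=
      Algebra.EssFiniteType.of_surjective (Algebra.ofId _ _) residue_surjective
    haveI := Algebra.EssFiniteType.comp (S.presheaf.stalk (g y)) (Y.presheaf.stalk y) (Y.residueField y)
    haveI := Algebra.EssFiniteType.of_comp (S.presheaf.stalk (g y)) (S.residueField (g y)) (Y.residueField y)
    exact Cardinal.lt_aleph0.1 (_root_.trdeg_lt_aleph0 _ _)
  choose n hn using key
  exact ⟨fun y => δS (g y) + n y, fun y => ⟨n y, hn y, rfl⟩⟩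

/-- The closure of a graph is integral, with generic point the image of the generic point. -/
theorem graphClosure_integral [IsIntegral X] (V : X.Opens) (f : Γ(X, V)) (hη : genericPoint X ∈ V) :
    ∃ hi : IsIntegral (P1.graph X V f).ker.subscheme,
      haveI := hi
      P1.graphClosureι X V f (genericPoint (P1.graph X V f).ker.subscheme) =
        P1.graph X V f ⟨genericPoint X, hη⟩ := by
  haveI : Nonempty V.toScheme := ⟨⟨genericPoint X, hη⟩⟩
  haveI : IsReduced (P1.graph X V f).ker.subscheme := SchImage14.isReduced_image (P1.graph X V f)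
  set v : V.toScheme := ⟨genericPoint X, hη⟩ with hv
  have hr : Set.range (P1.graphClosureι X V f) = closure {P1.graph X V f v} := by
    rw [P1.graphClosureι, Scheme.IdealSheafData.range_subschemeι, RedSepLib.ker_eq_vanishingIdeal,
      Scheme.IdealSheafData.coe_support_vanishingIdeal]
    refine subset_antisymm (closure_minimal ?_ isClosed_closure)
      (closure_mono (Set.singleton_subset_iff.2 ⟨v, rfl⟩))
    rintro _ ⟨w, rfl⟩
    have hsp : v ⤳ w := V.ι.isEmbedding.isInducing.specializes_iff.1 (genericPoint_specializes (V.ι w))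
    exact specializes_iff_mem_closure.1 (hsp.map (P1.graph X V f).continuous)
  obtain ⟨g, hg⟩ := (show P1.graph X V f v ∈ Set.range (P1.graphClosureι X V f) from hr ▸ subset_closure rfl)
  haveI : IsClosedImmersion (P1.graphClosureι X V f) := inferInstanceAs (IsClosedImmersion (P1.graph X V f).ker.subschemeι)
  haveI : IrreducibleSpace (P1.graph X V f).ker.subscheme := by
    haveI : Nonempty (P1.graph X V f).ker.subscheme := ⟨g⟩
    haveI : PreirreducibleSpace (P1.graph X V f).ker.subscheme := by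
      refine ⟨?_⟩
      have : (Set.univ : Set (P1.graph X V f).ker.subscheme) = closure {g} := by
        refine (Set.eq_univ_of_forall fun z => ?_).symm
        rw [← specializes_iff_mem_closure, ← (P1.graphClosureι X V f).isEmbedding.isInducing.specializes_iff, hg]
        exact specializes_iff_mem_closure.2 (hr ▸ ⟨z, rfl⟩)
      rw [this]
      exact isIrreducible_singleton.closure.2
    exact ⟨‹_›⟩
  haveI hi : IsIntegral (P1.graph X V f).ker.subscheme := isIntegral_of_irreducibleSpace_of_isReduced _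
  refine ⟨hi, ?_⟩
  have h1 : P1.graphClosureι X V f (genericPoint (P1.graph X V f).ker.subscheme) ⤳ P1.graph X V f v := hg ▸
    (genericPoint_specializes g).map (P1.graphClosureι X V f).continuous
  exact (h1.antisymm (specializes_iff_mem_closure.2 (hr ▸ ⟨_, rfl⟩))).eq

/-- `div f` is the difference of the fibres of the closure of the graph of `f`. -/
theorem divFun_eq_fibres [IsIntegral X] [IsLocallyNoetherian X]
    (huc : ∀ x : X, CAlg.IsUniversallyCatenary (X.presheaf.stalk x))
    (hd : Cyc.IsDimFun X δ) (k : ℤ) (hk : δ (genericPoint X) = k + 1)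
    (V : X.Opens) (hη : genericPoint X ∈ V) (f : Γ(X, V)) (hne : X.evaluation V (genericPoint X) hη f ≠ 0) (x : X) :
    Cyc.divFun δ (genericPoint X) (X.evaluation V (genericPoint X) hη f) x =
      Cyc.subschemeFun δ k (pullback.snd (P1.graphClosureι X V f) (P1.sect X 0)) x -
        Cyc.subschemeFun δ k (pullback.snd (P1.graphClosureι X V f) (P1.sect X 1)) x := by
  obtain ⟨δP, hP⟩ := exists_deltaCompat (π X) δ
  obtain ⟨hi, hgen⟩ := graphClosure_integral X V f hη
  haveI := hi
  haveI : IsClosedImmersion (P1.graphClosureι X V f) := inferInstanceAs (IsClosedImmersion (P1.graph X V f).ker.subschemeι)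
  set v : V.toScheme := ⟨genericPoint X, hη⟩ with hv
  have hU : P1.graph X V f v ∈ U X 0 := top_le_graph X V f (Set.mem_univ v)
  have hπv : π X (P1.graph X V f v) = genericPoint X := by rw [← Scheme.Hom.comp_apply, graph_π]; rfl
  have hmem : π X (P1.graph X V f v) ∈ V := hπv ▸ hη
  have hne' : X.evaluation V _ hmem f ≠ 0 := by
    revert hmem
    rw [hπv]
    exact fun _ => hne
  have hres : (P X).residue _ ((P X).presheaf.germ (U X 0) _ hU (t X 0)) ≠ 0 := by
    rw [graph_residue_t X V f v hmem]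
    exact (map_ne_zero _).2 hne'
  obtain ⟨hn0, hn1⟩ := not_mem_sect_of_unit X _ hU hres
  rw [← hgen] at hn0 hn1
  have hW : δP (P1.graphClosureι X V f (genericPoint (P1.graph X V f).ker.subscheme)) = k + 1 := by
    rw [hgen, delta_eq_of_bijective hP _ (graph_bijective X V f v), hπv, hk]
  obtain ⟨c, hc, hmap⟩ := exists_cycle_integral X huc hd hP k (P1.graphClosureι X V f) hW hn0 hn1
  have hc' : ∀ (a : P X) (e : P1.graphClosureι X V f (genericPoint (P1.graph X V f).ker.subscheme) = a)
      (ha : a ∈ U X 0), ⇑c = Cyc.divFun δP a ((P X).residue _ ((P X).presheaf.germ (U X 0) a ha (t X 0))) := by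
    rintro a rfl ha
    exact hc ha
  rw [← hmap, map_eq_divFun X huc hd hP V f v hne c (hc' _ hgen hU)]
  rfl

/-- A principal divisor of a subvariety is the difference of the fibres of an integral subvariety of `P¹_X`. -/
theorem exists_subvariety_of_divFun [IsLocallyNoetherian X]
    (huc : ∀ x : X, CAlg.IsUniversallyCatenary (X.presheaf.stalk x))
    (hd : Cyc.IsDimFun X δ) (hP : Cyc.DeltaCompat (π X) δP δ) (k : ℤ) (ξ : X) (hk : δ ξ = k + 1)
    (φ : X.residueField ξ) (hφ : φ ≠ 0) :
    ∃ (W : Scheme.{u}) (ι : W ⟶ P X) (_ : IsIntegral W) (_ : IsClosedImmersion ι),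
      δP (ι (genericPoint W)) = k + 1 ∧ ι (genericPoint W) ∉ Set.range (P1.sect X 0) ∧
      ι (genericPoint W) ∉ Set.range (P1.sect X 1) ∧ Set.range ι ⊆ π X ⁻¹' closure {ξ} ∧
      ∀ x, Cyc.subschemeFun δ k (pullback.snd ι (P1.sect X 0)) x -
        Cyc.subschemeFun δ k (pullback.snd ι (P1.sect X 1)) x = Cyc.divFun δ ξ φ x := by
  obtain ⟨r, rfl⟩ := X.residue_surjective ξ φ
  obtain ⟨V, hξV, f, rfl⟩ := X.presheaf.germ_exist (x := ξ) r
  have hne : X.evaluation V ξ hξV f ≠ 0 := hφ
  set v : Scheme.Opens.toScheme (X := X) V := ⟨ξ, hξV⟩ with hv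
  obtain ⟨W, ι, hι, hW', hrange, hgen⟩ := Cyc26.exists_closure_subscheme (P X) (P1.graph X V f v)
  haveI := hι; haveI := hW'
  have hU : P1.graph X V f v ∈ U X 0 := top_le_graph X V f (Set.mem_univ v)
  have hπv : π X (P1.graph X V f v) = ξ := by rw [← Scheme.Hom.comp_apply, graph_π]; rfl
  have hmem : π X (P1.graph X V f v) ∈ V := hπv ▸ hξV
  have hne' : X.evaluation V _ hmem f ≠ 0 := by
    revert hmem
    rw [hπv]
    exact fun _ => hne
  have hres : (P X).residue _ ((P X).presheaf.germ (U X 0) _ hU (t X 0)) ≠ 0 := by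
    rw [graph_residue_t X V f v hmem]
    exact (map_ne_zero _).2 hne'
  obtain ⟨hn0, hn1⟩ := not_mem_sect_of_unit X _ hU hres
  rw [← hgen] at hn0 hn1
  have hW : δP (ι (genericPoint W)) = k + 1 := by
    rw [hgen, delta_eq_of_bijective hP _ (graph_bijective X V f v), hπv, hk]
  obtain ⟨c, hc, hmap⟩ := exists_cycle_integral X huc hd hP k ι hW hn0 hn1
  have hc' : ∀ (a : P X) (e : ι (genericPoint W) = a) (ha : a ∈ U X 0),
      ⇑c = Cyc.divFun δP a ((P X).residue _ ((P X).presheaf.germ (U X 0) a ha (t X 0))) := by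
    rintro a rfl ha
    exact hc ha
  refine ⟨W, ι, hW', hι, hW, hn0, hn1, ?_, fun x => ?_⟩
  · rw [hrange]
    refine fun z hz => ?_
    show π X z ∈ closure {ξ}
    rw [← hπv, ← specializes_iff_mem_closure]
    exact (specializes_iff_mem_closure.2 hz).map (π X).continuous
  · rw [← hmap, map_eq_divFun X huc hd hP V f v hne c (hc' _ hgen hU)]
    rfl

end Groth.Agent.P1S26
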