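import Groth.Agent.Lib.Cyc26.PBInst

/-! # Base change of projective bundles -/

set_option autoImplicit false
set_option linter.style.haveILetI false

universe u

open CategoryTheory Limits AlgebraicGeometry TopologicalSpace Opposite

set_option backward.isDefEq.respectTransparency false

noncomputable section

namespace Groth.Agent.Cyc26PB

open Groth.Agent.M1 Groth.Agent.VA11

variable {X X' P P' : Scheme.{u}} {E : X.Modules} {π : P ⟶ X} {O1 : P.Modules}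
  {φ : E ⟶ (Scheme.Modules.pushforward π).obj O1} {f : X' ⟶ X} {π' : P' ⟶ X'} {g : P' ⟶ P}

/-- Composing a map out of an inverse image with the canonical map of sections. -/
theorem exists_comp_pullSec {T : Scheme.{u}} (h : T ⟶ X') {L : T.Modules}
    (σ : (Scheme.Modules.pullback f).obj E ⟶ (Scheme.Modules.pushforward h).obj L) (hL : PicF.IsInvertible L)
    (hσ : Gens σ) :
    ∃ σ' : E ⟶ (Scheme.Modules.pushforward (h ≫ f)).obj L, Gens σ' ∧
      ∀ (U : X.Opens) (e : Γ(E, U)), σ'.app U e = σ.app (f ⁻¹ᵁ U) (M2.pullSec f E e) := by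
  haveI := epi_of_gens hL hσ
  let θ : (Scheme.Modules.pullback (h ≫ f)).obj E ⟶ L := (Scheme.Modules.pullbackComp h f).inv.app E ≫
      ((Scheme.Modules.pullbackPushforwardAdjunction h).homEquiv _ L).symm σ
  haveI : Epi θ := epi_comp _ _
  refine ⟨_, gens_of_epi hL θ, fun U e => ?_⟩
  refine (congrArg (fun χ : E ⟶ (Scheme.Modules.pushforward (h ≫ f)).obj L => χ.app U e)
    ((Scheme.Modules.pullbackPushforwardAdjunction (h ≫ f)).homEquiv_unit _ _ _)).trans ?_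
  show θ.app ((h ≫ f) ⁻¹ᵁ U) (M2.pullSec (h ≫ f) E e) = _
  rw [comp_app_apply, pullbackComp_inv_pullSec]
  exact congrArg (fun χ : _ ⟶ (Scheme.Modules.pushforward h).obj L => χ.app (f ⁻¹ᵁ U) (M2.pullSec f E e))
    (((Scheme.Modules.pullbackPushforwardAdjunction h).homEquiv_unit _ _ _).symm.trans (Equiv.apply_symm_apply _ σ))

/-- The canonical map of a base change. -/
theorem exists_bc (hsq : CommSq g π' π f) :
    ∃ φ' : (Scheme.Modules.pullback f).obj E ⟶ (Scheme.Modules.pushforward π').obj ((Scheme.Modules.pullback g).obj O1),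
      ∀ (U : X.Opens) (e : Γ(E, U)), φ'.app (f ⁻¹ᵁ U) (M2.pullSec f E e) =
        mres _ (show π' ⁻¹ᵁ (f ⁻¹ᵁ U) ≤ g ⁻¹ᵁ (π ⁻¹ᵁ U) by
          rw [← Scheme.Hom.comp_preimage, ← hsq.w]; rfl) (M2.pullSec g O1 (φ.app U e)) := by
  obtain ⟨ω, hω⟩ := exists_comp_unit φ g (Iso.refl _) (f := π' ≫ f) hsq.w
  let adj := Scheme.Modules.pullbackPushforwardAdjunction π'
  let q : (Scheme.Modules.pullback π').obj ((Scheme.Modules.pullback f).obj E) ⟶ (Scheme.Modules.pullback g).obj O1 :=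
    (Scheme.Modules.pullbackComp π' f).hom.app E ≫
      ((Scheme.Modules.pullbackPushforwardAdjunction (π' ≫ f)).homEquiv _ _).symm ω
  refine ⟨adj.homEquiv _ _ q, fun U e => ?_⟩
  refine (congrArg (fun χ : _ ⟶ (Scheme.Modules.pushforward π').obj ((Scheme.Modules.pullback g).obj O1) =>
    χ.app (f ⁻¹ᵁ U) (M2.pullSec f E e)) (adj.homEquiv_unit _ _ _)).trans ?_
  show q.app (π' ⁻¹ᵁ (f ⁻¹ᵁ U)) (M2.pullSec π' _ (M2.pullSec f E e)) = _
  rw [← pullbackComp_inv_pullSec, comp_app_apply]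
  erw [← comp_app_apply ((Scheme.Modules.pullbackComp π' f).inv.app E), Iso.inv_hom_id_app]
  refine Eq.trans ?_ (hω U e)
  exact congrArg (fun χ : E ⟶ (Scheme.Modules.pushforward (π' ≫ f)).obj _ => χ.app U e)
    ((((Scheme.Modules.pullbackPushforwardAdjunction (π' ≫ f)).homEquiv_unit _ _ _)).symm.trans
      (Equiv.apply_symm_apply _ ω))


theorem tau_pullSec {T : Scheme.{u}} (r : T ⟶ P') {L : T.Modules} (τ : (Scheme.Modules.pullback r).obj
      ((Scheme.Modules.pullback g).obj O1) ≅ L) {W : P.Opens} (s : Γ(O1, W)) {V : P'.Opens} (h : V ≤ g ⁻¹ᵁ W) :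
    τ.hom.app (r ⁻¹ᵁ V) (M2.pullSec r _ (mres _ h (M2.pullSec g O1 s))) =
      mres L (r.preimage_mono h)
        ((((Scheme.Modules.pullbackComp r g).app O1).symm ≪≫ τ).hom.app ((r ≫ g) ⁻¹ᵁ W) (M2.pullSec (r ≫ g) O1 s)) := by
  have e : (((Scheme.Modules.pullbackComp r g).app O1).symm ≪≫ τ).hom.app ((r ≫ g) ⁻¹ᵁ W)
      (M2.pullSec (r ≫ g) O1 s) = τ.hom.app (r ⁻¹ᵁ (g ⁻¹ᵁ W)) (M2.pullSec r _ (M2.pullSec g O1 s)) := by
    show ((Scheme.Modules.pullbackComp r g).inv.app O1 ≫ τ.hom).app _ _ = _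
    rw [comp_app_apply, pullbackComp_inv_pullSec]
    rfl
  rw [e, ← mres_pullSec r h, app_mres]

/-- The base change of a projective bundle is a projective bundle. -/
theorem exists_uBundle_baseChange (hB : UBundle π E O1 φ) (hsq : IsPullback g π' π f) :
    ∃ φ', UBundle π' ((Scheme.Modules.pullback f).obj E) ((Scheme.Modules.pullback g).obj O1) φ' := by
  obtain ⟨φ', hφ'⟩ := exists_bc (φ := φ) hsq.toCommSq
  have hinv := Groth.Agent.Twist.isInvertible_pullback g hB.inv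
  have hval : ∀ {T : Scheme.{u}} (r : T ⟶ P') {L : T.Modules} (τ : (Scheme.Modules.pullback r).obj
      ((Scheme.Modules.pullback g).obj O1) ≅ L) (U : X.Opens) (e : Γ(E, U)),
      τ.hom.app (r ⁻¹ᵁ (π' ⁻¹ᵁ (f ⁻¹ᵁ U))) (M2.pullSec r _ (φ'.app (f ⁻¹ᵁ U) (M2.pullSec f E e))) =
      mres L (show r ⁻¹ᵁ (π' ⁻¹ᵁ (f ⁻¹ᵁ U)) ≤ (r ≫ g) ⁻¹ᵁ (π ⁻¹ᵁ U) by
          rw [Scheme.Hom.comp_preimage]
          refine r.preimage_mono ?_
          rw [← Scheme.Hom.comp_preimage, ← hsq.w]; rfl)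
        ((((Scheme.Modules.pullbackComp r g).app O1).symm ≪≫ τ).hom.app ((r ≫ g) ⁻¹ᵁ (π ⁻¹ᵁ U))
          (M2.pullSec (r ≫ g) O1 (φ.app U e))) := by
    intro T r L τ U e
    rw [hφ', tau_pullSec]
    rfl
  refine ⟨φ', hinv, fun x => ?_, fun T h L hL σ hσ => ?_, fun T h L hL σ hσ r₁ r₂ h₁ h₂ τ₁ τ₂ e₁ e₂ => ?_⟩
  · obtain ⟨U, e, hx⟩ := hB.gens (g x)
    have hxU : x ∈ π' ⁻¹ᵁ (f ⁻¹ᵁ U) := by
      have := gl_le _ hx
      show (π' ≫ f) x ∈ U
      rw [← hsq.w]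
      exact this
    refine ⟨f ⁻¹ᵁ U, M2.pullSec f E e, ?_⟩
    have e1 : secs φ' (f ⁻¹ᵁ U) (M2.pullSec f E e) = _ := hφ' U e
    rw [e1, gl_mres]
    refine ⟨?_, hxU⟩
    have h3 := gl_pullSec g hB.inv (W := π ⁻¹ᵁ U) (secs φ U e)
    exact h3.ge hx
  · obtain ⟨σ', hσ', hσv⟩ := exists_comp_pullSec h σ hL hσ
    obtain ⟨k, hk, τ, hτ⟩ := hB.exists_map T (h ≫ f) L hL σ' hσ'
    let r := hsq.lift k h hk
    have hrg : r ≫ g = k := hsq.lift_fst _ _ _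
    have hrp : r ≫ π' = h := hsq.lift_snd _ _ _
    let τ' : (Scheme.Modules.pullback r).obj ((Scheme.Modules.pullback g).obj O1) ≅ L :=
      (Scheme.Modules.pullbackComp r g).app O1 ≪≫ (Scheme.Modules.pullbackCongr hrg).app O1 ≪≫ τ
    obtain ⟨ω, hω⟩ := exists_comp_unit φ' r τ' hrp
    have e' : ω = σ := by
      refine hom_ext_pullSec f _ _ fun U hU e => ?_
      rw [hω, hval, ← hσv]
      have h1 : ∀ (r₀ : T ⟶ P) (hr₀ : r₀ = k) (hle : r ⁻¹ᵁ (π' ⁻¹ᵁ (f ⁻¹ᵁ U)) ≤ r₀ ⁻¹ᵁ (π ⁻¹ᵁ U))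
          (hle' : h ⁻¹ᵁ (f ⁻¹ᵁ U) ≤ r ⁻¹ᵁ (π' ⁻¹ᵁ (f ⁻¹ᵁ U))),
          mres L hle' (mres L hle (((Scheme.Modules.pullbackCongr hr₀).app O1 ≪≫ τ).hom.app _
            (M2.pullSec r₀ O1 (φ.app U e)))) = σ'.app U e := by
        intro r₀ hr₀ hle hle'
        subst hr₀
        rw [mres_mres]
        refine (congrArg (mres L _) ?_).trans ((congrArg (mres L _) (hτ U e)).trans
          ((mres_mres L _ _ _).trans (mres_id L _ _)))
        simp [Scheme.Modules.pullbackCongr, eqToIso_refl]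
      refine Eq.trans (congrArg (mres L _) (congrArg (mres L _) ?_)) (h1 (r ≫ g) hrg _ _)
      refine congrArg (fun χ : (Scheme.Modules.pullback (r ≫ g)).obj O1 ⟶ L =>
        χ.app _ (M2.pullSec (r ≫ g) O1 (φ.app U e))) ?_
      simp [τ']
    refine ⟨r, hrp, τ', fun U' m => ?_⟩
    subst e'
    rw [hω]
    exact ((mres_mres L _ _ _).trans (mres_id L _ _)).symm
  · obtain ⟨σ', hσ', hσv⟩ := exists_comp_pullSec h σ hL hσ
    refine hsq.hom_ext ?_ (h₁.trans h₂.symm)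
    have h1' : ∀ (r : T ⟶ P') (hr : r ≫ π' = h) (τ : (Scheme.Modules.pullback r).obj
        ((Scheme.Modules.pullback g).obj O1) ≅ L), (∀ (U' : X'.Opens) (m : Γ((Scheme.Modules.pullback f).obj E, U')),
          τ.hom.app (r ⁻¹ᵁ (π' ⁻¹ᵁ U')) (M2.pullSec r _ (φ'.app U' m)) =
            mres L (show r ⁻¹ᵁ (π' ⁻¹ᵁ U') ≤ h ⁻¹ᵁ U' by rw [← hr]; rfl) (σ.app U' m)) →
        ∀ (U : X.Opens) (e : Γ(E, U)),
          (((Scheme.Modules.pullbackComp r g).app O1).symm ≪≫ τ).hom.app _ (M2.pullSec (r ≫ g) O1 (φ.app U e)) =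
          mres L (show (r ≫ g) ⁻¹ᵁ (π ⁻¹ᵁ U) ≤ (h ≫ f) ⁻¹ᵁ U by
            rw [← hr, Category.assoc, ← hsq.w, ← Category.assoc]; rfl) (σ'.app U e) := by
      intro r hr τ hτ U e
      have hle : (r ≫ g) ⁻¹ᵁ (π ⁻¹ᵁ U) ≤ r ⁻¹ᵁ (π' ⁻¹ᵁ (f ⁻¹ᵁ U)) := by
        rw [← Scheme.Hom.comp_preimage, ← Scheme.Hom.comp_preimage, ← Scheme.Hom.comp_preimage, Category.assoc,
          Category.assoc, hsq.w]
      have h2 := congrArg (mres L hle) (hτ (f ⁻¹ᵁ U) (M2.pullSec f E e))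
      rw [hval, ← hσv, mres_mres, mres_mres, mres_id] at h2
      exact h2
    exact hB.unique T (h ≫ f) L hL σ' hσ' (r₁ ≫ g) (r₂ ≫ g) (by rw [Category.assoc, hsq.w, ← Category.assoc, h₁])
      (by rw [Category.assoc, hsq.w, ← Category.assoc, h₂])
      (((Scheme.Modules.pullbackComp r₁ g).app O1).symm ≪≫ τ₁) (((Scheme.Modules.pullbackComp r₂ g).app O1).symm ≪≫ τ₂)
      (h1' r₁ h₁ τ₁ e₁) (h1' r₂ h₂ τ₂ e₂)

end Groth.Agent.Cyc26PB
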