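import Groth.Agent.Lib.Cyc26.PBA
import Groth.Agent.Lib.Cyc26.PBBase
import Groth.Agent.Lib.Cyc26.PullPush
import Groth.Agent.Lib.Cyc26.Frac
import Groth.Agent.Lib.Cyc26.P1Div
import Groth.Agent.Lib.FibDim14.Res

/-! # Functoriality of the relation defining Chern classes -/

set_option autoImplicit false
set_option linter.style.haveILetI false

universe u

open CategoryTheory Limits AlgebraicGeometry TopologicalSpace

set_option backward.isDefEq.respectTransparency.types false

noncomputable section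

namespace Groth.Agent.Cyc26A

open Groth.Agent.Cyc26
open Groth.Agent.Cyc26PB (UBundle)
open scoped Classical

section delta

variable {A B C : Scheme.{u}} (f : A ⟶ B) (g : B ⟶ C) {δA : A → ℤ} {δB : B → ℤ} {δC : C → ℤ}

theorem deltaCompat_comp (hf : Cyc.DeltaCompat f δA δB) (hg : Cyc.DeltaCompat g δB δC) :
    Cyc.DeltaCompat (f ≫ g) δA δC := fun x => by
  obtain ⟨m, hm, hm'⟩ := hf x
  obtain ⟨l, hl, hl'⟩ := hg (f x)
  exact ⟨l + m, (FibDim14.rdeg_comp f g x).trans (by
    rw [show FibDim14.rdeg f x = m from hm, show FibDim14.rdeg g (f x) = l from hl, Nat.cast_add]),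
    by rw [Scheme.Hom.comp_apply]; push_cast; omega⟩

theorem deltaCompat_of_comp [LocallyOfFiniteType f] {h : A ⟶ C} (hh : f ≫ g = h)
    (hc : Cyc.DeltaCompat h δA δC) (hg : Cyc.DeltaCompat g δB δC) : Cyc.DeltaCompat f δA δB := fun x => by
  subst hh
  obtain ⟨δ', hf⟩ := P1S26.exists_deltaCompat f δB
  obtain ⟨m, hm, hm'⟩ := hf x
  obtain ⟨n, hn, hn'⟩ := hc x
  obtain ⟨l, hl, hl'⟩ := hg (f x)
  have h1 := FibDim14.rdeg_comp f g x
  rw [show FibDim14.rdeg (f ≫ g) x = n from hn, show FibDim14.rdeg g (f x) = l from hl,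
    show FibDim14.rdeg f x = m from hm] at h1
  have h2 : n = l + m := by exact_mod_cast h1
  refine ⟨m, hm, ?_⟩
  rw [Scheme.Hom.comp_apply] at hn'
  omega

end delta

section base

variable {X Y P P' : Scheme.{u}} [IsLocallyNoetherian X] [IsLocallyNoetherian Y] [IsLocallyNoetherian P]
  [IsLocallyNoetherian P'] {E : Y.Modules} {π : P ⟶ Y} [IsProper π] {O1 : P.Modules}
  {φ : E ⟶ (Scheme.Modules.pushforward π).obj O1} {f : X ⟶ Y} {π' : P' ⟶ X} [IsProper π'] {f' : P' ⟶ P}
  {φ' : (Scheme.Modules.pullback f).obj E ⟶ (Scheme.Modules.pushforward π').obj ((Scheme.Modules.pullback f').obj O1)}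
  {n : ℕ} {δY : Y → ℤ} {δX : X → ℤ} {δP : P → ℤ} {δP' : P' → ℤ}
  (hB : UBundle π E O1 φ) (hE : FlatMod.IsFinLocFreeOfRank (n + 1) E)
  (hB' : UBundle π' ((Scheme.Modules.pullback f).obj E) ((Scheme.Modules.pullback f').obj O1) φ')
  (hE' : FlatMod.IsFinLocFreeOfRank (n + 1) ((Scheme.Modules.pullback f).obj E))
  (hdY : Cyc.IsDimFun Y δY) (hdX : Cyc.IsDimFun X δX) (hdP : Cyc.IsDimFun P δP) (hdP' : Cyc.IsDimFun P' δP')
  (hπ : Cyc.DeltaCompat π δP δY) (hπ' : Cyc.DeltaCompat π' δP' δX) (hsq : IsPullback f' π' π f)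

include hsq hπ hπ' in
omit [IsLocallyNoetherian X] [IsLocallyNoetherian Y] [IsLocallyNoetherian P] [IsLocallyNoetherian P'] [IsProper π]
  [IsProper π'] in
theorem deltaCompat_fst [LocallyOfFiniteType f'] (hf : Cyc.DeltaCompat f δX δY) : Cyc.DeltaCompat f' δP' δP :=
  deltaCompat_of_comp f' π hsq.w (deltaCompat_comp π' f hπ' hf) hπ

include hsq in
omit [IsLocallyNoetherian X] [IsLocallyNoetherian Y] [IsLocallyNoetherian P] [IsLocallyNoetherian P'] [IsProper π]
  [IsProper π'] in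
theorem isProper_fst [IsProper f] : IsProper f' := MorphismProperty.of_isPullback hsq.flip ‹_›

include hsq in
/-- `f'_* π'^* = π^* f_*` on classes. -/
theorem push_pullB [IsProper f] [IsProper f'] (hf : Cyc.DeltaCompat f δX δY) (hf' : Cyc.DeltaCompat f' δP' δP)
    (a : A δX) :
    push f' hdP' hdP hf' (pullB hB' hE' hdX hdP' hπ' a) = pullB hB hE hdY hdP hπ (push f hdX hdY hf a) := by
  obtain ⟨α, rfl⟩ := mk_surjective δX a
  haveI := Cyc26PB.flat_bundle hB hE
  have hc := shift_bundle hB hE hdP hπ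
  have hc' := shift_bundle hB' hE' hdP' hπ'
  rw [pullB_mk hB' hE' hdX hdP' hπ' α _ (pullCycle_coe π' hdP' hc' α), push_mk, push_mk,
    pullB_mk hB hE hdY hdP hπ _ _ (pullCycle_coe π hdP hc _), mk_eq_mk_iff]
  intro l
  refine ratEquivZero_of_eq_zero fun z => ?_
  show part δP l (AlgebraicCycle.map f' δP' δP (pullCycle π' hdP' hc' α)) z -
    part δP l (pullCycle π hdP hc (AlgebraicCycle.map f δX δY α)) z = 0
  rw [part_pullCycle, show AlgebraicCycle.map f' δP' δP (pullCycle π' hdP' hc' α) =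
    pushCycle f' δP' δP (pullCycle π' hdP' hc' α) from rfl, part_pushCycle, sub_eq_zero]
  have e1 : part δP' (l + 0) (pullCycle π' hdP' hc' α) = pullCycle π' hdP' hc' (part δX (l + 0 + -(n : ℤ)) α) := by
    ext y; exact part_pullCycle π' hdP' hc' _ α y
  have e2 : part δY (l + -(n : ℤ)) (AlgebraicCycle.map f δX δY α) =
      AlgebraicCycle.map f δX δY (part δX (l + 0 + -(n : ℤ)) α) := by
    ext y
    rw [show l + 0 + -(n : ℤ) = l + -(n : ℤ) + 0 by ring]
    exact part_pushCycle f (l + -(n : ℤ)) α y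
  rw [e1, e2]
  exact (congrFun ((pullCycle_coe π hdP hc _).trans (pullFun_map_eq_of_isPullback f π hsq.flip hdP hf hf' hc
    (part δX (l + 0 + -(n : ℤ)) α) (part_mem δX _ α) _ (pullCycle_coe π' hdP' hc' _))) z).symm

include hsq in
/-- Push-forward respects the relation. -/
theorem chernRel_push [IsProper f] (hf : Cyc.DeltaCompat f δX δY) (x : Fin (n + 1 + 1) → A δX)
    (hx : chernRel hB' hE' hdX hdP' hπ' x = 0) :
    chernRel hB hE hdY hdP hπ (fun i => push f hdX hdY hf (x i)) = 0 := by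
  haveI := isProper_fst hsq
  have hf' := deltaCompat_fst hπ hπ' hsq hf
  have hpow : ∀ (m : ℕ) (a : A δP'), push f' hdP' hdP hf' (c1p hdP' hB'.inv m a) =
      c1p hdP hB.inv m (push f' hdP' hdP hf' a) := by
    intro m a
    induction m generalizing a with
    | zero => rfl
    | succ m ih => rw [c1p_succ, c1p_succ, ← ih]; exact push_c1 f' hdP' hdP hf' hB.inv _
  have h := congrArg (push f' hdP' hdP hf') hx
  rw [map_zero, chernRel, map_sum] at h
  rw [← h, chernRel]
  refine Finset.sum_congr rfl fun i _ => ?_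
  rw [map_zsmul, hpow, push_pullB hB hE hB' hE' hdY hdX hdP hdP' hπ hπ' hsq hf hf']

include hsq in
/-- `f'^* π^* = π'^* f^*` on classes. -/
theorem pull_pullB [Flat f] [Flat f'] {c : ℤ} (hc : Shift f δX δY c) (hc' : Shift f' δP' δP c) (a : A δY) :
    pull f' hdP' hdP hc' (pullB hB hE hdY hdP hπ a) = pullB hB' hE' hdX hdP' hπ' (pull f hdX hdY hc a) := by
  obtain ⟨α, rfl⟩ := mk_surjective δY a
  haveI := Cyc26PB.flat_bundle hB hE
  haveI := Cyc26PB.flat_bundle hB' hE'
  have hs := shift_bundle hB hE hdP hπ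
  have hs' := shift_bundle hB' hE' hdP' hπ'
  have h1 := (pullFun_comp_shift f' π hdP' hdP hs hc' (⇑α)).2
  have h2 := (pullFun_comp_shift π' f hdP' hdX hc hs' (⇑α)).2
  rw [pullB_mk hB hE hdY hdP hπ α _ (pullCycle_coe π hdP hs α), pull_mk f' hdP' hdP hc' _ _ (pullCycle_coe f' hdP' hc' _),
    pull_mk f hdX hdY hc α _ (pullCycle_coe f hdX hc α), pullB_mk hB' hE' hdX hdP' hπ' _ _ (pullCycle_coe π' hdP' hs' _)]
  congr 1
  ext y
  rw [pullCycle_coe, pullCycle_coe, pullCycle_coe, pullCycle_coe, ← h1, ← h2, add_comm (n : ℤ) c, hsq.w]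

include hsq in
/-- Flat pull-back respects the relation. -/
theorem chernRel_pull [Flat f] [Flat f'] {c : ℤ} (hc : Shift f δX δY c) (hc' : Shift f' δP' δP c)
    (x : Fin (n + 1 + 1) → A δY) (hx : chernRel hB hE hdY hdP hπ x = 0) :
    chernRel hB' hE' hdX hdP' hπ' (fun i => pull f hdX hdY hc (x i)) = 0 := by
  have hpow : ∀ (m : ℕ) (a : A δP), pull f' hdP' hdP hc' (c1p hdP hB.inv m a) =
      c1p hdP' hB'.inv m (pull f' hdP' hdP hc' a) := by
    intro m a
    induction m generalizing a with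
    | zero => rfl
    | succ m ih => rw [c1p_succ, c1p_succ, ← ih]; exact pull_c1 f' hdP' hdP hc' hB.inv _
  have h := congrArg (pull f' hdP' hdP hc') hx
  rw [map_zero, chernRel, map_sum] at h
  rw [← h, chernRel]
  refine Finset.sum_congr rfl fun i _ => ?_
  rw [map_zsmul, hpow, pull_pullB hB hE hB' hE' hdY hdX hdP hdP' hπ hπ' hsq hc hc']

end base

end Groth.Agent.Cyc26A
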