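import Groth.Agent.Lib.Hyperplane18.Zero
import Groth.Agent.Lib.Hyperplane18.Pullback
import Groth.Agent.Lib.LefPen13.Chart
import Groth.Agent.Lib.RelProj11.Res
import Groth.Agent.Lib.Twist.GlobalProjSpace
import Groth.Agent.Lib.Twist.ProjSpace
import Mathlib.LinearAlgebra.FiniteDimensional.Lemmas

/-! # Linear subspaces of projective space -/

set_option autoImplicit false
set_option linter.style.haveILetI false

universe u

open CategoryTheory Limits AlgebraicGeometry TopologicalSpace Opposite MvPolynomial HomogeneousLocalization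

set_option backward.isDefEq.respectTransparency false

noncomputable section

namespace Groth.Agent.Cyc26Lin

attribute [local instance] MvPolynomial.gradedAlgebra

variable {k : Type u} [Field k] {n m c : ℕ}

/-- Independent linear forms are the kernel of a surjective graded map to a smaller polynomial ring. -/
theorem exists_linMap (ℓ : Fin c → LefPen.Form n k 1) (hℓ : LinearIndependent k ℓ) (hcm : c + m = n) :
    ∃ φ : CohB1.polyGrading n k →+*ᵍ CohB1.polyGrading m k,
      Function.Surjective φ ∧ (∀ r : k, φ (C r) = C r) ∧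
      (∀ a, φ a = 0 ↔ a ∈ Ideal.span (Set.range fun i => (ℓ i).1)) ∧
      HomogeneousIdeal.irrelevant (CohB1.polyGrading m k) ≤
        (HomogeneousIdeal.irrelevant (CohB1.polyGrading n k)).map φ := by
  classical
  let L : (Fin (n + 1) → k) →ₗ[k] MvPolynomial (Fin (n + 1)) k := Fintype.linearCombination k X
  let L' : (Fin (m + 1) → k) →ₗ[k] MvPolynomial (Fin (m + 1)) k := Fintype.linearCombination k X
  have hspan : ∀ i, (ℓ i).1 ∈ Submodule.span k (Set.range (X : Fin (n + 1) → MvPolynomial (Fin (n + 1)) k)) :=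
    fun i => by rw [← MvPolynomial.homogeneousSubmodule_one_eq_span_X]; exact (ℓ i).2
  choose v hv using fun i => (Submodule.mem_span_range_iff_exists_fun k).1 (hspan i)
  have hLv : ∀ i, L (v i) = (ℓ i).1 := fun i => by rw [Fintype.linearCombination_apply]; exact hv i
  have hvLI : LinearIndependent k v := by
    refine LinearIndependent.of_comp L ?_
    have : (⇑L ∘ v) = fun i => (ℓ i).1 := funext hLv
    rw [this]
    exact hℓ.map' (Submodule.subtype _) (Submodule.ker_subtype _)
  let W := Submodule.span k (Set.range v)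
  have hW : Module.finrank k W = c := by
    rw [finrank_span_eq_card hvLI, Fintype.card_fin]
  have hQ : Module.finrank k ((Fin (n + 1) → k) ⧸ W) = m + 1 := by
    have := W.finrank_quotient_add_finrank
    rw [hW, Module.finrank_fin_fun] at this
    omega
  let e := LinearEquiv.ofFinrankEq ((Fin (n + 1) → k) ⧸ W) (Fin (m + 1) → k) (by rw [hQ, Module.finrank_fin_fun])
  let T : (Fin (n + 1) → k) →ₗ[k] (Fin (m + 1) → k) := e.toLinearMap.comp W.mkQ
  obtain ⟨S, hS⟩ := T.exists_rightInverse_of_surjective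
    (LinearMap.range_eq_top.2 (e.surjective.comp W.mkQ_surjective))
  have hS' : ∀ w, T (S w) = w := fun w => LinearMap.congr_fun hS w
  let g : Fin (n + 1) → MvPolynomial (Fin (m + 1)) k := fun i => L' (T (Pi.single i 1))
  let g' : Fin (m + 1) → MvPolynomial (Fin (n + 1)) k := fun j => L (S (Pi.single j 1))
  have hg : ∀ i, (g i).IsHomogeneous 1 := fun i => by
    show (Fintype.linearCombination k X _).IsHomogeneous 1
    rw [Fintype.linearCombination_apply]
    exact IsHomogeneous.sum _ _ _ fun l _ => by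
      rw [smul_eq_C_mul]; exact IsHomogeneous.C_mul (isHomogeneous_X k l) _
  let f : MvPolynomial (Fin (n + 1)) k →ₐ[k] MvPolynomial (Fin (m + 1)) k := aeval g
  let σ : MvPolynomial (Fin (m + 1)) k →ₐ[k] MvPolynomial (Fin (n + 1)) k := aeval g'
  have hfL : ∀ w, f (L w) = L' (T w) := by
    have h : f.toLinearMap.comp L = L'.comp T := LinearMap.pi_ext' fun i => LinearMap.ext_ring (by
      simp [f, g, L, Fintype.linearCombination_apply_single])
    exact fun w => LinearMap.congr_fun h w
  have hσL : ∀ w, σ (L' w) = L (S w) := by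
    have h : σ.toLinearMap.comp L' = L.comp S := LinearMap.pi_ext' fun i => LinearMap.ext_ring (by
      simp [σ, g', L', Fintype.linearCombination_apply_single])
    exact fun w => LinearMap.congr_fun h w
  have hfσ : ∀ b, f (σ b) = b := fun b => by
    have : f.comp σ = AlgHom.id k _ := MvPolynomial.algHom_ext fun j => by
      show f (σ (X j)) = X j
      rw [show σ (X j) = L (S (Pi.single j 1)) by simp [σ, g'], hfL, hS']
      simp [L', Fintype.linearCombination_apply_single]
    exact congrArg (fun h : MvPolynomial (Fin (m + 1)) k →ₐ[k] MvPolynomial (Fin (m + 1)) k => h b) this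
  let I : Ideal (MvPolynomial (Fin (n + 1)) k) := Ideal.span (Set.range fun i => (ℓ i).1)
  have hker : ∀ a, f a = 0 ↔ a ∈ I := by
    intro a
    refine ⟨fun ha => ?_, fun ha => ?_⟩
    · have key : ((Ideal.Quotient.mkₐ k I).comp σ).comp f = Ideal.Quotient.mkₐ k I := by
        refine MvPolynomial.algHom_ext fun i => ?_
        refine Ideal.Quotient.eq.2 ?_
        have hX : (X i : MvPolynomial (Fin (n + 1)) k) = L (Pi.single i 1) := by
          simp [L, Fintype.linearCombination_apply_single]
        show σ (f (X i)) - X i ∈ I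
        rw [hX, hfL, hσL, ← map_sub]
        have hW' : S (T (Pi.single i 1)) - Pi.single i 1 ∈ W := by
          have h0 : T (S (T (Pi.single i 1)) - Pi.single i 1) = 0 := by rw [map_sub, hS', sub_self]
          exact (Submodule.Quotient.mk_eq_zero W).1 (e.map_eq_zero_iff.1 h0)
        obtain ⟨r, hr⟩ := (Submodule.mem_span_range_iff_exists_fun k).1 hW'
        rw [← hr, map_sum]
        refine Ideal.sum_mem _ fun l _ => ?_
        rw [map_smul, hLv, smul_eq_C_mul]
        exact Ideal.mul_mem_left _ _ (Ideal.subset_span ⟨l, rfl⟩)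
      have := congrArg (fun h : MvPolynomial (Fin (n + 1)) k →ₐ[k] _ ⧸ I => h a) key
      simp only [AlgHom.comp_apply, ha, map_zero] at this
      exact Ideal.Quotient.eq_zero_iff_mem.1 this.symm
    · refine (show I ≤ RingHom.ker f.toRingHom from Ideal.span_le.2 ?_) ha
      rintro _ ⟨i, rfl⟩
      show f (ℓ i).1 = 0
      rw [← hLv, hfL]
      have : T (v i) = 0 := by
        show e (W.mkQ (v i)) = 0
        rw [Submodule.mkQ_apply, (Submodule.Quotient.mk_eq_zero W).2 (Submodule.subset_span ⟨i, rfl⟩), map_zero]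
      rw [this, map_zero]
  let φ : CohB1.polyGrading n k →+*ᵍ CohB1.polyGrading m k :=
    { f.toRingHom with
      map_mem := fun {i a} ha => by
        show f a ∈ CohB1.polyGrading m k i
        rw [CohB1.polyGrading, mem_homogeneousSubmodule] at ha ⊢
        have h1 := ha.aeval g hg
        rw [one_mul] at h1
        exact h1 }
  refine ⟨φ, fun b => ⟨σ b, hfσ b⟩, fun r => by show f (C r) = C r; simp [f], hker, ?_⟩
  rw [← toIdeal_le_toIdeal_iff, HomogeneousIdeal.toIdeal_map]
  refine (Groth.Agent.ProjSpace.irrelevant_le_span m k).trans (Ideal.span_le.2 ?_)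
  rintro _ ⟨j, rfl⟩
  show X j ∈ Ideal.map φ _
  rw [show (X j : MvPolynomial (Fin (m + 1)) k) = φ (σ (X j)) from (hfσ _).symm]
  refine Ideal.mem_map_of_mem _ ?_
  refine HomogeneousIdeal.mem_irrelevant_of_mem _ Nat.one_pos ?_
  rw [show σ (X j) = L (S (Pi.single j 1)) by simp [σ, g'], Fintype.linearCombination_apply]
  exact Submodule.sum_mem _ fun l _ => Submodule.smul_mem _ _ (isHomogeneous_X k l)

/-- Ideals spanned by linear forms: homogeneous elements have homogeneous coefficients. -/
theorem exists_coeff (ℓ : Fin c → LefPen.Form n k 1) {d : ℕ} {a : MvPolynomial (Fin (n + 1)) k}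
    (ha : a ∈ CohB1.polyGrading n k (1 + d)) (hI : a ∈ Ideal.span (Set.range fun i => (ℓ i).1)) :
    ∃ q : Fin c → MvPolynomial (Fin (n + 1)) k, (∀ i, q i ∈ CohB1.polyGrading n k d) ∧
      ∑ i, (ℓ i).1 * q i = a := by
  classical
  obtain ⟨q, hq⟩ := (Ideal.mem_span_range_iff_exists_fun).1 hI
  refine ⟨fun i => (DirectSum.decompose (CohB1.polyGrading n k) (q i) d : MvPolynomial (Fin (n + 1)) k),
    fun i => SetLike.coe_mem _, ?_⟩
  have h := congrArg (GradedRing.proj (CohB1.polyGrading n k) (1 + d)) hq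
  simp only [map_sum, GradedRing.proj_apply, DirectSum.decompose_of_mem_same _ ha] at h
  rw [← h]
  refine Finset.sum_congr rfl fun i _ => ?_
  rw [mul_comm (q i)]
  exact (DirectSum.coe_decompose_mul_add_of_left_mem _ (ℓ i).2).symm

variable (φ : CohB1.polyGrading n k →+*ᵍ CohB1.polyGrading m k)
  (hφ : HomogeneousIdeal.irrelevant (CohB1.polyGrading m k) ≤
    (HomogeneousIdeal.irrelevant (CohB1.polyGrading n k)).map φ)

theorem ker_chart (ℓ : Fin c → LefPen.Form n k 1)
    (hker : ∀ a, φ a = 0 ↔ a ∈ Ideal.span (Set.range fun i => (ℓ i).1))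
    [QuasiCompact (Proj.map φ hφ)] (i : Fin (n + 1)) :
    (Proj.map φ hφ).ker.ideal ⟨LefPen.chart n k i, ProjDim18.isAffineOpen_chart i⟩ =
      Ideal.span (Set.range fun l => LefPen.dehom (ℓ l) i) := by
  classical
  let GR := CohB1.polyGrading n k
  have hX : (X i : MvPolynomial (Fin (n + 1)) k) ∈ GR 1 := LefPen.X_mem n k i
  rw [Scheme.Hom.ker_apply]
  have happ : ∀ (d : ℕ) (a : MvPolynomial (Fin (n + 1)) k) (ha : a ∈ GR (d • 1)),
      (Proj.map φ hφ).app (Proj.basicOpen GR (MvPolynomial.X i))
          (Proj.awayToSection GR (MvPolynomial.X i) (Away.mk GR hX d a ha)) = 0 ↔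
        ∃ e, φ ((MvPolynomial.X i) ^ e * a) = 0 := fun d a ha => by
    have happ' := ConcreteCategory.congr_hom (Proj.awayToSection_comp_appLE φ hφ hX) (Away.mk GR hX d a ha)
    rw [Scheme.Hom.app_eq_appLE]
    erw [happ']
    refine (map_eq_zero_iff (Proj.awayToSection _ (φ (MvPolynomial.X i))).hom (ConcreteCategory.bijective_of_isIso
      (Proj.basicOpenIsoAway _ (φ (MvPolynomial.X i)) (φ.2 hX) Nat.one_pos).hom).1).trans ?_
    show Away.map φ (MvPolynomial.X i) (Away.mk GR hX d a ha) = 0 ↔ _
    rw [Away.map_mk, EGA2.away_mk_eq_zero_iff _ (φ.2 hX)]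
    exact exists_congr fun e => by rw [map_mul, map_pow]; rfl
  refine le_antisymm (fun y hy => ?_) (Ideal.span_le.2 ?_)
  · obtain ⟨z, rfl⟩ := (ConcreteCategory.bijective_of_isIso
      (Proj.basicOpenIsoAway GR _ hX Nat.one_pos).hom).2 y
    obtain ⟨d, a, ha, rfl⟩ := Away.mk_surjective GR hX z
    obtain ⟨e, he⟩ := (happ d a ha).1 hy
    have he' : φ ((MvPolynomial.X i) ^ (e + 1) * a) = 0 := by
      rw [pow_succ', mul_assoc, map_mul, he, mul_zero]
    have hdeg : ((MvPolynomial.X i : MvPolynomial (Fin (n + 1)) k) ^ (e + 1) * a) ∈ GR (1 + (e + d)) := by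
      have h1 := SetLike.mul_mem_graded (SetLike.pow_mem_graded (e + 1) hX) ha
      have ed : (e + 1) • 1 + d • 1 = 1 + (e + d) := by simp only [smul_eq_mul, mul_one]; omega
      rwa [ed] at h1
    obtain ⟨q, hqm, hq⟩ := exists_coeff ℓ hdeg ((hker _).1 he')
    have hq' : ∀ l, q l ∈ GR ((e + d) • 1) := fun l => by rw [smul_eq_mul, mul_one]; exact hqm l
    have hsum : Away.mk GR hX d a ha =
        ∑ l, Away.mk GR hX 1 (ℓ l).1 (by rw [one_smul]; exact (ℓ l).2) * Away.mk GR hX (e + d) (q l) (hq' l) := by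
      refine HomogeneousLocalization.val_injective _ ?_
      show _ = algebraMap _ (Localization.Away (MvPolynomial.X i : MvPolynomial (Fin (n + 1)) k))
        (∑ l, Away.mk GR hX 1 (ℓ l).1 (by rw [one_smul]; exact (ℓ l).2) * Away.mk GR hX (e + d) (q l) (hq' l))
      rw [map_sum]
      simp only [HomogeneousLocalization.algebraMap_apply, HomogeneousLocalization.val_mul, Away.val_mk,
        Localization.mk_mul]
      have : ∀ l, Localization.mk ((ℓ l).1 * q l) ((⟨(X i : MvPolynomial (Fin (n + 1)) k) ^ 1, _, rfl⟩ : Submonoid.powers (X i : MvPolynomial (Fin (n + 1)) k)) * ⟨X i ^ (e + d), _, rfl⟩) =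
          Localization.mk ((ℓ l).1 * q l) 1 * Localization.mk 1 ((⟨(X i : MvPolynomial (Fin (n + 1)) k) ^ 1, _, rfl⟩ : Submonoid.powers (X i : MvPolynomial (Fin (n + 1)) k)) * ⟨X i ^ (e + d), _, rfl⟩) := fun l => by
        rw [Localization.mk_mul, mul_one, one_mul]
      rw [Finset.sum_congr rfl fun l _ => this l, ← Finset.sum_mul, ← Localization.mk_sum, hq, Localization.mk_mul,
        Localization.mk_eq_mk_iff, Localization.r_iff_exists]
      refine ⟨1, ?_⟩
      simp only [OneMemClass.coe_one, one_mul, mul_one, Submonoid.coe_mul]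
      ring
    show (Proj.awayToSection GR _) _ ∈ _
    rw [hsum, map_sum]
    refine Ideal.sum_mem _ fun l _ => ?_
    rw [map_mul]
    exact Ideal.mul_mem_right _ _ (Ideal.subset_span ⟨l, rfl⟩)
  · rintro _ ⟨l, rfl⟩
    show (Proj.map φ hφ).app _ (LefPen.dehom (ℓ l) i) = 0
    exact (happ 1 (ℓ l).1 _).2 ⟨0, (hker _).2 (by rw [pow_zero, one_mul]; exact Ideal.subset_span ⟨l, rfl⟩)⟩

/-- A linear subspace is a projective space, `O(1)` matching. -/
theorem exists_linearEmb (ℓ : Fin c → LefPen.Form n k 1) (hℓ : LinearIndependent k ℓ) (hcm : c + m = n) :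
    ∃ j : CohB1.ProjSpace m k ⟶ CohB1.ProjSpace n k, IsClosedImmersion j ∧
      j.ker = LefPen.ciIdeal (a := fun _ : Fin c => 1) ℓ ∧
      j ≫ CohB1.ProjSpace.toSpec n k = CohB1.ProjSpace.toSpec m k ∧
      Nonempty ((Scheme.Modules.pullback j).obj (Twist.twistProjSpace n k 1) ≅ Twist.twistProjSpace m k 1) := by
  classical
  obtain ⟨φ, hsurj, hC, hker, hφ⟩ := exists_linMap ℓ hℓ hcm
  haveI : IsClosedImmersion (Proj.map φ hφ) := by
    refine Groth.Agent.EGA2.map_of_forall_away φ hφ @IsClosedImmersion fun d hd t ht => ?_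
    refine IsClosedImmersion.spec_of_surjective _ (Groth.Agent.EGA2.away_map_surjective φ ?_ hd ht)
    intro m' hm' b hb
    obtain ⟨a, rfl⟩ := hsurj b
    refine ⟨(DirectSum.decompose (CohB1.polyGrading n k) a m' : MvPolynomial (Fin (n + 1)) k),
      SetLike.coe_mem _, ?_⟩
    rw [GradedRingHom.map_directSumDecompose, DirectSum.decompose_of_mem_same _ hb]
  refine ⟨Proj.map φ hφ, inferInstance, ?_, ?_, Hyperplane18.nonempty_pullback_twist_one φ hφ
    (Groth.Agent.Twist.iSup_basicOpen_one n k)⟩
  · refine Scheme.IdealSheafData.ext_of_iSup_eq_top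
      (fun i : Fin (n + 1) => ⟨LefPen.chart n k i, ProjDim18.isAffineOpen_chart i⟩)
      (Groth.Agent.ProjSpace.iSup_basicOpen n k) fun i => ?_
    rw [ker_chart φ hφ ℓ hker i, LefPen.ciIdeal, Scheme.IdealSheafData.ideal_iSup, iSup_apply,
      ← Set.iUnion_singleton_eq_range, Ideal.span_iUnion]
    exact (iSup_congr fun l => LefPen13.hypIdeal_chart (ℓ l) i).symm
  · show Proj.map φ hφ ≫ Proj.toSpecZero _ ≫ _ = Proj.toSpecZero _ ≫ _
    rw [reassoc_of% (RelProj11.map_toSpecZero (ψ := φ) hφ), ← Spec.map_comp]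
    congr 2
    refine CommRingCat.hom_ext (RingHom.ext fun r => Subtype.ext ?_)
    exact hC r

end Groth.Agent.Cyc26Lin
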