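import Groth.Agent.Lib.Cyc26.ChernOps

/-! # Segre operations commute with Chern classes -/

set_option autoImplicit false
set_option linter.style.haveILetI false

universe u

open CategoryTheory Limits AlgebraicGeometry TopologicalSpace

set_option backward.isDefEq.respectTransparency.types false

noncomputable section

namespace Groth.Agent.Cyc26A

open Groth.Agent.Cyc26
open Groth.Agent.Cyc26PB (UBundle capIt)
open scoped Classical

variable {X P : Scheme.{u}} [IsLocallyNoetherian X] [IsLocallyNoetherian P] {E : X.Modules} {π : P ⟶ X}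
  [IsProper π] {O1 : P.Modules} {φ : E ⟶ (Scheme.Modules.pushforward π).obj O1} {n : ℕ} {δP : P → ℤ} {δ : X → ℤ}
  (hB : UBundle π E O1 φ) (hE : FlatMod.IsFinLocFreeOfRank (n + 1) E) (hdX : Cyc.IsDimFun X δ)
  (hd : Cyc.IsDimFun P δP) (hδ : Cyc.DeltaCompat π δP δ)

/-- `π_*(c₁(O(1))^t ∩ π^* -)`. -/
def segre (t : ℕ) : A δ →+ A δ :=
  (push π hd hdX hδ).comp ((c1p hd hB.inv t).comp (pullB hB hE hdX hd hδ))

/-- Low powers push forward to zero. -/
theorem segre_eq_zero {t : ℕ} (ht : t < n) (a : A δ) : segre hB hE hdX hd hδ t a = 0 := by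
  obtain ⟨α, rfl⟩ := mk_surjective δ a
  obtain ⟨s, hs⟩ := exists_sec hB.inv
  have hc := shift_bundle hB hE hd hδ
  show push π hd hdX hδ (c1p hd hB.inv t (pullB hB hE hdX hd hδ (mk δ α))) = 0
  rw [pullB_mk hB hE hdX hd hδ α _ (pullCycle_coe π hd hc α), ← mk_capPow hd hB.inv (fun _ => hs), push_mk π hd hdX hδ,
    mk_eq_zero_iff]
  intro k
  refine ratEquivZero_of_eq_zero fun y => ?_
  have h1 := part_pushCycle (δX := δP) (δY := δ) π k (capPow hd hB.inv (fun _ => hs) t (pullCycle π hd hc α)) y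
  have h2 : part δP (k + 0) (capPow hd hB.inv (fun _ => hs) t (pullCycle π hd hc α)) =
      capPow hd hB.inv (fun _ => hs) t (pullCycle π hd hc (part δ (k + 0 + t + -(n : ℤ)) α)) := by
    rw [part_capPow]
    congr 1
    ext z
    exact part_pullCycle π hd hc _ α z
  refine h1.trans ?_
  rw [h2]
  have h3 := Cyc26PB.map_capIt_pull hB hE hdX hd hδ (t := fun _ => s) (fun _ => hs)
    (part_mem δ (k + 0 + t + -(n : ℤ)) α) t ht.le
      (capPow hd hB.inv (fun _ => hs) t (pullCycle π hd hc (part δ (k + 0 + t + -(n : ℤ)) α)))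
      (by rw [capPow_coe, pullCycle_coe π hd hc]) y
  rw [if_neg ht.ne] at h3
  exact h3

include hB hE hdX hd hδ in
/-- If `x` satisfies the Chern relation, so does `segre t ∘ x`. -/
theorem chernRel_segre (hPs : Cyc.IsSetup P δP) (t : ℕ) (x : Fin (n + 1 + 1) → A δ)
    (hx : chernRel hB hE hdX hd hδ x = 0) :
    chernRel hB hE hdX hd hδ (fun j => segre hB hE hdX hd hδ t (x j)) = 0 := by
  have hsq : IsPullback (pullback.fst π π) (pullback.snd π π) π π := IsPullback.of_hasPullback π π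
  haveI : IsProper (pullback.snd π π) := MorphismProperty.of_isPullback hsq ‹_›
  haveI : IsProper (pullback.fst π π) := MorphismProperty.of_isPullback hsq.flip ‹_›
  haveI : IsLocallyNoetherian (pullback π π : Scheme.{u}) :=
    LocallyOfFiniteType.isLocallyNoetherian (pullback.snd π π)
  obtain ⟨δR, hR⟩ := P1S26.exists_deltaCompat (pullback.snd π π) δP
  have hdR : Cyc.IsDimFun (pullback π π : Scheme.{u}) δR := UCat26.isDimFun_of_deltaCompat _ hPs.2.1 hd hR
  have hR' := deltaCompat_fst hδ hR hsq hδ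
  obtain ⟨φ', hB'⟩ := Cyc26PB.exists_uBundle_baseChange hB hsq
  have hE' := M2.isFinLocFreeOfRank_pullback π hE
  obtain ⟨ψ', hC'⟩ := Cyc26PB.exists_uBundle_baseChange hB hsq.flip
  haveI := Cyc26PB.flat_bundle hB hE
  haveI := Cyc26PB.flat_bundle hC' hE'
  have h1 := chernRel_pull hB hE hB' hE' hdX hd hd hdR hδ hR hsq (shift_bundle hB hE hd hδ)
    (shift_bundle hC' hE' hdR hR') x hx
  have hc1 : ∀ (z : Fin (n + 1 + 1) → A δP), chernRel hB' hE' hd hdR hR z = 0 →
      chernRel hB' hE' hd hdR hR (fun i => c1 hd hB.inv (z i)) = 0 := by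
    intro z hz
    have hsnd := Groth.Agent.Twist.isInvertible_pullback (pullback.snd π π) hB.inv
    have h := congrArg (c1 hdR hsnd) hz
    rw [map_zero, chernRel, map_sum] at h
    rw [← h, chernRel]
    refine Finset.sum_congr rfl fun i _ => ?_
    rw [map_zsmul, c1p_comm, pullB_c1]
  have hpow : ∀ (e : ℕ) (z : Fin (n + 1 + 1) → A δP), chernRel hB' hE' hd hdR hR z = 0 →
      chernRel hB' hE' hd hdR hR (fun i => c1p hd hB.inv e (z i)) = 0 := by
    intro e
    induction e with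
    | zero => exact fun z hz => hz
    | succ e ih => exact fun z hz => hc1 _ (ih z hz)
  exact chernRel_push hB hE hB' hE' hdX hd hd hdR hδ hR hsq hδ _ (hpow t _ h1)

/-- Segre and Chern classes are inverse to each other. -/
theorem sum_segre_chern (x : Fin (n + 1 + 1) → A δ) (hx : chernRel hB hE hdX hd hδ x = 0) {m : ℕ} (hm : 1 ≤ m) :
    ∑ i : Fin (m + 1), (if h : m - (i : ℕ) ≤ n + 1 then
      (-1 : ℤ) ^ (i : ℕ) • segre hB hE hdX hd hδ (n + i) (x ⟨m - (i : ℕ), Nat.lt_succ_of_le h⟩) else 0) = 0 := by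
  have h := congrArg (fun b => push π hd hdX hδ (c1p hd hB.inv (m - 1) b)) hx
  simp only [map_zero] at h
  rw [chernRel, map_sum, map_sum] at h
  have hpow : ∀ (a e : ℕ) (b : A δP), c1p hd hB.inv a (c1p hd hB.inv e b) = c1p hd hB.inv (a + e) b := by
    intro a e b
    induction a with
    | zero => rw [Nat.zero_add]; rfl
    | succ a ih => rw [c1p_succ, ih, Nat.succ_add, c1p_succ]
  simp only [map_zsmul, hpow] at h
  change ∑ l : Fin (n + 1 + 1), (-1 : ℤ) ^ (l : ℕ) • segre hB hE hdX hd hδ (m - 1 + l) (x (Fin.rev l)) = 0 at h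
  rw [← Finset.sum_filter_add_sum_filter_not Finset.univ (fun l : Fin (n + 1 + 1) => n + 1 ≤ m + (l : ℕ)),
    Finset.sum_eq_zero (s := Finset.filter (fun l => ¬ _) _) (fun l hl => by
      rw [segre_eq_zero hB hE hdX hd hδ (by have := (Finset.mem_filter.1 hl).2; omega), smul_zero]), add_zero] at h
  have h' : (-1 : ℤ) ^ (m + (n + 1)) •
      ∑ l ∈ Finset.univ.filter (fun l : Fin (n + 1 + 1) => n + 1 ≤ m + (l : ℕ)),
        (-1 : ℤ) ^ (l : ℕ) • segre hB hE hdX hd hδ (m - 1 + l) (x (Fin.rev l)) = 0 := by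
    rw [h, smul_zero]
  refine Eq.trans ?_ h'
  rw [Finset.smul_sum]
  symm
  refine Finset.sum_of_injOn (fun l => (Fin.ofNat (m + 1) (m + (l : ℕ) - (n + 1)) : Fin (m + 1)))
    (fun a ha b hb hab => ?_) (fun a _ => Finset.mem_coe.2 (Finset.mem_univ _)) (fun i _ hi => ?_) fun l hl => ?_
  · have ha' := (Finset.mem_filter.1 (Finset.mem_coe.1 ha)).2
    have hb' := (Finset.mem_filter.1 (Finset.mem_coe.1 hb)).2
    have h2 := congrArg Fin.val hab
    simp only [Fin.val_ofNat] at h2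
    rw [Nat.mod_eq_of_lt (by omega), Nat.mod_eq_of_lt (by omega)] at h2
    exact Fin.ext (by omega)
  · rw [dif_neg]
    intro h2
    refine hi ⟨⟨(i : ℕ) + (n + 1) - m, by omega⟩, Finset.mem_coe.2 (Finset.mem_filter.2 ⟨Finset.mem_univ _,
      show n + 1 ≤ m + ((i : ℕ) + (n + 1) - m) by omega⟩), ?_⟩
    refine Fin.ext ?_
    simp only [Fin.val_ofNat]
    rw [Nat.mod_eq_of_lt (by omega)]
    omega
  · have hl' := (Finset.mem_filter.1 hl).2
    have hv : ((Fin.ofNat (m + 1) (m + (l : ℕ) - (n + 1)) : Fin (m + 1)) : ℕ) = m + (l : ℕ) - (n + 1) := by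
      rw [Fin.val_ofNat, Nat.mod_eq_of_lt (by omega)]
    rw [dif_pos (by rw [hv]; omega), smul_smul, ← pow_add]
    congr 1
    · rw [hv, show m + (n + 1) + (l : ℕ) = (m + (l : ℕ) - (n + 1)) + 2 * (n + 1) by omega, pow_add, pow_mul]
      simp
    · rw [show m - 1 + (l : ℕ) = n + ((Fin.ofNat (m + 1) (m + (l : ℕ) - (n + 1)) : Fin (m + 1)) : ℕ) by rw [hv]; omega]
      congr 2
      refine Fin.ext ?_
      simp only [Fin.val_rev, hv]
      omega

end Groth.Agent.Cyc26A
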