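import Groth.Agent.Lib.Cyc26.Stalk
import Groth.Agent.Lib.Cyc26.PullDiv

/-! # Stalks at generalisations as localisations -/

set_option autoImplicit false
universe u

set_option backward.isDefEq.respectTransparency.types false

open CategoryTheory AlgebraicGeometry TopologicalSpace Groth.Agent.M1

namespace Groth.Agent.Cyc26

variable {X : Scheme.{u}}

/-- The localisation of a stalk at the prime of a generalisation is the stalk there. -/
theorem exists_equiv_stalk {F : X.Modules} (hF : Coh.IsQCoh F) {ξ x : X} (h : ξ ⤳ x) :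
    ∃ (σ : Localization.AtPrime (RingHom.ker (Cyc.specMap x ξ h)) ≃+* X.presheaf.stalk ξ)
      (e : LocalizedModule (RingHom.ker (Cyc.specMap x ξ h)).primeCompl (F.presheaf.stalk x) ≃+ F.presheaf.stalk ξ),
      ∀ r m, e (r • m) = σ r • e m := by
  haveI := hF
  letI : Algebra (X.presheaf.stalk x) (X.presheaf.stalk ξ) := (X.presheaf.stalkSpecializes h).hom.toAlgebra
  haveI hloc := isLocalization_stalkSpecializes h
  set q : Ideal (X.presheaf.stalk x) := RingHom.ker (Cyc.specMap x ξ h)
  letI : Module (X.presheaf.stalk x) (F.presheaf.stalk ξ) := Module.compHom _ (X.presheaf.stalkSpecializes h).hom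
  haveI : IsScalarTower (X.presheaf.stalk x) (X.presheaf.stalk ξ) (F.presheaf.stalk ξ) :=
    IsScalarTower.of_algebraMap_smul fun _ _ => rfl
  let φ : F.presheaf.stalk x →ₗ[X.presheaf.stalk x] F.presheaf.stalk ξ :=
    { toFun := F.presheaf.stalkSpecializes h
      map_add' := map_add (F.presheaf.stalkSpecializes h).hom
      map_smul' := fun r m => stalkSpecializes_smul F h r m }
  obtain ⟨U, hU, hx, -⟩ := exists_isAffineOpen_mem_and_subset (U := (⊤ : X.Opens)) (x := x) trivial
  have hξ : ξ ∈ U := h.mem_open U.isOpen hx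
  have hsp : ∀ r : Γ(X, U), X.presheaf.stalkSpecializes h (X.presheaf.germ U x hx r) = X.presheaf.germ U ξ hξ r :=
    fun r => TopCat.Presheaf.germ_stalkSpecializes_apply X.presheaf hx h r
  have hspF : ∀ s : Γ(F, U), F.presheaf.stalkSpecializes h (F.presheaf.germ U x hx s) = F.presheaf.germ U ξ hξ s :=
    fun s => TopCat.Presheaf.germ_stalkSpecializes_apply F.presheaf hx h s
  have hnot : ∀ r : Γ(X, U), IsUnit (X.presheaf.germ U ξ hξ r) → X.presheaf.germ U x hx r ∈ q.primeCompl :=
    fun r hr hk => by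
      have h0 : X.residue ξ (X.presheaf.stalkSpecializes h (X.presheaf.germ U x hx r)) = 0 := hk
      rw [hsp] at h0
      exact (hr.map (X.residue ξ).hom).ne_zero h0
  haveI : IsLocalizedModule q.primeCompl φ := by
    constructor
    · intro a
      rw [Module.End.isUnit_iff]
      obtain ⟨u, hu⟩ : IsUnit (X.presheaf.stalkSpecializes h a.1) :=
        IsLocalization.map_units (X.presheaf.stalk ξ) a
      refine Function.bijective_iff_has_inverse.mpr ⟨fun m => (↑u⁻¹ : X.presheaf.stalk ξ) • m,
        fun m => ?_, fun m => ?_⟩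
      · change (↑u⁻¹ : X.presheaf.stalk ξ) • (X.presheaf.stalkSpecializes h a.1 • m) = m
        rw [← hu, ← mul_smul, Units.inv_mul, one_smul]
      · change X.presheaf.stalkSpecializes h a.1 • ((↑u⁻¹ : X.presheaf.stalk ξ) • m) = m
        rw [← hu, ← mul_smul, Units.mul_inv, one_smul]
    · intro m
      obtain ⟨r, s, hr, he⟩ := exists_germ_smul_eq F hU hξ m
      refine ⟨⟨F.presheaf.germ U x hx s, ⟨_, hnot r hr⟩⟩, ?_⟩
      show X.presheaf.stalkSpecializes h (X.presheaf.germ U x hx r) • m = F.presheaf.stalkSpecializes h _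
      rw [hsp, hspF, he]
    · intro m₁ m₂ he
      obtain ⟨r, s, hr, hrs⟩ := exists_germ_smul_eq F hU hx (m₁ - m₂)
      have h0 : F.presheaf.germ U ξ hξ s = 0 := by
        rw [← hspF, ← hrs, stalkSpecializes_smul, map_sub, show F.presheaf.stalkSpecializes h m₁ =
          F.presheaf.stalkSpecializes h m₂ from he, sub_self, smul_zero]
      obtain ⟨c, hc, hcs⟩ := exists_smul_eq_zero_of_germ_eq_zero F hU hξ s h0
      have hru : IsUnit (X.presheaf.germ U ξ hξ r) := by rw [← hsp]; exact hr.map _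
      refine ⟨⟨_, mul_mem (hnot c hc) (hnot r hru)⟩, sub_eq_zero.1 ?_⟩
      show (X.presheaf.germ U x hx c * X.presheaf.germ U x hx r) • m₁ -
        (X.presheaf.germ U x hx c * X.presheaf.germ U x hx r) • m₂ = 0
      rw [← smul_sub, mul_smul, hrs, ← germ_smul, hcs, map_zero]
  let σ : Localization.AtPrime q ≃ₐ[X.presheaf.stalk x] X.presheaf.stalk ξ :=
    IsLocalization.algEquiv q.primeCompl _ _
  let e := IsLocalizedModule.iso q.primeCompl φ
  refine ⟨σ.toRingEquiv, e.toAddEquiv, fun r m => ?_⟩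
  obtain ⟨⟨a, s⟩, hs⟩ := IsLocalization.surj q.primeCompl r
  have hu : IsUnit (algebraMap (X.presheaf.stalk x) (X.presheaf.stalk ξ) s) := IsLocalization.map_units _ s
  refine hu.smul_left_cancel.1 ?_
  show algebraMap _ (X.presheaf.stalk ξ) (s : X.presheaf.stalk x) • e (r • m) =
    algebraMap _ (X.presheaf.stalk ξ) (s : X.presheaf.stalk x) • σ r • e m
  rw [algebraMap_smul, ← e.map_smul, ← algebraMap_smul (Localization.AtPrime q) (s : X.presheaf.stalk x) (r • m),
    ← mul_smul, ← mul_smul, mul_comm _ r, hs, algebraMap_smul, e.map_smul,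
    ← algebraMap_smul (X.presheaf.stalk ξ) a (e m), ← σ.commutes s, ← map_mul, mul_comm _ r, hs, σ.commutes]

theorem locLen_stalk {F : X.Modules} (hF : Coh.IsQCoh F) {ξ x : X} (h : ξ ⤳ x) :
    Herbrand26.locLen (⟨RingHom.ker (Cyc.specMap x ξ h), RingHom.ker_isPrime _⟩ : PrimeSpectrum (X.presheaf.stalk x))
      (F.presheaf.stalk x) = Module.length (X.presheaf.stalk ξ) (F.presheaf.stalk ξ) := by
  obtain ⟨σ, e, he⟩ := exists_equiv_stalk hF h
  exact length_eq_of_semilinear (σ := σ.toRingHom) σ.surjective (e := e) he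

theorem mem_support_stalk_iff {F : X.Modules} (hF : Coh.IsQCoh F) {ξ x : X} (h : ξ ⤳ x) :
    (⟨RingHom.ker (Cyc.specMap x ξ h), RingHom.ker_isPrime _⟩ : PrimeSpectrum (X.presheaf.stalk x)) ∈
      Module.support (X.presheaf.stalk x) (F.presheaf.stalk x) ↔ Nontrivial (F.presheaf.stalk ξ) := by
  obtain ⟨-, e, -⟩ := exists_equiv_stalk hF h
  rw [Module.mem_support_iff]
  exact e.toEquiv.nontrivial_congr

end Groth.Agent.Cyc26
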