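import Groth.Agent.Lib.Cyc26.PBFormula
import Groth.Agent.Lib.Cyc26.ChowA
import Groth.Prelude.Def_ChowOps2

/-! # The projective bundle formula for classes, and uniqueness of Chern classes -/

set_option autoImplicit false
set_option linter.style.haveILetI false

universe u

open CategoryTheory Limits AlgebraicGeometry TopologicalSpace

set_option backward.isDefEq.respectTransparency.types false

noncomputable section

namespace Groth.Agent.Cyc26A

open Groth.Agent.Cyc26
open Groth.Agent.Cyc26PB (UBundle capIt)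
open scoped Classical

section pow

variable {Z : Scheme.{u}} [IsLocallyNoetherian Z] {δ : Z → ℤ} (hd : Cyc.IsDimFun Z δ) {L : Z.Modules}
  (hL : PicF.IsInvertible L)

/-- Powers of `c₁(L)`. -/
def c1p : ℕ → (A δ →+ A δ)
  | 0 => AddMonoidHom.id _
  | m + 1 => (c1 hd hL).comp (c1p m)

theorem c1p_succ (m : ℕ) (a : A δ) : c1p hd hL (m + 1) a = c1 hd hL (c1p hd hL m a) := rfl

theorem c1p_succ' (m : ℕ) (a : A δ) : c1p hd hL (m + 1) a = c1p hd hL m (c1 hd hL a) := by
  induction m generalizing a with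
  | zero => rfl
  | succ m ih => rw [c1p_succ, ih, ← c1p_succ]

theorem c1p_comm {N : Z.Modules} (hN : PicF.IsInvertible N) (m : ℕ) (a : A δ) :
    c1 hd hN (c1p hd hL m a) = c1p hd hL m (c1 hd hN a) := by
  induction m generalizing a with
  | zero => rfl
  | succ m ih => rw [c1p_succ, c1_comm hd hN hL, ih, c1p_succ]

theorem c1PowFun_eq (t : ℕ → (z : Z) → Cyc.secFibre L z) (G : Z → ℤ) :
    ∀ m, Cyc.c1PowFun δ L t m G = capIt δ L t G m
  | 0 => rfl
  | m + 1 => by
    show Cyc.c1CapFun δ L (Cyc.c1PowFun δ L t m G) (t m) = _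
    rw [c1PowFun_eq t G m]
    rfl

variable {t : ℕ → (z : Z) → Cyc.secFibre L z} (ht : ∀ m z, t m z ≠ 0)

/-- Iterated caps of cycles. -/
def capPow : ℕ → (AlgebraicCycle Z ℤ →+ AlgebraicCycle Z ℤ)
  | 0 => AddMonoidHom.id _
  | m + 1 => (capCycle hd hL (ht m)).comp (capPow m)

theorem capPow_coe : ∀ (m : ℕ) (α : AlgebraicCycle Z ℤ), ⇑(capPow hd hL ht m α) = capIt δ L t ⇑α m
  | 0, _ => rfl
  | m + 1, α => (capCycle_coe hd hL (ht m) _).trans (by rw [capPow_coe m α]; rfl)

theorem mk_capPow : ∀ (m : ℕ) (α : AlgebraicCycle Z ℤ), mk δ (capPow hd hL ht m α) = c1p hd hL m (mk δ α)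
  | 0, _ => rfl
  | m + 1, α => by
    rw [c1p_succ, ← mk_capPow m α]
    exact (c1_mk hd hL (ht m) _ _ (capCycle_coe hd hL (ht m) _)).symm

theorem part_capPow : ∀ (m : ℕ) (k : ℤ) (α : AlgebraicCycle Z ℤ),
    part δ k (capPow hd hL ht m α) = capPow hd hL ht m (part δ (k + m) α)
  | 0, k, α => by simp [capPow]
  | m + 1, k, α => by
    show part δ k (capCycle hd hL (ht m) (capPow hd hL ht m α)) = _
    have h1 : part δ k (capCycle hd hL (ht m) (capPow hd hL ht m α)) =
        capCycle hd hL (ht m) (part δ (k + 1) (capPow hd hL ht m α)) := by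
      ext x; exact part_capCycle hd hL (ht m) k _ x
    rw [h1, part_capPow m (k + 1) α, show k + 1 + (m : ℤ) = k + ((m + 1 : ℕ) : ℤ) by push_cast; ring]
    rfl

end pow

section bundle

variable {X P : Scheme.{u}} [IsLocallyNoetherian X] [IsLocallyNoetherian P] {E : X.Modules} {π : P ⟶ X}
  [IsProper π] {O1 : P.Modules} {φ : E ⟶ (Scheme.Modules.pushforward π).obj O1} {n : ℕ} {δP : P → ℤ} {δ : X → ℤ}
  (hB : UBundle π E O1 φ) (hE : FlatMod.IsFinLocFreeOfRank (n + 1) E) (hdX : Cyc.IsDimFun X δ)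
  (hd : Cyc.IsDimFun P δP) (hδ : Cyc.DeltaCompat π δP δ)

include hB hE hd hδ in
omit [IsLocallyNoetherian X] [IsLocallyNoetherian P] in
theorem shift_bundle : Shift π δP δ (n : ℤ) := fun z hz => Cyc26PB.delta_maximal hB hE hd hδ z hz

/-- Flat pull-back to the bundle. -/
def pullB : A δ →+ A δP :=
  haveI := Cyc26PB.flat_bundle hB hE
  pull π hd hdX (shift_bundle hB hE hd hδ)

theorem pullB_mk (α : AlgebraicCycle X ℤ) (γ : AlgebraicCycle P ℤ)
    (hγ : ⇑γ = Cyc.pullFun π δP δ (n : ℤ) ⇑α) : pullB hB hE hdX hd hδ (mk δ α) = mk δP γ := by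
  haveI := Cyc26PB.flat_bundle hB hE
  exact pull_mk π hd hdX _ α γ hγ

theorem pullB_c1 {L : X.Modules} (hL : PicF.IsInvertible L) (a : A δ) :
    pullB hB hE hdX hd hδ (c1 hdX hL a) =
      c1 hd (Groth.Agent.Twist.isInvertible_pullback π hL) (pullB hB hE hdX hd hδ a) := by
  haveI := Cyc26PB.flat_bundle hB hE
  exact pull_c1 π hd hdX _ hL a

include hdX in
/-- The classes `c₁^i ∩ π^*` are independent. -/
theorem indep (x : Fin (n + 1) → A δ)
    (h : ∑ i : Fin (n + 1), c1p hd hB.inv (i : ℕ) (pullB hB hE hdX hd hδ (x i)) = 0) (i : Fin (n + 1)) : x i = 0 := by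
  obtain ⟨s, hs⟩ := exists_sec hB.inv
  choose a ha using fun i => mk_surjective δ (x i)
  have hc := shift_bundle hB hE hd hδ
  have h' : mk δP (∑ i : Fin (n + 1), capPow hd hB.inv (fun _ => hs) (i : ℕ) (pullCycle π hd hc (a i))) = 0 := by
    rw [map_sum, ← h]
    refine Finset.sum_congr rfl fun j _ => ?_
    rw [mk_capPow, ← ha j, pullB_mk hB hE hdX hd hδ (a j) _ (pullCycle_coe π hd hc (a j))]
  rw [← ha i, mk_eq_zero_iff]
  intro l
  have h2 := Cyc26PB.ratEquivZero_of_sum hB hE hdX hd hδ (t := fun _ _ => s) (fun _ _ => hs)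
    (k := l - ((i : ℕ) : ℤ)) (a := fun j => part δ (l - ((i : ℕ) : ℤ) + ((j : ℕ) : ℤ)) (a j))
    (fun j => part_mem δ _ _) ((mk_eq_zero_iff δP _).1 h' (l - ((i : ℕ) : ℤ) + n)) (fun z => ?_) i
  · rwa [sub_add_cancel] at h2
  · rw [part_apply, Cyc26PB.cycle_sum_apply]
    have hj : ∀ j : Fin (n + 1), capIt δP O1 (fun _ => s) (Cyc.pullFun π δP δ (n : ℤ)
        ⇑(part δ (l - ((i : ℕ) : ℤ) + ((j : ℕ) : ℤ)) (a j))) (j : ℕ) z =
        if δP z = l - ((i : ℕ) : ℤ) + n then capPow hd hB.inv (fun _ => hs) (j : ℕ) (pullCycle π hd hc (a j)) z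
        else 0 := fun j => by
      rw [← part_apply, part_capPow, capPow_coe]
      congr 1
      funext w
      rw [part_pullCycle, pullCycle_coe]
      congr 3
      ring
    rw [Finset.sum_congr rfl fun j _ => hj j]
    split_ifs <;> simp

/-- The left hand side of the Chern relation. -/
def chernRel (x : Fin (n + 1 + 1) → A δ) : A δP :=
  ∑ i : Fin (n + 1 + 1), (-1 : ℤ) ^ (i : ℕ) • c1p hd hB.inv (i : ℕ) (pullB hB hE hdX hd hδ (x (Fin.rev i)))

theorem chernRel_add (x y : Fin (n + 1 + 1) → A δ) :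
    chernRel hB hE hdX hd hδ (x + y) = chernRel hB hE hdX hd hδ x + chernRel hB hE hdX hd hδ y := by
  simp only [chernRel, Pi.add_apply, map_add, zsmul_add, Finset.sum_add_distrib]

theorem chernRel_sub (x y : Fin (n + 1 + 1) → A δ) :
    chernRel hB hE hdX hd hδ (x - y) = chernRel hB hE hdX hd hδ x - chernRel hB hE hdX hd hδ y := by
  simp only [chernRel, Pi.sub_apply, _root_.map_sub, zsmul_sub, Finset.sum_sub_distrib]

include hdX in
/-- The Chern relation determines the classes. -/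
theorem chern_unique {x y : Fin (n + 1 + 1) → A δ} (h0 : x 0 = y 0) (hx : chernRel hB hE hdX hd hδ x = 0)
    (hy : chernRel hB hE hdX hd hδ y = 0) : x = y := by
  have h : chernRel hB hE hdX hd hδ (x - y) = 0 := by rw [chernRel_sub, hx, hy, sub_zero]
  rw [chernRel, Fin.sum_univ_castSucc, Fin.rev_last, Pi.sub_apply, h0, sub_self, map_zero, map_zero, smul_zero,
    add_zero] at h
  have h2 := indep hB hE hdX hd hδ
    (fun i : Fin (n + 1) => (-1 : ℤ) ^ (i : ℕ) • (x - y) (Fin.rev (Fin.castSucc i)))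
    (by simpa only [map_zsmul, Fin.val_castSucc] using h)
  funext j
  induction j using Fin.cases with
  | zero => exact h0
  | succ j =>
    have h3 := h2 (Fin.rev j)
    rw [Fin.rev_castSucc, Fin.rev_rev] at h3
    have h4 : ((-1 : ℤ) ^ (Fin.rev j : ℕ)) • ((-1 : ℤ) ^ (Fin.rev j : ℕ) • (x - y) j.succ) = 0 := by
      rw [h3, smul_zero]
    rw [smul_smul, ← mul_pow] at h4
    simpa [sub_eq_zero] using h4

include hdX in
/-- Chern classes in the sense of the prelude satisfy the relation. -/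
theorem chernRel_of_isChernCap {k : ℤ} {α : AlgebraicCycle X ℤ} {γ : Fin (n + 1 + 1) → AlgebraicCycle X ℤ}
    (h : Cyc.IsChernCap π δ δP O1 (n + 1) k α γ) : chernRel hB hE hdX hd hδ (fun j => mk δ (γ j)) = 0 := by
  obtain ⟨s, hs⟩ := exists_sec hB.inv
  have hc := shift_bundle hB hE hd hδ
  let β : AlgebraicCycle P ℤ := ∑ i : Fin (n + 1 + 1),
    (-1 : ℤ) ^ (i : ℕ) • capPow hd hB.inv (fun _ => hs) (i : ℕ) (pullCycle π hd hc (γ (Fin.rev i)))
  have hr : Cyc.RatEquivZero δP (k - 1) β := h.2.2 (fun _ => s) (fun _ => hs) β fun y => by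
    simp only [β]
    rw [Cyc26PB.cycle_sum_apply]
    refine Finset.sum_congr rfl fun i _ => ?_
    rw [c1PowFun_eq, show ((n + 1 : ℕ) : ℤ) - 1 = (n : ℤ) by push_cast; ring, ← pullCycle_coe π hd hc,
      ← capPow_coe hd hB.inv (fun _ => hs), Function.locallyFinsuppWithin.coe_zsmul, Pi.smul_apply, smul_eq_mul]
  rw [← mk_eq_zero_of_ratEquivZero hr, map_sum]
  refine Finset.sum_congr rfl fun i _ => ?_
  rw [map_zsmul, mk_capPow, ← pullB_mk hB hE hdX hd hδ _ _ (pullCycle_coe π hd hc (γ (Fin.rev i)))]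

include hB hE hdX hd hδ in
/-- Chern classes only depend on the class of the cycle. -/
theorem mk_chern_eq {k k' : ℤ} {α α' : AlgebraicCycle X ℤ} {γ γ' : Fin (n + 1 + 1) → AlgebraicCycle X ℤ}
    (hγ : Cyc.IsChernCap π δ δP O1 (n + 1) k α γ) (hγ' : Cyc.IsChernCap π δ δP O1 (n + 1) k' α' γ')
    (h : mk δ α = mk δ α') : (fun j => mk δ (γ j)) = fun j => mk δ (γ' j) :=
  chern_unique hB hE hdX hd hδ (by rw [hγ.1, hγ'.1, h]) (chernRel_of_isChernCap hB hE hdX hd hδ hγ)
    (chernRel_of_isChernCap hB hE hdX hd hδ hγ')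

end bundle

/-- An epimorphism of invertible modules is an isomorphism. -/
theorem isIso_of_epi_invertible {Z : Scheme.{u}} {L N : Z.Modules} (hL : PicF.IsInvertible L)
    (hN : PicF.IsInvertible N) (ψ : L ⟶ N) [Epi ψ] : IsIso ψ := by
  refine (M1.isIso_iff_stalk ψ).2 fun x => ?_
  show Function.Bijective (CurveCoh17.stalkLin ψ x)
  obtain ⟨g, hg⟩ := exists_gen hL x
  have hs : Function.Surjective (CurveCoh17.stalkLin ψ x) := (M1.epi_iff_stalk ψ).1 inferInstance x
  have hg' : Amp.Gen (CurveCoh17.stalkLin ψ x g) := gen_of_span hN (eq_top_iff.2 fun m _ => by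
    obtain ⟨l, rfl⟩ := hs m
    obtain ⟨r, rfl⟩ := hg.2 l
    exact Submodule.mem_span_singleton.2 ⟨r, (map_smul _ _ _).symm⟩)
  refine ⟨fun a b hab => ?_, hs⟩
  obtain ⟨r, rfl⟩ := hg.2 a
  obtain ⟨r', rfl⟩ := hg.2 b
  simp only [map_smul] at hab
  exact congrArg (· • g) (hg'.1 hab)

end Groth.Agent.Cyc26A
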