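import Groth.Agent.Lib.Cyc26.NormSum
import Groth.Agent.Lib.Cyc26.Frac
import Groth.Agent.Lib.Weight4.GeomSum
import Mathlib.RingTheory.Ideal.GoingUp
import Mathlib.RingTheory.KrullDimension.NonZeroDivisors

/-! # Pushforward of a principal divisor along a finite morphism -/

set_option autoImplicit false
universe u

set_option backward.isDefEq.respectTransparency.types false

open CategoryTheory AlgebraicGeometry

namespace Groth.Agent.Cyc26

variable {X Y : Scheme.{u}}

theorem specMap_germ {x ξ : X} (h : ξ ⤳ x) {U : X.Opens} (hx : x ∈ U) (c : Γ(X, U)) :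
    Cyc.specMap x ξ h (X.presheaf.germ U x hx c) = X.evaluation U ξ (h.mem_open U.isOpen hx) c :=
  congrArg (X.residue ξ) (TopCat.Presheaf.germ_stalkSpecializes_apply X.presheaf hx h c)

theorem evaluation_eq_zero_iff {U : X.Opens} (hU : IsAffineOpen U) {x : X} (hx : x ∈ U) (c : Γ(X, U)) :
    X.evaluation U x hx c = 0 ↔ c ∈ (hU.primeIdealOf ⟨x, hx⟩).asIdeal := by
  letI := TopCat.Presheaf.algebra_section_stalk X.presheaf (⟨x, hx⟩ : U)
  haveI := hU.isLocalization_stalk ⟨x, hx⟩
  refine (residue_eq_zero x _).trans ?_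
  exact IsLocalization.AtPrime.to_map_mem_maximal_iff (X.presheaf.stalk x) (hU.primeIdealOf ⟨x, hx⟩).asIdeal c

theorem exists_mk_div {x ξ : X} (h : ξ ⤳ x) {U : X.Opens} (hU : IsAffineOpen U) (hx : x ∈ U) (a : X.presheaf.stalk x) :
    ∃ c s : Γ(X, U), X.evaluation U x hx s ≠ 0 ∧
      Cyc.specMap x ξ h a * X.evaluation U ξ (h.mem_open U.isOpen hx) s =
        X.evaluation U ξ (h.mem_open U.isOpen hx) c := by
  letI := TopCat.Presheaf.algebra_section_stalk X.presheaf (⟨x, hx⟩ : U)
  haveI := hU.isLocalization_stalk ⟨x, hx⟩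
  obtain ⟨⟨c, s⟩, hcs⟩ := IsLocalization.surj (hU.primeIdealOf ⟨x, hx⟩).asIdeal.primeCompl a
  refine ⟨c, s, fun h0 => s.2 ((evaluation_eq_zero_iff hU hx _).1 h0), ?_⟩
  rw [← specMap_germ h hx, ← specMap_germ h hx, ← map_mul]
  exact congrArg _ hcs

open Classical in
/-- The pushforward of a principal divisor along a finite morphism is the divisor of the norm. -/
theorem norm_formula_finite [IsLocallyNoetherian X] [IsLocallyNoetherian Y] (p : X ⟶ Y) [IsFinite p] {ξ : X} {y : Y}
    (hy : p ξ ⤳ y) (hdim : ringKrullDim (Cyc.LocQuot y (p ξ) hy) ≤ 1) :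
    ∃ T : Finset X, (∀ x, x ∈ T ↔ p x = y ∧ ξ ⤳ x) ∧
      ∀ f : X.residueField ξ, f ≠ 0 → Cyc.ordAt y (p ξ) hy (Cyc.normGen p ξ f) =
        ∑ x ∈ T, (p.residueDegree x : ℤ) * (if h : ξ ⤳ x then Cyc.ordAt x ξ h f else 0) := by
  -- fields
  letI : Algebra (Y.residueField (p ξ)) (X.residueField ξ) := (p.residueFieldMap ξ).hom.toAlgebra
  haveI : FiniteDimensional (Y.residueField (p ξ)) (X.residueField ξ) := RingHom.finite_algebraMap.mp
    (Weight.finite_residueFieldMap p ξ (p.quasiFiniteAt ξ))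
  set K := Y.residueField (p ξ)
  set L := X.residueField ξ
  -- base ring
  set A := Cyc.LocQuot y (p ξ) hy
  haveI := noetherian_locQuot hy
  haveI := isFractionRing_locQuot hy
  letI : Algebra A L := ((algebraMap K L).comp (algebraMap A K)).toAlgebra
  haveI : IsScalarTower A K L := IsScalarTower.of_algebraMap_eq fun _ => rfl
  -- charts
  obtain ⟨V, hV, hyV, -⟩ := exists_isAffineOpen_mem_and_subset (U := (⊤ : Y.Opens)) (x := y) trivial
  have hηV : p ξ ∈ V := hy.mem_open V.isOpen hyV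
  have hU : IsAffineOpen (p ⁻¹ᵁ V) := hV.preimage p
  have hξU : ξ ∈ p ⁻¹ᵁ V := hηV
  let evY := (Y.evaluation V (p ξ) hηV).hom
  let evX := (X.evaluation (p ⁻¹ᵁ V) ξ hξU).hom
  have hnat : ∀ r, algebraMap K L (evY r) = evX (p.app V r) := fun r =>
    Scheme.evaluation_naturality_apply p ξ hηV r
  have hAgerm : ∀ r, algebraMap A L (Ideal.Quotient.mk _ (Y.presheaf.germ V y hyV r)) = evX (p.app V r) := fun r => by
    show algebraMap K L (Cyc.specMap y (p ξ) hy (Y.presheaf.germ V y hyV r)) = _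
    rw [specMap_germ hy hyV]
    exact hnat r
  have hunit : ∀ s, Y.evaluation V y hyV s ≠ 0 → evX (p.app V s) ≠ 0 := fun s hs h0 => by
    refine hs ((evaluation_eq_zero_iff hV hyV s).2 ?_)
    have h1 : evY s = 0 := (map_eq_zero (algebraMap K L)).1 ((hnat s).trans h0)
    exact (VarDim.primeIdealOf_le_iff hV ⟨p ξ, hηV⟩ ⟨y, hyV⟩).2 hy ((evaluation_eq_zero_iff hV hηV s).1 h1)
  have hA : ∀ a : A, ∃ r s, Y.evaluation V y hyV s ≠ 0 ∧ algebraMap A L a * evX (p.app V s) = evX (p.app V r) := by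
    intro a
    obtain ⟨a, rfl⟩ := Ideal.Quotient.mk_surjective a
    obtain ⟨r, s, hs, h⟩ := exists_mk_div hy hV hyV a
    refine ⟨r, s, hs, ?_⟩
    show algebraMap K L (Cyc.specMap y (p ξ) hy a) * _ = _
    rw [← hnat, ← hnat, ← map_mul]
    exact congrArg _ h
  -- the semi-local ring
  let B : Subalgebra A L :=
    { carrier := {l | ∃ c s, Y.evaluation V y hyV s ≠ 0 ∧ l * evX (p.app V s) = evX c}
      mul_mem' := by
        rintro l l' ⟨c, s, hs, h⟩ ⟨c', s', hs', h'⟩
        refine ⟨c * c', s * s', by rw [map_mul]; exact mul_ne_zero hs hs', ?_⟩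
        rw [map_mul, map_mul, map_mul, ← h, ← h']; ring
      add_mem' := by
        rintro l l' ⟨c, s, hs, h⟩ ⟨c', s', hs', h'⟩
        refine ⟨c * p.app V s' + c' * p.app V s, s * s', by rw [map_mul]; exact mul_ne_zero hs hs', ?_⟩
        rw [map_mul, map_mul, map_add, map_mul, map_mul, ← h, ← h']; ring
      algebraMap_mem' := fun a => by
        obtain ⟨r, s, hs, h⟩ := hA a
        exact ⟨p.app V r, s, hs, h⟩ }
  haveI : Module.Finite A B := by
    have hfin := IsFinite.finite_app p V hV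
    letI := (p.app V).hom.toAlgebra
    haveI : Module.Finite Γ(Y, V) Γ(X, p ⁻¹ᵁ V) := hfin
    obtain ⟨G, hG⟩ := (Module.Finite.fg_top (R := Γ(Y, V)) (M := Γ(X, p ⁻¹ᵁ V)))
    refine Module.Finite.iff_fg.2 (⟨G.image evX, le_antisymm (Submodule.span_le.2 ?_) ?_⟩ : B.toSubmodule.FG)
    · intro l hl
      obtain ⟨g, -, rfl⟩ := Finset.mem_image.1 hl
      exact ⟨g, 1, by simp, by simp⟩
    · rintro l ⟨c, s, hs, h⟩
      have hmem : ∀ c, evX c ∈ Submodule.span A (↑(G.image evX) : Set L) := by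
        intro c
        have hc : c ∈ Submodule.span Γ(Y, V) (G : Set Γ(X, p ⁻¹ᵁ V)) := hG ▸ Submodule.mem_top
        induction hc using Submodule.span_induction with
        | mem x hx => exact Submodule.subset_span (Finset.mem_image_of_mem _ hx)
        | zero => simp
        | add a b _ _ ha hb => rw [map_add]; exact Submodule.add_mem _ ha hb
        | smul r a _ ha =>
          show evX (p.app V r * a) ∈ _
          rw [map_mul, ← hAgerm]
          rw [← Algebra.smul_def]
          exact Submodule.smul_mem _ _ ha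
      have hsu : IsUnit (Ideal.Quotient.mk (RingHom.ker (Cyc.specMap y (p ξ) hy)) (Y.presheaf.germ V y hyV s)) := by
        refine IsUnit.map _ ?_
        by_contra hn
        exact hs ((residue_eq_zero y _).2 hn)
      obtain ⟨v, hv⟩ := hsu.exists_left_inv
      have hl' : l = algebraMap A L v * evX c := by
        rw [← h, ← hAgerm, ← mul_assoc, mul_comm (algebraMap A L v) l, mul_assoc, ← map_mul, hv, map_one, mul_one]
      rw [hl', ← Algebra.smul_def]
      exact Submodule.smul_mem _ _ (hmem c)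
  have hfr : IsFractionRing B L := by
    refine IsFractionRing.of_field B L fun z => ?_
    obtain ⟨a, b, rfl⟩ := VarDim.exists_evaluation_eq_div hU ξ hξU z
    exact ⟨⟨evX a, a, 1, by simp, by simp⟩, ⟨evX b, b, 1, by simp, by simp⟩, rfl⟩
  have hinj : Function.Injective (algebraMap A B) := fun a a' h =>
    (IsFractionRing.injective A K) ((algebraMap K L).injective (congrArg Subtype.val h))
  -- points over y give maximal ideals
  have hmemU : ∀ x, p x = y → x ∈ p ⁻¹ᵁ V := fun x hx => show p x ∈ V from hx.symm ▸ hyV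
  have hsx : ∀ (x : X) (hx : p x = y) s, Y.evaluation V y hyV s ≠ 0 →
      X.evaluation (p ⁻¹ᵁ V) x (hmemU x hx) (p.app V s) ≠ 0 := by
    intro x hx s hs
    subst hx
    rw [← Scheme.evaluation_naturality_apply p x hyV]
    exact (map_ne_zero _).2 hs
  have hrep : ∀ (x : X) (hx : p x = y) (h : ξ ⤳ x) (b : B), ∃ e : Cyc.LocQuot x ξ h, algebraMap _ L e = (b : L) := by
    rintro x hx h ⟨l, c, s, hs, hl⟩
    have hu : IsUnit (X.presheaf.germ (p ⁻¹ᵁ V) x (hmemU x hx) (p.app V s)) := by
      by_contra hn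
      exact hsx x hx s hs ((residue_eq_zero x _).2 hn)
    obtain ⟨v, hv⟩ := hu.exists_left_inv
    refine ⟨Ideal.Quotient.mk _ (v * X.presheaf.germ (p ⁻¹ᵁ V) x (hmemU x hx) c), ?_⟩
    show Cyc.specMap x ξ h (_ * _) = l
    rw [map_mul, specMap_germ h, show X.evaluation (p ⁻¹ᵁ V) ξ (h.mem_open (p ⁻¹ᵁ V).isOpen (hmemU x hx)) c = evX c from rfl,
      ← hl, mul_comm l, ← mul_assoc,
      show evX (p.app V s) = Cyc.specMap x ξ h (X.presheaf.germ (p ⁻¹ᵁ V) x (hmemU x hx) (p.app V s)) from
        (specMap_germ h (hmemU x hx) _).symm, ← map_mul, hv, map_one, one_mul]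
  have hfrX : ∀ (x : X) (h : ξ ⤳ x), IsFractionRing (Cyc.LocQuot x ξ h) L := fun x h => isFractionRing_locQuot h
  choose φ hφ using hrep
  let Φ : ∀ (x : X) (hx : p x = y) (h : ξ ⤳ x), B →+* Cyc.LocQuot x ξ h := fun x hx h =>
    haveI := hfrX x h
    { toFun := φ x hx h
      map_one' := IsFractionRing.injective _ L (by rw [hφ, map_one]; rfl)
      map_zero' := IsFractionRing.injective _ L (by rw [hφ, map_zero]; rfl)
      map_add' := fun a b => IsFractionRing.injective _ L (by rw [hφ, map_add, hφ, hφ]; rfl)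
      map_mul' := fun a b => IsFractionRing.injective _ L (by rw [hφ, map_mul, hφ, hφ]; rfl) }
  have hΦ : ∀ x hx h b, algebraMap _ L (Φ x hx h b) = (b : L) := hφ
  let evB : Γ(X, p ⁻¹ᵁ V) →+* B :=
    RingHom.codRestrict evX B fun c => ⟨c, 1, by simp, by simp⟩
  have hΦev : ∀ (x : X) (hx : p x = y) (h : ξ ⤳ x) c,
      Φ x hx h (evB c) = Ideal.Quotient.mk _ (X.presheaf.germ (p ⁻¹ᵁ V) x (hmemU x hx) c) := fun x hx h c => by
    haveI := hfrX x h
    apply IsFractionRing.injective (Cyc.LocQuot x ξ h) L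
    rw [hΦ]
    exact (specMap_germ h (hmemU x hx) c).symm
  let P : ∀ (x : X), p x = y → ξ ⤳ x → PrimeSpectrum B := fun x hx h =>
    ⟨(IsLocalRing.maximalIdeal (Cyc.LocQuot x ξ h)).comap (Φ x hx h), Ideal.IsPrime.comap _⟩
  have hmkunit : ∀ (x : X) (h : ξ ⤳ x) (a : X.presheaf.stalk x),
      Ideal.Quotient.mk (RingHom.ker (Cyc.specMap x ξ h)) a ∈ IsLocalRing.maximalIdeal (Cyc.LocQuot x ξ h) ↔
        X.residue x a = 0 := fun x h a => by
    haveI : IsLocalHom (Ideal.Quotient.mk (RingHom.ker (Cyc.specMap x ξ h))) :=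
      IsLocalHom.of_surjective _ Ideal.Quotient.mk_surjective
    rw [residue_eq_zero, IsLocalRing.mem_maximalIdeal, IsLocalRing.mem_maximalIdeal, mem_nonunits_iff, mem_nonunits_iff]
    exact not_congr ⟨fun hu => isUnit_of_map_unit _ _ hu, fun hu => hu.map _⟩
  haveI hloc : ∀ (x : X) (hx : p x = y) (h : ξ ⤳ x),
      letI := (Φ x hx h).toAlgebra; IsLocalization.AtPrime (Cyc.LocQuot x ξ h) (P x hx h).asIdeal := by
    intro x hx h
    letI := (Φ x hx h).toAlgebra
    haveI := hfrX x h
    refine ⟨?_, ?_, ?_⟩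
    · rintro ⟨b, hb⟩
      exact IsLocalRing.notMem_maximalIdeal.1 hb
    · intro e
      obtain ⟨e, rfl⟩ := Ideal.Quotient.mk_surjective e
      obtain ⟨c, s, hs, hcs⟩ := exists_mk_div h hU (hmemU x hx) e
      refine ⟨⟨evB c, ⟨evB s, fun hs' => hs ?_⟩⟩, ?_⟩
      · have h1 : Φ x hx h (evB s) ∈ IsLocalRing.maximalIdeal _ := hs'
        rw [hΦev, hmkunit] at h1
        exact h1
      · apply IsFractionRing.injective (Cyc.LocQuot x ξ h) L
        show algebraMap _ L (Ideal.Quotient.mk _ e * Φ x hx h (evB s)) = algebraMap _ L (Φ x hx h (evB c))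
        rw [map_mul, hΦ, hΦ]
        exact hcs
    · intro a b hab
      refine ⟨1, ?_⟩
      have h1 := congrArg (algebraMap (Cyc.LocQuot x ξ h) L) (show Φ x hx h a = Φ x hx h b from hab)
      rw [hΦ, hΦ] at h1
      rw [Subtype.ext h1]
  have hCmem : ∀ (x : X) (hx : p x = y) (h : ξ ⤳ x) c,
      evB c ∈ (P x hx h).asIdeal ↔ X.evaluation (p ⁻¹ᵁ V) x (hmemU x hx) c = 0 := fun x hx h c => by
    show Φ x hx h (evB c) ∈ IsLocalRing.maximalIdeal _ ↔ _
    rw [hΦev, hmkunit]
    rfl
  have hPinj : ∀ x hx h x' hx' h', P x hx h = P x' hx' h' → x = x' := by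
    intro x hx h x' hx' h' he
    have h1 : hU.primeIdealOf ⟨x, hmemU x hx⟩ = hU.primeIdealOf ⟨x', hmemU x' hx'⟩ := by
      ext c
      rw [← evaluation_eq_zero_iff, ← evaluation_eq_zero_iff, ← hCmem x hx h, ← hCmem x' hx' h', he]
    exact (hU.fromSpec_primeIdealOf ⟨x, hmemU x hx⟩).symm.trans ((congrArg hU.fromSpec h1).trans (hU.fromSpec_primeIdealOf ⟨x', hmemU x' hx'⟩))
  haveI : Algebra.IsIntegral A B := Algebra.IsIntegral.of_finite A B
  haveI : IsNoetherianRing B := IsNoetherianRing.of_finite A B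
  have hAmax : ∀ (x : X) hx h, (P x hx h).asIdeal.comap (algebraMap A B) = IsLocalRing.maximalIdeal A := by
    intro x hx h
    refine le_antisymm (IsLocalRing.le_maximalIdeal ?_) fun a ha => ?_
    · exact (Ideal.IsPrime.comap _ : ((P x hx h).asIdeal.comap (algebraMap A B)).IsPrime).ne_top
    · obtain ⟨a, rfl⟩ := Ideal.Quotient.mk_surjective a
      obtain ⟨r, s, hs, hrs⟩ := exists_mk_div hy hV hyV a
      have hr : Y.evaluation V y hyV r = 0 := by
        have hu : ¬ IsUnit a := fun hu => ha (hu.map _)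
        have h1 : Cyc.specMap y (p ξ) hy (a * Y.presheaf.germ V y hyV s) =
            Cyc.specMap y (p ξ) hy (Y.presheaf.germ V y hyV r) := by
          rw [map_mul, specMap_germ hy hyV, specMap_germ hy hyV]; exact hrs
        have h2 : Y.residue y a = 0 := (residue_eq_zero y a).2 hu
        have h3 : Ideal.Quotient.mk (RingHom.ker (Cyc.specMap y (p ξ) hy)) (Y.presheaf.germ V y hyV r) ∈
            IsLocalRing.maximalIdeal A := by
          rw [← Ideal.Quotient.eq.2 ((RingHom.sub_mem_ker_iff _).2 h1), map_mul]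
          exact Ideal.mul_mem_right _ _ ha
        by_contra hr
        have hru : IsUnit (Y.presheaf.germ V y hyV r) := by
          by_contra hn
          exact hr ((residue_eq_zero y _).2 hn)
        exact h3 (hru.map _)
      have hmul : algebraMap A B (Ideal.Quotient.mk _ a) * evB (p.app V s) = evB (p.app V r) := by
        apply Subtype.ext
        show algebraMap K L (Cyc.specMap y (p ξ) hy a) * evX (p.app V s) = evX (p.app V r)
        rw [← hnat, ← hnat, ← map_mul]
        exact congrArg _ hrs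
      have hr' : evB (p.app V r) ∈ (P x hx h).asIdeal := (hCmem x hx h _).2 (by
        subst hx
        rw [← Scheme.evaluation_naturality_apply p x hyV, hr, map_zero])
      rw [← hmul] at hr'
      refine ((P x hx h).2.mem_or_mem hr').resolve_right fun hs' => hsx x hx s hs ((hCmem x hx h _).1 hs')
  have hPmax : ∀ x hx h, (P x hx h).asIdeal.IsMaximal := fun x hx h =>
    Ideal.isMaximal_of_isIntegral_of_isMaximal_comap' (algebraMap A B) Algebra.IsIntegral.isIntegral _
      (by rw [hAmax]; exact IsLocalRing.maximalIdeal.isMaximal A)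
  have hsurj : ∀ m : PrimeSpectrum B, m.asIdeal.IsMaximal → ∃ x hx h, P x hx h = m := by
    intro m hm
    have hc : m.asIdeal.comap (algebraMap A B) = IsLocalRing.maximalIdeal A :=
      IsLocalRing.eq_maximalIdeal (Ideal.isMaximal_comap_of_isIntegral_of_isMaximal (R := A) m.asIdeal)
    have hsm : ∀ s, Y.evaluation V y hyV s ≠ 0 → evB (p.app V s) ∉ m.asIdeal := by
      intro s hs hmem
      have h1 : algebraMap A B (Ideal.Quotient.mk _ (Y.presheaf.germ V y hyV s)) ∈ m.asIdeal := by
        rw [show algebraMap A B (Ideal.Quotient.mk _ (Y.presheaf.germ V y hyV s)) = evB (p.app V s) from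
          Subtype.ext (hAgerm s)]
        exact hmem
      rw [← Ideal.mem_comap, hc] at h1
      refine h1 (IsUnit.map _ ?_)
      by_contra hn
      exact hs ((residue_eq_zero y _).2 hn)
    let q : PrimeSpectrum Γ(X, p ⁻¹ᵁ V) := ⟨m.asIdeal.comap evB, Ideal.IsPrime.comap _⟩
    have hxU : hU.fromSpec q ∈ p ⁻¹ᵁ V := VarDim.fromSpec_mem hU q
    have hq : hU.primeIdealOf ⟨_, hxU⟩ = q := VarDim.primeIdealOf_fromSpec hU q
    have hsp : ξ ⤳ hU.fromSpec q := (VarDim.primeIdealOf_le_iff hU ⟨ξ, hξU⟩ ⟨_, hxU⟩).1 (by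
      intro c hcξ
      rw [hq]
      have h0 : evX c = 0 := (evaluation_eq_zero_iff hU hξU c).2 hcξ
      show evB c ∈ m.asIdeal
      rw [show evB c = 0 from Subtype.ext h0]
      exact zero_mem _)
    have hpx : p (hU.fromSpec q) = y := by
      have hxV : p (hU.fromSpec q) ∈ V := hxU
      have hiff : ∀ s, Y.evaluation V (p (hU.fromSpec q)) hxV s = 0 ↔ Y.evaluation V y hyV s = 0 := by
        intro s
        have h1 : Y.evaluation V (p (hU.fromSpec q)) hxV s = 0 ↔ evB (p.app V s) ∈ m.asIdeal := by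
          rw [← map_eq_zero (p.residueFieldMap (hU.fromSpec q)).hom,
            show (p.residueFieldMap (hU.fromSpec q)).hom (Y.evaluation V (p (hU.fromSpec q)) hxV s) =
              X.evaluation (p ⁻¹ᵁ V) (hU.fromSpec q) hxU (p.app V s) from
              Scheme.evaluation_naturality_apply p _ hxV s, evaluation_eq_zero_iff hU hxU, hq]
          rfl
        rw [h1]
        refine ⟨fun h => by_contra fun hs => hsm s hs h, fun hs => ?_⟩
        rw [show evB (p.app V s) = algebraMap A B (Ideal.Quotient.mk _ (Y.presheaf.germ V y hyV s)) from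
          Subtype.ext (hAgerm s).symm, ← Ideal.mem_comap, hc]
        intro hu
        haveI : IsLocalHom (Ideal.Quotient.mk (RingHom.ker (Cyc.specMap y (p ξ) hy))) :=
          IsLocalHom.of_surjective _ Ideal.Quotient.mk_surjective
        exact (residue_eq_zero y _).1 hs (isUnit_of_map_unit _ _ hu)
      have h2 : hV.primeIdealOf ⟨_, hxV⟩ = hV.primeIdealOf ⟨y, hyV⟩ := by
        ext s
        rw [← evaluation_eq_zero_iff, ← evaluation_eq_zero_iff, hiff]
      exact (hV.fromSpec_primeIdealOf ⟨_, hxV⟩).symm.trans ((congrArg hV.fromSpec h2).trans (hV.fromSpec_primeIdealOf ⟨y, hyV⟩))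
    refine ⟨_, hpx, hsp, ?_⟩
    refine PrimeSpectrum.ext ((hPmax _ hpx hsp).eq_of_le hm.ne_top fun b hb => ?_)
    obtain ⟨l, c, s, hs, hl⟩ := b
    have hmul : (⟨l, c, s, hs, hl⟩ : B) * evB (p.app V s) = evB c := Subtype.ext hl
    have h1 : evB c ∈ (P _ hpx hsp).asIdeal := hmul ▸ Ideal.mul_mem_right _ _ hb
    rw [hCmem, evaluation_eq_zero_iff hU hxU, hq] at h1
    have h2 : evB c ∈ m.asIdeal := h1
    rw [← hmul] at h2
    exact (m.2.mem_or_mem h2).resolve_right (hsm s hs)
  have hdeg : ∀ x hx h, p.residueDegree x = (Module.length A (B ⧸ (P x hx h).asIdeal)).toNat := by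
    intro x hx h
    subst hx
    let τ : Cyc.LocQuot x ξ h →+* X.residueField x := Ideal.Quotient.lift _ (X.residue x).hom fun a ha => by
      refine (residue_eq_zero x a).2 ?_
      exact IsLocalRing.le_maximalIdeal (RingHom.ker_isPrime _).ne_top ha
    let θ : B →+* X.residueField x := τ.comp (Φ x rfl h)
    have hτ : ∀ e, τ e = 0 ↔ e ∈ IsLocalRing.maximalIdeal (Cyc.LocQuot x ξ h) := fun e => by
      obtain ⟨e, rfl⟩ := Ideal.Quotient.mk_surjective e
      exact (hmkunit x h e).symm
    have hθker : (P x rfl h).asIdeal = RingHom.ker θ := Ideal.ext fun b => (hτ _).symm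
    have hθev : ∀ c, θ (evB c) = X.evaluation (p ⁻¹ᵁ V) x (hmemU x rfl) c := fun c => by
      show τ (Φ x rfl h (evB c)) = _
      rw [hΦev]
      rfl
    have hθsurj : Function.Surjective θ := fun z => by
      obtain ⟨a, b, rfl⟩ := VarDim.exists_evaluation_eq_div hU x (hmemU x rfl) z
      by_cases hb : X.evaluation (p ⁻¹ᵁ V) x (hmemU x rfl) b = 0
      · exact ⟨0, by rw [map_zero, hb, div_zero]⟩
      obtain ⟨v, i, hi, hvi⟩ := (hPmax x rfl h).exists_inv (fun hm => hb ((hCmem x rfl h b).1 hm))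
      refine ⟨evB a * v, (eq_div_iff hb).2 ?_⟩
      have h1 := congrArg θ hvi
      rw [hθker, RingHom.mem_ker] at hi
      rw [map_add, hi, add_zero, map_one, map_mul, hθev] at h1
      rw [map_mul, hθev, mul_assoc, h1, mul_one]
    let σ : A →+* Y.residueField (p x) := Ideal.Quotient.lift _ (Y.residue (p x)).hom fun a ha => by
      refine (residue_eq_zero (p x) a).2 ?_
      exact IsLocalRing.le_maximalIdeal (RingHom.ker_isPrime _).ne_top ha
    letI : Algebra (Y.residueField (p x)) (X.residueField x) := (p.residueFieldMap x).hom.toAlgebra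
    haveI : FiniteDimensional (Y.residueField (p x)) (X.residueField x) := RingHom.finite_algebraMap.mp
      (Weight.finite_residueFieldMap p x (p.quasiFiniteAt x))
    have hcompat : ∀ a, θ (algebraMap A B a) = p.residueFieldMap x (σ a) := fun a => by
      obtain ⟨a, rfl⟩ := Ideal.Quotient.mk_surjective a
      haveI := hfrX x h
      have h1 : Φ x rfl h (algebraMap A B (Ideal.Quotient.mk _ a)) = Ideal.Quotient.mk _ (p.stalkMap x a) := by
        apply IsFractionRing.injective (Cyc.LocQuot x ξ h) L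
        rw [hΦ]
        show p.residueFieldMap ξ (Y.residue _ (Y.presheaf.stalkSpecializes _ a)) =
          X.residue ξ (X.presheaf.stalkSpecializes h (p.stalkMap x a))
        rw [← Scheme.Hom.stalkSpecializes_stalkMap_apply p ξ x h a]
        exact ConcreteCategory.congr_hom (Scheme.residue_residueFieldMap p ξ) _
      show τ (Φ x rfl h (algebraMap A B _)) = _
      rw [h1]
      exact (ConcreteCategory.congr_hom (Scheme.residue_residueFieldMap p x) a).symm
    let e : (B ⧸ (P x rfl h).asIdeal) ≃+* X.residueField x :=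
      (Ideal.quotEquivOfEq hθker).trans (RingHom.quotientKerEquivOfSurjective hθsurj)
    have hlen : Module.length A (B ⧸ (P x rfl h).asIdeal) =
        Module.length (Y.residueField (p x)) (X.residueField x) := by
      refine length_eq_of_semilinear σ (fun z => ?_) e.toAddEquiv fun a z => ?_
      · obtain ⟨z, rfl⟩ := Scheme.residue_surjective Y (p x) z
        exact ⟨Ideal.Quotient.mk _ z, rfl⟩
      · obtain ⟨z, rfl⟩ := Ideal.Quotient.mk_surjective z
        show θ (a • z) = p.residueFieldMap x (σ a) * θ z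
        rw [Algebra.smul_def, map_mul, hcompat]
    rw [hlen, Module.length_eq_finrank, ENat.toNat_coe]
    rfl
  -- finitely many
  have hfib : {x | p x = y ∧ ξ ⤳ x}.Finite :=
    (Scheme.Hom.finite_preimage_singleton p y).subset fun x hx => hx.1
  refine ⟨hfib.toFinset, fun x => hfib.mem_toFinset, fun f hf => ?_⟩
  let g : {x // x ∈ hfib.toFinset} → PrimeSpectrum B := fun x =>
    P x.1 (hfib.mem_toFinset.1 x.2).1 (hfib.mem_toFinset.1 x.2).2
  let S := hfib.toFinset.attach.image g
  have hS : ∀ m, m ∈ S ↔ m.asIdeal.IsMaximal := fun m => by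
    refine ⟨fun hm => ?_, fun hm => ?_⟩
    · obtain ⟨x, -, rfl⟩ := Finset.mem_image.1 hm
      exact hPmax _ _ _
    · obtain ⟨x, hx, h, rfl⟩ := hsurj m hm
      exact Finset.mem_image.2 ⟨⟨x, hfib.mem_toFinset.2 ⟨hx, h⟩⟩, Finset.mem_attach _ _, rfl⟩
  have hginj : Set.InjOn g hfib.toFinset.attach := fun a _ b _ e => Subtype.ext (hPinj _ _ _ _ _ _ e)
  have hBdim : ringKrullDim B ≤ 1 := by
    haveI : Ring.KrullDimLE 1 A := Ring.krullDimLE_iff.2 hdim
    refine Ring.krullDimLE_iff.1 (Ring.krullDimLE_one_iff_of_noZeroDivisors.2 fun I hI0 hI => ?_)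
    refine Ideal.isMaximal_of_isIntegral_of_isMaximal_comap' (algebraMap A B) Algebra.IsIntegral.isIntegral _
      (Ring.krullDimLE_one_iff_of_noZeroDivisors.1 ‹_› _ ?_ (Ideal.IsPrime.comap _))
    exact fun h0 => hI0 (Ideal.eq_bot_of_comap_eq_bot h0)
  let ord : PrimeSpectrum B → L → ℤ := fun m l =>
    if h : ∃ x ∈ hfib.toFinset.attach, g x = m then
      Cyc.ordAt h.choose.1 ξ (hfib.mem_toFinset.1 h.choose.2).2 l else 0
  have hordg : ∀ x ∈ hfib.toFinset.attach, ∀ l, ord (g x) l = Cyc.ordAt x.1 ξ (hfib.mem_toFinset.1 x.2).2 l := by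
    intro x hx l
    have h : ∃ x' ∈ hfib.toFinset.attach, g x' = g x := ⟨x, hx, rfl⟩
    simp only [ord, dif_pos h]
    have e := hginj h.choose_spec.1 hx h.choose_spec.2
    congr 2 <;> exact congrArg Subtype.val e
  have key := ordFrac_norm_eq_sum A hdim B hinj K L S hS ord ?_ ?_ f hf
  · refine key.trans ?_
    rw [Finset.sum_image hginj, ← Finset.sum_attach hfib.toFinset (fun x =>
      (p.residueDegree x : ℤ) * (if h : ξ ⤳ x then Cyc.ordAt x ξ h f else 0))]
    refine Finset.sum_congr rfl fun x hx => ?_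
    rw [hordg x hx, dif_pos (hfib.mem_toFinset.1 x.2).2]
    congr 1
    rw [Nat.cast_inj]
    obtain ⟨hxy, hxξ⟩ := hfib.mem_toFinset.1 x.2
    exact (hdeg x.1 hxy hxξ).symm
  · intro m hm a b ha hb
    obtain ⟨x, hx, rfl⟩ := Finset.mem_image.1 hm
    rw [hordg x hx, hordg x hx, hordg x hx]
    exact ordFrac_mul_all ha hb
  · intro m hm b hb
    obtain ⟨x, hx, rfl⟩ := Finset.mem_image.1 hm
    obtain ⟨hxy, hxξ⟩ := hfib.mem_toFinset.1 x.2
    rw [hordg x hx]
    letI := (Φ x.1 hxy hxξ).toAlgebra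
    haveI := hloc x.1 hxy hxξ
    haveI := hfrX x.1 hxξ
    haveI := noetherian_locQuot hxξ
    have hd : ringKrullDim (Cyc.LocQuot x.1 ξ hxξ) ≤ 1 := by
      refine le_trans ?_ hBdim
      exact Order.krullDim_le_of_strictMono (PrimeSpectrum.comap (algebraMap B (Cyc.LocQuot x.1 ξ hxξ)))
        ((Monotone.strictMono_of_injective (f := PrimeSpectrum.comap (algebraMap B (Cyc.LocQuot x.1 ξ hxξ)))
          (fun _ _ h => Ideal.comap_mono h) (PrimeSpectrum.localization_comap_injective _ (g x).asIdeal.primeCompl)))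
    have hb' : Φ x.1 hxy hxξ b ≠ 0 := fun h0 => hb (by
      apply Subtype.ext
      rw [← hΦ x.1 hxy hxξ b, h0, map_zero]; rfl)
    have h1 := (Lattice26.ordFrac_algebraMap (A := Cyc.LocQuot x.1 ξ hxξ) (K := L) hd hb').1
    rw [hΦ] at h1
    refine h1.trans ?_
    rw [locLen_quotient (g x) (Cyc.LocQuot x.1 ξ hxξ) (Ideal.span {b}), Ideal.map_span, Set.image_singleton]
    rfl

end Groth.Agent.Cyc26
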