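import Groth.Agent.Lib.Cyc26.MVExact
import Groth.Agent.Lib.Cyc26.RatPull
import Groth.Agent.Lib.GenLen5.Geom

/-! # Cycles on a morphism with integral fibres whose small cycles are principal -/

set_option autoImplicit false
universe u

set_option backward.isDefEq.respectTransparency.types false

open CategoryTheory AlgebraicGeometry TopologicalSpace
open scoped Classical

namespace Groth.Agent.Cyc26

variable {X Y : Scheme.{u}}

/-- The class of a point is a sum of principal divisors. -/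
def PtRat (δ : X → ℤ) (η : X) : Prop :=
  RatFun δ (δ η) Set.univ fun x => if x = η then 1 else 0

namespace RatFun

variable {δ : X → ℤ} {k : ℤ} {S : Set X}

theorem finsumSets {J : Type u} (Z : J → Set X) (hZc : ∀ j, IsClosed (Z j))
    (hZ : ∀ x : X, ∃ U : Set X, IsOpen U ∧ x ∈ U ∧ {j | (Z j ∩ U).Nonempty}.Finite)
    (G : J → X → ℤ) (h : ∀ j, RatFun δ k (S ∩ Z j) (G j)) : RatFun δ k S fun x => ∑ᶠ j, G j x := by
  choose ι ξ f h1 h2 h3 h4 h5 using h
  have hlf : ∀ x : X, ∃ U : Set X, IsOpen U ∧ x ∈ U ∧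
      {i : Σ j, ι j | (closure {ξ i.1 i.2} ∩ U).Nonempty}.Finite := fun x => by
    obtain ⟨U, hU, hxU, hJ⟩ := hZ x
    choose V hV hxV hfin using fun j => h4 j x
    refine ⟨U ∩ ⋂ j ∈ hJ.toFinset, V j, hU.inter (isOpen_biInter_finset fun j _ => hV j),
      ⟨hxU, Set.mem_iInter₂.2 fun j _ => hxV j⟩,
      (hJ.toFinset.sigma fun j => (hfin j).toFinset).finite_toSet.subset ?_⟩
    rintro ⟨j, i⟩ ⟨y, hy, hyU, hyV⟩
    have hj : j ∈ hJ.toFinset := hJ.mem_toFinset.2
      ⟨y, closure_minimal (Set.singleton_subset_iff.2 (h3 j i).2) (hZc j) hy, hyU⟩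
    exact Finset.mem_sigma.2 ⟨hj, (hfin j).mem_toFinset.2 ⟨y, hy, Set.mem_iInter₂.1 hyV j hj⟩⟩
  refine ⟨Σ j, ι j, fun i => ξ i.1 i.2, fun i => f i.1 i.2, fun i => h1 i.1 i.2, fun i => h2 i.1 i.2,
    fun i => (h3 i.1 i.2).1, hlf, fun x => ?_⟩
  obtain ⟨U, -, hxU, hJ⟩ := hZ x
  have hJ' : ∀ j i, Cyc.divFun δ (ξ j i) (f j i) x ≠ 0 → j ∈ hJ.toFinset := fun j i hne => hJ.mem_toFinset.2
    ⟨x, (specializes_of_divFun_ne_zero hne).1.mem_closed (hZc j) (h3 j i).2, hxU⟩
  have hsupp : Function.support (fun j => G j x) ⊆ hJ.toFinset := fun j hj => by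
    have hne : G j x ≠ 0 := hj
    rw [h5] at hne
    obtain ⟨i, hi⟩ : ∃ i, Cyc.divFun δ (ξ j i) (f j i) x ≠ 0 := by
      by_contra hc
      push Not at hc
      exact hne (finsum_eq_zero_of_forall_eq_zero hc)
    exact hJ' j i hi
  choose T hT using fun j => (⟨(finite_support_family (δ := δ) (f j) (h4 j) x).toFinset, by simp⟩ :
    ∃ t : Finset (ι j), Function.support (fun i => Cyc.divFun δ (ξ j i) (f j i) x) ⊆ t)
  show ∑ᶠ j, G j x = _
  rw [finsum_eq_sum_of_support_subset _ hsupp,
    finsum_eq_sum_of_support_subset (s := hJ.toFinset.sigma T) _ (fun p hp =>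
      Finset.mem_sigma.2 ⟨hJ' p.1 p.2 hp, hT p.1 hp⟩), Finset.sum_sigma]
  exact Finset.sum_congr rfl fun j _ => by rw [h5, finsum_eq_sum_of_support_subset _ (hT j)]

/-- Shifting the dimension function. -/
theorem shift {δ' : X → ℤ} {c : ℤ} (hc : ∀ x, δ' x = δ x + c) {G : X → ℤ} (h : RatFun δ k S G) :
    RatFun δ' (k + c) S G := by
  obtain ⟨ι, ξ, f, h1, h2, h3, h4, h5⟩ := h
  refine ⟨ι, ξ, f, fun i => by rw [hc, h1]; ring, h2, h3, h4, fun x => (h5 x).trans (finsum_congr fun i => ?_)⟩
  simp only [Cyc.divFun, hc, add_right_comm _ c 1, add_left_inj]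

end RatFun

section Fibre

variable (f : X ⟶ Y)

/-- A family on a quasi-compact fibre gives a family on the total space. -/
theorem exists_ratFun_of_fibre [QuasiCompact f] (y : Y) {δ : X → ℤ} {k : ℤ} {H : ↥(f.fiber y) → ℤ}
    (h : RatFun (fun z => δ (f.fiberι y z)) k Set.univ H) :
    ∃ G : X → ℤ, RatFun δ k (f ⁻¹' closure {y}) G ∧ ∀ z, G (f.fiberι y z) = H z := by
  obtain ⟨ι, ξ, g, h1, h2, -, h4, h5⟩ := h
  haveI : Finite ι := by
    choose U hU hxU hfin using h4
    obtain ⟨t, ht⟩ := isCompact_univ.elim_finite_subcover U hU fun x _ => Set.mem_iUnion.2 ⟨x, hxU x⟩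
    refine Set.finite_univ_iff.1 ((t.finite_toSet.biUnion fun x _ => hfin x).subset fun i _ => ?_)
    obtain ⟨x, hx, hi⟩ := Set.mem_iUnion₂.1 (ht (Set.mem_univ (ξ i)))
    exact Set.mem_biUnion hx ⟨ξ i, subset_closure rfl, hi⟩
  choose g' hg' using fun i => (residueFieldMap_bijective (f.fiberι y) (ξ i)).2 (g i)
  refine ⟨fun x => ∑ᶠ i, Cyc.divFun δ (f.fiberι y (ξ i)) (g' i) x,
    ⟨ι, fun i => f.fiberι y (ξ i), g', h1, fun i h0 => h2 i (by rw [← hg' i, h0, map_zero]),
      fun i => subset_closure (GenLen5.apply_fiberι f y (ξ i)),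
      fun _ => ⟨Set.univ, isOpen_univ, trivial, Set.toFinite _⟩, fun x => rfl⟩, fun z => ?_⟩
  rw [h5]
  refine finsum_congr fun i => ?_
  rw [← hg' i, divFun_preimmersion (f.fiberι y) δ (ξ i) z (g' i)]

variable [∀ y, IsIntegral (f.fiber y)]

/-- The generic point of a fibre. -/
noncomputable def fgen (y : Y) : X := f.fiberι y (genericPoint (f.fiber y))

theorem apply_fgen (y : Y) : f (fgen f y) = y := GenLen5.apply_fiberι f y _

theorem fgen_specializes {y : Y} {x : X} (h : f x = y) : fgen f y ⤳ x := by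
  obtain ⟨z, rfl⟩ := (f.range_fiberι y).symm.le h
  exact (genericPoint_specializes z).map (f.fiberι y).continuous

theorem eq_fgen_of_maximal {x : X} (h : ∀ w, f w = f x → w ⤳ x → w = x) : x = fgen f (f x) :=
  (h _ (apply_fgen f _) (fgen_specializes f rfl)).symm

theorem length_fgen (y : Y) :
    (Module.length (X.presheaf.stalk (fgen f y)) (X.presheaf.stalk (fgen f y) ⧸
      Ideal.map (f.stalkMap (fgen f y)).hom (IsLocalRing.maximalIdeal (Y.presheaf.stalk (f (fgen f y)))))) = 1 := by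
  let φ := ((f.fiberι y).stalkMap (genericPoint (f.fiber y))).hom
  have hk : RingHom.ker φ = GenLen5.fibIdeal f (fgen f y) := by
    ext b
    exact GenLen5.stalkMap_fiberι_eq_zero_iff f y _ b
  letI : Field ((f.fiber y).presheaf.stalk (genericPoint (f.fiber y))) :=
    inferInstanceAs (Field (f.fiber y).functionField)
  have hmax : (GenLen5.fibIdeal f (fgen f y)).IsMaximal :=
    hk ▸ RingHom.ker_isMaximal_of_surjective φ ((f.fiberι y).stalkMap_surjective _)
  rw [Module.length_eq_one_iff, isSimpleModule_iff_isCoatom]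
  exact Ideal.isMaximal_def.1 hmax

variable {δX : X → ℤ} {δY : Y → ℤ} {r : ℕ}

/-- Cycles of dimension `k + r` are pull-backs of `k`-cycles up to rational equivalence. -/
theorem pullFun_surjective [IsLocallyNoetherian X] [IsLocallyNoetherian Y] [QuasiCompact f]
    (hdX : Cyc.IsDimFun X δX) (hdY : Cyc.IsDimFun Y δY)
    (hgen : ∀ y, δX (fgen f y) = δY y + r) (hle : ∀ x, δY (f x) ≤ δX x)
    (hfact : ∀ y (u : f.fiber y), u ≠ genericPoint (f.fiber y) → PtRat (fun z => δX (f.fiberι y z)) u)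
    (k : ℤ) (β : AlgebraicCycle X ℤ) (hβ : β ∈ Cyc.Zk X δX (k + r)) :
    ∃ (α : AlgebraicCycle Y ℤ) (β' : AlgebraicCycle X ℤ), α ∈ Cyc.Zk Y δY k ∧
      ⇑β' = Cyc.pullFun f δX δY r ⇑α ∧ RatFun δX (k + r) Set.univ fun x => β x - β' x := by
  have hlt : ∀ x, x ≠ fgen f (f x) → δX x < δY (f x) + r := fun x hx => by
    have := (hdX _ x (fgen_specializes f rfl) fun e => hx e.symm).1
    rwa [hgen] at this
  have hcpt : ∀ y : Y, ∃ U : Y.Opens, y ∈ U ∧ IsCompact (f ⁻¹' (U : Set Y)) := fun y => by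
    obtain ⟨U, hU, hyU, -⟩ := exists_isAffineOpen_mem_and_subset (U := (⊤ : Y.Opens)) (x := y) trivial
    exact ⟨U, hyU, f.isCompact_preimage hU.isCompact⟩
  suffices H : ∀ (m : ℕ) (β : AlgebraicCycle X ℤ), β ∈ Cyc.Zk X δX (k + r) →
      (∀ x, β x ≠ 0 → δY (f x) ≤ k + m) → ∃ (α : AlgebraicCycle Y ℤ) (β' : AlgebraicCycle X ℤ),
        α ∈ Cyc.Zk Y δY k ∧ ⇑β' = Cyc.pullFun f δX δY r ⇑α ∧ RatFun δX (k + r) Set.univ fun x => β x - β' x by
    refine H r β hβ fun x hx => ?_
    have := hle x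
    have : δX x = k + r := by_contra fun h => hx (hβ x h)
    omega
  intro m
  induction m with
  | zero =>
    intro β hβ hsupp
    have hmaxs : ∀ x, β x ≠ 0 → x = fgen f (f x) ∧ δY (f x) = k := fun x hx => by
      have h1 : δX x = k + r := by_contra fun h => hx (hβ x h)
      have h2 := hsupp x hx
      by_cases hxg : x = fgen f (f x)
      · refine ⟨hxg, ?_⟩
        rw [hxg, hgen] at h1
        omega
      · have := hlt x hxg
        omega
    let a : Y → ℤ := fun y => if δY y = k then β (fgen f y) else 0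
    have hlf : ∀ y : Y, ∃ V ∈ nhds y, (V ∩ Function.support a).Finite := fun y => by
      obtain ⟨U, hyU, hU⟩ := hcpt y
      refine ⟨U, U.isOpen.mem_nhds hyU,
        ((β.locallyFiniteSupport.finite_inter_support_of_isCompact hU).image f).subset fun w ⟨hw, hne⟩ => ?_⟩
      simp only [a, Function.mem_support, ne_eq, ite_eq_right_iff, Classical.not_imp] at hne
      exact ⟨fgen f w, ⟨by rwa [Set.mem_preimage, apply_fgen], hne.2⟩, apply_fgen f w⟩
    refine ⟨⟨a, Set.subset_univ _, fun y _ => hlf y⟩, β, fun y hy => ?_, funext fun x => ?_,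
      RatFun.zero fun x => sub_self _⟩
    · show a y = 0
      simp only [a, if_neg hy]
    · show β x = Cyc.pullFun f δX δY r a x
      simp only [Cyc.pullFun]
      by_cases hxg : x = fgen f (f x)
      · obtain ⟨y, rfl⟩ : ∃ y, x = fgen f y := ⟨_, hxg⟩
        rw [if_pos (by rw [apply_fgen, hgen]), length_fgen]
        simp only [a, apply_fgen]
        split_ifs with h
        · simp
        · rw [zero_mul]
          exact hβ _ (by rw [hgen]; omega)
      · rw [if_neg (hlt x hxg).ne]
        by_contra h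
        exact hxg (hmaxs x h).1
  | succ m ih =>
    intro β hβ hsupp
    let J : Type u := {x : X // β x ≠ 0 ∧ δY (f x) = k + (m + 1 : ℕ)}
    have hJ : ∀ j : J, ∃ G : X → ℤ, RatFun δX (k + r) (f ⁻¹' closure {f j.1}) G ∧
        ∀ x, f x = f j.1 → G x = if x = j.1 then 1 else 0 := by
      rintro ⟨x, hx, hxm⟩
      have h1 : δX x = k + r := by_contra fun h => hx (hβ x h)
      obtain ⟨u, hu⟩ := (f.range_fiberι (f x)).symm.le (show f x = f x from rfl)
      have hne : u ≠ genericPoint (f.fiber (f x)) := fun e => by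
        have h2 := hgen (f x)
        rw [fgen, ← e, hu, h1, hxm] at h2
        omega
      have h3 : RatFun (fun z => δX (f.fiberι (f x) z)) (k + r) Set.univ fun z => if z = u then 1 else 0 := by
        have h4 := hfact _ u hne
        have e : δX (f.fiberι (f x) u) = k + r := (congrArg δX hu).trans h1
        simp only [PtRat] at h4
        rw [e] at h4
        exact h4
      obtain ⟨G, hG, hGe⟩ := exists_ratFun_of_fibre f (f x) h3
      refine ⟨G, hG, fun w hw => ?_⟩
      obtain ⟨v, rfl⟩ := (f.range_fiberι (f x)).symm.le hw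
      rw [hGe]
      refine if_congr ?_ rfl rfl
      show v = u ↔ _ = x
      exact ⟨fun e => by rw [e]; exact hu,
        fun e => (f.fiberι (f x)).isEmbedding.injective (e.trans hu.symm)⟩
    choose G hG hGe using hJ
    have hfam : RatFun δX (k + r) Set.univ fun x => ∑ᶠ j : J, β j.1 * G j x := by
      refine RatFun.finsumSets (fun j => f ⁻¹' closure {f j.1})
        (fun j => isClosed_closure.preimage f.continuous) (fun x => ?_) _
        (fun j => ((hG j).mono (S' := Set.univ ∩ f ⁻¹' closure {f j.1}) fun y hy => ⟨trivial, hy⟩).smul (β j.1))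
      obtain ⟨U, hyU, hU⟩ := hcpt (f x)
      refine ⟨f ⁻¹' U, U.isOpen.preimage f.continuous, hyU,
        ((β.locallyFiniteSupport.finite_inter_support_of_isCompact hU).preimage
          Subtype.val_injective.injOn).subset ?_⟩
      rintro j ⟨w, hw, hwU⟩
      exact ⟨(specializes_iff_mem_closure.2 hw).mem_open U.isOpen hwU, j.2.1⟩
    obtain ⟨c, hc⟩ := hfam.exists_cycle hdX
    have hzk : β - c ∈ Cyc.Zk X δX (k + r) := fun x hx => by
      show β x - c x = 0
      rw [hβ x hx, hc, hfam.eq_zero_of_dim hx, sub_zero]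
    have htop : ∀ x, k + ((m + 1 : ℕ) : ℤ) ≤ δY (f x) → ∀ j : J, G j x = if x = j.1 then 1 else 0 := by
      intro x hx j
      by_cases hsp : f j.1 ⤳ f x
      · refine hGe j x (by_contra fun hne => ?_)
        have := (hdY _ _ hsp fun e => hne e.symm).1
        have := j.2.2
        omega
      · rw [(hG j).eq_zero_off (isClosed_closure.preimage f.continuous) subset_rfl
          (fun h => hsp (specializes_iff_mem_closure.2 h)), if_neg]
        rintro rfl
        exact hsp specializes_rfl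
    obtain ⟨α, β', hα, hβ', hrat⟩ := ih (β - c) hzk fun x hx => by
      by_contra hlt'
      have hx' : k + ((m + 1 : ℕ) : ℤ) ≤ δY (f x) := by push_cast; omega
      apply hx
      show β x - c x = 0
      rw [hc, sub_eq_zero]
      by_cases hxJ : β x ≠ 0 ∧ δY (f x) = k + ((m + 1 : ℕ) : ℤ)
      · rw [finsum_eq_single _ (⟨x, hxJ⟩ : J) fun j hj => ?_, htop x hx', if_pos rfl, mul_one]
        rw [htop x hx', if_neg fun e => hj (Subtype.ext e.symm), mul_zero]
      · have h0 : β x = 0 := by_contra fun h => hxJ ⟨h, le_antisymm (hsupp x h) hx'⟩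
        rw [h0, finsum_eq_zero_of_forall_eq_zero fun j => ?_]
        rw [htop x hx', if_neg, mul_zero]
        rintro rfl
        exact hxJ j.2
    refine ⟨α, β', hα, hβ', (hrat.add hfam).congr fun x => ?_⟩
    show β x - c x - β' x + _ = _
    rw [hc]
    ring

end Fibre

end Groth.Agent.Cyc26
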