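import Groth.Agent.Lib.Cyc26.AffBundle

/-! # Small cycles on affine spaces over fields are rationally equivalent to zero -/

set_option autoImplicit false
universe u

set_option backward.isDefEq.respectTransparency.types false

open CategoryTheory AlgebraicGeometry TopologicalSpace
open scoped Classical

namespace Groth.Agent.Cyc26

variable {X X' Y : Scheme.{u}}

/-- Every cycle avoiding the generic point is rationally equivalent to zero. -/
def CellLike (X : Scheme.{u}) [IrreducibleSpace X] : Prop :=
  ∀ δ : X → ℤ, Cyc.IsDimFun X δ → ∀ η : X, η ≠ genericPoint X → PtRat δ η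

theorem eq_genericPoint_of_maximal [IrreducibleSpace X] {x : X} (h : x ⤳ genericPoint X) : x = genericPoint X :=
  (h.antisymm (genericPoint_specializes x)).eq

theorem dimFun_sub_const [IrreducibleSpace X] {δ δ' : X → ℤ} (hd : Cyc.IsDimFun X δ) (hd' : Cyc.IsDimFun X δ') :
    ∀ x, δ' x = δ x + (δ' (genericPoint X) - δ (genericPoint X)) := by
  suffices H : ∀ (n : ℕ) (x : X), δ (genericPoint X) - δ x ≤ n →
      δ' x = δ x + (δ' (genericPoint X) - δ (genericPoint X)) from
    fun x => H (δ (genericPoint X) - δ x).toNat x (Int.self_le_toNat _)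
  intro n
  induction n with
  | zero =>
    intro x hx
    obtain rfl : x = genericPoint X := by
      by_contra h
      have := (hd _ x (genericPoint_specializes x) fun e => h e.symm).1
      omega
    ring
  | succ n ih =>
    intro x hx
    by_cases h : x = genericPoint X
    · subst h; ring
    have hP : ∃ m : ℕ, ∃ z, z ⤳ x ∧ z ≠ x ∧ δ z ≤ δ x + m :=
      ⟨(δ (genericPoint X) - δ x).toNat, _, genericPoint_specializes x, fun e => h e.symm, by omega⟩
    obtain ⟨z, hz, hne, hm⟩ := Nat.find_spec hP
    have hlt := (hd z x hz hne).1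
    have himm : ∀ w, z ⤳ w → w ⤳ x → w = z ∨ w = x := fun w hzw hwx => by
      by_contra hc
      push Not at hc
      have h1 := (hd z w hzw fun e => hc.1 e.symm).1
      have h2 := (hd w x hwx hc.2).1
      exact Nat.find_min hP (m := (δ w - δ x).toNat) (by omega) ⟨w, hwx, hc.2, by omega⟩
    have e1 := (hd z x hz hne).2 himm
    have e2 := (hd' z x hz hne).2 himm
    have e3 := ih z (by omega)
    omega

theorem PtRat.of_shift {δ δ' : X → ℤ} {c : ℤ} (hc : ∀ x, δ' x = δ x + c) {η : X} (h : PtRat δ η) :
    PtRat δ' η := by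
  have h' := RatFun.shift hc (k := δ η) h
  unfold PtRat
  rwa [hc η]

theorem cellLike_of_exists [IrreducibleSpace X] {δ : X → ℤ} (hd : Cyc.IsDimFun X δ)
    (h : ∀ η : X, η ≠ genericPoint X → PtRat δ η) : CellLike X :=
  fun _ hd' η hη => (h η hη).of_shift (dimFun_sub_const hd hd')

theorem isDimFun_comp_iso (e : X' ≅ X) {δ : X → ℤ} (hd : Cyc.IsDimFun X δ) :
    Cyc.IsDimFun X' fun z => δ (e.hom z) := by
  haveI : IsClosedImmersion e.hom := inferInstance
  exact isDimFun_closed e.hom hd

theorem iso_genericPoint [IrreducibleSpace X'] [IrreducibleSpace X] (e : X' ≅ X) :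
    e.hom (genericPoint X') = genericPoint X := by
  refine eq_genericPoint_of_maximal ?_
  have h := (genericPoint_specializes (e.inv (genericPoint X))).map e.hom.continuous
  rwa [Scheme.Hom.comp_apply e.inv e.hom (genericPoint X) |>.symm, e.inv_hom_id] at h

theorem CellLike.of_iso [IrreducibleSpace X'] [IrreducibleSpace X] (e : X' ≅ X) (h : CellLike X') : CellLike X := by
  intro δ hd η hη
  haveI : IsClosedImmersion e.hom := inferInstance
  obtain ⟨u, rfl⟩ := e.hom.surjective η
  have hu : PtRat (fun z => δ (e.hom z)) u :=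
    h _ (isDimFun_comp_iso e hd) u fun e' => hη (by rw [e', iso_genericPoint])
  refine (RatFun.pushClosed e.hom hu (fun w => ?_) fun x hx => (hx (e.hom.surjective x)).elim).mono
    (Set.subset_univ _)
  exact if_congr e.hom.isClosedEmbedding.injective.eq_iff rfl rfl

section Line

variable [IsIntegral X] [IsAffine X] [IsPrincipalIdealRing Γ(X, ⊤)]

theorem cellLike_of_pid : CellLike X := by
  intro δ hd η hη
  haveI : IsLocallyNoetherian X := isLocallyNoetherian_of_isOpenImmersion X.isoSpec.hom
  have hU := isAffineOpen_top X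
  let P := fun x : X => (hU.primeIdealOf ⟨x, trivial⟩).asIdeal
  have hP : ∀ x y : X, P x ≤ P y ↔ x ⤳ y := fun x y =>
    VarDim.primeIdealOf_le_iff hU ⟨x, trivial⟩ ⟨y, trivial⟩
  have hne : ∀ x : X, x ≠ genericPoint X → P x ≠ ⊥ := fun x hx h0 =>
    hx (eq_genericPoint_of_maximal ((hP _ _).1 (h0.le.trans bot_le)))
  have hmax : ∀ x : X, x ≠ genericPoint X → (P x).IsMaximal := fun x hx =>
    IsPrime.to_maximal_ideal (hne x hx)
  obtain ⟨π, hπ⟩ := (IsPrincipalIdealRing.principal (P η)).principal
  have hπ' : P η = Ideal.span {π} := hπ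
  have hπ0 : π ≠ 0 := fun h0 => hne η hη (by rw [hπ', h0, Ideal.span_singleton_eq_bot.2 rfl])
  have hg := genericPoint_specializes (α := X)
  let φ := X.evaluation ⊤ (genericPoint X) trivial π
  have hφ : φ ≠ 0 := fun h0 => by
    have h1 := (evaluation_eq_zero_iff hU (x := genericPoint X) trivial π).1 h0
    have h2 : P (genericPoint X) = ⊥ := by
      let p : PrimeSpectrum Γ(X, ⊤) := ⟨⊥, Ideal.isPrime_bot⟩
      have h5 : hU.primeIdealOf ⟨hU.fromSpec p, trivial⟩ = p :=
        hU.fromSpec.isOpenEmbedding.injective (hU.fromSpec_primeIdealOf ⟨hU.fromSpec p, trivial⟩)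
      have h4 := (VarDim.primeIdealOf_le_iff hU ⟨_, trivial⟩ ⟨hU.fromSpec p, trivial⟩).2
        (genericPoint_specializes (hU.fromSpec p))
      rw [h5] at h4
      exact le_antisymm h4 bot_le
    exact hπ0 (by simpa [P, h2] using h1)
  have himm : δ η + 1 = δ (genericPoint X) := by
    refine ((hd _ η (hg η) hη.symm).2 fun z _ hz => ?_).symm
    by_cases h : z = genericPoint X
    · exact Or.inl h
    · exact Or.inr ((((hP η z).1 ((hmax z h).eq_of_le (hmax η hη).ne_top ((hP z η).2 hz)).ge).antisymm hz).eq).symm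
  refine ⟨PUnit, fun _ => genericPoint X, fun _ => φ, fun _ => himm.symm, fun _ => hφ, fun _ => trivial,
    fun _ => ⟨Set.univ, isOpen_univ, trivial, Set.toFinite _⟩, fun x => ?_⟩
  rw [finsum_unique]
  simp only [Cyc.divFun]
  have hφe : Cyc.specMap x (genericPoint X) (hg x) (X.presheaf.germ ⊤ x trivial π) = φ :=
    specMap_germ (U := ⊤) (hg x) trivial π
  by_cases hxη : x = η
  · subst hxη
    rw [if_pos rfl, dif_pos ⟨hg x, himm⟩, ← hφe]
    have ha : X.presheaf.germ ⊤ x trivial π ∉ RingHom.ker (Cyc.specMap x (genericPoint X) (hg x)) := fun h =>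
      hφ (hφe.symm.trans h)
    rw [(ordAt_mk hd (hg x) himm ha).1]
    letI := TopCat.Presheaf.algebra_section_stalk X.presheaf (⟨x, trivial⟩ : (⊤ : X.Opens))
    haveI := hU.isLocalization_stalk ⟨x, trivial⟩
    have hm : IsLocalRing.maximalIdeal (X.presheaf.stalk x) = Ideal.span {X.presheaf.germ ⊤ x trivial π} := by
      have h1 := IsLocalization.AtPrime.map_eq_maximalIdeal (P x) (X.presheaf.stalk x)
      rw [hπ', Ideal.map_span, Set.image_singleton] at h1
      exact h1.symm
    set a := Ideal.Quotient.mk (RingHom.ker (Cyc.specMap x (genericPoint X) (hg x))) (X.presheaf.germ ⊤ x trivial π)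
    have hspan : Ideal.span {a} = IsLocalRing.maximalIdeal (Cyc.LocQuot x (genericPoint X) (hg x)) := by
      rw [← IsLocalRing.map_maximalIdeal_of_surjective (Ideal.Quotient.mk
        (RingHom.ker (Cyc.specMap x (genericPoint X) (hg x)))) Ideal.Quotient.mk_surjective, hm, Ideal.map_span,
        Set.image_singleton]
    have hlen : Ring.ord (Cyc.LocQuot x (genericPoint X) (hg x)) a = 1 := by
      rw [Ring.ord, hspan, Module.length_eq_one_iff, isSimpleModule_iff_isCoatom]
      exact Ideal.isMaximal_def.1 inferInstance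
    rw [hlen]
    rfl
  · rw [if_neg hxη]
    split_ifs with h
    · rw [← hφe, ordAt_eq_zero_of_isUnit]
      have hxg : x ≠ genericPoint X := fun e => by rw [e] at h; omega
      by_contra hu
      have h1 : π ∈ P x := (evaluation_eq_zero_iff hU (x := x) trivial π).1 ((residue_eq_zero x _).2 hu)
      have h2 : P η = P x :=
        (hmax η hη).eq_of_le (hmax x hxg).ne_top (by rw [hπ', Ideal.span_singleton_le_iff_mem]; exact h1)
      exact hxη (((hP x η).1 h2.ge).antisymm ((hP η x).1 h2.le)).eq
    · rfl

end Line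

end Groth.Agent.Cyc26
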