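import Groth.Agent.Lib.Cyc26.AffCell
import Mathlib.RingTheory.KrullDimension.Polynomial
import Mathlib.RingTheory.TensorProduct.MvPolynomial
import Mathlib.AlgebraicGeometry.AffineSpace

/-! # Rational equivalence on affine spaces and on bundles of affine spaces -/

set_option autoImplicit false
universe u

set_option backward.isDefEq.respectTransparency.types false

open CategoryTheory AlgebraicGeometry TopologicalSpace Limits
open scoped Classical TensorProduct

namespace Groth.Agent.Cyc26

variable {X Y : Scheme.{u}}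

/-- Affine `n`-space over a ring. -/
noncomputable abbrev PolySpec (n : ℕ) (R : Type u) [CommRing R] : Scheme.{u} :=
  Spec (CommRingCat.of (MvPolynomial (Fin n) R))

/-- All fibres are affine spaces over fields. -/
def AffFibres (f : X ⟶ Y) (r : ℕ) : Prop :=
  ∀ y, ∃ (K : Type u) (_ : Field K), Nonempty (f.fiber y ≅ PolySpec r K)

theorem AffFibres.isIntegral {f : X ⟶ Y} {r : ℕ} (h : AffFibres f r) (y : Y) : IsIntegral (f.fiber y) := by
  obtain ⟨K, _, ⟨e⟩⟩ := h y
  haveI : Nonempty (f.fiber y) := ⟨e.inv (genericPoint (PolySpec r K))⟩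
  exact isIntegral_of_isOpenImmersion e.hom

theorem topologicalKrullDim_polySpec (n : ℕ) (K : Type u) [Field K] :
    topologicalKrullDim (PolySpec n K) = n := by
  show topologicalKrullDim (PrimeSpectrum (MvPolynomial (Fin n) K)) = n
  rw [PrimeSpectrum.topologicalKrullDim_eq_ringKrullDim, MvPolynomial.ringKrullDim_of_isNoetherianRing,
    ringKrullDim_eq_zero_of_field, zero_add, Nat.card_fin]

theorem AffFibres.hasRelDim {f : X ⟶ Y} {r : ℕ} (h : AffFibres f r) : Cyc.HasRelDim f r := by
  intro y T hT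
  haveI := h.isIntegral y
  rw [irreducibleComponents_eq_singleton, Set.mem_singleton_iff] at hT
  subst hT
  obtain ⟨K, _, ⟨e⟩⟩ := h y
  rw [(Homeomorph.Set.univ _).isHomeomorph.topologicalKrullDim_eq,
    (Scheme.Hom.homeomorph e.hom).isHomeomorph.topologicalKrullDim_eq, topologicalKrullDim_polySpec]

theorem isDimFun_fiber (f : X ⟶ Y) (y : Y) {δ : X → ℤ} (hd : Cyc.IsDimFun X δ) :
    Cyc.IsDimFun (f.fiber y) fun z => δ (f.fiberι y z) := by
  intro a b h hne
  obtain ⟨h1, h2⟩ := hd _ _ (h.map (f.fiberι y).continuous) ((f.fiberι y).isEmbedding.injective.ne hne)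
  refine ⟨h1, fun hi => h2 fun z hz hz' => ?_⟩
  have hfz : f z = y := by
    have e1 := hz.map f.continuous
    have e2 := hz'.map f.continuous
    rw [GenLen5.apply_fiberι f y] at e1 e2
    exact (e2.antisymm e1).eq
  obtain ⟨w, rfl⟩ := (f.range_fiberι y).symm.le hfz
  exact (hi w ((f.fiberι y).isEmbedding.isInducing.specializes_iff.1 hz)
    ((f.fiberι y).isEmbedding.isInducing.specializes_iff.1 hz')).imp
    (congrArg (f.fiberι y)) (congrArg (f.fiberι y))

variable {δX : X → ℤ} {δY : Y → ℤ}

/-- Surjectivity of pull-back when the fibres are affine spaces satisfying the point statement. -/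
theorem pullFun_surjective_of_affFibres [IsLocallyNoetherian X] [IsLocallyNoetherian Y] (f : X ⟶ Y)
    [QuasiCompact f] [LocallyOfFiniteType f] {r : ℕ} (hf : AffFibres f r)
    (hcell : ∀ (K : Type u) [Field K], CellLike (PolySpec r K))
    (hdX : Cyc.IsDimFun X δX) (hdY : Cyc.IsDimFun Y δY) (hδ : Cyc.DeltaCompat f δX δY)
    (k : ℤ) (β : AlgebraicCycle X ℤ) (hβ : β ∈ Cyc.Zk X δX (k + r)) :
    ∃ (α : AlgebraicCycle Y ℤ) (β' : AlgebraicCycle X ℤ), α ∈ Cyc.Zk Y δY k ∧
      ⇑β' = Cyc.pullFun f δX δY r ⇑α ∧ RatFun δX (k + r) Set.univ fun x => β x - β' x := by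
  haveI := hf.isIntegral
  refine pullFun_surjective f hdX hdY (fun y => ?_) (fun x => ?_) (fun y u hu => ?_) k β hβ
  · have h := shift_of_hasRelDim f hf.hasRelDim hδ (fgen f y) fun w hw hsp => ?_
    · rwa [apply_fgen] at h
    · exact (hsp.antisymm (fgen_specializes f (hw.trans (apply_fgen f y)))).eq
  · have := UCat26.delta_eq_add_rd f hδ x
    omega
  · obtain ⟨K, _, ⟨e⟩⟩ := hf y
    exact (hcell K).of_iso e.symm _ (isDimFun_fiber f y hdX) u hu

section Field

variable (K : Type u) [Field K]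

theorem isDimFun_point : Cyc.IsDimFun (Spec (CommRingCat.of K)) fun _ => 0 := fun x y _ hne =>
  (hne (Subsingleton.elim (α := PrimeSpectrum K) x y)).elim

theorem exists_delta {Z : Scheme.{u}} (a : Z ⟶ Spec (CommRingCat.of K)) [LocallyOfFiniteType a] :
    Cyc.DeltaCompat a (fun z => (FibDim14.rd a z : ℤ)) (fun _ => 0) ∧
      Cyc.IsDimFun Z fun z => (FibDim14.rd a z : ℤ) := by
  have h : Cyc.DeltaCompat a (fun z => (FibDim14.rd a z : ℤ)) (fun _ => 0) := fun z =>
    ⟨FibDim14.rd a z, FibDim14.rdeg_eq_rd a z, (zero_add _).symm⟩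
  exact ⟨h, UCat26.isDimFun_of_deltaCompat a (isUniversallyCatenary_stalk_field K) (isDimFun_point K) h⟩

theorem cellLike_one : CellLike (PolySpec 1 K) := by
  haveI : IsPrincipalIdealRing (MvPolynomial (Fin 1) K) :=
    IsPrincipalIdealRing.of_surjective (MvPolynomial.uniqueAlgEquiv K (Fin 1)).symm.toRingEquiv.toRingHom
      (AlgEquiv.surjective _)
  haveI : IsPrincipalIdealRing Γ(PolySpec 1 K, ⊤) :=
    IsPrincipalIdealRing.of_surjective (Scheme.ΓSpecIso (CommRingCat.of (MvPolynomial (Fin 1) K))).inv.hom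
      (Scheme.ΓSpecIso (CommRingCat.of (MvPolynomial (Fin 1) K))).commRingCatIsoToRingEquiv.symm.surjective
  exact cellLike_of_pid

theorem cellLike_polySpec : ∀ n : ℕ, CellLike (PolySpec n K)
  | 0 => fun δ _ η hη => by
    haveI : Subsingleton (PrimeSpectrum (MvPolynomial (Fin 0) K)) := by
      letI := ((MvPolynomial.isEmptyAlgEquiv K (Fin 0)).toMulEquiv.isField (Field.toIsField K)).toField
      infer_instance
    exact (hη (Subsingleton.elim (α := PrimeSpectrum (MvPolynomial (Fin 0) K)) _ _)).elim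
  | n + 1 => by
    let R : Type u := MvPolynomial (Fin n) K
    let S : Type u := MvPolynomial (Fin 1) R
    let f : Spec (CommRingCat.of S) ⟶ PolySpec n K := Spec.map (CommRingCat.ofHom (algebraMap R S))
    let a : PolySpec n K ⟶ Spec (CommRingCat.of K) := Spec.map (CommRingCat.ofHom (algebraMap K R))
    haveI : LocallyOfFiniteType f := (HasRingHomProperty.Spec_iff (P := @LocallyOfFiniteType)).2
      (RingHom.finiteType_algebraMap.2 inferInstance)
    haveI : LocallyOfFiniteType a := (HasRingHomProperty.Spec_iff (P := @LocallyOfFiniteType)).2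
      (RingHom.finiteType_algebraMap.2 inferInstance)
    haveI : Flat f := (HasRingHomProperty.Spec_iff (P := @Flat)).2 (RingHom.flat_algebraMap_iff.2 inferInstance)
    obtain ⟨-, hdY⟩ := exists_delta K a
    obtain ⟨-, hdX⟩ := exists_delta K (f ≫ a)
    set δY : PolySpec n K → ℤ := fun z => (FibDim14.rd a z : ℤ)
    set δX : Spec (CommRingCat.of S) → ℤ := fun z => (FibDim14.rd (f ≫ a) z : ℤ) with hδXdef
    have hδ : Cyc.DeltaCompat f δX δY := fun z =>
      ⟨FibDim14.rd f z, FibDim14.rdeg_eq_rd f z, by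
        show (FibDim14.rd (f ≫ a) z : ℤ) = _
        rw [rd_comp, Nat.cast_add]⟩
    have hf : AffFibres f 1 := fun p =>
      ⟨p.asIdeal.ResidueField, inferInstance, ⟨Arrow.leftFunc.mapIso (Spec.fiberToSpecResidueFieldIso R S p) ≪≫
        Scheme.Spec.mapIso (MvPolynomial.algebraTensorAlgEquiv R p.asIdeal.ResidueField
          (σ := Fin 1)).toRingEquiv.toCommRingCatIso.symm.op⟩⟩
    haveI := hf.isIntegral
    have hfg : ∀ y, δX (fgen f y) = δY y + 1 := fun y => by
      have h := shift_of_hasRelDim f hf.hasRelDim hδ (fgen f y) fun w hw hsp =>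
        (hsp.antisymm (fgen_specializes f (hw.trans (apply_fgen f y)))).eq
      rw [apply_fgen, Nat.cast_one] at h
      exact h
    have key : CellLike (Spec (CommRingCat.of S)) := by
      refine cellLike_of_exists hdX fun η hη => ?_
      let β : AlgebraicCycle (Spec (CommRingCat.of S)) ℤ := ⟨fun x => if x = η then 1 else 0, Set.subset_univ _,
        fun x _ => ⟨Set.univ, Filter.univ_mem, (Set.finite_singleton η).subset fun z hz => by
          by_contra h
          exact hz.2 (if_neg h)⟩⟩
      obtain ⟨α, β', hα, hβ', hrat⟩ := pullFun_surjective_of_affFibres f hf (fun L _ => cellLike_one L) hdX hdY hδ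
        (δX η - 1) β (fun x hx => if_neg fun e => hx (by rw [e]; simp))
      have hk : ((1 : ℕ) : ℤ) = 1 := Nat.cast_one
      rw [hk] at hβ'
      have hlt : δX η - 1 < δY (genericPoint (PolySpec n K)) := by
        have h0 := genericPoint_specializes (α := Spec (CommRingCat.of S))
        have h1 := (hdX _ η (h0 η) fun e => hη e.symm).1
        have h2 : δX (genericPoint (Spec (CommRingCat.of S))) ≤ δY (f (genericPoint (Spec (CommRingCat.of S)))) + 1 := by
          rw [← hfg]
          exact UCat26.delta_le_of_specializes hdX (fgen_specializes f rfl)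
        have h3 := UCat26.delta_le_of_specializes hdY (genericPoint_specializes (f (genericPoint (Spec (CommRingCat.of S)))))
        omega
      have hfin : (Function.support ⇑α).Finite := (α.locallyFiniteSupport.finite_inter_support_of_isCompact isCompact_univ).subset fun y hy => ⟨trivial, hy⟩
      let J : Type u := {y : PolySpec n K // α y ≠ 0}
      haveI : Finite J := hfin.to_subtype
      have hJ : ∀ j : J, RatFun δY (δX η - 1) Set.univ
          fun x => α j.1 * if x = j.1 then 1 else 0 := fun j => by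
        have hj : δY j.1 = δX η - 1 := by_contra fun h => j.2 (hα j.1 h)
        have h := cellLike_polySpec n δY hdY j.1 fun e => by rw [e] at hj; omega
        unfold PtRat at h
        rw [hj] at h
        exact h.smul _
      have hα0 : RatFun δY (δX η - 1) Set.univ ⇑α :=
        (RatFun.finsumSets (fun _ : J => Set.univ) (fun _ => isClosed_univ)
          (fun _ => ⟨Set.univ, isOpen_univ, trivial, Set.toFinite _⟩) _
          (fun j => (hJ j).mono (S' := Set.univ ∩ Set.univ) fun _ _ => ⟨trivial, trivial⟩)).congr fun x => by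
            by_cases hx : α x = 0
            · rw [hx, finsum_eq_zero_of_forall_eq_zero fun j => ?_]
              rw [if_neg fun e => j.2 (by rw [← e]; exact hx), mul_zero]
            · rw [finsum_eq_single _ (⟨x, hx⟩ : J) fun j hj => ?_, if_pos rfl, mul_one]
              rw [if_neg fun e => hj (Subtype.ext e.symm), mul_zero]
      have hβ0 := ratEquivZero_pullFun f hdX hdY (c := 1) (fun z hz => by rw [eq_fgen_of_maximal f hz, hfg, apply_fgen])
        (ratEquivZero_iff.2 hα0) β' hβ'
      have e : δX η - 1 + 1 = δX η := sub_add_cancel _ _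
      rw [e] at hβ0
      rw [hk, e] at hrat
      exact (hrat.add (ratEquivZero_iff.1 hβ0)).congr fun x => sub_add_cancel _ _
    refine CellLike.of_iso ?_ key
    exact Scheme.Spec.mapIso (((MvPolynomial.renameEquiv K ((finSumFinEquiv).trans (finCongr (Nat.add_comm 1 n)))).symm.trans
      (MvPolynomial.sumAlgEquiv K (Fin 1) (Fin n))).toRingEquiv.toCommRingCatIso).op

end Field

theorem isPullback_affineBundle (f : X ⟶ Y) {n : Type u} (U : Y.Opens)
    (e : (↑(f ⁻¹ᵁ U) : Scheme.{u}) ≅ 𝔸(n; (↑U : Scheme.{u})))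
    (he : e.hom ≫ (𝔸(n; (↑U : Scheme.{u})) ↘ (↑U : Scheme.{u})) = f ∣_ U) {y : Y} (hy : y ∈ U) :
    Nonempty (f.fiber y ≅ 𝔸(n; Spec (Y.residueField y))) := by
  have hr : Set.range (Y.fromSpecResidueField y) ⊆ Set.range U.ι := by
    rw [Scheme.range_fromSpecResidueField, Scheme.Opens.range_ι, Set.singleton_subset_iff]
    exact hy
  let g := IsOpenImmersion.lift U.ι (Y.fromSpecResidueField y) hr
  have h1 : IsPullback (AffineSpace.map n g ≫ e.inv) (𝔸(n; Spec (Y.residueField y)) ↘ Spec (Y.residueField y))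
      (f ∣_ U) g :=
    IsPullback.of_iso (AffineSpace.isPullback_map (n := n) g) (Iso.refl _) e.symm (Iso.refl _) (Iso.refl _)
      (by simp) (by simp) (by simp [← he]) (by simp)
  have h2 := h1.paste_horiz (isPullback_morphismRestrict f U).flip
  rw [IsOpenImmersion.lift_fac] at h2
  exact ⟨h2.isoPullback.symm⟩

theorem affFibres_of_locally (f : X ⟶ Y) (r : ℕ)
    (hloc : ∀ y : Y, ∃ U : Y.Opens, y ∈ U ∧ ∃ e : (↑(f ⁻¹ᵁ U) : Scheme.{u}) ≅ 𝔸(ULift.{u} (Fin r); (↑U : Scheme.{u})),
      e.hom ≫ (𝔸(ULift.{u} (Fin r); (↑U : Scheme.{u})) ↘ (↑U : Scheme.{u})) = f ∣_ U) : AffFibres f r := fun y => by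
  obtain ⟨U, hy, e, he⟩ := hloc y
  obtain ⟨e'⟩ := isPullback_affineBundle f U e he hy
  exact ⟨Y.residueField y, inferInstance, ⟨e' ≪≫ AffineSpace.SpecIso _ _ ≪≫
    Scheme.Spec.mapIso (MvPolynomial.renameEquiv (Y.residueField y) (Equiv.ulift (α := Fin r)).symm).toRingEquiv.toCommRingCatIso.op⟩⟩

theorem quasiCompact_of_locally (f : X ⟶ Y) (r : ℕ)
    (hloc : ∀ y : Y, ∃ U : Y.Opens, y ∈ U ∧ ∃ e : (↑(f ⁻¹ᵁ U) : Scheme.{u}) ≅ 𝔸(ULift.{u} (Fin r); (↑U : Scheme.{u})),
      e.hom ≫ (𝔸(ULift.{u} (Fin r); (↑U : Scheme.{u})) ↘ (↑U : Scheme.{u})) = f ∣_ U) : QuasiCompact f := by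
  choose U hy e he using hloc
  refine IsZariskiLocalAtTarget.of_iSup_eq_top U (eq_top_iff.2 fun y _ => Opens.mem_iSup.2 ⟨y, hy y⟩) fun y => ?_
  rw [← he y]
  infer_instance

end Groth.Agent.Cyc26
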