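import Mathlib.Algebra.Module.Submodule.Union

/-! # A vector space over a field with `q` elements is not a union of `q` proper subspaces -/

set_option autoImplicit false
universe u

namespace Groth.Agent.Cyc26

theorem exists_forall_notMem_of_card_le {ι K M : Type*} [Field K] [AddCommGroup M] [Module K M]
    (s : Finset ι) (p : ι → Submodule K M) (h1 : ∀ i, p i ≠ ⊤) (h2 : (s.card : ℕ∞) ≤ ENat.card K) :
    ∃ x, ∀ i ∈ s, x ∉ p i := by
  classical
  rcases s.eq_empty_or_nonempty with rfl | ⟨j, hj⟩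
  · exact ⟨0, by simp⟩
  set s' := s.erase j
  have hcard : (s'.card : ℕ∞) < ENat.card K :=
    lt_of_lt_of_le (by exact_mod_cast Finset.card_erase_lt_of_mem hj) h2
  have hrest : ∃ x, ∀ i ∈ s', x ∉ p i := by
    have h := Submodule.iUnion_ssubset_of_forall_ne_top_of_card_lt s' p h1 hcard
    simpa [Set.ssubset_univ_iff, Set.iUnion_eq_univ_iff] using h
  by_contra hcon
  push Not at hcon
  obtain ⟨x₀, hx₀⟩ := hrest
  have hx₀j : x₀ ∈ p j := by
    obtain ⟨i, hi, hmem⟩ := hcon x₀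
    rcases eq_or_ne i j with rfl | hne
    · exact hmem
    · exact absurd hmem (hx₀ i (Finset.mem_erase.2 ⟨hne, hi⟩))
  obtain ⟨y, hy⟩ : ∃ y, y ∉ p j := by
    by_contra hall
    push Not at hall
    exact h1 j (eq_top_iff.2 fun z _ => hall z)
  let pt : K → M := fun t => if t = 0 then y else x₀ + t • y
  have hpt : ∀ t, ∃ i ∈ s', pt t ∈ p i := fun t => by
    obtain ⟨i, hi, hmem⟩ := hcon (pt t)
    refine ⟨i, Finset.mem_erase.2 ⟨?_, hi⟩, hmem⟩
    rintro rfl
    simp only [pt] at hmem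
    split_ifs at hmem with ht
    · exact hy hmem
    · exact hy (((p i).smul_mem_iff ht).1 (((p i).add_mem_iff_right hx₀j).1 hmem))
  choose F hF1 hF2 using hpt
  obtain ⟨t₁, -, t₂, -, hne, heq⟩ := Set.exists_ne_map_eq_of_encard_lt_of_maps_to (t := (s' : Set ι))
    (s := (Set.univ : Set K)) (f := F) (by rwa [Set.encard_coe_eq_coe_finsetCard, Set.encard_univ]) (fun t _ => hF1 t)
  have m1 := hF2 t₁
  have m2 : pt t₂ ∈ p (F t₁) := heq ▸ hF2 t₂
  refine hx₀ (F t₁) (hF1 t₁) ?_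
  simp only [pt] at m1 m2
  split_ifs at m1 m2 with e1 e2
  · exact absurd (e1.trans e2.symm) hne
  · simpa using (p (F t₁)).sub_mem m2 ((p (F t₁)).smul_mem t₂ m1)
  · simpa using (p (F t₁)).sub_mem m1 ((p (F t₁)).smul_mem t₁ m2)
  · have hy' : y ∈ p (F t₁) := by
      have h3 : (t₁ - t₂) • y ∈ p (F t₁) := by
        convert (p (F t₁)).sub_mem m1 m2 using 1; module
      exact ((p (F t₁)).smul_mem_iff (sub_ne_zero.2 hne)).1 h3
    simpa using (p (F t₁)).sub_mem m1 ((p (F t₁)).smul_mem t₁ hy')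

end Groth.Agent.Cyc26
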