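import Groth.Agent.Lib.UCat26.FlatRel
import Groth.Agent.Lib.FibDim14.BaseChange

/-! # Dimension functions of generic points of a flat base change -/

set_option autoImplicit false
universe u

set_option backward.isDefEq.respectTransparency.types false

open CategoryTheory Limits AlgebraicGeometry

namespace Groth.Agent.Cyc26

variable {S S' X X' : Scheme.{u}} {a : X ⟶ S} {g : S' ⟶ S} {p : X' ⟶ X} {q : X' ⟶ S'}

theorem flat_specMap_field {k K : Type u} [Field k] [Field K] (φ : CommRingCat.of k ⟶ CommRingCat.of K) :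
    Flat (Spec.map φ) := inferInstance

theorem eq_of_generic_baseChange (hsq : IsPullback p q a g) [Flat g] [IrreducibleSpace X] {x' : X'}
    (hx' : ∀ y : X', y ⤳ x' → y = x') :
    p x' = genericPoint X ∧ ∀ y : S', g y = g (q x') → y ⤳ q x' → y = q x' := by
  haveI : Flat p := MorphismProperty.of_isPullback hsq.flip inferInstance
  have hp : p x' = genericPoint X := by
    obtain ⟨w, hw, hpw⟩ := Flat.generalizingMap p (genericPoint_specializes (p x'))
    rw [hx' w hw] at hpw; exact hpw
  refine ⟨hp, fun y hy hsp => ?_⟩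
  have h0 : g (q x') = a (p x') := by rw [← Scheme.Hom.comp_apply, ← hsq.w, Scheme.Hom.comp_apply]
  obtain ⟨pr, hpr, sq⟩ := FibDim14.exists_fibre_square hsq.flip (p x')
  haveI : Flat pr := MorphismProperty.of_isPullback sq.flip inferInstance
  let zy := (g.fiberHomeo (a (p x'))).symm ⟨y, hy.trans h0⟩
  have hzy : g.fiberι _ zy = y := g.fiberι_fiberHomeo_symm _ _
  have hsp' : zy ⤳ pr (p.asFiber x') := by
    rw [← (g.fiberι (a (p x'))).isEmbedding.isInducing.specializes_iff, hzy, hpr, p.fiberι_asFiber]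
    exact hsp
  obtain ⟨w, hw, hwz⟩ := DimF18.exists_lift_specializes pr hsp'
  have h1 := hx' (p.fiberι _ w) (by
    have h2 := hw.map (p.fiberι (p x')).continuous
    rwa [p.fiberι_asFiber] at h2)
  have h2 := hpr w
  rw [hwz, hzy, h1] at h2
  exact h2

theorem delta_generic_baseChange (hsq : IsPullback p q a g) [Flat g] [LocallyOfFiniteType a] [IrreducibleSpace X]
    {δS : S → ℤ} {δS' : S' → ℤ} {c : ℤ}
    (hc : ∀ s' : S', (∀ y, g y = g s' → y ⤳ s' → y = s') → δS' s' = δS (g s') + c)
    {δX : X → ℤ} (hX : Cyc.DeltaCompat a δX δS) {δX' : X' → ℤ} (hX' : Cyc.DeltaCompat q δX' δS')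
    {x' : X'} (hx' : ∀ y : X', y ⤳ x' → y = x') : δX' x' = δX (genericPoint X) + c := by
  haveI : LocallyOfFiniteType q := MorphismProperty.of_isPullback hsq inferInstance
  obtain ⟨hp, hmax⟩ := eq_of_generic_baseChange hsq hx'
  have h0 : g (q x') = a (p x') := by rw [← Scheme.Hom.comp_apply, ← hsq.w, Scheme.Hom.comp_apply]
  have e : FibDim14.rd q x' = FibDim14.rd a (p x') := by
    obtain ⟨pr, hpr, sq⟩ := FibDim14.exists_fibre_square hsq (q x')
    have h := (DimF18.sdim_bc sq (q.asFiber x')).2 fun w hw _ => by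
      obtain ⟨h1, -⟩ := FibDim14.fiberι_mem q hw
      exact (q.fiberι (q x')).isEmbedding.injective ((hx' _ h1).trans (q.fiberι_asFiber x').symm)
    rwa [← FibDim14.rd_fiberι, ← FibDim14.rd_fiberι, hpr, q.fiberι_asFiber] at h
  rw [UCat26.delta_eq_add_rd q hX' x', hc _ hmax, h0, e, ← hp, UCat26.delta_eq_add_rd a hX (p x')]
  ring

end Groth.Agent.Cyc26
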