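import Groth.Agent.Lib.Cyc26.PBBase
import Groth.Agent.Lib.VeryAmple11.TsecRules

/-! # Projective bundles of isomorphic modules -/

set_option autoImplicit false

universe u

open CategoryTheory Limits AlgebraicGeometry TopologicalSpace

set_option backward.isDefEq.respectTransparency false
set_option backward.isDefEq.respectTransparency.types false

noncomputable section

namespace Groth.Agent.Cyc26PB

open Groth.Agent.M1 Groth.Agent.VA11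

variable {X P P' : Scheme.{u}} {E E' : X.Modules} {π : P ⟶ X} {π' : P' ⟶ X} {O1 : P.Modules} {O1' : P'.Modules}
  {φ : E ⟶ (Scheme.Modules.pushforward π).obj O1} {φ' : E' ⟶ (Scheme.Modules.pushforward π').obj O1'}

/-- The comparison map of two projective bundles. -/
theorem exists_bundleMap (hB : UBundle π E O1 φ) (hB' : UBundle π' E' O1' φ') (e : E ≅ E') :
    ∃ (θ : P' ⟶ P) (hθ : θ ≫ π = π') (τ : (Scheme.Modules.pullback θ).obj O1 ≅ O1'),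
      ∀ (U : X.Opens) (m : Γ(E, U)), τ.hom.app (θ ⁻¹ᵁ (π ⁻¹ᵁ U)) (M2.pullSec θ O1 (φ.app U m)) =
        mres O1' (show θ ⁻¹ᵁ (π ⁻¹ᵁ U) ≤ π' ⁻¹ᵁ U by rw [← hθ]; rfl) (φ'.app U (e.hom.app U m)) := by
  refine hB.exists_map P' π' O1' hB'.inv (e.hom ≫ φ') fun x => ?_
  obtain ⟨U, m, hx⟩ := hB'.gens x
  refine ⟨U, e.inv.app U m, ?_⟩
  show x ∈ gl (secs φ' U (e.hom.app U (e.inv.app U m)))
  rw [show e.hom.app U (e.inv.app U m) = m from congrArg (fun χ : E' ⟶ E' => χ.app U m) e.inv_hom_id]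
  exact hx

/-- Going there and back is the identity. -/
theorem comp_eq_id (hB : UBundle π E O1 φ) (e : E ≅ E') {θ : P' ⟶ P} (hθ : θ ≫ π = π')
    {θ' : P ⟶ P'} (hθ' : θ' ≫ π' = π) (τ : (Scheme.Modules.pullback θ).obj O1 ≅ O1')
    (hτ : ∀ (U : X.Opens) (m : Γ(E, U)), τ.hom.app (θ ⁻¹ᵁ (π ⁻¹ᵁ U)) (M2.pullSec θ O1 (φ.app U m)) =
        mres O1' (show θ ⁻¹ᵁ (π ⁻¹ᵁ U) ≤ π' ⁻¹ᵁ U by rw [← hθ]; rfl) (φ'.app U (e.hom.app U m)))
    (τ' : (Scheme.Modules.pullback θ').obj O1' ≅ O1)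
    (hτ' : ∀ (U : X.Opens) (m : Γ(E', U)), τ'.hom.app (θ' ⁻¹ᵁ (π' ⁻¹ᵁ U)) (M2.pullSec θ' O1' (φ'.app U m)) =
        mres O1 (show θ' ⁻¹ᵁ (π' ⁻¹ᵁ U) ≤ π ⁻¹ᵁ U by rw [← hθ']; rfl) (φ.app U (e.inv.app U m))) :
    θ' ≫ θ = 𝟙 P := by
  let T2 : (Scheme.Modules.pullback (θ' ≫ θ)).obj O1 ≅ O1 :=
    ((Scheme.Modules.pullbackComp θ' θ).app O1).symm ≪≫ (Scheme.Modules.pullback θ').mapIso τ ≪≫ τ'
  refine hB.unique P π O1 hB.inv φ hB.gens (θ' ≫ θ) (𝟙 P) (by rw [Category.assoc, hθ, hθ'])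
    (Category.id_comp _) T2 ((Scheme.Modules.pullbackId P).app O1) (fun U m => ?_) (fun U m => ?_)
  · show τ'.hom.app _ (((Scheme.Modules.pullback θ').map τ.hom).app _
      (((Scheme.Modules.pullbackComp θ' θ).inv.app O1).app _ (M2.pullSec (θ' ≫ θ) O1 (φ.app U m)))) = _
    refine (congrArg (fun v => τ'.hom.app _ v) ((comp_map_pullSec θ' θ τ.hom (φ.app U m)).trans
      ((congrArg (M2.pullSec θ' O1') (hτ U m)).trans (mres_pullSec θ' _ _).symm))).trans ?_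
    refine (app_mres τ'.hom _ _).trans ?_
    rw [hτ', mres_mres, show e.inv.app U (e.hom.app U m) = m from congrArg (fun χ : E ⟶ E => χ.app U m) e.hom_inv_id]
  · exact (pullbackId_hom_pullSec O1 (φ.app U m)).trans (mres_id O1 _ _).symm

/-- Projective bundles of isomorphic modules are isomorphic. -/
theorem exists_bundleIso (hB : UBundle π E O1 φ) (hB' : UBundle π' E' O1' φ') (e : E ≅ E') :
    ∃ θ : P' ⟶ P, IsIso θ ∧ θ ≫ π = π' ∧ Nonempty ((Scheme.Modules.pullback θ).obj O1 ≅ O1') := by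
  obtain ⟨θ, hθ, τ, hτ⟩ := exists_bundleMap hB hB' e
  obtain ⟨θ', hθ', τ', hτ'⟩ := exists_bundleMap hB' hB e.symm
  exact ⟨θ, ⟨θ', comp_eq_id hB' e.symm hθ' hθ τ' hτ' τ hτ, comp_eq_id hB e hθ hθ' τ hτ τ' hτ'⟩, hθ, ⟨τ⟩⟩

end Groth.Agent.Cyc26PB
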