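import Groth.Agent.Lib.Cyc26.C1Inv
import Groth.Agent.Lib.Cyc26.PullDiv
import Groth.Agent.Lib.Twist.Pullback

/-! # Pullbacks of rational sections of invertible modules -/

set_option autoImplicit false
universe u

set_option backward.isDefEq.respectTransparency.types false

open CategoryTheory AlgebraicGeometry TopologicalSpace Groth.Agent.M1 TensorProduct

namespace Groth.Agent.Cyc26

variable {X Y : Scheme.{u}} {L : Y.Modules} (f : X ⟶ Y)

/-- `L_{f x} → (f^* L)_x`. -/
noncomputable def pst (L : Y.Modules) (x : X) (m : L.presheaf.stalk (f x)) :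
    ((Scheme.Modules.pullback f).obj L).presheaf.stalk x := Groth.Agent.M2.stalkUnit f x L m

theorem pst_add (x : X) (m n : L.presheaf.stalk (f x)) : pst f L x (m + n) = pst f L x m + pst f L x n :=
  map_add (Groth.Agent.M2.stalkUnit f x L) m n

theorem pst_smul (x : X) (r : Y.presheaf.stalk (f x)) (m : L.presheaf.stalk (f x)) :
    pst f L x (r • m) = f.stalkMap x r • pst f L x m :=
  (map_smul (Groth.Agent.M2.stalkUnit f x L) r m).trans (algebraMap_smul (X.presheaf.stalk x) r _).symm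

theorem pst_germ {U : Y.Opens} (x : X) (hx : f x ∈ U) (s : Γ(L, U)) :
    pst f L x (L.presheaf.germ U (f x) hx s) =
      ((Scheme.Modules.pullback f).obj L).presheaf.germ (f ⁻¹ᵁ U) x hx (Groth.Agent.M2.pullSec f L s) :=
  Groth.Agent.M2.stalkUnitHom_germ f x L hx s

theorem gen_pst (hL : PicF.IsInvertible L) {x : X} {m : L.presheaf.stalk (f x)} (hm : Amp.Gen m) :
    Amp.Gen (pst f L x m) := by
  obtain ⟨U, e, hxU, -, -, he⟩ := Amp.exists_isGenerator hL (V := ⊤) (x := f x) trivial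
  have hA := Amp.gen_of_isGenerator he hxU
  obtain ⟨c, hc⟩ := hA.2 m
  simp only at hc
  subst hc
  rw [pst_smul, pst_germ]
  exact (((Amp.gen_pullSec_iff f hL hxU e).2 hA).ne_zero_smul _).2 (((hA.ne_zero_smul c).1 hm).map (f.stalkMap x).hom)

theorem pst_stalkSpecializes {x ξ : X} (h : ξ ⤳ x) (m : L.presheaf.stalk (f x)) :
    pst f L ξ (L.presheaf.stalkSpecializes (h.map f.continuous) m) =
      ((Scheme.Modules.pullback f).obj L).presheaf.stalkSpecializes h (pst f L x m) := by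
  obtain ⟨U, hU, s, rfl⟩ := L.presheaf.exists_germ_eq m
  rw [TopCat.Presheaf.germ_stalkSpecializes_apply, pst_germ, pst_germ, TopCat.Presheaf.germ_stalkSpecializes_apply]

theorem pst_mem (x : X) {m : L.presheaf.stalk (f x)}
    (hm : m ∈ IsLocalRing.maximalIdeal (Y.presheaf.stalk (f x)) •
      (⊤ : Submodule (Y.presheaf.stalk (f x)) (L.presheaf.stalk (f x)))) :
    pst f L x m ∈ IsLocalRing.maximalIdeal (X.presheaf.stalk x) •
      (⊤ : Submodule (X.presheaf.stalk x) (((Scheme.Modules.pullback f).obj L).presheaf.stalk x)) := by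
  induction hm using Submodule.smul_induction_on' with
  | smul c hc n _ =>
    rw [pst_smul]
    exact Submodule.smul_mem_smul (map_nonunit (f.stalkMap x).hom c hc) Submodule.mem_top
  | add m _ n _ hm hn =>
    rw [pst_add]
    exact add_mem hm hn

/-- The pullback of a rational section. -/
noncomputable def secPull (L : Y.Modules) (ξ : X) (s : Cyc.secFibre L (f ξ)) :
    Cyc.secFibre ((Scheme.Modules.pullback f).obj L) ξ := Submodule.Quotient.mk (pst f L ξ (Quotient.out s))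

theorem secPull_fmk (ξ : X) (m : L.presheaf.stalk (f ξ)) :
    secPull f L ξ (fmk L (f ξ) m) = fmk ((Scheme.Modules.pullback f).obj L) ξ (pst f L ξ m) := by
  refine (Submodule.Quotient.eq _).2 ?_
  set o := Quotient.out (fmk L (f ξ) m)
  have h : (Submodule.Quotient.mk o : Cyc.secFibre L (f ξ)) = Submodule.Quotient.mk m := Quotient.out_eq _
  have h1 := pst_mem f ξ ((Submodule.Quotient.eq _).1 h)
  have h2 : pst f L ξ (o - m) = pst f L ξ o - pst f L ξ m := map_sub (Groth.Agent.M2.stalkUnit f ξ L) o m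
  rwa [h2] at h1

theorem secPull_smul (ξ : X) (ψ : Y.presheaf.stalk (f ξ)) (s : Cyc.secFibre L (f ξ)) :
    secPull f L ξ (ψ • s) = f.stalkMap ξ ψ • secPull f L ξ s := by
  obtain ⟨m, rfl⟩ := Submodule.Quotient.mk_surjective _ s
  rw [← Submodule.Quotient.mk_smul]
  show secPull f L ξ (fmk L (f ξ) (ψ • m)) = f.stalkMap ξ ψ • secPull f L ξ (fmk L (f ξ) m)
  rw [secPull_fmk, secPull_fmk, pst_smul]
  rfl

theorem residue_stalkMap (ξ : X) (ψ : Y.presheaf.stalk (f ξ)) :
    X.residue ξ (f.stalkMap ξ ψ) = f.residueFieldMap ξ (Y.residue (f ξ) ψ) :=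
  (ConcreteCategory.congr_hom (Scheme.residue_residueFieldMap f ξ) ψ).symm

theorem secPull_ne_zero (hL : PicF.IsInvertible L) (ξ : X) {s : Cyc.secFibre L (f ξ)} (hs : s ≠ 0) :
    secPull f L ξ s ≠ 0 := by
  obtain ⟨g, hg⟩ := exists_gen hL (f ξ)
  obtain ⟨ψ, hψ, rfl⟩ := exists_rep_gen hg hs
  rw [secPull_smul, secPull_fmk]
  refine smul_ne_zero_of_residue (gen_pst f hL hg) ?_
  rw [residue_stalkMap]
  exact (map_ne_zero _).2 hψ

theorem secDivFun_frame (hL : PicF.IsInvertible L) {U : Y.Opens} {e : Γ(L, U)}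
    (he : Groth.Agent.M2.IsGenerator e) {η : Y} (hη : η ∈ U) (ψ : Y.presheaf.stalk η) (hψ : Y.residue η ψ ≠ 0)
    (δ : Y → ℤ) (y : Y) (hy : y ∈ U) :
    Cyc.secDivFun δ L η (ψ • fmk L η (Amp.gm L η hη e)) y = Cyc.divFun δ η (Y.residue η ψ) y := by
  simp only [Cyc.secDivFun, Cyc.divFun]
  split_ifs with h
  · exact secOrdAt_frame hL he h.1 hy ψ hψ
  · rfl

theorem secDivFun_secPull_frame (hL : PicF.IsInvertible L) {U : Y.Opens} {e : Γ(L, U)}
    (he : Groth.Agent.M2.IsGenerator e) {ξ : X} (hξ : f ξ ∈ U) (ψ : Y.presheaf.stalk (f ξ))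
    (hψ : Y.residue (f ξ) ψ ≠ 0) (δ : X → ℤ) (x : X) (hx : f x ∈ U) :
    Cyc.secDivFun δ ((Scheme.Modules.pullback f).obj L) ξ
        (secPull f L ξ (ψ • fmk L (f ξ) (Amp.gm L (f ξ) hξ e))) x =
      Cyc.divFun δ ξ (f.residueFieldMap ξ (Y.residue (f ξ) ψ)) x := by
  simp only [Cyc.secDivFun, Cyc.divFun]
  split_ifs with h
  · have hg := gen_pst f hL (Amp.gen_of_isGenerator he hx)
    have hne : X.residue ξ (f.stalkMap ξ ψ) ≠ 0 := by
      rw [residue_stalkMap]; exact (map_ne_zero _).2 hψ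
    have key : secPull f L ξ (ψ • fmk L (f ξ) (Amp.gm L (f ξ) hξ e)) = f.stalkMap ξ ψ •
        fmk ((Scheme.Modules.pullback f).obj L) ξ (((Scheme.Modules.pullback f).obj L).presheaf.stalkSpecializes h.1
          (pst f L x (Amp.gm L (f x) hx e))) := by
      rw [secPull_smul, secPull_fmk, ← pst_stalkSpecializes, TopCat.Presheaf.germ_stalkSpecializes_apply]
    rw [key, secOrdAt_gen (Groth.Agent.Twist.isInvertible_pullback f hL) h.1 hg _ hne, residue_stalkMap]
  · rfl

/-- A local equation of a rational section and of its pullback. -/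
theorem exists_local_eq (hL : PicF.IsInvertible L) {U : Y.Opens} {e : Γ(L, U)}
    (he : Groth.Agent.M2.IsGenerator e) {ξ : X} (hξ : f ξ ∈ U) {s : Cyc.secFibre L (f ξ)} (hs : s ≠ 0) :
    ∃ φ : Y.residueField (f ξ), φ ≠ 0 ∧
      (∀ (δ : Y → ℤ), ∀ y ∈ U, Cyc.secDivFun δ L (f ξ) s y = Cyc.divFun δ (f ξ) φ y) ∧
      ∀ (δ : X → ℤ), ∀ x : X, f x ∈ U →
        Cyc.secDivFun δ ((Scheme.Modules.pullback f).obj L) ξ (secPull f L ξ s) x =
          Cyc.divFun δ ξ (f.residueFieldMap ξ φ) x := by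
  obtain ⟨ψ, hψ, rfl⟩ := exists_rep_gen (Amp.gen_of_isGenerator he hξ) hs
  exact ⟨Y.residue (f ξ) ψ, hψ, fun δ y hy => secDivFun_frame hL he hξ ψ hψ δ y hy,
    fun δ x hx => secDivFun_secPull_frame f hL he hξ ψ hψ δ x hx⟩

end Groth.Agent.Cyc26
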