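import Groth.Agent.Lib.Cyc26.C1Inv
import Groth.Agent.Lib.Cyc26.ClosedSetup

/-! # Changing rational sections supported in a closed subscheme -/

set_option autoImplicit false
universe u

set_option backward.isDefEq.respectTransparency.types false

open CategoryTheory AlgebraicGeometry TopologicalSpace

namespace Groth.Agent.Cyc26

variable {X D : Scheme.{u}} {L : X.Modules}

theorem gysinChoice_ne_zero (s : L.presheaf.obj (Opposite.op ⊤)) {w : (ξ : X) → Cyc.secFibre L ξ}
    (hw : ∀ ξ, w ξ ≠ 0) (ξ : X) : Cyc.gysinChoice L s w ξ ≠ 0 := by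
  simp only [Cyc.gysinChoice]
  split_ifs with h
  · exact h
  · exact hw ξ

theorem gysinChoice_of_mem {i : D ⟶ X} {s : L.presheaf.obj (Opposite.op ⊤)} (hD : Cyc.IsZeroSchemeOf i L s)
    (w : (ξ : X) → Cyc.secFibre L ξ) (d : D) : Cyc.gysinChoice L s w (i d) = w (i d) :=
  if_neg (not_not.2 (show i d ∈ {x | (Submodule.Quotient.mk ((L.presheaf.germ ⊤ x trivial) s) : Cyc.secFibre L x) = 0}
    from hD.1 ▸ ⟨d, rfl⟩))

theorem gysinChoice_of_notMem {i : D ⟶ X} {s : L.presheaf.obj (Opposite.op ⊤)} (hD : Cyc.IsZeroSchemeOf i L s)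
    (w : (ξ : X) → Cyc.secFibre L ξ) {ξ : X} (hξ : ξ ∉ Set.range i) :
    Cyc.gysinChoice L s w ξ = Submodule.Quotient.mk ((L.presheaf.germ ⊤ ξ trivial) s) := by
  rw [hD.1] at hξ
  exact if_pos hξ

/-- Changing the sections at points of a closed subscheme changes `c₁ ∩ α` by a rational equivalence on it. -/
theorem ratEquiv_c1Cap_on (hL : PicF.IsInvertible L) (i : D ⟶ X) [IsClosedImmersion i] {δ : X → ℤ} {k : ℤ}
    {α : AlgebraicCycle X ℤ} (hα : α ∈ Cyc.Zk X δ (k + 1)) {s t : (ξ : X) → Cyc.secFibre L ξ}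
    (hs : ∀ ξ, s ξ ≠ 0) (ht : ∀ ξ, t ξ ≠ 0) (hst : ∀ ξ, α ξ ≠ 0 → ξ ∉ Set.range i → s ξ = t ξ)
    {γ γ' : AlgebraicCycle D ℤ} (hγ : ∀ d, γ d = Cyc.c1CapFun δ L ⇑α s (i d))
    (hγ' : ∀ d, γ' d = Cyc.c1CapFun δ L ⇑α t (i d)) : Cyc.RatEquiv (fun d => δ (i d)) k γ γ' := by
  classical
  choose ψ hψ hsψ using fun ξ => exists_ratio hL (ht ξ) (hs ξ)
  refine ⟨{d : D // α (i d) ≠ 0}, fun j => j.1,
    fun j => i.residueFieldMap j.1 ((X.residue (i j.1) (ψ (i j.1))) ^ (α (i j.1))),
    fun j => by_contra fun h => j.2 (hα _ h), fun j => (map_ne_zero _).2 (zpow_ne_zero _ (hψ _)),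
    fun d => ?_, fun d => ?_⟩
  · obtain ⟨W, hW, hdW, -⟩ := exists_isAffineOpen_mem_and_subset (U := (⊤ : X.Opens)) (x := i d) trivial
    refine ⟨i ⁻¹' (W : Set X), W.isOpen.preimage i.continuous, hdW,
      ((finite_support_inter α hW).preimage (f := fun j : {d : D // α (i d) ≠ 0} => i j.1)
        (fun a _ b _ e => Subtype.ext (i.isClosedEmbedding.injective e))).subset ?_⟩
    rintro j ⟨y, hy1, hy2⟩
    exact ⟨(specializes_iff_mem_closure.2 hy1).map i.continuous |>.mem_open W.isOpen hy2, j.2⟩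
  · obtain ⟨W, hW, hdW, -⟩ := exists_isAffineOpen_mem_and_subset (U := (⊤ : X.Opens)) (x := i d) trivial
    have hI : ∀ ξ ∈ W, α ξ ≠ 0 → ξ ∈ (finite_support_inter α hW).toFinset := fun ξ h1 h2 =>
      (finite_support_inter α hW).mem_toFinset.2 ⟨h1, h2⟩
    let G : D → ℤ := fun e => Cyc.divFun (fun d => δ (i d)) e
      (i.residueFieldMap e ((X.residue (i e) (ψ (i e))) ^ (α (i e)))) d
    let J : Finset D := ((finite_support_inter α hW).toFinset).preimage i i.isClosedEmbedding.injective.injOn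
    show γ d - γ' d = _
    rw [hγ, hγ', c1CapFun_eq_sum δ (⇑α) s hdW _ hI, c1CapFun_eq_sum δ (⇑α) t hdW _ hI, ← Finset.sum_sub_distrib]
    show _ = ∑ᶠ j : {e : D // α (i e) ≠ 0}, G j.1
    rw [finsum_eq_sum_of_support_subset (s := J.subtype (fun e => α (i e) ≠ 0))
      (fun j : {e : D // α (i e) ≠ 0} => G j.1) (fun j hj => by
      rw [Finset.mem_coe, Finset.mem_subtype, Finset.mem_preimage]
      exact hI _ (((specializes_of_divFun_ne_zero hj).1.map i.continuous).mem_open W.isOpen hdW) j.2),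
      Finset.sum_subtype_eq_sum_filter G,
      Finset.filter_true_of_mem (fun e he => ((finite_support_inter α hW).mem_toFinset.1 (Finset.mem_preimage.1 he)).2),
      ← Finset.sum_preimage i (finite_support_inter α hW).toFinset i.isClosedEmbedding.injective.injOn _
        (fun ξ hξ hr => by rw [hst ξ ((finite_support_inter α hW).mem_toFinset.1 hξ).2 hr, sub_self])]
    refine Finset.sum_congr rfl fun e _ => ?_
    simp only [G]
    rw [divFun_preimmersion i δ e d, ← mul_sub, hsψ (i e), secDivFun_smul hL δ _ _ _ (hψ _) (ht _), add_sub_cancel_right]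
    simp only [Cyc.divFun]
    split_ifs with h
    · exact (ordFrac_zpow (hψ _) _).symm
    · rw [mul_zero]

end Groth.Agent.Cyc26
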