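import Groth.Agent.Lib.Cyc26.C1Key
import Groth.Agent.Lib.Cyc26.C1Pull
import Groth.Agent.Lib.Cyc26.Gysin

/-! # Commutation of divisors on the closure of a point -/

set_option autoImplicit false
universe u

set_option backward.isDefEq.respectTransparency.types false

open CategoryTheory AlgebraicGeometry TopologicalSpace
open scoped Classical

namespace Groth.Agent.Cyc26

variable {X W : Scheme.{u}} {δ : X → ℤ} {L N : X.Modules}

theorem secDivFun_pull (i : W ⟶ X) [IsPreimmersion i] (hL : PicF.IsInvertible L) (ξ w : W)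
    {σ : Cyc.secFibre L (i ξ)} (hσ : σ ≠ 0) :
    Cyc.secDivFun (fun z => δ (i z)) ((Scheme.Modules.pullback i).obj L) ξ (secPull i L ξ σ) w =
      Cyc.secDivFun δ L (i ξ) σ (i w) := by
  by_cases h : i ξ ⤳ i w
  · obtain ⟨U, e, hwU, -, -, he⟩ := Amp.exists_isGenerator hL (V := ⊤) (x := i w) trivial
    obtain ⟨φ, -, h1, h2⟩ := exists_local_eq i hL he (h.mem_open U.isOpen hwU) hσ
    rw [h2 (fun z => δ (i z)) w hwU, h1 δ (i w) hwU, divFun_preimmersion i δ ξ w φ]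
  · simp only [Cyc.secDivFun]
    rw [dif_neg fun h0 => h (h0.1.map i.continuous), dif_neg fun h0 => h h0.1]

/-- Capping a function supported in a closed subscheme. -/
theorem c1Cap_pull (i : W ⟶ X) [IsClosedImmersion i] (hN : PicF.IsInvertible N) (α : X → ℤ)
    (hα : ∀ ξ, α ξ ≠ 0 → ξ ∈ Set.range i) (α' : W → ℤ) (hα' : ∀ w, α' w = α (i w))
    {u : (ξ : X) → Cyc.secFibre N ξ} (hu : ∀ ξ, u ξ ≠ 0) (w : W) :
    Cyc.c1CapFun (fun z => δ (i z)) ((Scheme.Modules.pullback i).obj N) α' (fun ξ => secPull i N ξ (u (i ξ))) w =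
      Cyc.c1CapFun δ N α u (i w) := by
  show (∑ᶠ ξ : W, α' ξ * Cyc.secDivFun _ _ ξ _ w) = ∑ᶠ ξ : X, α ξ * Cyc.secDivFun δ N ξ (u ξ) (i w)
  rw [← finsum_mem_univ (fun ξ : X => α ξ * Cyc.secDivFun δ N ξ (u ξ) (i w)),
    ← finsum_mem_inter_support, Set.univ_inter]
  rw [show Function.support (fun ξ : X => α ξ * Cyc.secDivFun δ N ξ (u ξ) (i w)) =
      Set.range i ∩ Function.support (fun ξ : X => α ξ * Cyc.secDivFun δ N ξ (u ξ) (i w)) from
    (Set.inter_eq_right.2 fun ξ hξ => hα ξ (left_ne_zero_of_mul hξ)).symm, finsum_mem_inter_support,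
    finsum_mem_range i.isClosedEmbedding.injective]
  exact finsum_congr fun ξ => by rw [hα', secDivFun_pull i hN ξ w (hu (i ξ))]

theorem Ext.pull (i : W ⟶ X) [IsPreimmersion i] (hL : PicF.IsInvertible L) {η ξ : W} {s : Cyc.secFibre L (i η)}
    {v : Cyc.secFibre L (i ξ)} (h : η ⤳ ξ) (he : Ext L s (i ξ) v) :
    Ext ((Scheme.Modules.pullback i).obj L) (secPull i L η s) ξ (secPull i L ξ v) := by
  obtain ⟨h', g, hg, rfl, rfl⟩ := he
  refine ⟨h, pst i L ξ g, gen_pst i hL hg, secPull_fmk i ξ g, ?_⟩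
  rw [secPull_fmk, ← pst_stalkSpecializes i h g]

variable [IsLocallyNoetherian X]

/-- The commutation on the closure of a point. -/
theorem comm_family (hd : Cyc.IsDimFun X δ) (hL : PicF.IsInvertible L) (hN : PicF.IsInvertible N) (η : X)
    {s : Cyc.secFibre L η} (hs : s ≠ 0) {t : Cyc.secFibre N η} (ht : t ≠ 0) {u : (ξ : X) → Cyc.secFibre N ξ}
    (hu : ∀ ξ, u ξ ≠ 0) {v : (ξ : X) → Cyc.secFibre L ξ} (hv : ∀ ξ, v ξ ≠ 0) (S T : Set X)
    (hS : ∀ ξ, η ⤳ ξ → δ ξ + 1 = δ η → ξ ∉ S → Ext L s ξ (v ξ))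
    (hT : ∀ ξ, η ⤳ ξ → δ ξ + 1 = δ η → ξ ∉ T → Ext N t ξ (u ξ)) :
    RatFun δ (δ η - 2) (S ∩ T ∩ closure {η}) fun x => Cyc.c1CapFun δ N (Cyc.secDivFun δ L η s) u x -
      Cyc.c1CapFun δ L (Cyc.secDivFun δ N η t) v x := by
  obtain ⟨W, i, hi, hW, hrange, hgen⟩ := exists_closure_subscheme X η
  haveI := hi; haveI := hW
  subst hgen
  haveI : IsLocallyNoetherian W := LocallyOfFiniteType.isLocallyNoetherian i
  have hsp : ∀ ξ : W, i (genericPoint W) ⤳ i ξ := fun ξ => (genericPoint_specializes ξ).map i.continuous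
  have hmem : ∀ {M : X.Modules} {σ : Cyc.secFibre M (i (genericPoint W))} (ξ : X),
      Cyc.secDivFun δ M (i (genericPoint W)) σ ξ ≠ 0 → ξ ∈ Set.range i := fun {M σ} ξ h => by
    rw [hrange]; exact specializes_iff_mem_closure.1 (specializes_of_secDivFun_ne_zero h).1
  have key := comm_family_integral (X := W) (δ := fun z => δ (i z)) (isDimFun_closed i hd) (n := δ (i (genericPoint W)))
    rfl (Groth.Agent.Twist.isInvertible_pullback i hL) (Groth.Agent.Twist.isInvertible_pullback i hN)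
    (secPull_ne_zero i hL _ hs) (secPull_ne_zero i hN _ ht)
    (u := fun ξ => secPull i N ξ (u (i ξ))) (fun ξ => secPull_ne_zero i hN ξ (hu _))
    (v := fun ξ => secPull i L ξ (v (i ξ))) (fun ξ => secPull_ne_zero i hL ξ (hv _)) (i ⁻¹' S) (i ⁻¹' T)
    (fun ξ h1 h2 => (hS (i ξ) (hsp ξ) h1 h2).pull i hL (genericPoint_specializes ξ))
    (fun ξ h1 h2 => (hT (i ξ) (hsp ξ) h1 h2).pull i hN (genericPoint_specializes ξ))
  refine (key.pushClosed i (fun w => ?_) fun x hx => ?_).mono ?_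
  · rw [c1Cap_pull i hN (Cyc.secDivFun δ L _ s) hmem _ (fun z => secDivFun_pull i hL _ z hs) hu w,
      c1Cap_pull i hL (Cyc.secDivFun δ N _ t) hmem _ (fun z => secDivFun_pull i hN _ z ht) hv w]
  · have hz : ∀ {M M' : X.Modules} {σ : Cyc.secFibre M (i (genericPoint W))} (u' : (ξ : X) → Cyc.secFibre M' ξ),
        Cyc.c1CapFun δ M' (Cyc.secDivFun δ M _ σ) u' x = 0 := fun {M M' σ} u' =>
      finsum_eq_zero_of_forall_eq_zero fun ξ => by_contra fun h => hx (by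
        rw [hrange]
        exact specializes_iff_mem_closure.1 ((specializes_of_secDivFun_ne_zero (left_ne_zero_of_mul h)).1.trans
          (specializes_of_secDivFun_ne_zero (right_ne_zero_of_mul h)).1))
    rw [hz, hz, sub_zero]
  · rintro _ ⟨w, ⟨h1, h2⟩, rfl⟩
    exact ⟨⟨h1, h2⟩, hrange ▸ ⟨w, rfl⟩⟩

omit [IsLocallyNoetherian X] in
/-- `c₁ ∩` of a locally finite sum. -/
theorem c1CapFun_finsum {J : Type u} (ζ : J → X)
    (hζ : ∀ x : X, ∃ U : Set X, IsOpen U ∧ x ∈ U ∧ {j | (closure {ζ j} ∩ U).Nonempty}.Finite)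
    (a : J → AlgebraicCycle X ℤ) (ha : ∀ j ξ, a j ξ ≠ 0 → ζ j ⤳ ξ) {G : X → ℤ} (hG : ∀ ξ, G ξ = ∑ᶠ j, a j ξ)
    (v : (ξ : X) → Cyc.secFibre L ξ) (x : X) :
    Cyc.c1CapFun δ L G v x = ∑ᶠ j, Cyc.c1CapFun δ L ⇑(a j) v x := by
  obtain ⟨U, hU, hxU, hJ⟩ := hζ x
  obtain ⟨V, hV, hxV, hVU⟩ := exists_isAffineOpen_mem_and_subset (U := (⟨U, hU⟩ : X.Opens)) (x := x) hxU
  have hj : ∀ j ξ, ξ ∈ V → a j ξ ≠ 0 → j ∈ hJ.toFinset := fun j ξ hξ hne =>
    hJ.mem_toFinset.2 ⟨ξ, specializes_iff_mem_closure.1 (ha j ξ hne), hVU hξ⟩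
  let I : Finset X := hJ.toFinset.biUnion fun j => (finite_support_inter (a j) hV).toFinset
  have hI : ∀ j ξ, ξ ∈ V → a j ξ ≠ 0 → ξ ∈ I := fun j ξ hξ hne =>
    Finset.mem_biUnion.2 ⟨j, hj j ξ hξ hne, (finite_support_inter (a j) hV).mem_toFinset.2 ⟨hξ, hne⟩⟩
  have hsum : ∀ ξ ∈ V, G ξ = ∑ j ∈ hJ.toFinset, a j ξ := fun ξ hξ =>
    (hG ξ).trans (finsum_eq_sum_of_support_subset _ fun j hne => hj j ξ hξ hne)
  rw [c1CapFun_eq_sum δ G v hxV I (fun ξ hξ hne => by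
      rw [hsum ξ hξ] at hne
      obtain ⟨j, -, hj'⟩ := Finset.exists_ne_zero_of_sum_ne_zero hne
      exact hI j ξ hξ hj'),
    finsum_eq_sum_of_support_subset (s := hJ.toFinset) (fun j => Cyc.c1CapFun δ L ⇑(a j) v x) (fun j hne => ?_)]
  · rw [Finset.sum_congr rfl fun j (_ : j ∈ hJ.toFinset) => c1CapFun_eq_sum δ (⇑(a j)) v hxV I (hI j),
      Finset.sum_comm]
    refine Finset.sum_congr rfl fun ξ hξ => ?_
    obtain ⟨j, -, hjξ⟩ := Finset.mem_biUnion.1 hξ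
    rw [hsum ξ ((finite_support_inter (a j) hV).mem_toFinset.1 hjξ).1, Finset.sum_mul]
  · by_contra hn
    refine hne (finsum_eq_zero_of_forall_eq_zero fun ξ => by_contra fun h0 => hn ?_)
    exact hj j ξ ((specializes_of_secDivFun_ne_zero (right_ne_zero_of_mul h0)).1.mem_open V.isOpen hxV)
      (left_ne_zero_of_mul h0)

omit [IsLocallyNoetherian X] in
theorem c1CapFun_smul (m : ℤ) (α : X → ℤ) (v : (ξ : X) → Cyc.secFibre L ξ) (x : X) :
    Cyc.c1CapFun δ L (fun ξ => m * α ξ) v x = m * Cyc.c1CapFun δ L α v x := by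
  simp only [Cyc.c1CapFun, mul_assoc]
  exact (mul_finsum _ _).symm

omit [IsLocallyNoetherian X] in
theorem c1CapFun_subtype (α : X → ℤ) (v : (ξ : X) → Cyc.secFibre L ξ) (x : X) :
    Cyc.c1CapFun δ L α v x = ∑ᶠ j : {ξ : X // α ξ ≠ 0}, α j.1 * Cyc.secDivFun δ L j.1 (v j.1) x := by
  rw [finsum_subtype_eq_finsum_cond (fun ξ : X => α ξ ≠ 0) (f := fun ξ : X => α ξ * Cyc.secDivFun δ L ξ (v ξ) x)]
  refine finsum_congr fun ξ => ?_
  rw [finsum_eq_if]
  split_ifs with h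
  · rfl
  · rw [not_not.1 h, zero_mul]

/-- A double cap product as a sum over the components of the cycle. -/
theorem c1Cap_c1Cap_apply (hd : Cyc.IsDimFun X δ) (hN : PicF.IsInvertible N) (α : AlgebraicCycle X ℤ)
    {v : (ξ : X) → Cyc.secFibre N ξ} (hv : ∀ ξ, v ξ ≠ 0) (w : (ξ : X) → Cyc.secFibre L ξ) (x : X) :
    Cyc.c1CapFun δ L (Cyc.c1CapFun δ N ⇑α v) w x =
      ∑ᶠ j : {ξ : X // α ξ ≠ 0}, α j.1 * Cyc.c1CapFun δ L (Cyc.secDivFun δ N j.1 (v j.1)) w x := by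
  choose a ha using fun j : {ξ : X // α ξ ≠ 0} => exists_cycle_secDivFun hN hd j.1 (hv j.1)
  rw [c1CapFun_finsum (fun j : {ξ : X // α ξ ≠ 0} => j.1) (locallyFinite_support α) (fun j => α j.1 • a j)
    (fun j ξ h => by
      have h' : α j.1 * a j ξ ≠ 0 := h
      rw [ha j] at h'
      exact (specializes_of_secDivFun_ne_zero (right_ne_zero_of_mul h')).1)
    (fun ξ => (c1CapFun_subtype (⇑α) v ξ).trans (finsum_congr fun j => by
      rw [← ha j]; rfl)) w x]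
  refine finsum_congr fun j => ?_
  rw [← ha j, ← c1CapFun_smul]
  rfl

end Groth.Agent.Cyc26
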