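import Groth.Agent.Lib.Cyc26.AffSpace

/-! # Cycles on schemes stratified by quasi-affine cells -/

set_option autoImplicit false
universe u

set_option backward.isDefEq.respectTransparency.types false

open CategoryTheory AlgebraicGeometry TopologicalSpace Limits
open scoped Classical

namespace Groth.Agent.Cyc26

variable {X W : Scheme.{u}}

/-- Push a finite family along a preimmersion of a quasi-compact scheme. -/
theorem exists_ratFun_of_preimmersion [CompactSpace W] (e : W ⟶ X) [IsPreimmersion e] {Z : Set X} (hZ : ∀ w, e w ∈ Z)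
    {δ : X → ℤ} {k : ℤ} {H : W → ℤ} (h : RatFun (fun w => δ (e w)) k Set.univ H) :
    ∃ G : X → ℤ, RatFun δ k Z G ∧ ∀ w, G (e w) = H w := by
  obtain ⟨ι, ξ, g, h1, h2, -, h4, h5⟩ := h
  haveI : Finite ι := by
    choose U hU hxU hfin using h4
    obtain ⟨t, ht⟩ := isCompact_univ.elim_finite_subcover U hU fun x _ => Set.mem_iUnion.2 ⟨x, hxU x⟩
    refine Set.finite_univ_iff.1 ((t.finite_toSet.biUnion fun x _ => hfin x).subset fun i _ => ?_)
    obtain ⟨x, hx, hi⟩ := Set.mem_iUnion₂.1 (ht (Set.mem_univ (ξ i)))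
    exact Set.mem_biUnion hx ⟨ξ i, subset_closure rfl, hi⟩
  choose g' hg' using fun i => (residueFieldMap_bijective e (ξ i)).2 (g i)
  refine ⟨fun x => ∑ᶠ i, Cyc.divFun δ (e (ξ i)) (g' i) x,
    ⟨ι, fun i => e (ξ i), g', h1, fun i h0 => h2 i (by rw [← hg' i, h0, map_zero]),
      fun i => hZ (ξ i), fun _ => ⟨Set.univ, isOpen_univ, trivial, Set.toFinite _⟩, fun x => rfl⟩, fun z => ?_⟩
  rw [h5]
  refine finsum_congr fun i => ?_
  rw [← hg' i, divFun_preimmersion e δ (ξ i) z (g' i)]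

/-- Restriction to an open subscheme. -/
theorem RatFun.toOpen {V : X.Opens} {δ : X → ℤ} {k : ℤ} {S : Set X} {G : X → ℤ} (h : RatFun δ k S G) :
    RatFun (fun v : (V : Scheme.{u}) => δ (V.ι v)) k Set.univ fun v => G (V.ι v) := by
  obtain ⟨ι, ξ, f, h1, h2, -, h4, h5⟩ := h
  have hr : ∀ i : {i : ι // ξ i ∈ V}, ∃ v : (V : Scheme.{u}), V.ι v = ξ i.1 := fun i => ⟨⟨ξ i.1, i.2⟩, rfl⟩
  choose v hv using hr
  have hfld : ∀ i, ∃ g : (V : Scheme.{u}).residueField (v i), g ≠ 0 ∧ ∀ w,
      Cyc.divFun (fun v : (V : Scheme.{u}) => δ (V.ι v)) (v i) g w = Cyc.divFun δ (ξ i.1) (f i.1) (V.ι w) := by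
    intro i
    have key : ∀ (z : X) (hz : V.ι (v i) = z) (φ : X.residueField z), φ ≠ 0 →
        ∃ g : (V : Scheme.{u}).residueField (v i), g ≠ 0 ∧ ∀ w,
          Cyc.divFun (fun v : (V : Scheme.{u}) => δ (V.ι v)) (v i) g w = Cyc.divFun δ z φ (V.ι w) := by
      rintro z rfl φ hφ
      exact ⟨V.ι.residueFieldMap (v i) φ, (map_ne_zero _).2 hφ, fun w => divFun_preimmersion V.ι δ (v i) w φ⟩
    exact key _ (hv i) _ (h2 i.1)
  choose g hg hge using hfld
  refine ⟨{i : ι // ξ i ∈ V}, v, g, fun i => (congrArg δ (hv i)).trans (h1 _), hg, fun _ => trivial, fun x => ?_, fun w => ?_⟩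
  · obtain ⟨U, hU, hxU, hfin⟩ := h4 (V.ι x)
    refine ⟨V.ι ⁻¹' U, hU.preimage V.ι.continuous, hxU, (hfin.preimage Subtype.val_injective.injOn).subset ?_⟩
    rintro i ⟨y, hy, hyU⟩
    refine ⟨V.ι y, ?_, hyU⟩
    rw [← hv i]
    exact specializes_iff_mem_closure.1 ((specializes_iff_mem_closure.2 hy).map V.ι.continuous)
  · show G (V.ι w) = _
    simp only [hge]
    rw [h5, finsum_subtype_eq_finsum_cond (f := fun i => Cyc.divFun δ (ξ i) (f i) (V.ι w)) (fun i => ξ i ∈ V)]
    refine finsum_congr fun i => ?_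
    by_cases hi : ξ i ∈ V
    · rw [finsum_eq_if, if_pos hi]
    · rw [finsum_eq_if, if_neg hi]
      by_contra hne
      exact hi ((specializes_of_divFun_ne_zero hne).1.mem_open V.isOpen w.2)

theorem isDimFun_immersion (e : W ⟶ X) [IsImmersion e] {δ : X → ℤ} (hd : Cyc.IsDimFun X δ) :
    Cyc.IsDimFun W fun w => δ (e w) := by
  intro a b h hne
  obtain ⟨h1, h2⟩ := hd _ _ (h.map e.continuous) (e.isEmbedding.injective.ne hne)
  refine ⟨h1, fun hi => h2 fun z hz hz' => ?_⟩
  obtain ⟨O, C, hO, hC, hOC⟩ := e.isLocallyClosed_range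
  have hb : e b ∈ O ∩ C := hOC ▸ Set.mem_range_self b
  have ha : e a ∈ O ∩ C := hOC ▸ Set.mem_range_self a
  obtain ⟨w, rfl⟩ : z ∈ Set.range e := hOC ▸ ⟨hz'.mem_open hO hb.1, hz.mem_closed hC ha.2⟩
  exact (hi w (e.isEmbedding.isInducing.specializes_iff.1 hz) (e.isEmbedding.isInducing.specializes_iff.1 hz')).imp
    (congrArg e) (congrArg e)

section Strata

variable {K : Type u} [Field K]

/-- A point of an immersed quasi-affine cell, not dense in the cell, is rationally equivalent to a cycle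
off the cell. -/
theorem exists_ratFun_cell {m : ℕ} (V : (PolySpec m K).Opens) (e : (V : Scheme.{u}) ⟶ X) [IsImmersion e]
    {δ : X → ℤ} (hd : Cyc.IsDimFun X δ) {ξ : X} (hξ : ξ ∈ Set.range e) (hgen : Set.range e ⊆ closure {ξ})
    {η : X} (hη : η ∈ Set.range e) (hne : η ≠ ξ) :
    ∃ G : X → ℤ, RatFun δ (δ η) (closure {ξ}) G ∧ ∀ x ∈ Set.range e, G x = if x = η then 1 else 0 := by
  haveI : CompactSpace (V : Scheme.{u}) := isCompact_iff_compactSpace.1 (NoetherianSpace.isCompact (V : Set (PolySpec m K)))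
  obtain ⟨u, rfl⟩ := hη
  obtain ⟨t, rfl⟩ := hξ
  haveI : Nonempty (V : Scheme.{u}) := ⟨u⟩
  haveI : IsIntegral (V : Scheme.{u}) := isIntegral_of_isOpenImmersion V.ι
  have ht : t = genericPoint (V : Scheme.{u}) := eq_genericPoint_of_maximal
    (e.isEmbedding.isInducing.specializes_iff.1 (specializes_iff_mem_closure.2 (hgen (Set.mem_range_self _))))
  let a : PolySpec m K ⟶ Spec (CommRingCat.of K) := Spec.map (CommRingCat.ofHom (algebraMap K (MvPolynomial (Fin m) K)))
  haveI : LocallyOfFiniteType a := (HasRingHomProperty.Spec_iff (P := @LocallyOfFiniteType)).2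
    (RingHom.finiteType_algebraMap.2 inferInstance)
  obtain ⟨-, hd0⟩ := exists_delta K a
  have hu : V.ι u ≠ genericPoint (PolySpec m K) := fun h => by
    have h0 : V.ι (genericPoint (V : Scheme.{u})) = genericPoint (PolySpec m K) :=
      eq_genericPoint_of_maximal (((genericPoint_specializes u).map V.ι.continuous).trans (specializes_of_eq h))
    exact hne (congrArg e ((V.ι.isEmbedding.injective (h.trans h0.symm)).trans ht.symm))
  have h1 := cellLike_polySpec K m _ hd0 (V.ι u) hu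
  unfold PtRat at h1
  have h2 : PtRat (fun v : (V : Scheme.{u}) => (FibDim14.rd a (V.ι v) : ℤ)) u :=
    h1.toOpen.congr fun v => if_congr V.ι.isEmbedding.injective.eq_iff rfl rfl
  have h3 : PtRat (fun v => δ (e v)) u :=
    h2.of_shift (dimFun_sub_const (isDimFun_immersion V.ι hd0) (isDimFun_immersion e hd))
  obtain ⟨G, hG, hGe⟩ := exists_ratFun_of_preimmersion e (fun w => hgen (Set.mem_range_self w)) h3
  refine ⟨G, hG, ?_⟩
  rintro _ ⟨w, rfl⟩
  rw [hGe]
  exact if_congr e.isEmbedding.injective.eq_iff.symm rfl rfl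

/-- Cycles on a stratified space. -/
theorem exists_strata_cycle [IsLocallyNoetherian X] [CompactSpace X] {δ : X → ℤ} (hd : Cyc.IsDimFun X δ)
    {ι : Type} [Finite ι] (U : ι → Set X) (ξ : ι → X) (hcov : ∀ x : X, ∃ i, x ∈ U i)
    (hdisj : ∀ i j, i ≠ j → Disjoint (U i) (U j))
    (hgen : ∀ i, ξ i ∈ U i ∧ U i ⊆ closure {ξ i})
    (hstrat : ∀ i j, (closure (U i) ∩ U j).Nonempty → U j ⊆ closure (U i))
    (hqa : ∀ i, ∃ (m : ℕ) (V : (PolySpec m K).Opens) (e : (V : Scheme.{u}) ⟶ X), IsImmersion e ∧ Set.range e = U i)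
    (k : ℤ) (α : AlgebraicCycle X ℤ) (hα : α ∈ Cyc.Zk X δ k) :
    ∃ β : AlgebraicCycle X ℤ, β ∈ Cyc.Zk X δ k ∧ (∀ x : X, β x ≠ 0 → ∃ i, x = ξ i) ∧
      RatFun δ k Set.univ fun x => α x - β x := by
  choose idx hidx using hcov
  have huniq : ∀ {x i}, x ∈ U i → idx x = i := fun {x i} h =>
    by_contra fun hne => Set.disjoint_left.1 (hdisj _ _ hne) (hidx x) h
  obtain ⟨B, hB⟩ : ∃ B : ℕ, ∀ i, δ (ξ i) ≤ k + B := by
    obtain ⟨b, hb⟩ := (Set.finite_range fun i => δ (ξ i) - k).bddAbove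
    exact ⟨b.toNat, fun i => by have h : δ (ξ i) - k ≤ b := hb ⟨i, rfl⟩; omega⟩
  suffices H : ∀ (n : ℕ) (α : AlgebraicCycle X ℤ), α ∈ Cyc.Zk X δ k →
      (∀ x, α x ≠ 0 → x ≠ ξ (idx x) → δ (ξ (idx x)) ≤ k + n) →
      ∃ β : AlgebraicCycle X ℤ, β ∈ Cyc.Zk X δ k ∧ (∀ x : X, β x ≠ 0 → ∃ i, x = ξ i) ∧
        RatFun δ k Set.univ fun x => α x - β x from H B α hα fun x _ _ => hB _
  intro n
  induction n with
  | zero =>
    intro α hα hsupp
    refine ⟨α, hα, fun x hx => ⟨idx x, ?_⟩, RatFun.zero fun x => sub_self _⟩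
    by_contra hne
    have h1 := hsupp x hx hne
    have h2 : δ x = k := by_contra fun h => hx (hα x h)
    have := (hd _ x (specializes_iff_mem_closure.2 ((hgen _).2 (hidx x))) fun e => hne e.symm).1
    omega
  | succ n ih =>
    intro α hα hsupp
    let J : Type u := {x : X // α x ≠ 0 ∧ x ≠ ξ (idx x) ∧ δ (ξ (idx x)) = k + (n + 1 : ℕ)}
    haveI : Finite J := Set.Finite.to_subtype
      ((α.locallyFiniteSupport.finite_inter_support_of_isCompact isCompact_univ).subset fun y hy => ⟨trivial, hy.1⟩)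
    have hJ : ∀ j : J, ∃ G : X → ℤ, RatFun δ k (closure {ξ (idx j.1)}) G ∧
        ∀ x ∈ U (idx j.1), G x = if x = j.1 then 1 else 0 := by
      rintro ⟨x, hx, hxg, -⟩
      obtain ⟨m, V, e, he, hrange⟩ := hqa (idx x)
      have h1 : δ x = k := by_contra fun h => hx (hα x h)
      have := exists_ratFun_cell V e hd (hrange ▸ (hgen _).1) (hrange ▸ (hgen _).2) (hrange ▸ hidx x) hxg
      rwa [h1, hrange] at this
    choose G hG hGe using hJ
    have hfam : RatFun δ k Set.univ fun x => ∑ᶠ j : J, α j.1 * G j x :=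
      RatFun.finsumSets (fun _ => Set.univ) (fun _ => isClosed_univ)
        (fun _ => ⟨Set.univ, isOpen_univ, trivial, Set.toFinite _⟩) _
        (fun j => ((hG j).mono (S' := Set.univ ∩ Set.univ) fun _ _ => ⟨trivial, trivial⟩).smul (α j.1))
    obtain ⟨c, hc⟩ := hfam.exists_cycle hd
    have hz : α - c ∈ Cyc.Zk X δ k := fun x hx => by
      show α x - c x = 0
      rw [hα x hx, hc, hfam.eq_zero_of_dim hx, sub_zero]
    obtain ⟨β, hβ, hβs, hrat⟩ := ih (α - c) hz fun x hx hne => by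
      by_contra hlt
      apply hx
      show α x - c x = 0
      rw [hc, sub_eq_zero]
      have hG0 : ∀ j : J, G j x = if x = j.1 then 1 else 0 := fun j => by
        by_cases hij : idx x = idx j.1
        · exact hGe j x (hij ▸ hidx x)
        · rw [if_neg fun e => hij (by rw [e])]
          by_contra hne0
          have hx1 : x ∈ closure {ξ (idx j.1)} := by
            by_contra h
            exact hne0 ((hG j).eq_zero_off isClosed_closure subset_rfl h)
          have hx2 : ξ (idx x) ∈ closure {ξ (idx j.1)} := by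
            have h3 : closure {ξ (idx j.1)} ⊆ closure (U (idx j.1)) :=
              closure_mono (Set.singleton_subset_iff.2 (hgen _).1)
            have h4 := hstrat _ _ ⟨x, h3 hx1, hidx x⟩ (hgen (idx x)).1
            exact closure_minimal (hgen _).2 isClosed_closure h4
          have hne' : ξ (idx j.1) ≠ ξ (idx x) := fun e => hij (huniq (e ▸ (hgen (idx x)).1) ▸ huniq (hgen (idx j.1)).1)
          have := (hd _ _ (specializes_iff_mem_closure.2 hx2) hne').1
          have := j.2.2.2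
          omega
      by_cases hxJ : α x ≠ 0 ∧ x ≠ ξ (idx x) ∧ δ (ξ (idx x)) = k + (n + 1 : ℕ)
      · rw [finsum_eq_single _ (⟨x, hxJ⟩ : J) fun j hj => ?_, hG0, if_pos rfl, mul_one]
        rw [hG0, if_neg fun e => hj (Subtype.ext e.symm), mul_zero]
      · have h0 : α x = 0 := by
          by_contra h
          refine hxJ ⟨h, hne, le_antisymm (hsupp x h hne) ?_⟩
          push_cast
          omega
        rw [h0, finsum_eq_zero_of_forall_eq_zero fun j => ?_]
        rw [hG0, if_neg, mul_zero]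
        rintro rfl
        exact hxJ j.2
    refine ⟨β, hβ, hβs, (hrat.add hfam).congr fun x => ?_⟩
    show α x - c x - β x + _ = _
    rw [hc]
    ring

end Strata

end Groth.Agent.Cyc26
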