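import Groth.Agent.Lib.Cyc26.SplitBase
import Groth.Agent.Lib.Cyc26.ChernFun
import Groth.Agent.Lib.HProj12.Local
import Groth.Agent.Lib.FibDim14.BaseChange

/-! # The splitting principle -/

set_option autoImplicit false
set_option linter.style.haveILetI false

universe u

open CategoryTheory Limits AlgebraicGeometry TopologicalSpace

set_option backward.isDefEq.respectTransparency false

noncomputable section

namespace Groth.Agent.Cyc26Split

open Groth.Agent
open scoped Classical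

variable {X Y P : Scheme.{u}}

/-- A filtration with invertible quotients. -/
def Filt (E : X.Modules) (r : ℕ) : Prop :=
  ∃ (M : Fin (r + 1) → X.Modules) (L : Fin r → X.Modules)
    (a : ∀ j : Fin r, M (Fin.castSucc j) ⟶ M (Fin.succ j)) (b : ∀ j : Fin r, M (Fin.succ j) ⟶ L j),
    IsZero (M 0) ∧ Nonempty (M (Fin.last r) ≅ E) ∧ (∀ j, PicF.IsInvertible (L j)) ∧
      ∀ j, ∃ h : a j ≫ b j = 0, (ShortComplex.mk (a j) (b j) h).ShortExact

theorem Filt.of_iso {E E' : X.Modules} {r : ℕ} (h : Filt E r) (e : E ≅ E') : Filt E' r := by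
  obtain ⟨M, L, a, b, h0, ⟨i⟩, hL, hex⟩ := h
  exact ⟨M, L, a, b, h0, ⟨i ≪≫ e⟩, hL, hex⟩

theorem filt_zero {E : X.Modules} (hE : FlatMod.IsFinLocFreeOfRank 0 E) : Filt E 0 := by
  refine ⟨fun _ => E, fun i => i.elim0, fun i => i.elim0, fun i => i.elim0, ?_, ⟨Iso.refl E⟩,
    fun i => i.elim0, fun i => i.elim0⟩
  rw [IsZero.iff_id_eq_zero]
  refine Scheme.Modules.hom_ext _ _ fun U => ?_
  ext a
  refine M1.section_ext _ _ fun x hx => ?_
  obtain ⟨e⟩ := CurveCoh17.nonempty_stalk_equiv hE x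
  exact e.injective (Subsingleton.elim _ _)

theorem Filt.pullback {E : X.Modules} {r : ℕ} (h : Filt E r) (f : Y ⟶ X) [Flat f] :
    Filt ((Scheme.Modules.pullback f).obj E) r := by
  obtain ⟨M, L, a, b, h0, ⟨i⟩, hL, hex⟩ := h
  haveI : (Scheme.Modules.pullback f).IsLeftAdjoint :=
    ⟨_, ⟨Scheme.Modules.pullbackPushforwardAdjunction f⟩⟩
  exact ⟨fun j => (Scheme.Modules.pullback f).obj (M j), fun j => (Scheme.Modules.pullback f).obj (L j),
    fun j => (Scheme.Modules.pullback f).map (a j), fun j => (Scheme.Modules.pullback f).map (b j),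
    (Scheme.Modules.pullback f).map_isZero h0, ⟨(Scheme.Modules.pullback f).mapIso i⟩,
    fun j => Twist.isInvertible_pullback f (hL j),
    fun j => shortExact_pullback f (a j) (b j) (hex j).1 (hex j).2⟩

/-- A filtration of a submodule with invertible quotient extends. -/
theorem Filt.extend {K E L₁ : X.Modules} {n : ℕ} (h : Filt K n) (hL₁ : PicF.IsInvertible L₁) (u : K ⟶ E)
    (v : E ⟶ L₁) (w : u ≫ v = 0) (hS : (ShortComplex.mk u v w).ShortExact) : Filt E (n + 1) := by
  obtain ⟨M, L, a, b, h0, ⟨i⟩, hL, hex⟩ := h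
  let M' : Fin (n + 1 + 1) → X.Modules := Fin.lastCases E M
  let L' : Fin (n + 1) → X.Modules := Fin.lastCases L₁ L
  have e0 : ∀ j : Fin (n + 1), M' (Fin.castSucc j) = M j := fun j => Fin.lastCases_castSucc ..
  have el : M' (Fin.last (n + 1)) = E := Fin.lastCases_last ..
  have eL : ∀ j : Fin n, L' (Fin.castSucc j) = L j := fun j => Fin.lastCases_castSucc ..
  have eLl : L' (Fin.last n) = L₁ := Fin.lastCases_last ..
  have es : ∀ j : Fin n, M' (Fin.succ (Fin.castSucc j)) = M (Fin.succ j) := fun j =>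
    (congrArg M' (Fin.succ_castSucc j).symm).trans (e0 (Fin.succ j))
  have esl : M' (Fin.succ (Fin.last n)) = E := (congrArg M' (Fin.succ_last n)).trans el
  have key : ∀ {A B C A' B' C' : X.Modules} (hA : A' = A) (hB : B' = B) (hC : C' = C) (f : A ⟶ B) (g : B ⟶ C)
      (w : f ≫ g = 0), (ShortComplex.mk f g w).ShortExact →
      ∃ h : (eqToHom hA ≫ f ≫ eqToHom hB.symm) ≫ (eqToHom hB ≫ g ≫ eqToHom hC.symm) = 0,
        (ShortComplex.mk _ _ h).ShortExact := by
    intro A B C A' B' C' hA hB hC f g w hfg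
    subst hA hB hC
    simp only [eqToHom_refl, Category.id_comp, Category.comp_id]
    exact ⟨w, hfg⟩
  refine ⟨M', L', Fin.lastCases (eqToHom (e0 (Fin.last n)) ≫ (i.hom ≫ u) ≫ eqToHom esl.symm)
      (fun j => eqToHom (e0 _) ≫ a j ≫ eqToHom (es j).symm),
    Fin.lastCases (eqToHom esl ≫ v ≫ eqToHom eLl.symm) (fun j => eqToHom (es j) ≫ b j ≫ eqToHom (eL j).symm),
    ?_, ⟨eqToIso el⟩, ?_, ?_⟩
  · have e : M' 0 = M 0 := e0 0
    rw [e]
    exact h0
  · intro j
    induction j using Fin.lastCases with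
    | last => rw [eLl]; exact hL₁
    | cast j => rw [eL]; exact hL j
  · intro j
    induction j using Fin.lastCases with
    | last =>
      simp only [Fin.lastCases_last]
      refine key (e0 (Fin.last n)) esl eLl (i.hom ≫ u) v (by rw [Category.assoc, w, comp_zero]) ?_
      exact ShortComplex.shortExact_of_iso (S₁ := ShortComplex.mk u v w)
        (ShortComplex.isoMk i.symm (Iso.refl _) (Iso.refl _) (by simp) (by simp)) hS
    | cast j =>
      simp only [Fin.lastCases_castSucc]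
      exact key (e0 _) (es j) (eL j) (a j) (b j) (hex j).1 (hex j).2

/-- Pullback along base changes of `π` is injective modulo rational equivalence. -/
def Inj (π : P ⟶ X) (δ : X → ℤ) (d : ℕ) : Prop :=
  ∀ (Y : Scheme.{u}) (f : Y ⟶ X) [LocallyOfFiniteType f] (δY : Y → ℤ), Cyc.IsSetup Y δY → Cyc.DeltaCompat f δY δ →
    ∀ (PY : Scheme.{u}) (πY : PY ⟶ Y) (g : PY ⟶ P), IsPullback g πY π f → ∀ (δPY : PY → ℤ),
    Cyc.IsSetup PY δPY → Cyc.DeltaCompat πY δPY δY → ∀ (k : ℤ) (α : AlgebraicCycle Y ℤ), α ∈ Cyc.Zk Y δY k →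
    ∀ β : AlgebraicCycle PY ℤ, ⇑β = Cyc.pullFun πY δPY δY d ⇑α → Cyc.RatEquivZero δPY (k + d) β →
      Cyc.RatEquivZero δY k α

/-- The properties kept along a tower of projective bundles. -/
structure Tower (π : P ⟶ X) (δ : X → ℤ) (d : ℕ) : Prop where
  proj : RelProj.IsLocallyProjective π
  proper : IsProper π
  flat : Flat π
  dim : Cyc.HasRelDim π d
  inj : Inj π δ d

theorem pullFun_iso (f : Y ⟶ X) [IsIso f] {δY : Y → ℤ} {δX : X → ℤ} (hf : ∀ y, δY y = δX (f y)) (α : X → ℤ)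
    (y : Y) : Cyc.pullFun f δY δX 0 α y = α (f y) := by
  rw [Cyc.pullFun, if_pos (by rw [hf, add_zero])]
  have hs : Function.Surjective (f.stalkMap y).hom :=
    ((ConcreteCategory.isIso_iff_bijective (f.stalkMap y)).1 inferInstance).2
  have h1 : (IsLocalRing.maximalIdeal (X.presheaf.stalk (f y))).map (f.stalkMap y).hom =
      IsLocalRing.maximalIdeal (Y.presheaf.stalk y) := by
    rw [← IsLocalRing.maximalIdeal_comap (f.stalkMap y).hom, Ideal.map_comap_of_surjective _ hs]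
  haveI : IsSimpleModule (Y.presheaf.stalk y) (Y.presheaf.stalk y ⧸ IsLocalRing.maximalIdeal (Y.presheaf.stalk y)) :=
    isSimpleModule_iff_isCoatom.2 (IsLocalRing.maximalIdeal.isMaximal _).out
  rw [h1, Module.length_eq_one]
  simp

theorem tower_id (δ : X → ℤ) : Tower (𝟙 X) δ 0 where
  proj := by
    have hO : FlatMod.IsFinLocFreeOfRank (0 + 1) (Coh.structureModule X) :=
      M2.isFinLocFreeOfRank_of_iso (M2.freeModOneIso X) (M2.isFinLocFreeOfRank_freeMod X 1)
    obtain ⟨P, π, O1, q, hPB, hproj, hprop, -⟩ := exists_projBundle hO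
    obtain ⟨h, ⟨hg, -⟩, -⟩ := hPB.univ X (𝟙 X) _ hO
      ((Scheme.Modules.pullbackId X).hom.app (Coh.structureModule X)) inferInstance
    haveI : IsClosedImmersion (h ≫ π) := by rw [hg]; infer_instance
    haveI : IsClosedImmersion h := IsClosedImmersion.of_comp h π
    have hid : RelProj.IsProjective (𝟙 X) := hg ▸ QuotProj11.isProjective_comp_of_isClosedImmersion h hproj
    intro s
    refine ⟨⊤, trivial, ?_⟩
    have sq : IsPullback (((𝟙 X) ⁻¹ᵁ (⊤ : X.Opens)).ι) ((𝟙 X) ∣_ (⊤ : X.Opens)) (𝟙 X) (⊤ : X.Opens).ι :=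
      (isPullback_morphismRestrict (𝟙 X) _).flip
    rw [← sq.isoPullback_hom_snd]
    exact HProj12.isProjective_iso_comp _ (Groth.Agent.S4421.result _ hid _)
  proper := inferInstance
  flat := inferInstance
  dim := (FibDim14.hasRelDim_iff (𝟙 X) 0).2 fun x _ => by
    rw [FibDim14.rd, FibDim14.rdeg_eq_zero (𝟙 X)]
    simp
  inj := fun Y f _ δY hY _ PY πY g hsq δPY hPY hc k α hα β hβ h => by
    haveI : IsIso πY := MorphismProperty.of_isPullback (P := MorphismProperty.isomorphisms Scheme.{u}) hsq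
      (inferInstanceAs (IsIso (𝟙 X)))
    haveI := hY.1
    haveI := hPY.1
    have hd : ∀ z, δPY z = δY (πY z) := fun z => by
      obtain ⟨m, hm, hm'⟩ := hc z
      have : m = 0 := by exact_mod_cast (show FibDim14.rdeg πY z = m from hm).symm.trans (FibDim14.rdeg_eq_zero πY z)
      omega
    have hinv : ∀ y, δY y = δPY (inv πY y) := fun y => by
      rw [hd, ← Scheme.Hom.comp_apply, IsIso.inv_hom_id]
      rfl
    have := Cyc26.ratEquivZero_pullFun (inv πY) hY.2.2 hPY.2.2 (c := 0)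
      (fun z _ => by rw [add_zero]; exact hinv z) h α (by
        funext y
        rw [pullFun_iso (inv πY) hinv, hβ, Nat.cast_zero, pullFun_iso πY hd, ← Scheme.Hom.comp_apply,
          IsIso.inv_hom_id]
        rfl)
    simpa using this

theorem hasRelDim_bundle {E : X.Modules} {π : P ⟶ X} [IsProper π] {O1 : P.Modules}
    {φ : E ⟶ (Scheme.Modules.pushforward π).obj O1} {n : ℕ} (hB : Cyc26PB.UBundle π E O1 φ)
    (hE : FlatMod.IsFinLocFreeOfRank (n + 1) E) : Cyc.HasRelDim π n := by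
  haveI := Cyc26PB.isIntegral_fibre hB hE
  obtain ⟨δP, hP⟩ := P1S26.exists_deltaCompat π (fun _ : X => (0 : ℤ))
  refine (FibDim14.hasRelDim_iff π n).2 fun x hx => ?_
  have h1 : δP x = 0 + n :=
    (congrArg δP (Cyc26.eq_fgen_of_maximal π fun w h h' => hx w h' h)).trans (Cyc26PB.delta_fgen hB hE hP (π x))
  rw [UCat26.delta_eq_add_rd π hP x] at h1
  simpa using h1

/-- One bundle on top of a tower. -/
theorem Tower.step {δ : X → ℤ} {π : P ⟶ X} {d : ℕ} (hT : Tower π δ d) {P' : Scheme.{u}} {E : P.Modules}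
    {π' : P' ⟶ P} [IsProper π'] {O1 : P'.Modules} {φ : E ⟶ (Scheme.Modules.pushforward π').obj O1} {n : ℕ}
    (hB : Cyc26PB.UBundle π' E O1 φ) (hE : FlatMod.IsFinLocFreeOfRank (n + 1) E) (hproj : RelProj.IsProjective π') :
    Tower (π' ≫ π) δ (n + d) := by
  haveI := hT.proper
  haveI := hT.flat
  haveI := Cyc26PB.flat_bundle hB hE
  refine ⟨fun s => ?_, inferInstance, inferInstance, FibDim14.hasRelDim_comp π' π (hasRelDim_bundle hB hE) hT.dim,
    fun Y f _ δY hY hfδ PY πY g hsq δPY hPY hc k α hα β hβ h => ?_⟩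
  · obtain ⟨U, hsU, hU⟩ := hT.proj s
    obtain ⟨V, hV, hsV, hVU⟩ := exists_isAffineOpen_mem_and_subset (X := X) (x := s) (U := U) hsU
    haveI : IsAffine (V : Scheme.{u}) := hV
    refine ⟨V, hsV, ?_⟩
    rw [morphismRestrict_comp]
    refine HProj12.isProjective_comp _ _ ?_ (HProj12.isProjective_restrict π hVU hU)
    have sq : IsPullback ((π' ⁻¹ᵁ (π ⁻¹ᵁ V)).ι) (π' ∣_ (π ⁻¹ᵁ V)) π' (π ⁻¹ᵁ V).ι :=
      (isPullback_morphismRestrict π' _).flip
    rw [← sq.isoPullback_hom_snd]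
    exact HProj12.isProjective_iso_comp _ (Groth.Agent.S4421.result _ hproj _)
  · haveI := hY.1
    haveI := hPY.1
    let Q := pullback π f
    let πQ : Q ⟶ Y := pullback.snd π f
    have sqQ : IsPullback (pullback.fst π f) πQ π f := IsPullback.of_hasPullback π f
    haveI : IsProper πQ := MorphismProperty.of_isPullback sqQ hT.proper
    haveI : Flat πQ := MorphismProperty.of_isPullback sqQ hT.flat
    obtain ⟨δQ, hQc⟩ := P1S26.exists_deltaCompat πQ δY
    have hQ := isSetup_of_lft πQ hY hQc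
    haveI := hQ.1
    let h' : PY ⟶ Q := sqQ.lift (g ≫ π') πY (by rw [Category.assoc]; exact hsq.w)
    have hh : h' ≫ πQ = πY := sqQ.lift_snd _ _ _
    have sqh : IsPullback g h' π' (pullback.fst π f) := by
      refine IsPullback.of_bot ?_ (sqQ.lift_fst _ _ _).symm sqQ
      rw [hh]
      exact hsq
    haveI : IsProper h' := MorphismProperty.of_isPullback sqh ‹_›
    obtain ⟨φ', hB'⟩ := Cyc26PB.exists_uBundle_baseChange hB sqh
    have hE' := M2.isFinLocFreeOfRank_pullback (pullback.fst π f) hE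
    have hch := Cyc26A.deltaCompat_of_comp h' πQ hh hc hQc
    have hs' := Cyc26A.shift_bundle hB' hE' hPY.2.2 hch
    have hs : Cyc26A.Shift πQ δQ δY (d : ℤ) := fun z hz =>
      Cyc26.shift_of_hasRelDim πQ (FibDim14.hasRelDim_baseChange sqQ hT.dim) hQc z hz
    let γ := Cyc26A.pullCycle πQ hQ.2.2 hs α
    have hγ : ⇑γ = Cyc.pullFun πQ δQ δY d ⇑α := Cyc26A.pullCycle_coe πQ hQ.2.2 hs α
    have hγk : γ ∈ Cyc.Zk Q δQ (k + d) := Cyc26.pullFun_mem_Zk πQ hα hγ
    haveI := Cyc26PB.flat_bundle hB' hE'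
    have hβγ : ⇑β = Cyc.pullFun h' δPY δQ n ⇑γ := by
      rw [hγ, ← (Cyc26.pullFun_comp_shift h' πQ hPY.2.2 hQ.2.2 hs hs' (⇑α)).2, hβ, hh]
      congr 1
      push_cast
      ring
    refine hT.inj Y f δY hY hfδ Q πQ (pullback.fst π f) sqQ δQ hQ hQc k α hα γ hγ (Cyc26A.ratEquivZero_of_mk hγk ?_)
    have h0 : Cyc26A.pullB hB' hE' hQ.2.2 hPY.2.2 hch (Cyc26A.mk δQ γ) = 0 :=
      (Cyc26A.pullB_mk hB' hE' hQ.2.2 hPY.2.2 hch γ β hβγ).trans
        (Cyc26A.mk_eq_zero_of_ratEquivZero (k := k + ((n + d : ℕ) : ℤ)) h)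
    simpa using Cyc26A.indep hB' hE' hQ.2.2 hPY.2.2 hch (Pi.single 0 (Cyc26A.mk δQ γ)) (by
      rw [Finset.sum_eq_single 0 (fun i _ hi => by rw [Pi.single_eq_of_ne hi, map_zero, map_zero])
        (fun h => absurd (Finset.mem_univ _) h), Pi.single_eq_same, h0, map_zero]) 0

/-- Split one module over a tower. -/
theorem exists_split : ∀ (r : ℕ) {P : Scheme.{u}} {δ : X → ℤ} {π : P ⟶ X} {d : ℕ}, Tower π δ d →
    ∀ {E : P.Modules}, FlatMod.IsFinLocFreeOfRank r E → ∃ (P' : Scheme.{u}) (g : P' ⟶ P) (d' : ℕ),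
      Flat g ∧ Tower (g ≫ π) δ d' ∧ Filt ((Scheme.Modules.pullback g).obj E) r
  | 0, P, δ, π, d, hT, E, hE => ⟨P, 𝟙 P, d, inferInstance, by rwa [Category.id_comp],
      filt_zero (M2.isFinLocFreeOfRank_pullback (𝟙 P) hE)⟩
  | n + 1, P, δ, π, d, hT, E, hE => by
    obtain ⟨P₁, π₁, O1, q, hPB, hproj, hprop, hK⟩ := exists_projBundle hE
    haveI := hprop
    have hB := Cyc26PB.uBundle_projBundle hPB
    haveI := Cyc26PB.flat_bundle hB hE
    obtain ⟨P₂, g, d', hg, hT', hF⟩ := exists_split n (hT.step hB hE hproj) hK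
    haveI := hg
    haveI := hPB.epi
    obtain ⟨w, hS⟩ := shortExact_pullback g (kernel.ι q) q (kernel.condition q) { exact := ShortComplex.exact_kernel q }
    refine ⟨P₂, g ≫ π₁, d', inferInstance, by rwa [Category.assoc], ?_⟩
    exact (hF.extend (Twist.isInvertible_pullback g hB.inv) _ _ w hS).of_iso
      ((Scheme.Modules.pullbackComp g π₁).app E)

/-- Split finitely many modules. -/
theorem exists_splitting (δ : X → ℤ) : ∀ (m : ℕ) (E : Fin m → X.Modules) (rk : Fin m → ℕ),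
    (∀ i, FlatMod.IsFinLocFreeOfRank (rk i) (E i)) → ∃ (P : Scheme.{u}) (π : P ⟶ X) (d : ℕ), Tower π δ d ∧
      ∀ i, Filt ((Scheme.Modules.pullback π).obj (E i)) (rk i)
  | 0, _, _, _ => ⟨X, 𝟙 X, 0, tower_id δ, fun i => i.elim0⟩
  | m + 1, E, rk, hE => by
    obtain ⟨P, π, d, hT, hF⟩ := exists_splitting δ m (fun i => E (Fin.castSucc i)) _ fun i => hE (Fin.castSucc i)
    obtain ⟨P', g, d', hg, hT', hF'⟩ := exists_split (rk (Fin.last m)) hT
      (M2.isFinLocFreeOfRank_pullback π (hE (Fin.last m)))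
    haveI := hg
    refine ⟨P', g ≫ π, d', hT', fun i => ?_⟩
    induction i using Fin.lastCases with
    | last => exact hF'.of_iso ((Scheme.Modules.pullbackComp g π).app _)
    | cast i => exact ((hF i).pullback g).of_iso ((Scheme.Modules.pullbackComp g π).app _)

end Groth.Agent.Cyc26Split
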