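import Groth.Agent.Lib.Cyc26.Roots
import Groth.Agent.Lib.CurveCoh17.TensorExact
import Groth.Agent.Lib.TensorMod.PullTensor
import Groth.Agent.Lib.KFlat.LpullPC

/-! # Operations on filtrations with invertible quotients -/

set_option autoImplicit false
set_option linter.style.haveILetI false

universe u

open CategoryTheory Limits AlgebraicGeometry TopologicalSpace

set_option backward.isDefEq.respectTransparency false

noncomputable section

namespace Groth.Agent.Cyc26A

open Groth.Agent
open Groth.Agent.Cyc26Split (Filt)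

variable {X Y : Scheme.{u}}

theorem exists_filtL {E : X.Modules} {r : ℕ} (h : Filt E r) :
    ∃ L : Fin r → X.Modules, (∀ i, PicF.IsInvertible (L i)) ∧ FiltL E L := by
  obtain ⟨M, L, a, b, h0, e, hL, hex⟩ := h
  exact ⟨L, hL, M, a, b, h0, e, hex⟩

theorem FiltL.of_iso {E E' : X.Modules} {r : ℕ} {L : Fin r → X.Modules} (h : FiltL E L) (e : E ≅ E') : FiltL E' L := by
  obtain ⟨M, a, b, h0, ⟨i⟩, hex⟩ := h
  exact ⟨M, a, b, h0, ⟨i ≪≫ e⟩, hex⟩

theorem FiltL.congr {E : X.Modules} {r : ℕ} {L L' : Fin r → X.Modules} (h : FiltL E L) (e : ∀ i, L i ≅ L' i) :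
    FiltL E L' := by
  obtain ⟨M, a, b, h0, i, hex⟩ := h
  exact ⟨M, a, fun j => b j ≫ (e j).hom, h0, i, fun j => ⟨by rw [← Category.assoc, (hex j).1, zero_comp],
    ShortComplex.shortExact_of_iso (S₁ := ShortComplex.mk (a j) (b j) (hex j).1)
      (ShortComplex.isoMk (Iso.refl _) (Iso.refl _) (e j) (by simp) (by simp)) (hex j).2⟩⟩

theorem FiltL.pullback {E : X.Modules} {r : ℕ} {L : Fin r → X.Modules} (h : FiltL E L) (f : Y ⟶ X) [Flat f] :
    FiltL ((Scheme.Modules.pullback f).obj E) fun j => (Scheme.Modules.pullback f).obj (L j) := by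
  obtain ⟨M, a, b, h0, ⟨i⟩, hex⟩ := h
  haveI : (Scheme.Modules.pullback f).IsLeftAdjoint :=
    ⟨_, ⟨Scheme.Modules.pullbackPushforwardAdjunction f⟩⟩
  exact ⟨fun j => (Scheme.Modules.pullback f).obj (M j), fun j => (Scheme.Modules.pullback f).map (a j),
    fun j => (Scheme.Modules.pullback f).map (b j), (Scheme.Modules.pullback f).map_isZero h0,
    ⟨(Scheme.Modules.pullback f).mapIso i⟩,
    fun j => Cyc26Split.shortExact_pullback f (a j) (b j) (hex j).1 (hex j).2⟩

/-- Tensoring a filtration with a flat module. -/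
theorem FiltL.tensor {E : X.Modules} {r : ℕ} {L : Fin r → X.Modules} (h : FiltL E L) {N : X.Modules}
    (hN : FlatMod.IsFinLocFree N) : FiltL (CohB1.tensorMod E N) fun j => CohB1.tensorMod (L j) N := by
  obtain ⟨M, a, b, h0, ⟨i⟩, hex⟩ := h
  have hfl : ∀ x : X, Module.Flat (X.presheaf.stalk x) (N.presheaf.stalk x) := fun x =>
    KFlat.Sch.isFlat_of_isFinLocFree hN x
  exact ⟨fun j => (M2.tensorR N).obj (M j), fun j => (M2.tensorR N).map (a j), fun j => (M2.tensorR N).map (b j),
    (M2.tensorR N).map_isZero h0, ⟨(M2.tensorR N).mapIso i⟩, fun j =>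
    ⟨_, CurveCoh17.shortExact_tensorR (hex j).2 N hfl⟩⟩

theorem FiltL.extend {K E L₁ : X.Modules} {n : ℕ} {L : Fin n → X.Modules} (h : FiltL K L) (u : K ⟶ E)
    (v : E ⟶ L₁) (w : u ≫ v = 0) (hS : (ShortComplex.mk u v w).ShortExact) :
    FiltL E (Fin.lastCases L₁ L : Fin (n + 1) → X.Modules) := by
  obtain ⟨M, a, b, h0, ⟨i⟩, hex⟩ := h
  let M' : Fin (n + 1 + 1) → X.Modules := Fin.lastCases E M
  let L' : Fin (n + 1) → X.Modules := Fin.lastCases L₁ L
  have e0 : ∀ j : Fin (n + 1), M' (Fin.castSucc j) = M j := fun j => Fin.lastCases_castSucc ..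
  have el : M' (Fin.last (n + 1)) = E := Fin.lastCases_last ..
  have eL : ∀ j : Fin n, L' (Fin.castSucc j) = L j := fun j => Fin.lastCases_castSucc ..
  have eLl : L' (Fin.last n) = L₁ := Fin.lastCases_last ..
  have es : ∀ j : Fin n, M' (Fin.succ (Fin.castSucc j)) = M (Fin.succ j) := fun j =>
    (congrArg M' (Fin.succ_castSucc j).symm).trans (e0 (Fin.succ j))
  have esl : M' (Fin.succ (Fin.last n)) = E := (congrArg M' (Fin.succ_last n)).trans el
  have key : ∀ {A B C A' B' C' : X.Modules} (hA : A' = A) (hB : B' = B) (hC : C' = C) (f : A ⟶ B) (g : B ⟶ C)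
      (w : f ≫ g = 0), (ShortComplex.mk f g w).ShortExact →
      ∃ h : (eqToHom hA ≫ f ≫ eqToHom hB.symm) ≫ (eqToHom hB ≫ g ≫ eqToHom hC.symm) = 0,
        (ShortComplex.mk _ _ h).ShortExact := by
    intro A B C A' B' C' hA hB hC f g w hfg
    subst hA hB hC
    simp only [eqToHom_refl, Category.id_comp, Category.comp_id]
    exact ⟨w, hfg⟩
  refine ⟨M', Fin.lastCases (eqToHom (e0 (Fin.last n)) ≫ (i.hom ≫ u) ≫ eqToHom esl.symm)
      (fun j => eqToHom (e0 _) ≫ a j ≫ eqToHom (es j).symm),
    Fin.lastCases (eqToHom esl ≫ v ≫ eqToHom eLl.symm) (fun j => eqToHom (es j) ≫ b j ≫ eqToHom (eL j).symm),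
    ?_, ⟨eqToIso el⟩, ?_⟩
  · have e : M' 0 = M 0 := e0 0
    rw [e]
    exact h0
  · intro j
    induction j using Fin.lastCases with
    | last =>
      simp only [Fin.lastCases_last]
      refine key (e0 (Fin.last n)) esl eLl (i.hom ≫ u) v (by rw [Category.assoc, w, comp_zero]) ?_
      exact ShortComplex.shortExact_of_iso (S₁ := ShortComplex.mk u v w)
        (ShortComplex.isoMk i.symm (Iso.refl _) (Iso.refl _) (by simp) (by simp)) hS
    | cast j =>
      simp only [Fin.lastCases_castSucc]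
      exact key (e0 _) (es j) (eL j) (a j) (b j) (hex j).1 (hex j).2

/-- An invertible module is filtered by itself. -/
theorem filtL_single {N : X.Modules} : FiltL N ![N] := by
  obtain ⟨Z, hZ⟩ := HasZeroObject.zero (C := X.Modules)
  have h0 : FiltL Z (fun i : Fin 0 => N) :=
    ⟨fun _ => Z, fun i => i.elim0, fun i => i.elim0, hZ, ⟨Iso.refl Z⟩, fun i => i.elim0⟩
  haveI : Mono (0 : Z ⟶ N) := ⟨fun g h _ => hZ.eq_of_tgt g h⟩
  have hS : (ShortComplex.mk (0 : Z ⟶ N) (𝟙 N) (by simp)).ShortExact :=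
    { exact := (ShortComplex.exact_iff_mono _ rfl).2 (inferInstanceAs (Mono (𝟙 N)))
      mono_f := inferInstance
      epi_g := inferInstanceAs (Epi (𝟙 N)) }
  have h := h0.extend (0 : Z ⟶ N) (𝟙 N) _ hS
  have e : (Fin.lastCases N (fun _ : Fin 0 => N) : Fin (0 + 1) → X.Modules) = ![N] := by
    funext x
    fin_cases x
    rfl
  rwa [e] at h

/-- Concatenation of filtrations along a short exact sequence. -/
theorem filtL_concat : ∀ {r₂ r₁ : ℕ} {E₁ E E₂ : X.Modules} {L₁ : Fin r₁ → X.Modules} {L₂ : Fin r₂ → X.Modules},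
    FiltL E₁ L₁ → FiltL E₂ L₂ → ∀ (a : E₁ ⟶ E) (b : E ⟶ E₂) (hab : a ≫ b = 0),
    (ShortComplex.mk a b hab).ShortExact → FiltL E (Fin.append L₁ L₂) := by
  intro r₂
  induction r₂ with
  | zero =>
    intro r₁ E₁ E E₂ L₁ L₂ h₁ h₂ a b hab hS
    obtain ⟨M, _, _, h0, ⟨e⟩, -⟩ := h₂
    have hE₂ : IsZero E₂ := h0.of_iso e.symm
    haveI : Epi a := hS.exact.epi_f (hE₂.eq_of_tgt b 0)
    haveI : Mono a := hS.mono_f
    haveI : IsIso a := isIso_of_mono_of_epi a
    have e' : Fin.append L₁ L₂ = L₁ := by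
      funext x
      exact (Fin.append_left L₁ L₂ x : _)
    rw [e']
    exact h₁.of_iso (asIso a)
  | succ n ih =>
    intro r₁ E₁ E E₂ L₁ L₂ h₁ h₂ a b hab hS
    obtain ⟨M, c, d, h0, ⟨e⟩, hex⟩ := h₂
    obtain ⟨hcd, hlast⟩ := hex (Fin.last n)
    have hK : FiltL (M (Fin.castSucc (Fin.last n))) fun j : Fin n => L₂ (Fin.castSucc j) :=
      ⟨fun j => M (Fin.castSucc j), fun j => c (Fin.castSucc j) ≫ eqToHom (congrArg M (Fin.succ_castSucc j)),
        fun j => eqToHom (congrArg M (Fin.succ_castSucc j).symm) ≫ d (Fin.castSucc j), h0, ⟨Iso.refl _⟩, fun j => by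
        have key : ∀ {A B B' C : X.Modules} (hB : B = B') (f : A ⟶ B) (g : B ⟶ C) (w : f ≫ g = 0),
            (ShortComplex.mk f g w).ShortExact →
            ∃ h : (f ≫ eqToHom hB) ≫ (eqToHom hB.symm ≫ g) = 0, (ShortComplex.mk _ _ h).ShortExact := by
          intro A B B' C hB f g w hfg
          subst hB
          simp only [eqToHom_refl, Category.id_comp, Category.comp_id]
          exact ⟨w, hfg⟩
        exact key _ _ _ (hex (Fin.castSucc j)).1 (hex (Fin.castSucc j)).2⟩
    let el : M (Fin.succ (Fin.last n)) ≅ E₂ := eqToIso (congrArg M (Fin.succ_last n)) ≪≫ e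
    let v : E ⟶ L₂ (Fin.last n) := b ≫ el.inv ≫ d (Fin.last n)
    haveI : Epi b := hS.epi_g
    haveI : Mono a := hS.mono_f
    haveI : Epi (d (Fin.last n)) := hlast.epi_g
    haveI : Mono (c (Fin.last n)) := hlast.mono_f
    haveI : Epi (el.inv ≫ d (Fin.last n)) := epi_comp _ _
    haveI : Epi v := epi_comp _ _
    have hva : a ≫ v = 0 := by simp only [v, reassoc_of% hab, zero_comp]
    let a' : E₁ ⟶ kernel v := kernel.lift v a hva
    have hw : (kernel.ι v ≫ b ≫ el.inv) ≫ d (Fin.last n) = 0 := by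
      simp only [Category.assoc]
      exact kernel.condition v
    let b' : kernel v ⟶ M (Fin.castSucc (Fin.last n)) := hlast.exact.lift _ hw
    have hb' : b' ≫ c (Fin.last n) = kernel.ι v ≫ b ≫ el.inv := hlast.exact.lift_f _ hw
    have hab' : a' ≫ b' = 0 := by
      rw [← cancel_mono (c (Fin.last n)), Category.assoc, hb', zero_comp]
      simp [a', reassoc_of% hab]
    have hS' : (ShortComplex.mk a' b' hab').ShortExact := by
      have hm : Mono a' := mono_of_mono_fac (kernel.lift_ι v a hva)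
      refine { exact := ?_, mono_f := hm, epi_g := ?_ }
      · haveI := hm
        refine ShortComplex.exact_of_f_is_kernel _ (KernelFork.IsLimit.ofι' _ _ fun g hg => ?_)
        have hg' : (g ≫ kernel.ι v) ≫ b = 0 := by
          rw [← cancel_mono el.inv, Category.assoc, Category.assoc, ← hb', ← Category.assoc, hg, zero_comp, zero_comp]
        refine ⟨hS.exact.lift _ hg', ?_⟩
        rw [← cancel_mono (kernel.ι v), Category.assoc]
        exact (congrArg (hS.exact.lift _ hg' ≫ ·) (kernel.lift_ι v a hva)).trans (hS.exact.lift_f _ hg')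
      · refine (epi_iff_surjective_up_to_refinements b').2 fun A y => ?_
        obtain ⟨A', p, hp, x, hx⟩ := surjective_up_to_refinements_of_epi b (y ≫ c (Fin.last n) ≫ el.hom)
        have hxv : x ≫ v = 0 := by
          simp only [v]
          rw [← Category.assoc, ← hx]
          simp [hcd]
        refine ⟨A', p, hp, kernel.lift v x hxv, ?_⟩
        rw [← cancel_mono (c (Fin.last n)), Category.assoc, Category.assoc, hb', kernel.lift_ι_assoc, ← Category.assoc x,
          ← hx]
        simp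
    have e' : Fin.append L₁ L₂ = Fin.lastCases (L₂ (Fin.last n)) (Fin.append L₁ fun j => L₂ (Fin.castSucc j)) := by
      funext x
      induction x using Fin.lastCases with
      | last =>
        rw [Fin.lastCases_last]
        exact Fin.append_right L₁ L₂ (Fin.last n)
      | cast x =>
        rw [Fin.lastCases_castSucc]
        induction x using Fin.addCases with
        | left x =>
          rw [Fin.append_left, show Fin.castSucc (Fin.castAdd n x) = Fin.castAdd (n + 1) x from Fin.ext rfl,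
            Fin.append_left]
        | right x =>
          rw [Fin.append_right, show Fin.castSucc (Fin.natAdd r₁ x) = Fin.natAdd r₁ (Fin.castSucc x) from Fin.ext rfl,
            Fin.append_right]
    rw [e']
    exact (ih h₁ hK a' b' hab' hS').extend (kernel.ι v) v (kernel.condition v)
      { exact := ShortComplex.exact_kernel v }

/-- The filtration of a tensor product. -/
theorem filtL_tensor : ∀ {r : ℕ} {E F : X.Modules} {s : ℕ} {L : Fin r → X.Modules} {L' : Fin s → X.Modules},
    FiltL E L → FiltL F L' → (∀ i, PicF.IsInvertible (L i)) → FlatMod.IsFinLocFree F →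
    ∃ (N : ℕ) (K : Fin N → X.Modules) (σ : Fin N ≃ Fin r × Fin s), FiltL (CohB1.tensorMod E F) K ∧
      ∀ x, Nonempty (K x ≅ CohB1.tensorMod (L (σ x).1) (L' (σ x).2)) := by
  intro r
  induction r with
  | zero =>
    intro E F s L L' hE _ _ hF
    exact ⟨0, _, Equiv.equivOfIsEmpty _ _, hE.tensor hF, fun x => x.elim0⟩
  | succ n ih =>
    intro E F s L L' hE hF hL hFf
    obtain ⟨M, c, d, h0, ⟨e⟩, hex⟩ := hE
    obtain ⟨hcd, hlast⟩ := hex (Fin.last n)
    have hK : FiltL (M (Fin.castSucc (Fin.last n))) fun j : Fin n => L (Fin.castSucc j) :=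
      ⟨fun j => M (Fin.castSucc j), fun j => c (Fin.castSucc j) ≫ eqToHom (congrArg M (Fin.succ_castSucc j)),
        fun j => eqToHom (congrArg M (Fin.succ_castSucc j).symm) ≫ d (Fin.castSucc j), h0, ⟨Iso.refl _⟩, fun j => by
        have key : ∀ {A B B' C : X.Modules} (hB : B = B') (f : A ⟶ B) (g : B ⟶ C) (w : f ≫ g = 0),
            (ShortComplex.mk f g w).ShortExact →
            ∃ h : (f ≫ eqToHom hB) ≫ (eqToHom hB.symm ≫ g) = 0, (ShortComplex.mk _ _ h).ShortExact := by
          intro A B B' C hB f g w hfg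
          subst hB
          simp only [eqToHom_refl, Category.id_comp, Category.comp_id]
          exact ⟨w, hfg⟩
        exact key _ _ _ (hex (Fin.castSucc j)).1 (hex (Fin.castSucc j)).2⟩
    obtain ⟨N, K, σ, hKf, hKi⟩ := ih hK hF (fun j => hL _) hFf
    have hLF : FiltL (CohB1.tensorMod (L (Fin.last n)) F) fun l => CohB1.tensorMod (L (Fin.last n)) (L' l) :=
      ((hF.tensor (M2.isFinLocFree_of_isInvertible (hL (Fin.last n)))).of_iso (M2.tensorComm _ _)).congr
        fun l => M2.tensorComm _ _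
    have hfl : ∀ x : X, Module.Flat (X.presheaf.stalk x) (F.presheaf.stalk x) := fun x =>
      KFlat.Sch.isFlat_of_isFinLocFree hFf x
    have hT := CurveCoh17.shortExact_tensorR hlast F hfl
    let σ' : Fin (N + s) ≃ Fin (n + 1) × Fin s :=
      finSumFinEquiv.symm.trans ((Equiv.sumCongr σ ((Equiv.uniqueProd (Fin s) (Fin 1)).symm)).trans
        ((Equiv.sumProdDistrib (Fin n) (Fin 1) (Fin s)).symm.trans (finSumFinEquiv.prodCongr (Equiv.refl _))))
    refine ⟨N + s, _, σ', (filtL_concat hKf hLF _ _ _ hT).of_iso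
      ((M2.tensorR F).mapIso (eqToIso (congrArg M (Fin.succ_last n)) ≪≫ e)), fun x => ?_⟩
    induction x using Fin.addCases with
    | left x =>
      obtain ⟨i⟩ := hKi x
      rw [Fin.append_left]
      refine ⟨i ≪≫ eqToIso ?_⟩
      simp [σ']
      rfl
    | right x =>
      rw [Fin.append_right]
      refine ⟨eqToIso ?_⟩
      simp [σ']
      rfl

end Groth.Agent.Cyc26A
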