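import Groth.Agent.Lib.Cyc26.ChernRoots
import Groth.Agent.Lib.Cyc26.FiltTools
import Groth.Agent.Lib.EnriquesSeveri11.DualSeq
import Groth.Agent.Lib.LiftFib11.HomBC
import Groth.Agent.Lib.HilbObs3.Vanish
import Groth.Agent.Lib.TensorMod.Dual

/-! # Filtrations of duals, and the first Chern class of a dual line -/

set_option autoImplicit false
set_option linter.style.haveILetI false

universe u

open CategoryTheory Limits AlgebraicGeometry TopologicalSpace

set_option backward.isDefEq.respectTransparency.types false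

noncomputable section

namespace Groth.Agent.Cyc26A

open Groth.Agent
open Groth.Agent.CohMop (ihomNat dual)
open scoped Classical

variable {X Y : Scheme.{u}}

/-- The two internal homs agree. -/
def sheafHomIhomIso' (F : X.Modules) [DCoh.HasSheafHom F] : DCoh.sheafHom F ≅ CohMop.ihom F :=
  (DCoh.sheafHomAdj F).rightAdjointUniq
    ((CohMop.ihomAdj F).ofNatIsoLeft (KFlat.Site.flipObjIso X.sheaf F).symm)

theorem FiltL.cast {E : X.Modules} {a b : ℕ} {K : Fin a → X.Modules} (h : FiltL E K) (e : b = a) :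
    FiltL E (fun x => K (Fin.cast e x)) := by
  subst e
  exact h

/-- The dual of a filtered module is filtered by the duals. -/
theorem filtL_dual {E : X.Modules} {r : ℕ} {L : Fin r → X.Modules} (h : FiltL E L)
    (hL : ∀ i, PicF.IsInvertible (L i)) :
    ∃ K : Fin r → X.Modules, FiltL (dual E) K ∧ ∀ x, Nonempty (K x ≅ dual (L (Fin.rev x))) := by
  obtain ⟨M, a, b, h0, ⟨i⟩, hex⟩ := h
  suffices H : ∀ j : Fin (r + 1), ∃ K : Fin (j : ℕ) → X.Modules, FiltL (dual (M j)) K ∧
      ∀ x : Fin (j : ℕ), Nonempty (K x ≅ dual (L ⟨(j : ℕ) - 1 - (x : ℕ), by omega⟩)) by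
    obtain ⟨K, hK, hx⟩ := H (Fin.last r)
    refine ⟨fun x => K (Fin.cast (Fin.val_last r).symm x),
      (hK.cast (Fin.val_last r).symm).of_iso ((CohMop.ihomIso i).app _), fun x => ?_⟩
    obtain ⟨e⟩ := hx (Fin.cast (Fin.val_last r).symm x)
    refine ⟨e ≪≫ eqToIso (congrArg (fun l => dual (L l)) (Fin.ext ?_))⟩
    simp only [Fin.val_cast, Fin.val_last, Fin.val_rev]
    omega
  intro j
  induction j using Fin.induction with
  | zero =>
    refine ⟨fun x => x.elim0, ?_, fun x => x.elim0⟩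
    have hz : IsZero (dual (M 0)) := by
      rw [IsZero.iff_id_eq_zero]
      refine (CohMop.ihomMap_id (M 0) _).symm.trans ?_
      rw [h0.eq_of_src (𝟙 (M 0)) 0, CohMop.ihomMap, Functor.map_zero, zero_comp]
      exact Adjunction.homAddEquiv_zero _ _ _
    exact ⟨fun _ => dual (M 0), fun l => l.elim0, fun l => l.elim0, hz, ⟨Iso.refl _⟩, fun l => l.elim0⟩
  | succ j ih =>
    obtain ⟨K, hK, hx⟩ := ih
    obtain ⟨w, hS⟩ := hex j
    have h₃ : FlatMod.IsFinLocFree (L j) :=
      M2.isFinLocFree_of_ofRank ((M2.isInvertible_iff_isFinLocFreeOfRank_one _).1 (hL j))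
    have hd := ES11.shortExact_dual hS h₃
    have hc := filtL_concat filtL_single hK _ _ _ hd
    refine ⟨_, hc.cast (show ((j.succ : Fin (r + 1)) : ℕ) = 1 + ((j.castSucc : Fin (r + 1)) : ℕ) by simp [Nat.add_comm]),
      fun x => ?_⟩
    generalize hy : Fin.cast _ x = y
    have hxy : (x : ℕ) = (y : ℕ) := (congrArg Fin.val hy : _)
    induction y using Fin.addCases with
    | left l =>
      rw [Fin.append_left, show l = 0 from Subsingleton.elim _ _]
      refine ⟨eqToIso (congrArg (fun l => dual (L l)) (Fin.ext ?_))⟩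
      simp only [Fin.val_succ, Fin.val_castAdd] at hxy ⊢
      omega
    | right l =>
      rw [Fin.append_right]
      obtain ⟨e⟩ := hx l
      refine ⟨e ≪≫ eqToIso (congrArg (fun l => dual (L l)) (Fin.ext ?_))⟩
      simp only [Fin.val_succ, Fin.val_natAdd, Fin.val_castSucc] at hxy ⊢
      omega

theorem isInvertible_dual {L : X.Modules} (hL : PicF.IsInvertible L) : PicF.IsInvertible (dual L) := by
  obtain ⟨D, hD, ⟨e⟩⟩ := M2.exists_inverse hL
  obtain ⟨i⟩ := ES11.nonempty_dual_iso_of_inverse hL e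
  exact Twist.isInvertible_of_iso i.symm hD

/-- `c₁(L^∨) = -c₁(L)`. -/
theorem c1_dual [IsLocallyNoetherian X] {δ : X → ℤ} (hd : Cyc.IsDimFun X δ) {L : X.Modules}
    (hL : PicF.IsInvertible L) (a : A δ) : c1 hd (isInvertible_dual hL) a = - c1 hd hL a := by
  obtain ⟨D, hD, ⟨e⟩⟩ := M2.exists_inverse hL
  obtain ⟨i⟩ := ES11.nonempty_dual_iso_of_inverse hL e
  rw [c1_congr_iso hd (isInvertible_dual hL) hD i, eq_neg_iff_add_eq_zero, add_comm, ← c1_tensor hd hL hD,
    c1_congr_iso hd _ Cyc26.isInvertible_structure e, c1_structure]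

/-- The dual commutes with pullback. -/
theorem nonempty_pullback_sheafHom_iso (f : Y ⟶ X) {E : X.Modules} [DCoh.HasSheafHom E]
    (hE : FlatMod.IsFinLocFree E) :
    Nonempty ((Scheme.Modules.pullback f).obj ((DCoh.sheafHom E).obj (Coh.structureModule X)) ≅
      dual ((Scheme.Modules.pullback f).obj E)) := by
  haveI := HilbObs3.hasSheafHom ((Scheme.Modules.pullback f).obj E)
  obtain ⟨e₁⟩ := HilbObs3.nonempty_sheafHom_iso (A := E) (Coh.structureModule X)
  obtain ⟨e₂⟩ := HilbObs3.nonempty_sheafHom_iso (A := (Scheme.Modules.pullback f).obj E)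
    ((Scheme.Modules.pullback f).obj (Coh.structureModule X))
  haveI := LiftFib11.isIso_homCmp f hE (M2.isFinLocFree_of_ofRank
    (M2.isFinLocFreeOfRank_of_iso (M2.freeModOneIso X) (M2.isFinLocFreeOfRank_freeMod X 1)))
  exact ⟨(Scheme.Modules.pullback f).mapIso e₁ ≪≫ asIso (LiftFib11.homCmp f E (Coh.structureModule X)) ≪≫ e₂.symm ≪≫
    (sheafHomIhomIso' _).app _ ≪≫ (CohMop.ihom _).mapIso (Twist.pullbackUnitIso f)⟩

end Groth.Agent.Cyc26A
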