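import Groth.Agent.Lib.Cyc26.ChernFun
import Groth.Agent.Lib.UCat26.DimFun
import Groth.Agent.Lib.TensorMod.Invertible

/-! # Existence of Chern classes, and the commutation of Chern classes of two bundles -/

set_option autoImplicit false
set_option linter.style.haveILetI false

universe u

open CategoryTheory Limits AlgebraicGeometry TopologicalSpace

set_option backward.isDefEq.respectTransparency.types false

noncomputable section

namespace Groth.Agent.Cyc26A

open Groth.Agent.Cyc26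
open Groth.Agent.Cyc26PB (UBundle capIt)
open scoped Classical

section bundle

variable {X P : Scheme.{u}} [IsLocallyNoetherian X] [IsLocallyNoetherian P] {E : X.Modules} {π : P ⟶ X}
  [IsProper π] {O1 : P.Modules} {φ : E ⟶ (Scheme.Modules.pushforward π).obj O1} {n : ℕ} {δP : P → ℤ} {δ : X → ℤ}
  (hB : UBundle π E O1 φ) (hE : FlatMod.IsFinLocFreeOfRank (n + 1) E) (hdX : Cyc.IsDimFun X δ)
  (hd : Cyc.IsDimFun P δP) (hδ : Cyc.DeltaCompat π δP δ)

include hB hE hdX hd hδ in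
/-- The classes `c₁^i ∩ π^*` span the classes of each dimension. -/
theorem exists_coords (k : ℤ) (β : AlgebraicCycle P ℤ) (hβ : β ∈ Cyc.Zk P δP (k + n)) :
    ∃ a : Fin (n + 1) → AlgebraicCycle X ℤ, (∀ i : Fin (n + 1), a i ∈ Cyc.Zk X δ (k + ((i : ℕ) : ℤ))) ∧
      mk δP β = ∑ i : Fin (n + 1), c1p hd hB.inv (i : ℕ) (pullB hB hE hdX hd hδ (mk δ (a i))) := by
  obtain ⟨s, hs⟩ := exists_sec hB.inv
  have hc := shift_bundle hB hE hd hδ
  obtain ⟨a, ha, -, hr⟩ := Cyc26PB.exists_span hB hE hdX hd hδ (t := fun _ _ => s) (fun _ _ => hs) k (n + 1) le_rfl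
    β hβ fun x hx => by
      have h1 : δP x = k + n := by_contra fun h => hx (hβ x h)
      obtain ⟨m, -, h2⟩ := hδ x
      push_cast
      omega
  refine ⟨a, ha, ?_⟩
  let γ : AlgebraicCycle P ℤ := ∑ i : Fin (n + 1), capPow hd hB.inv (fun _ => hs) (i : ℕ) (pullCycle π hd hc (a i))
  have h : Cyc.RatEquiv δP (k + n) β γ := hr.ratEquivZero fun x => by
    show β x - γ x = _
    congr 1
    simp only [γ]
    rw [Cyc26PB.cycle_sum_apply]
    exact Finset.sum_congr rfl fun i _ => by rw [capPow_coe, pullCycle_coe]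
  rw [mk_eq_of_ratEquiv h, map_sum]
  exact Finset.sum_congr rfl fun i _ => by
    rw [mk_capPow, pullB_mk hB hE hdX hd hδ _ _ (pullCycle_coe π hd hc (a i))]

include hB hE hdX hd hδ in
/-- Chern classes exist. -/
theorem exists_chern (k : ℤ) (α : AlgebraicCycle X ℤ) (hα : α ∈ Cyc.Zk X δ k) :
    ∃ γ : Fin (n + 1 + 1) → AlgebraicCycle X ℤ, γ 0 = α ∧
      (∀ j : Fin (n + 1 + 1), γ j ∈ Cyc.Zk X δ (k - ((j : ℕ) : ℤ))) ∧
      chernRel hB hE hdX hd hδ (fun j => mk δ (γ j)) = 0 := by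
  obtain ⟨s, hs⟩ := exists_sec hB.inv
  have hc := shift_bundle hB hE hd hδ
  obtain ⟨b, hb, hb'⟩ := Cyc26PB.exists_cycle_term hB hE hd hδ (t := fun _ => s) (fun _ => hs) hα (n + 1)
  have hbe : b = capPow hd hB.inv (fun _ => hs) (n + 1) (pullCycle π hd hc α) := by
    ext z
    rw [capPow_coe, hb, pullCycle_coe]
  obtain ⟨a, ha, hab⟩ := exists_coords hB hE hdX hd hδ (k - ((n + 1 : ℕ) : ℤ)) b
    (by rwa [show k - ((n + 1 : ℕ) : ℤ) + n = k + n - ((n + 1 : ℕ) : ℤ) by ring])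
  refine ⟨Fin.cases α fun j => ((-1 : ℤ) ^ (j : ℕ)) • a (Fin.rev j), Fin.cases_zero, fun j => ?_, ?_⟩
  · induction j using Fin.cases with
    | zero => simpa using hα
    | succ j =>
      intro x hx
      beta_reduce
      rw [Fin.cases_succ, Function.locallyFinsuppWithin.coe_zsmul, Pi.smul_apply, ha (Fin.rev j) x (fun h => hx (by
        have e : ((Fin.rev j : ℕ) : ℤ) = n - j := by
          have := j.isLt
          rw [Fin.val_rev]
          omega
        rw [h, e, Fin.val_succ]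
        push_cast
        ring)), smul_zero]
  · rw [chernRel, Fin.sum_univ_castSucc, Fin.rev_last]
    beta_reduce
    rw [Fin.cases_zero, Fin.val_last,
      pullB_mk hB hE hdX hd hδ α _ (pullCycle_coe π hd hc α), ← mk_capPow hd hB.inv (fun _ => hs), ← hbe, hab,
      Finset.smul_sum, ← Finset.sum_add_distrib]
    refine Finset.sum_eq_zero fun i _ => ?_
    rw [Fin.rev_castSucc, Fin.cases_succ, Fin.rev_rev, Fin.val_castSucc, map_zsmul, map_zsmul, map_zsmul, smul_smul,
      ← add_zsmul]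
    have hi : (i : ℕ) + (Fin.rev i : ℕ) = n := by
      have := i.isLt
      rw [Fin.val_rev]
      omega
    rw [show (-1 : ℤ) ^ (i : ℕ) * (-1 : ℤ) ^ (Fin.rev i : ℕ) + (-1) ^ (n + 1) = 0 by
      rw [← pow_add, hi, pow_succ]; ring, zero_zsmul]

end bundle

section comm

variable {X P Q : Scheme.{u}} {E F : X.Modules} {π : P ⟶ X} [IsProper π] {π' : Q ⟶ X} [IsProper π']
  {O1 : P.Modules} {O1' : Q.Modules} {φ : E ⟶ (Scheme.Modules.pushforward π).obj O1}
  {ψ : F ⟶ (Scheme.Modules.pushforward π').obj O1'} {n m : ℕ} {δ : X → ℤ} {δP : P → ℤ} {δQ : Q → ℤ}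
  [IsLocallyNoetherian X] [IsLocallyNoetherian P] [IsLocallyNoetherian Q]
  (hB : UBundle π E O1 φ) (hE : FlatMod.IsFinLocFreeOfRank (n + 1) E)
  (hC : UBundle π' F O1' ψ) (hF : FlatMod.IsFinLocFreeOfRank (m + 1) F)
  (hdX : Cyc.IsDimFun X δ) (hdP : Cyc.IsDimFun P δP) (hQ : Cyc.IsSetup Q δQ)
  (hδ : Cyc.DeltaCompat π δP δ) (hδ' : Cyc.DeltaCompat π' δQ δ)

/-- If `y` satisfies the relation of `F` and `x l` that of `E` starting at `y l`, then each `x · i` satisfies that
of `F`. -/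
theorem chernRel_swap (y : Fin (m + 1 + 1) → A δ) (hy : chernRel hC hF hdX hQ.2.2 hδ' y = 0)
    (x : Fin (m + 1 + 1) → Fin (n + 1 + 1) → A δ) (hx0 : ∀ l, x l 0 = y l)
    (hx : ∀ l, chernRel hB hE hdX hdP hδ (x l) = 0) (i : Fin (n + 1 + 1)) :
    chernRel hC hF hdX hQ.2.2 hδ' (fun l => x l i) = 0 := by
  have hsq : IsPullback (pullback.fst π π') (pullback.snd π π') π π' := IsPullback.of_hasPullback π π'
  haveI : IsProper (pullback.snd π π') := MorphismProperty.of_isPullback hsq ‹_›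
  haveI : IsProper (pullback.fst π π') := MorphismProperty.of_isPullback hsq.flip ‹_›
  haveI : IsLocallyNoetherian (pullback π π' : Scheme.{u}) :=
    LocallyOfFiniteType.isLocallyNoetherian (pullback.snd π π')
  obtain ⟨δR, hR⟩ := P1S26.exists_deltaCompat (pullback.snd π π') δQ
  have hdR : Cyc.IsDimFun (pullback π π' : Scheme.{u}) δR := UCat26.isDimFun_of_deltaCompat _ hQ.2.1 hQ.2.2 hR
  have hR' := deltaCompat_fst hδ hR hsq hδ'
  obtain ⟨φ', hB'⟩ := Cyc26PB.exists_uBundle_baseChange hB hsq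
  have hE' := M2.isFinLocFreeOfRank_pullback π' hE
  obtain ⟨ψ', hC'⟩ := Cyc26PB.exists_uBundle_baseChange hC hsq.flip
  have hF' := M2.isFinLocFreeOfRank_pullback π hF
  haveI := Cyc26PB.flat_bundle hC hF
  haveI := Cyc26PB.flat_bundle hC' hF'
  have hs := shift_bundle hC hF hQ.2.2 hδ'
  have hs' := shift_bundle hC' hF' hdR hR'
  let T : Fin (n + 1 + 1) → A δQ := fun i => chernRel hC hF hdX hQ.2.2 hδ' fun l => x l i
  have hc1 : ∀ (z : Fin (n + 1 + 1) → A δQ), chernRel hB' hE' hQ.2.2 hdR hR z = 0 →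
      chernRel hB' hE' hQ.2.2 hdR hR (fun i => c1 hQ.2.2 hC.inv (z i)) = 0 := by
    intro z hz
    have hsnd := Groth.Agent.Twist.isInvertible_pullback (pullback.snd π π') hC.inv
    have h := congrArg (c1 hdR hsnd) hz
    rw [map_zero, chernRel, map_sum] at h
    rw [← h, chernRel]
    refine Finset.sum_congr rfl fun i _ => ?_
    rw [map_zsmul, c1p_comm, pullB_c1]
  have hpow : ∀ (e : ℕ) (z : Fin (n + 1 + 1) → A δQ), chernRel hB' hE' hQ.2.2 hdR hR z = 0 →
      chernRel hB' hE' hQ.2.2 hdR hR (fun i => c1p hQ.2.2 hC.inv e (z i)) = 0 := by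
    intro e
    induction e with
    | zero => exact fun z hz => hz
    | succ e ih => exact fun z hz => hc1 _ (ih z hz)
  have hT : chernRel hB' hE' hQ.2.2 hdR hR T = 0 := by
    have h0 : ∀ l : Fin (m + 1 + 1), chernRel hB' hE' hQ.2.2 hdR hR (fun i => c1p hQ.2.2 hC.inv (l : ℕ)
        (pullB hC hF hdX hQ.2.2 hδ' (x (Fin.rev l) i))) = 0 := fun l =>
      hpow (l : ℕ) _ (chernRel_pull hB hE hB' hE' hdX hQ.2.2 hdP hdR hδ hR hsq hs hs' (x (Fin.rev l)) (hx (Fin.rev l)))
    simp only [chernRel] at h0 ⊢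
    simp only [T, chernRel, map_sum, map_zsmul, Finset.smul_sum]
    rw [Finset.sum_comm]
    refine Finset.sum_eq_zero fun l _ => ?_
    simp only [smul_comm _ ((-1 : ℤ) ^ (l : ℕ))]
    rw [← Finset.smul_sum, h0 l, smul_zero]
  have h00 : T 0 = 0 := by
    show chernRel hC hF hdX hQ.2.2 hδ' (fun l => x l 0) = 0
    rw [funext hx0, hy]
  have hzero : chernRel hB' hE' hQ.2.2 hdR hR (0 : Fin (n + 1 + 1) → A δQ) = 0 := by
    simp [chernRel]
  exact congrFun (chern_unique hB' hE' hQ.2.2 hdR hR (y := 0) h00 hT hzero) i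

end comm

end Groth.Agent.Cyc26A
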