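import Mathlib.RingTheory.MvPolynomial.Symmetric.Defs
import Mathlib.Algebra.BigOperators.Ring.Finset
import Mathlib.Algebra.Polynomial.Coeff
import Mathlib.Data.Fintype.BigOperators
import Mathlib.Tactic.Ring
import Mathlib.Tactic.LinearCombination

/-! # Identities between elementary symmetric functions of roots -/

set_option autoImplicit false

universe u v

open Finset Polynomial

namespace Groth.Agent.RootPoly26

variable {R : Type u} [CommRing R] {ι : Type v} [Fintype ι]

/-- The elementary symmetric functions of a family of roots. -/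
def es (z : ι → R) (j : ℕ) : R :=
  ∑ I ∈ powersetCard j univ, ∏ x ∈ I, z x

theorem aeval_esymm {σ : Type} [Fintype σ] (z : σ → R) (j : ℕ) :
    MvPolynomial.aeval z (MvPolynomial.esymm σ ℤ j) = es z j := by
  simp [MvPolynomial.esymm, es, map_sum, map_prod]

theorem esymm_eq_es {σ : Type} [Fintype σ] (j : ℕ) :
    MvPolynomial.esymm σ ℤ j = es (MvPolynomial.X (R := ℤ) (σ := σ)) j := rfl

theorem es_eq_zero (z : ι → R) {j : ℕ} (h : Fintype.card ι < j) : es z j = 0 := by
  rw [es, powersetCard_eq_empty.2 (by simpa using h), sum_empty]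

theorem es_zero (z : ι → R) : es z 0 = 1 := by
  simp [es]

theorem es_one (z : ι → R) : es z 1 = ∑ x, z x := by
  rw [es, powersetCard_one, sum_map]
  exact Finset.sum_congr rfl fun x _ => prod_singleton ..

/-- The generating polynomial. -/
noncomputable def gen (z : ι → R) : R[X] := ∏ x, (C (z x) * X + 1)

theorem gen_eq_sum (z : ι → R) : gen z = ∑ I ∈ (univ : Finset ι).powerset, C (∏ x ∈ I, z x) * X ^ I.card := by
  classical
  rw [gen, prod_add]
  refine Finset.sum_congr rfl fun I _ => ?_
  rw [prod_const_one, mul_one, prod_mul_distrib, prod_const, map_prod]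

theorem coeff_gen (z : ι → R) (j : ℕ) : (gen z).coeff j = es z j := by
  rw [gen_eq_sum, finsetSum_coeff, es, powersetCard_eq_filter, sum_filter]
  refine Finset.sum_congr rfl fun I _ => ?_
  rw [coeff_C_mul_X_pow]
  by_cases h : I.card = j
  · rw [if_pos h.symm, if_pos h]
  · rw [if_neg (Ne.symm h), if_neg h]

theorem gen_eq_sum_es (z : ι → R) : gen z = ∑ a : Fin (Fintype.card ι + 1), C (es z (a : ℕ)) * X ^ (a : ℕ) := by
  ext j
  rw [coeff_gen, finsetSum_coeff]
  simp only [coeff_C_mul_X_pow]
  by_cases h : j ≤ Fintype.card ι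
  · rw [Finset.sum_eq_single ⟨j, Nat.lt_succ_of_le h⟩ (fun a _ ha => if_neg fun e => ha (Fin.ext e.symm))
      (fun h' => absurd (mem_univ _) h'), if_pos rfl]
  · rw [es_eq_zero z (by omega)]
    exact (Finset.sum_eq_zero fun a _ => if_neg (by have := a.isLt; omega)).symm

/-- Roots of a sum of two families. -/
theorem es_sum {κ : Type v} [Fintype κ] (x : ι → R) (y : κ → R) (j : ℕ) :
    es (Sum.elim x y) j = ∑ a : Fin (Fintype.card ι + 1), ∑ b : Fin (Fintype.card κ + 1),
      if (a : ℕ) + (b : ℕ) = j then es x (a : ℕ) * es y (b : ℕ) else 0 := by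
  rw [← coeff_gen, gen, Fintype.prod_sum_type]
  simp only [Sum.elim_inl, Sum.elim_inr]
  rw [← gen, ← gen, gen_eq_sum_es, gen_eq_sum_es, Finset.sum_mul, finsetSum_coeff]
  refine Finset.sum_congr rfl fun a _ => ?_
  rw [Finset.mul_sum, finsetSum_coeff]
  refine Finset.sum_congr rfl fun b _ => ?_
  rw [show C (es x (a : ℕ)) * X ^ (a : ℕ) * (C (es y (b : ℕ)) * X ^ (b : ℕ)) =
    C (es x (a : ℕ) * es y (b : ℕ)) * X ^ ((a : ℕ) + (b : ℕ)) by rw [map_mul, pow_add]; ring, coeff_C_mul_X_pow]
  by_cases h : (a : ℕ) + (b : ℕ) = j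
  · rw [if_pos h.symm, if_pos h]
  · rw [if_neg (Ne.symm h), if_neg h]

theorem es_reindex {κ : Type v} [Fintype κ] (e : κ ≃ ι) (z : ι → R) (j : ℕ) : es (z ∘ e) j = es z j := by
  rw [← coeff_gen, ← coeff_gen, gen, gen]
  exact congrArg (coeff · j) (e.prod_comp fun x => C (z x) * X + 1)

/-- One more root. -/
theorem es_sum_single {κ : Type v} [Fintype κ] [Unique ι] (x : ι → R) (y : κ → R) (i : ℕ) :
    es (Sum.elim x y) (i + 1) = es y (i + 1) + x default * es y i := by
  rw [← coeff_gen, gen, Fintype.prod_sum_type, Fintype.prod_unique]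
  simp only [Sum.elim_inl, Sum.elim_inr]
  rw [← gen, add_mul, one_mul, coeff_add, mul_assoc, coeff_C_mul, coeff_X_mul, coeff_gen, coeff_gen, add_comm]

/-- Shifting all roots by `t`. -/
theorem es_add_const (x : ι → R) (t : R) {i : ℕ} (hi : i ≤ Fintype.card ι) :
    es (fun l => x l + t) i = ∑ j : Fin (Fintype.card ι + 1), if (j : ℕ) ≤ i then
      ((Nat.choose (Fintype.card ι - i + j) j : ℕ) : ℤ) • (t ^ (j : ℕ) * es x (i - (j : ℕ))) else 0 := by
  classical
  rw [← coeff_gen, gen,
    show (∏ l, (C (x l + t) * X + 1)) = ∏ l, (C (x l) * X + (C t * X + 1)) from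
      prod_congr rfl fun l _ => by rw [map_add]; ring, prod_add, finsetSum_coeff]
  have h1 : ∀ I ∈ (univ : Finset ι).powerset,
      ((∏ l ∈ I, C (x l) * X) * ∏ _l ∈ univ \ I, (C t * X + 1)).coeff i =
        if I.card ≤ i then (∏ l ∈ I, x l) *
          (t ^ (i - I.card) * ((Nat.choose (Fintype.card ι - I.card) (i - I.card) : ℕ) : R)) else 0 := by
    intro I _
    rw [prod_mul_distrib, prod_const, prod_const, ← map_prod, card_univ_sdiff, mul_assoc, coeff_C_mul,
      coeff_X_pow_mul', add_comm (C t * X) 1, add_comm (1 : R[X]), add_pow, finsetSum_coeff]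
    split_ifs with h
    · congr 1
      rw [Finset.sum_eq_single (i - I.card) (fun m _ hm => ?_) fun hm => ?_]
      · rw [one_pow, mul_one, mul_pow, ← C_pow, ← C_eq_natCast, mul_comm (C (t ^ (i - I.card))) (X ^ _), mul_assoc,
          ← map_mul, coeff_X_pow_mul', if_pos le_rfl, Nat.sub_self, coeff_C_zero]
      · rw [one_pow, mul_one, mul_pow, ← C_pow, ← C_eq_natCast, mul_comm (C (t ^ m)) (X ^ _), mul_assoc,
          ← map_mul, coeff_X_pow_mul']
        split_ifs with hm'
        · rw [coeff_C, if_neg (by omega)]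
        · rfl
      · exact absurd (mem_range.2 (by omega)) hm
    · rw [mul_zero]
  rw [Finset.sum_congr rfl h1, ← Finset.sum_fiberwise_of_maps_to (g := fun I : Finset ι => I.card)
    (t := range (Fintype.card ι + 1)) (fun I _ => mem_range.2 (Nat.lt_succ_of_le (card_le_univ I))),
    ← Fin.sum_univ_eq_sum_range (fun c => ∑ I ∈ (univ : Finset ι).powerset with I.card = c,
      if I.card ≤ i then (∏ l ∈ I, x l) *
        (t ^ (i - I.card) * ((Nat.choose (Fintype.card ι - I.card) (i - I.card) : ℕ) : R)) else 0)]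
  let f : Fin (Fintype.card ι + 1) → Fin (Fintype.card ι + 1) := fun c =>
    if (c : ℕ) ≤ i then ⟨i - c, by omega⟩ else c
  refine (Finset.sum_bij (fun c _ => f c) (fun _ _ => mem_univ _) (fun a _ b _ h => ?_) (fun c _ => ⟨f c, mem_univ _, ?_⟩)
    fun c _ => ?_)
  · simp only [f] at h
    split_ifs at h with ha hb hb <;> simp only [Fin.ext_iff] at h ⊢ <;> omega
  · simp only [f]
    split_ifs with ha hb hb <;> simp only [Fin.ext_iff] at * <;> omega
  · simp only [f]
    split_ifs with hc hc' hc'
    · rw [es, powersetCard_eq_filter, show i - (i - (c : ℕ)) = (c : ℕ) by omega, Finset.mul_sum, Finset.smul_sum]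
      refine Finset.sum_congr rfl fun I hI => ?_
      rw [(mem_filter.1 hI).2, if_pos hc, show Fintype.card ι - i + (i - (c : ℕ)) = Fintype.card ι - (c : ℕ) by omega,
        zsmul_eq_mul, Int.cast_natCast]
      ring
    all_goals first
      | (dsimp only at *; omega)
      | omega
      | exact Finset.sum_eq_zero fun I hI => if_neg (by rw [(mem_filter.1 hI).2]; omega)

/-- Negating the roots. -/
theorem es_neg (z : ι → R) (j : ℕ) : es (fun x => - z x) j = (-1 : ℤ) ^ j • es z j := by
  rw [es, es, Finset.smul_sum]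
  refine Finset.sum_congr rfl fun I hI => ?_
  rw [Finset.prod_neg, (mem_powersetCard.1 hI).2, zsmul_eq_mul]
  push_cast
  rfl

/-- Sums of squares. -/
theorem two_es_two (z : ι → R) : 2 * es z 2 = (∑ x, z x) ^ 2 - ∑ x, z x ^ 2 := by
  classical
  suffices h : ∀ s : Finset ι, 2 * (∑ I ∈ powersetCard 2 s, ∏ x ∈ I, z x) =
      (∑ x ∈ s, z x) ^ 2 - ∑ x ∈ s, z x ^ 2 from h univ
  intro s
  induction s using Finset.induction_on with
  | empty =>
    rw [powersetCard_eq_empty.2 (by simp)]
    simp
  | insert a s ha ih =>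
    rw [powersetCard_succ_insert ha, sum_union, sum_image, powersetCard_one, sum_map, Finset.sum_insert ha,
      Finset.sum_insert ha]
    · have e : ∀ x ∈ s, ∏ w ∈ insert a ({x} : Finset ι), z w = z a * z x := fun x hx => by
        rw [Finset.prod_insert (by simpa using fun h : a = x => ha (h ▸ hx)), prod_singleton]
      simp only [Function.Embedding.coeFn_mk]
      rw [Finset.sum_congr rfl e, ← Finset.mul_sum]
      linear_combination ih
    · intro I hI J hJ hIJ
      rw [← Finset.erase_insert (fun h => ha ((mem_powersetCard.1 hI).1 h)),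
        ← Finset.erase_insert (fun h => ha ((mem_powersetCard.1 hJ).1 h))]
      exact congrArg (Finset.erase · a) hIJ
    · refine disjoint_left.2 fun I hI hI' => ?_
      obtain ⟨J, -, rfl⟩ := mem_image.1 hI'
      exact ha ((mem_powersetCard.1 hI).1 (mem_insert_self a J))

end Groth.Agent.RootPoly26

namespace Groth.Agent.RootPoly26

open Finset

variable {R : Type u} [CommRing R] {ι κ : Type v} [Fintype ι] [Fintype κ]

theorem es_one_prod (x : ι → R) (y : κ → R) :
    es (fun p : ι × κ => x p.1 + y p.2) 1 = (Fintype.card κ : ℕ) • es x 1 + (Fintype.card ι : ℕ) • es y 1 := by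
  rw [es_one, es_one, es_one, Fintype.sum_prod_type]
  simp [Finset.sum_add_distrib, Finset.smul_sum]

theorem two_choose_two (n : ℕ) : 2 * ((n.choose 2 : ℕ) : R) = (n : R) * ((n : R) - 1) := by
  induction n with
  | zero => simp
  | succ n ih =>
    rw [Nat.choose_succ_succ, Nat.choose_one_right]
    push_cast
    linear_combination ih

theorem es_two_prod [IsDomain R] [CharZero R] (x : ι → R) (y : κ → R) :
    es (fun p : ι × κ => x p.1 + y p.2) 2 = (Fintype.card ι : R) * es y 2 + (Fintype.card κ : R) * es x 2 +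
      (((Fintype.card ι).choose 2 : ℕ) : R) * es y 1 ^ 2 +
      ((Fintype.card ι : R) * (Fintype.card κ : R) - 1) * (es x 1 * es y 1) +
      (((Fintype.card κ).choose 2 : ℕ) : R) * es x 1 ^ 2 := by
  refine mul_left_cancel₀ (two_ne_zero (α := R)) ?_
  have hsq : ∑ p : ι × κ, (x p.1 + y p.2) ^ 2 = (Fintype.card κ : R) * (∑ l, x l ^ 2) +
      (Fintype.card ι : R) * (∑ m, y m ^ 2) + 2 * (es x 1 * es y 1) := by
    rw [Fintype.sum_prod_type, es_one, es_one, Finset.sum_mul_sum, Finset.mul_sum, Finset.mul_sum, Finset.mul_sum]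
    simp only [add_sq, Finset.sum_add_distrib, Finset.mul_sum, Finset.sum_const, card_univ, nsmul_eq_mul, mul_assoc]
    ring
  have hx := two_es_two x
  have hy := two_es_two y
  have h1 := es_one_prod x y
  have hw := two_es_two (fun p : ι × κ => x p.1 + y p.2)
  rw [← es_one] at hx hy hw
  rw [nsmul_eq_mul, nsmul_eq_mul] at h1
  rw [h1, hsq] at hw
  linear_combination hw - (Fintype.card κ : R) * hx - (Fintype.card ι : R) * hy
    - es y 1 ^ 2 * two_choose_two (R := R) (Fintype.card ι) - es x 1 ^ 2 * two_choose_two (R := R) (Fintype.card κ)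

end Groth.Agent.RootPoly26
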