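import Groth.Agent.Lib.Cyc26.FiltTools
import Groth.Agent.Lib.Cyc26.RootPoly

/-! # Computing with Chern classes through a splitting -/

set_option autoImplicit false
set_option linter.style.haveILetI false

universe u

open CategoryTheory Limits AlgebraicGeometry TopologicalSpace

set_option backward.isDefEq.respectTransparency.types false

noncomputable section

namespace Groth.Agent.Cyc26A

open Groth.Agent.Cyc26
open scoped Classical

/-- A base change along which classes inject. -/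
structure Sp {X : Scheme.{u}} (δ : X → ℤ) where of ::
  /-- the total space -/
  P : Scheme.{u}
  /-- the map to the base -/
  π : P ⟶ X
  /-- its relative dimension -/
  d : ℕ
  /-- the dimension function -/
  δP : P → ℤ
  tower : Cyc26Split.Tower π δ d
  setup : Cyc.IsSetup P δP
  compat : Cyc.DeltaCompat π δP δ

variable {X : Scheme.{u}} {δ : X → ℤ}

instance (S : Sp δ) : Flat S.π := S.tower.flat
instance (S : Sp δ) : IsProper S.π := S.tower.proper
instance (S : Sp δ) : IsLocallyNoetherian S.P := S.setup.1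

theorem Sp.shift (S : Sp δ) : Shift S.π S.δP δ (S.d : ℤ) := fun z hz =>
  Cyc26.shift_of_hasRelDim S.π S.tower.dim S.compat z hz

theorem Sp.hd (S : Sp δ) : Cyc.IsDimFun S.P S.δP := S.setup.2.2

/-- A splitting for finitely many modules. -/
theorem exists_sp (hX : Cyc.IsSetup X δ) (m : ℕ) (E : Fin m → X.Modules) (rk : Fin m → ℕ)
    (hE : ∀ i, FlatMod.IsFinLocFreeOfRank (rk i) (E i)) :
    ∃ S : Sp δ, ∀ i, ∃ L : Fin (rk i) → S.P.Modules, (∀ j, PicF.IsInvertible (L j)) ∧
      FiltL ((Scheme.Modules.pullback S.π).obj (E i)) L := by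
  obtain ⟨P, π, d, hT, hF⟩ := Cyc26Split.exists_splitting δ m E rk hE
  haveI := hT.proper
  obtain ⟨δP, hP⟩ := P1S26.exists_deltaCompat π δ
  exact ⟨⟨P, π, d, δP, hT, Cyc26Split.isSetup_of_lft π hX hP, hP⟩, fun i => exists_filtL (hF i)⟩

variable [IsLocallyNoetherian X] (hX : Cyc.IsSetup X δ) (S : Sp δ)

/-- Pull back of classes to the splitting. -/
def Sp.pl : A δ →+ A S.δP := pull S.π S.hd hX.2.2 S.shift

theorem Sp.pl_c1 {L : X.Modules} (hL : PicF.IsInvertible L) (a : A δ) :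
    S.pl hX (c1 hX.2.2 hL a) = c1 S.hd (Twist.isInvertible_pullback S.π hL) (S.pl hX a) :=
  pull_c1 S.π S.hd hX.2.2 S.shift hL a

theorem Sp.pl_c1_cycle {L : X.Modules} (hL : PicF.IsInvertible L) {s : (ξ : X) → Cyc.secFibre L ξ}
    (hs : ∀ ξ, s ξ ≠ 0) (α γ : AlgebraicCycle X ℤ) (hγ : ⇑γ = Cyc.c1CapFun δ L ⇑α s) :
    S.pl hX (mk δ γ) = c1 S.hd (Twist.isInvertible_pullback S.π hL) (S.pl hX (mk δ α)) := by
  rw [← S.pl_c1 hX hL, c1_mk hX.2.2 hL hs α γ hγ]

/-- Chern classes after pulling back. -/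
theorem Sp.pl_chern {r : ℕ} {E : X.Modules} (hE : FlatMod.IsFinLocFreeOfRank r E) {P : Scheme.{u}} {p : P ⟶ X}
    {O1 : P.Modules} {q : (Scheme.Modules.pullback p).obj E ⟶ O1} (hP : KRR.IsProjBundle p E O1 q) [IsProper p]
    {δP : P → ℤ} (hPs : Cyc.IsSetup P δP) (hp : Cyc.DeltaCompat p δP δ) {ι : Type} {M : ι → S.P.Modules}
    (hM : ∀ i, PicF.IsInvertible (M i)) {L : Fin r → S.P.Modules} (g : Fin r → MvPolynomial ι ℤ)
    (hL : ∀ i, PicF.IsInvertible (L i)) (hg : ∀ i a, c1 S.hd (hL i) a = op S.hd hM (g i) a)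
    (hF : FiltL ((Scheme.Modules.pullback S.π).obj E) L) {k : ℤ} {α : AlgebraicCycle X ℤ}
    {γ : Fin (r + 1) → AlgebraicCycle X ℤ} (hγ : Cyc.IsChernCap p δ δP O1 r k α γ) (j : Fin (r + 1)) :
    S.pl hX (mk δ (γ j)) = op S.hd hM (RootPoly26.es g (j : ℕ)) (S.pl hX (mk δ α)) := by
  refine (pull_chern S.π hX S.setup S.compat S.tower.dim S.shift hE hP hPs hp hL hF hγ j).trans ?_
  refine (op_comp S.hd hM hL g hg _ _).trans ?_
  have e : MvPolynomial.aeval g (MvPolynomial.esymm (Fin r) ℤ (j : ℕ)) = RootPoly26.es g (j : ℕ) := by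
    simp [MvPolynomial.esymm, RootPoly26.es, map_sum, map_prod]
  exact congrArg (fun z => op S.hd hM z (S.pl hX (mk δ α))) e

/-- Equality may be checked after pulling back. -/
theorem Sp.ratEquiv {k : ℤ} {α β : AlgebraicCycle X ℤ} (hα : α ∈ Cyc.Zk X δ k) (hβ : β ∈ Cyc.Zk X δ k)
    (h : S.pl hX (mk δ α) = S.pl hX (mk δ β)) : Cyc.RatEquiv δ k α β :=
  ratEquiv_of_pull S.tower hX S.setup S.compat S.shift hα hβ h

end Groth.Agent.Cyc26A
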