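import Groth.Agent.Lib.Cyc26.ChernRoots
import Groth.Agent.Lib.TensorMod.Invertible

/-! # Roots of a tensor product -/

set_option autoImplicit false
set_option linter.style.haveILetI false

universe u

open CategoryTheory Limits AlgebraicGeometry TopologicalSpace

set_option backward.isDefEq.respectTransparency.types false

noncomputable section

namespace Groth.Agent.Cyc26A

open Groth.Agent.Cyc26
open scoped Classical

variable {X : Scheme.{u}} {δ : X → ℤ} [IsLocallyNoetherian X] (hX : Cyc.IsSetup X δ) (S : Sp δ)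

theorem FiltL.finLocFree_pullback {r : ℕ} {E : X.Modules} (hE : FlatMod.IsFinLocFreeOfRank r E) :
    FlatMod.IsFinLocFree ((Scheme.Modules.pullback S.π).obj E) :=
  M2.isFinLocFree_of_ofRank (M2.isFinLocFreeOfRank_pullback S.π hE)

/-- Chern classes of a tensor product in terms of the roots of the factors. -/
theorem Sp.pl_chern_tensor {r s : ℕ} {E F : X.Modules} (hF : FlatMod.IsFinLocFreeOfRank s F)
    (hT : FlatMod.IsFinLocFreeOfRank (r * s) (CohB1.tensorMod E F)) {T : Scheme.{u}} {p : T ⟶ X} {O1 : T.Modules}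
    {q : (Scheme.Modules.pullback p).obj (CohB1.tensorMod E F) ⟶ O1}
    (hP : KRR.IsProjBundle p (CohB1.tensorMod E F) O1 q) [IsProper p] {δT : T → ℤ} (hTs : Cyc.IsSetup T δT)
    (hp : Cyc.DeltaCompat p δT δ) {L : Fin r → S.P.Modules} {L' : Fin s → S.P.Modules}
    (hL : ∀ i, PicF.IsInvertible (L i)) (hL' : ∀ i, PicF.IsInvertible (L' i))
    (hFE : FiltL ((Scheme.Modules.pullback S.π).obj E) L) (hFF : FiltL ((Scheme.Modules.pullback S.π).obj F) L')
    (hM : ∀ i, PicF.IsInvertible (Sum.elim L L' i)) {k : ℤ} {α : AlgebraicCycle X ℤ}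
    {τ : Fin (r * s + 1) → AlgebraicCycle X ℤ} (hτ : Cyc.IsChernCap p δ δT O1 (r * s) k α τ) (j : Fin (r * s + 1)) :
    S.pl hX (mk δ (τ j)) = op S.hd hM (RootPoly26.es (fun ab : Fin r × Fin s =>
      (MvPolynomial.X (Sum.inl ab.1) : MvPolynomial (Fin r ⊕ Fin s) ℤ) + MvPolynomial.X (Sum.inr ab.2)) (j : ℕ))
      (S.pl hX (mk δ α)) := by
  obtain ⟨N, K, σ, hK, hKi⟩ := filtL_tensor hFE hFF hL (FiltL.finLocFree_pullback S hF)
  obtain rfl : N = r * s := by simpa using Fintype.card_congr σ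
  have hinv : ∀ x, PicF.IsInvertible (K x) := fun x =>
    M2.isInvertible_of_iso (hKi x).some.symm (M2.isInvertible_tensor (hL (σ x).1) (hL' (σ x).2))
  refine (S.pl_chern hX hT hP hTs hp hM
    (fun x => MvPolynomial.X (Sum.inl (σ x).1) + MvPolynomial.X (Sum.inr (σ x).2)) hinv (fun x a => ?_)
    (hK.of_iso (M2.pullTensorIso S.π E F).symm) hτ j).trans ?_
  · rw [op_add]
    exact ((c1_congr_iso S.hd (hinv x) (M2.isInvertible_tensor (hL (σ x).1) (hL' (σ x).2)) (hKi x).some a).trans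
      (c1_tensor S.hd (hL (σ x).1) (hL' (σ x).2) a)).trans (congrArg₂ (· + ·)
        (op_X S.hd hM (Sum.inl (σ x).1) a).symm (op_X S.hd hM (Sum.inr (σ x).2) a).symm)
  · exact congrArg (fun z => op S.hd hM z (S.pl hX (mk δ α))) (RootPoly26.es_reindex σ (fun ab : Fin r × Fin s =>
      (MvPolynomial.X (Sum.inl ab.1) : MvPolynomial (Fin r ⊕ Fin s) ℤ) + MvPolynomial.X (Sum.inr ab.2)) _)

end Groth.Agent.Cyc26A
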