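import Groth.Agent.Lib.DimFormula14.Scheme
import Groth.Agent.Lib.FibDim14.Comp
import Mathlib.AlgebraicGeometry.ZariskisMainTheorem

/-! # Finiteness over codimension one points -/

set_option autoImplicit false
universe u

set_option backward.isDefEq.respectTransparency.types false

open CategoryTheory AlgebraicGeometry TopologicalSpace

namespace Groth.Agent.Cyc26

variable {X Y : Scheme.{u}}

theorem exists_nhd_isFinite [IsIntegral X] [IsIntegral Y] [IsLocallyNoetherian Y] (f : X ⟶ Y) [IsProper f]
    (hgen : f (genericPoint X) = genericPoint Y) (hfin : (f.residueFieldMap (genericPoint X)).hom.Finite) (ξ : Y)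
    (hξ : ringKrullDim (Y.presheaf.stalk ξ) = 1) : ∃ V : Y.Opens, ξ ∈ V ∧ IsFinite (f ∣_ V) := by
  haveI : IsLocallyNoetherian X := LocallyOfFiniteType.isLocallyNoetherian f
  have h0 : FibDim14.rd f (genericPoint X) = 0 := by
    letI := (f.residueFieldMap (genericPoint X)).hom.toAlgebra
    haveI : Module.Finite (Y.residueField (f (genericPoint X))) (X.residueField (genericPoint X)) := hfin
    have h : Algebra.trdeg (Y.residueField (f (genericPoint X))) (X.residueField (genericPoint X)) = 0 := trdeg_eq_zero
    show Cardinal.toNat (FibDim14.rdeg f (genericPoint X)) = 0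
    rw [show FibDim14.rdeg f (genericPoint X) = 0 from h, Cardinal.zero_toNat]
  have hne : ∀ x, f x = ξ → x ≠ genericPoint X := fun x hx e => by
    have h1 : Order.coheight (genericPoint Y) = 0 := Order.coheight_eq_zero.2 fun y _ => genericPoint_specializes y
    have h2 : Order.coheight ξ = 1 := WithBot.coe_eq_one.1 ((ringKrullDim_stalk_eq_coheight ξ).symm.trans hξ)
    have h3 : ξ = genericPoint Y := by rw [← hx, e, hgen]
    rw [h3, h1] at h2
    exact zero_ne_one h2
  have key : ∀ x, f x = ξ → FibDim14.rd f x = 0 := fun x hx => by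
    obtain ⟨η, hη, hη0, hle⟩ := DimFormula14.exists_stalkDim_add_rd_le f x
    have hηgen : η = genericPoint X := by
      rw [ringKrullDim_stalk_eq_coheight, WithBot.coe_eq_zero, Order.coheight_eq_zero] at hη0
      exact (Specializes.antisymm (hη0 (genericPoint_specializes η)) (genericPoint_specializes η)).eq
    rw [hx, hξ, hηgen, h0] at hle
    simp only [Nat.cast_zero, add_zero] at hle
    have h1 : (1 : WithBot ℕ∞) ≤ ringKrullDim (X.presheaf.stalk x) := by
      rw [ringKrullDim_stalk_eq_coheight]
      have hlt : x < genericPoint X := lt_of_le_not_ge (genericPoint_specializes x)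
        fun h => hne x hx (Specializes.antisymm (show x ⤳ genericPoint X from h) (genericPoint_specializes x)).eq
      exact WithBot.coe_le_coe.2 ((le_add_self).trans (Order.coheight_add_one_le hlt))
    by_contra hpos
    have h2 : (1 : WithBot ℕ∞) + 1 ≤ 1 := le_trans (add_le_add h1 (Nat.one_le_cast.2 (Nat.pos_of_ne_zero hpos))) hle
    exact absurd h2 (by decide)
  refine exists_isFinite_morphismRestrict_of_finite_preimage_singleton f ξ ?_
  haveI : IsLocallyNoetherian (f.fiber ξ) := LocallyOfFiniteType.isLocallyNoetherian (FibDim14.toPt f ξ)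
  haveI : NoetherianSpace (f.fiber ξ) := by
    haveI : IsNoetherian (f.fiber ξ) := ⟨⟩
    infer_instance
  have hcl : ∀ z : f.fiber ξ, IsClosed ({z} : Set (f.fiber ξ)) := fun z => by
    rw [← VarDim.sdim_eq_zero_iff_isClosed (FibDim14.toPt f ξ), ← FibDim14.rd_fiberι]
    refine key _ ?_
    have h4 : f.fiberι ξ z ∈ f ⁻¹' {ξ} := by rw [← Scheme.Hom.range_fiberι]; exact ⟨z, rfl⟩
    exact h4
  haveI : Finite (f.fiber ξ) := by
    haveI := (NoetherianSpace.finite_irreducibleComponents (α := f.fiber ξ)).to_subtype
    refine Finite.of_injective (fun z => (⟨({z} : Set (f.fiber ξ)), isIrreducible_singleton, fun T hT hle => ?_⟩ :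
      irreducibleComponents (f.fiber ξ))) fun a b h => Set.singleton_injective (congrArg Subtype.val h)
    obtain ⟨η, hη⟩ := QuasiSober.sober hT.closure isClosed_closure
    have hc : closure T = {η} := by rw [← (hcl η).closure_eq]; exact hη.symm
    have hz : z = η := by
      have := subset_closure (hle rfl) (s := T)
      rwa [hc] at this
    intro t ht
    have := subset_closure ht (s := T)
    rw [hc] at this
    rw [hz]; exact this
  have hf : Finite (f ⁻¹' {ξ} : Set X) := (f.fiberHomeo ξ).finite_iff.1 inferInstance
  exact Set.toFinite _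

end Groth.Agent.Cyc26
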