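import Groth.Agent.Lib.Cyc26.Segre
import Groth.Agent.Lib.Cyc26.SplitBase
import Groth.Agent.Lib.Cyc26.MVExact
import Groth.Agent.Lib.Cyc26.ClosedSetup
import Groth.Agent.S1859

/-! # Pullback to the complement of a hyperplane bundle is injective -/

set_option autoImplicit false
set_option linter.style.haveILetI false

universe u

open CategoryTheory Limits AlgebraicGeometry TopologicalSpace

set_option backward.isDefEq.respectTransparency.types false

noncomputable section

namespace Groth.Agent.Cyc26A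

open Groth.Agent.Cyc26
open Groth.Agent.Cyc26PB (UBundle capIt)
open scoped Classical

section segre

variable {X P : Scheme.{u}} [IsLocallyNoetherian X] [IsLocallyNoetherian P] {E : X.Modules} {π : P ⟶ X}
  [IsProper π] {O1 : P.Modules} {φ : E ⟶ (Scheme.Modules.pushforward π).obj O1} {n : ℕ} {δP : P → ℤ} {δ : X → ℤ}
  (hB : UBundle π E O1 φ) (hE : FlatMod.IsFinLocFreeOfRank (n + 1) E) (hdX : Cyc.IsDimFun X δ)
  (hd : Cyc.IsDimFun P δP) (hδ : Cyc.DeltaCompat π δP δ)

/-- The zeroth Segre operation is the identity. -/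
theorem segre_top (a : A δ) : segre hB hE hdX hd hδ n a = a := by
  obtain ⟨α, rfl⟩ := mk_surjective δ a
  obtain ⟨s, hs⟩ := exists_sec hB.inv
  have hc := shift_bundle hB hE hd hδ
  show push π hd hdX hδ (c1p hd hB.inv n (pullB hB hE hdX hd hδ (mk δ α))) = _
  rw [pullB_mk hB hE hdX hd hδ α _ (pullCycle_coe π hd hc α), ← mk_capPow hd hB.inv (fun _ => hs),
    push_mk π hd hdX hδ, mk_eq_mk_iff]
  intro k
  refine ratEquivZero_of_eq_zero fun y => ?_
  show part δ k _ y - part δ k α y = 0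
  have h1 := part_pushCycle (δX := δP) (δY := δ) π k (capPow hd hB.inv (fun _ => hs) n (pullCycle π hd hc α)) y
  have h2 : part δP (k + 0) (capPow hd hB.inv (fun _ => hs) n (pullCycle π hd hc α)) =
      capPow hd hB.inv (fun _ => hs) n (pullCycle π hd hc (part δ (k + 0 + n + -(n : ℤ)) α)) := by
    rw [part_capPow]
    congr 1
    ext z
    exact part_pullCycle π hd hc _ α z
  have h3 := Cyc26PB.map_capIt_pull hB hE hdX hd hδ (t := fun _ => s) (fun _ => hs)
    (part_mem δ (k + 0 + n + -(n : ℤ)) α) n le_rfl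
    (capPow hd hB.inv (fun _ => hs) n (pullCycle π hd hc (part δ (k + 0 + n + -(n : ℤ)) α)))
    (by rw [capPow_coe, pullCycle_coe π hd hc]) y
  rw [if_pos rfl] at h3
  rw [h2] at h1
  rw [show part δ k (AlgebraicCycle.map π δP δ (capPow hd hB.inv (fun _ => hs) n (pullCycle π hd hc α))) y = _ from
    h1.trans h3, show k + 0 + (n : ℤ) + -(n : ℤ) = k by ring, sub_self]

end segre

/-- Push-forward of classes is functorial. -/
theorem push_push {X Y Z : Scheme.{u}} {δX : X → ℤ} {δY : Y → ℤ} {δZ : Z → ℤ} (hX : Cyc.IsSetup X δX)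
    (hY : Cyc.IsSetup Y δY) (hZ : Cyc.IsSetup Z δZ) (f : X ⟶ Y) (g : Y ⟶ Z) [IsLocallyNoetherian X]
    [IsLocallyNoetherian Y] [IsLocallyNoetherian Z] [IsProper f] [IsProper g] {e : X ⟶ Z} [IsProper e]
    (he : f ≫ g = e) (hf : Cyc.DeltaCompat f δX δY) (hg : Cyc.DeltaCompat g δY δZ) (hec : Cyc.DeltaCompat e δX δZ)
    (a : A δX) :
    push g hY.2.2 hZ.2.2 hg (push f hX.2.2 hY.2.2 hf a) = push e hX.2.2 hZ.2.2 hec a := by
  subst he
  obtain ⟨α, rfl⟩ := mk_surjective δX a
  rw [push_mk, push_mk, push_mk, mk_eq_mk_iff]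
  intro k
  refine ratEquivZero_of_eq_zero fun z => ?_
  show part δZ k (pushCycle g δY δZ (pushCycle f δX δY α)) z - part δZ k (pushCycle (f ≫ g) δX δZ α) z = 0
  rw [part_pushCycle, part_pushCycle, show part δY (k + 0) (pushCycle f δX δY α) =
      pushCycle f δX δY (part δX (k + 0 + 0) α) from by ext y; exact part_pushCycle f (k + 0) α y,
    show k + 0 + 0 = k + 0 by ring, sub_eq_zero]
  exact DFunLike.congr_fun (S1859.result X Y Z δX δY δZ hX hY hZ f g hf hg _ _ (part_mem δX (k + 0) α)) z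

section completion

variable {X P H : Scheme.{u}} {δ : X → ℤ} {E E' : X.Modules} {π : P ⟶ X} [IsProper π] {O1 : P.Modules}
  {φ : E ⟶ (Scheme.Modules.pushforward π).obj O1} {π' : H ⟶ X} {h : H ⟶ P} {n : ℕ}

/-- If a class pulled back to a projective bundle dies on the complement of a hyperplane bundle, it is zero. -/
theorem ratEquivZero_of_completion (hX : Cyc.IsSetup X δ) (hB : UBundle π E O1 φ)
    (hE : FlatMod.IsFinLocFreeOfRank (n + 1) E) [IsClosedImmersion h] (hh : h ≫ π = π')
    (hH : (n = 0 ∧ IsEmpty H) ∨ (∃ m, n = m + 1 ∧ FlatMod.IsFinLocFreeOfRank (m + 1) E' ∧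
      ∃ φ', UBundle π' E' ((Scheme.Modules.pullback h).obj O1) φ'))
    {δP : P → ℤ} (hδ : Cyc.DeltaCompat π δP δ) (U : P.Opens) (hU : ∀ x, x ∈ U ↔ x ∉ Set.range h)
    {k : ℤ} {α : AlgebraicCycle X ℤ} (hα : α ∈ Cyc.Zk X δ k) {γ : AlgebraicCycle (U : Scheme.{u}) ℤ}
    (hγ : ∀ u, γ u = Cyc.pullFun π δP δ (n : ℤ) ⇑α (U.ι u))
    (h0 : Cyc.RatEquivZero (fun u : (U : Scheme.{u}) => δP (U.ι u)) (k + n) γ) : Cyc.RatEquivZero δ k α := by
  haveI := hX.1
  have hP := Cyc26Split.isSetup_of_lft π hX hδ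
  haveI := hP.1
  haveI := Cyc26PB.flat_bundle hB hE
  have hd := hP.2.2
  have hc := shift_bundle hB hE hd hδ
  let β := pullCycle π hd hc α
  have hβ : ⇑β = Cyc.pullFun π δP δ (n : ℤ) ⇑α := pullCycle_coe π hd hc α
  obtain ⟨c, hc0, hcU, hck⟩ := exists_extension hd U h0
  let δH : H → ℤ := fun z => δP (h z)
  haveI : IsLocallyNoetherian H := LocallyOfFiniteType.isLocallyNoetherian h
  let b := (exists_cycle_restrict h (β - c)).choose
  have hb : ∀ z, b z = (β - c) (h z) := (exists_cycle_restrict h (β - c)).choose_spec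
  have hpush : AlgebraicCycle.map h δH δP b = β - c := by
    ext x
    by_cases hx : x ∈ Set.range h
    · obtain ⟨z, rfl⟩ := hx
      rw [map_closed_apply h b z, hb]
    · rw [map_closed_notMem h δH b hx]
      have h1 : c x = β x := by rw [hβ]; exact (hcU ⟨x, (hU x).2 hx⟩).trans (hγ _)
      show (0 : ℤ) = β x - c x
      rw [h1, sub_self]
  have hdH : Cyc.IsDimFun H δH := isDimFun_closed h hd
  have hδh : Cyc.DeltaCompat h δH δP := deltaCompat_closed h δP
  have hδ' : Cyc.DeltaCompat π' δH δ := hh ▸ deltaCompat_comp h π hδh hδ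
  haveI : IsProper π' := by rw [← hh]; infer_instance
  have hHs := Cyc26Split.isSetup_of_lft π' hX hδ'
  have key : mk δP β = push h hdH hd hδh (mk δH b) := by
    rw [push_mk, hpush, _root_.map_sub, mk_eq_zero_of_ratEquivZero hc0, sub_zero]
  have hpull : pullB hB hE hX.2.2 hd hδ (mk δ α) = mk δP β := pullB_mk hB hE hX.2.2 hd hδ α β hβ
  suffices hzero : mk δH b = 0 by
    refine ratEquivZero_of_mk hα ?_
    have h1 : pullB hB hE hX.2.2 hd hδ (mk δ α) = 0 := by rw [hpull, key, hzero, map_zero]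
    simpa using indep hB hE hX.2.2 hd hδ (Pi.single 0 (mk δ α)) (by
      rw [Finset.sum_eq_single 0 (fun i _ hi => by rw [Pi.single_eq_of_ne hi, map_zero, map_zero])
        (fun h => absurd (Finset.mem_univ _) h), Pi.single_eq_same, h1, map_zero]) 0
  rcases hH with ⟨-, hemp⟩ | ⟨m, rfl, hE', φ', hB'⟩
  · rw [show b = 0 from DFunLike.ext _ _ fun z => hemp.elim z, map_zero]
  have hbk : b ∈ Cyc.Zk H δH (k + 1 + m) := fun z hz => by
    have e : δP (h z) ≠ k + ((m + 1 : ℕ) : ℤ) := fun h1 => hz (h1.trans (by push_cast; ring))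
    rw [hb]
    show β (h z) - c (h z) = 0
    rw [hck _ e, sub_zero]
    exact pullFun_mem_Zk π hα hβ (h z) e
  obtain ⟨a, -, ha⟩ := exists_coords hB' hE' hX.2.2 hdH hδ' (k + 1) b hbk
  have hpow : ∀ (e : ℕ) (z : A δH), push h hdH hd hδh (c1p hdH hB'.inv e z) =
      c1p hd hB.inv e (push h hdH hd hδh z) := by
    intro e z
    induction e with
    | zero => rfl
    | succ e ih => rw [c1p_succ, c1p_succ, ← ih]; exact push_c1 h hdH hd hδh hB.inv _
  have hadd : ∀ (p q : ℕ) (z : A δH), c1p hdH hB'.inv p (c1p hdH hB'.inv q z) = c1p hdH hB'.inv (p + q) z := by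
    intro p q z
    induction p with
    | zero => rw [Nat.zero_add]; rfl
    | succ p ih => rw [c1p_succ, ih, Nat.succ_add, c1p_succ]
  have hzero : ∀ e, e ≤ m → ∑ i : Fin (m + 1), segre hB' hE' hX.2.2 hdH hδ' (e + (i : ℕ)) (mk δ (a i)) = 0 := by
    intro e he
    have h1 := segre_eq_zero hB hE hX.2.2 hd hδ (t := e) (by omega) (mk δ α)
    change push π hd hX.2.2 hδ (c1p hd hB.inv e (pullB hB hE hX.2.2 hd hδ (mk δ α))) = 0 at h1
    rw [hpull, key, ← hpow, push_push hHs hP hX h π hh hδh hδ hδ', ha, map_sum, map_sum] at h1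
    refine Eq.trans (Finset.sum_congr rfl fun i _ => ?_) h1
    rw [hadd]
    rfl
  have ha0 : ∀ (j : ℕ) (i : Fin (m + 1)), m ≤ j + (i : ℕ) → mk δ (a i) = 0 := by
    intro j
    induction j with
    | zero =>
      intro i hi
      have h1 := hzero 0 (Nat.zero_le _)
      rwa [Finset.sum_eq_single i (fun l _ hl => segre_eq_zero hB' hE' hX.2.2 hdH hδ' (by
          have := l.isLt
          rcases lt_or_eq_of_le (show (l : ℕ) ≤ m by omega) with h2 | h2
          · omega
          · exact absurd (Fin.ext (show (l : ℕ) = i by omega)) hl) _) (fun h => absurd (Finset.mem_univ _) h),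
        show 0 + (i : ℕ) = m by have := i.isLt; omega, segre_top] at h1
    | succ j ih =>
      intro i hi
      by_cases hi' : m ≤ j + (i : ℕ)
      · exact ih i hi'
      have h1 := hzero (j + 1) (by omega)
      rwa [Finset.sum_eq_single i (fun l _ hl => by
          rcases lt_or_ge ((j + 1) + (l : ℕ)) m with h2 | h2
          · exact segre_eq_zero hB' hE' hX.2.2 hdH hδ' h2 _
          · rcases h2.lt_or_eq with h3 | h3
            · rw [ih l (by omega), map_zero]
            · exact absurd (Fin.ext (show (l : ℕ) = i by omega)) hl) (fun h => absurd (Finset.mem_univ _) h),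
        show j + 1 + (i : ℕ) = m by omega, segre_top] at h1
  rw [ha]
  exact Finset.sum_eq_zero fun i _ => by rw [ha0 m i (Nat.le_add_right _ _), map_zero, map_zero]

end completion

end Groth.Agent.Cyc26A
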