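import Groth.Agent.Lib.Cyc26.PBInst
import Groth.Agent.Lib.RelCone11.ConeImm
import Groth.Agent.Lib.RelCone11.ProjCone
import Groth.Agent.Lib.VeryAmple11.BundleSum
import Groth.Agent.S8287
import Groth.Agent.Lib.LimH13.SubAlgLimit
import Groth.Agent.Lib.VeryAmple11.FT

/-! # A vector bundle as the complement of the hyperplane bundle in its projective completion -/

set_option autoImplicit false
set_option linter.style.haveILetI false

universe u

open CategoryTheory Limits AlgebraicGeometry TopologicalSpace Opposite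
open scoped HomogeneousIdeal

set_option backward.isDefEq.respectTransparency false
set_option backward.isDefEq.respectTransparency.types false

noncomputable section

namespace Groth.Agent.Cyc26Cone

open Groth.Agent Groth.Agent.SymAlg11
open Groth.Agent.Cyc26PB (UBundle)

variable {X : Scheme.{u}} {E F : X.Modules} {𝒮 𝒯 : RelProj.QCGrAlg X} {j : E ⟶ 𝒮.toModule} {i : F ⟶ 𝒯.toModule}

theorem tcomp {A B C : RelSpec.QCAlg X} (f : A ⟶ B) (g : B ⟶ C) :
    RelSpec.QCAlg.Hom.toModuleMap (f ≫ g) = RelSpec.QCAlg.Hom.toModuleMap f ≫ RelSpec.QCAlg.Hom.toModuleMap g :=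
  Scheme.Modules.hom_ext _ _ fun _ => rfl

theorem tid (A : RelSpec.QCAlg X) : RelSpec.QCAlg.Hom.toModuleMap (𝟙 A) = 𝟙 _ :=
  Scheme.Modules.hom_ext _ _ fun _ => rfl

/-- A map out of a symmetric algebra that respects the generators is graded. -/
theorem isGradedHom_of_app (hE : Coh.IsQCoh E) (hj : RelProj.IsGrSymAlg E 𝒮 j) (ψ : 𝒮.toQCAlg ⟶ 𝒯.toQCAlg)
    (h : ∀ (U : X.Opens) (hU : IsAffineOpen U) (m : Γ(E, U)),
      (ψ.hom.app (op U)).hom (show 𝒮.presheaf.obj (op U) from j.app U m) ∈ 𝒯.deg U hU 1) :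
    RelProj.IsGradedHom ψ := by
  intro U hU d x hx
  obtain ⟨y, hy, rfl⟩ := VA11.exists_of_mem_deg hE hj U hU hx
  exact VA11.map_symDeg (𝒯.deg U hU) ((ψ.hom.app (op U)).hom.comp (liftOn 𝒮.toQCAlg j U))
    (fun r => by
      rw [RingHom.comp_apply, liftOn_algebraMap]
      exact (congrArg (· ∈ 𝒯.deg U hU 0) (ConcreteCategory.congr_hom (NatTrans.congr_app ψ.comm (op U)) r)).mpr
        (𝒯.str_mem U hU r))
    (fun m => by rw [RingHom.comp_apply, liftOn_ι]; exact h U hU m) hy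

theorem irrelevant_le_of_surjective {A B σ τ : Type u} [CommRing A] [CommRing B] [SetLike σ A]
    [AddSubgroupClass σ A] [SetLike τ B] [AddSubgroupClass τ B] (𝒜 : ℕ → σ) (ℬ : ℕ → τ) [GradedRing 𝒜] [GradedRing ℬ]
    (f : 𝒜 →+*ᵍ ℬ) (hf : Function.Surjective f) : ℬ₊ ≤ (𝒜₊).map f := by
  classical
  intro x hx
  obtain ⟨a, rfl⟩ := hf x
  have h0 : (DirectSum.decompose ℬ (f a) 0 : B) = 0 := hx
  have e : f (a - (DirectSum.decompose 𝒜 a 0 : A)) = f a := by
    rw [map_sub, GradedRingHom.map_directSumDecompose, h0, sub_zero]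
  rw [← e]
  refine Ideal.mem_map_of_mem f ?_
  show (DirectSum.decompose 𝒜 (a - (DirectSum.decompose 𝒜 a 0 : A)) 0 : A) = 0
  rw [DirectSum.decompose_sub, DirectSum.decompose_coe, DirectSum.sub_apply, DirectSum.of_eq_same,
    AddSubgroupClass.coe_sub, sub_self]

/-- A module map into an algebra, on sections, with values in the ring of sections. -/
def sec (B : RelSpec.QCAlg X) {M : X.Modules} (g : M ⟶ B.toModule) (U : X.Opens) : Γ(M, U) →+ B.presheaf.obj (op U) :=
  AddMonoidHom.mk' (fun m => g.app U m) fun a b => map_add (g.app U).hom a b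

theorem sec_smul (B : RelSpec.QCAlg X) {M : X.Modules} (g : M ⟶ B.toModule) (U : X.Opens) (r : Γ(X, U)) (m : Γ(M, U)) :
    sec B g U (r • m) = (B.str.app (op U)).hom r * sec B g U m :=
  g.app_smul r m

/-- A module map into the structure module, on sections, with values in functions. -/
def secO {M : X.Modules} (g : M ⟶ Coh.structureModule X) (U : X.Opens) : Γ(M, U) →+ Γ(X, U) :=
  AddMonoidHom.mk' (fun m => g.app U m) fun a b => map_add (g.app U).hom a b

theorem secO_smul {M : X.Modules} (g : M ⟶ Coh.structureModule X) (U : X.Opens) (r : Γ(X, U)) (m : Γ(M, U)) :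
    secO g U (r • m) = r * secO g U m :=
  g.app_smul r m

theorem sec_one (B : RelSpec.QCAlg X) (g : Coh.structureModule X ⟶ B.toModule) (U : X.Opens) (r : Γ(X, U)) :
    sec B g U r = (B.str.app (op U)).hom r * sec B g U (1 : Γ(X, U)) :=
  (congrArg (sec B g U) (mul_one r).symm).trans (sec_smul B g U r (1 : Γ(X, U)))

theorem sec_comp (B : RelSpec.QCAlg X) {M N : X.Modules} (q : M ⟶ N) (g : N ⟶ B.toModule) (U : X.Opens) (m : Γ(M, U)) :
    sec B (q ≫ g) U m = sec B g U (q.app U m) := rfl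

/-- `Sym(E ⊕ O) = Sym(E)[z]`. -/
theorem isPolyOver_biprod (hE : Coh.IsQCoh E) (hj : RelProj.IsGrSymAlg E 𝒮 j)
    {jh : E ⊞ Coh.structureModule X ⟶ 𝒯.toModule} (hjh : RelProj.IsGrSymAlg (E ⊞ Coh.structureModule X) 𝒯 jh)
    (ι : 𝒮.toQCAlg ⟶ 𝒯.toQCAlg) (hι : j ≫ RelSpec.QCAlg.Hom.toModuleMap ι = biprod.inl ≫ jh) :
    RelCone.IsPolyOver 𝒮 𝒯 ι
      (jh.app ⊤ ((biprod.inr : Coh.structureModule X ⟶ E ⊞ Coh.structureModule X).app ⊤ (1 : Γ(X, ⊤)))) := by
  set z : 𝒯.presheaf.obj (op ⊤) :=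
    jh.app ⊤ ((biprod.inr : Coh.structureModule X ⟶ E ⊞ Coh.structureModule X).app ⊤ (1 : Γ(X, ⊤))) with hz
  have hzU : ∀ U : X.Opens, RelCone.restrictTop 𝒯 z U =
      sec 𝒯.toQCAlg (biprod.inr ≫ jh) U (1 : Γ(X, U)) := by
    intro U
    rw [hz]
    show M1.mres 𝒯.toModule (le_top : U ≤ ⊤) _ = _
    rw [← M1.app_mres, ← M1.app_mres]
    refine congrArg (fun v => jh.app U ((biprod.inr : Coh.structureModule X ⟶ E ⊞ Coh.structureModule X).app U v)) ?_
    exact map_one (X.presheaf.map (homOfLE (le_top : U ≤ ⊤)).op).hom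
  refine ⟨isGradedHom_of_app hE hj ι fun U hU m => ?_, fun U hU => by rw [hzU]; exact hjh.2 U hU _, fun U hU => ?_⟩
  · rw [VA11.app_eq_of_comp hι U m]
    exact hjh.2 U hU _
  set ev := Polynomial.eval₂RingHom (ι.hom.app (op U)).hom (RelCone.restrictTop 𝒯 z U)
  let J := sec 𝒮.toQCAlg j U
  let K := sec 𝒯.toQCAlg jh U
  let p₁ := (biprod.fst : E ⊞ Coh.structureModule X ⟶ E).app U
  let P₂ := secO (biprod.snd : E ⊞ Coh.structureModule X ⟶ Coh.structureModule X) U
  have hιJ : ∀ m, (ι.hom.app (op U)).hom (J m) =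
      K ((biprod.inl : E ⟶ E ⊞ Coh.structureModule X).app U m) := fun m => VA11.app_eq_of_comp hι U m
  let f : Γ(E ⊞ Coh.structureModule X, U) →+ Polynomial (𝒮.presheaf.obj (op U)) :=
    AddMonoidHom.mk' (fun m => Polynomial.C (J (p₁ m)) + Polynomial.C ((𝒮.str.app (op U)).hom (P₂ m)) * Polynomial.X)
      fun a b => by simp only [map_add]; ring
  let G : SymOn (E ⊞ Coh.structureModule X) U →+* Polynomial (𝒮.presheaf.obj (op U)) :=
    symLift (Polynomial.C.comp (𝒮.str.app (op U)).hom) f fun r m => by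
      show Polynomial.C (J (p₁ (r • m))) + Polynomial.C ((𝒮.str.app (op U)).hom (P₂ (r • m))) * Polynomial.X =
        Polynomial.C ((𝒮.str.app (op U)).hom r) *
          (Polynomial.C (J (p₁ m)) + Polynomial.C ((𝒮.str.app (op U)).hom (P₂ m)) * Polynomial.X)
      rw [show p₁ (r • m) = r • p₁ m from Scheme.Modules.Hom.app_smul _ r m, show P₂ (r • m) = r * P₂ m from
        secO_smul _ U r m, show J (r • p₁ m) = (𝒮.str.app (op U)).hom r * J (p₁ m) from sec_smul _ _ U r _, map_mul,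
        map_mul, map_mul]
      ring
  have hq := M1.isQCoh_biprod hE (M1.isQCoh_structureModule X)
  let Φ := RingEquiv.ofBijective (liftOn 𝒯.toQCAlg jh U) (bijective_liftOn hq hjh.1 U hU)
  have h1 : ev.comp G = liftOn 𝒯.toQCAlg jh U := by
    refine symHom_ext (fun r => ?_) (fun m => ?_)
    · rw [RingHom.comp_apply, symLift_algebraMap, liftOn_algebraMap]
      show Polynomial.eval₂ _ _ (Polynomial.C _) = _
      rw [Polynomial.eval₂_C]
      exact ConcreteCategory.congr_hom (NatTrans.congr_app ι.comm (op U)) r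
    · rw [RingHom.comp_apply, symLift_ι, liftOn_ι]
      show Polynomial.eval₂ _ _ (Polynomial.C (J (p₁ m)) +
        Polynomial.C ((𝒮.str.app (op U)).hom (P₂ m)) * Polynomial.X) = K m
      rw [Polynomial.eval₂_add, Polynomial.eval₂_C, Polynomial.eval₂_mul, Polynomial.eval₂_C, Polynomial.eval₂_X,
        hιJ, hzU]
      have e : m = (biprod.inl : E ⟶ E ⊞ Coh.structureModule X).app U (p₁ m) +
          (biprod.inr : Coh.structureModule X ⟶ E ⊞ Coh.structureModule X).app U (P₂ m) :=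
        (congrArg (fun g : E ⊞ Coh.structureModule X ⟶ _ => g.app U m) (biprod.total (X := E) (Y := Coh.structureModule X))).symm
      conv_rhs => rw [e, map_add]
      refine congrArg (fun v => _ + v) ?_
      refine Eq.trans ?_ (sec_one 𝒯.toQCAlg (biprod.inr ≫ jh) U (P₂ m)).symm
      exact congrArg (fun v => v * _) (ConcreteCategory.congr_hom (NatTrans.congr_app ι.comm (op U)) (P₂ m))
  have h2 : (G.comp Φ.symm.toRingHom).comp ev = RingHom.id _ := by
    refine Polynomial.ringHom_ext (fun a => ?_) ?_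
    · obtain ⟨x, rfl⟩ := (bijective_liftOn hE hj.1 U hU).2 a
      show G (Φ.symm (ev (Polynomial.C _))) = _
      suffices h : (G.comp Φ.symm.toRingHom).comp ((ι.hom.app (op U)).hom.comp (liftOn 𝒮.toQCAlg j U)) =
          Polynomial.C.comp (liftOn 𝒮.toQCAlg j U) by
        have := RingHom.congr_fun h x
        simpa [ev] using this
      refine symHom_ext (fun r => ?_) (fun m => ?_)
      · simp only [RingHom.comp_apply, RingEquiv.toRingHom_eq_coe, RingEquiv.coe_toRingHom, liftOn_algebraMap]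
        rw [show (ι.hom.app (op U)).hom ((𝒮.str.app (op U)).hom r) = Φ (algebraMap Γ(X, U) _ r) from
          (ConcreteCategory.congr_hom (NatTrans.congr_app ι.comm (op U)) r).trans (liftOn_algebraMap _ _ U r).symm,
          RingEquiv.symm_apply_apply, symLift_algebraMap]
        rfl
      · simp only [RingHom.comp_apply, RingEquiv.toRingHom_eq_coe, RingEquiv.coe_toRingHom, liftOn_ι]
        refine (congrArg (fun v => G (Φ.symm v)) ((hιJ m).trans (show K _ =
          Φ (SymmetricAlgebra.ι Γ(X, U) _ ((biprod.inl : E ⟶ E ⊞ Coh.structureModule X).app U m)) from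
          (liftOn_ι _ _ U _).symm))).trans ?_
        rw [RingEquiv.symm_apply_apply, symLift_ι]
        show Polynomial.C (J (p₁ _)) + Polynomial.C ((𝒮.str.app (op U)).hom (P₂ _)) * Polynomial.X =
          Polynomial.C (J m)
        rw [show p₁ ((biprod.inl : E ⟶ E ⊞ Coh.structureModule X).app U m) = m from
          congrArg (fun g : E ⟶ E => g.app U m) biprod.inl_fst,
          show P₂ ((biprod.inl : E ⟶ E ⊞ Coh.structureModule X).app U m) = 0 from
          congrArg (fun g : E ⟶ Coh.structureModule X => g.app U m) biprod.inl_snd, map_zero, map_zero, zero_mul,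
          add_zero]
    · show G (Φ.symm (ev Polynomial.X)) = Polynomial.X
      rw [show ev Polynomial.X = Φ (SymmetricAlgebra.ι Γ(X, U) _
          ((biprod.inr : Coh.structureModule X ⟶ E ⊞ Coh.structureModule X).app U (1 : Γ(X, U)))) from
        ((Polynomial.eval₂_X _ _).trans (hzU U)).trans (liftOn_ι _ _ U _).symm, RingEquiv.symm_apply_apply, symLift_ι]
      show Polynomial.C (J (p₁ _)) + Polynomial.C ((𝒮.str.app (op U)).hom (P₂ _)) * Polynomial.X = _
      rw [show p₁ ((biprod.inr : Coh.structureModule X ⟶ E ⊞ Coh.structureModule X).app U (1 : Γ(X, U))) = 0 from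
          congrArg (fun g : Coh.structureModule X ⟶ E => g.app U (1 : Γ(X, U))) biprod.inr_fst,
        show P₂ ((biprod.inr : Coh.structureModule X ⟶ E ⊞ Coh.structureModule X).app U (1 : Γ(X, U))) = 1 from
          congrArg (fun g : Coh.structureModule X ⟶ Coh.structureModule X => g.app U (1 : Γ(X, U))) biprod.inr_snd,
        map_zero, map_zero, zero_add, map_one, map_one, one_mul]
  refine ⟨Function.LeftInverse.injective (g := G.comp Φ.symm.toRingHom) fun a => RingHom.congr_fun h2 a, fun y => ?_⟩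
  refine ⟨G (Φ.symm y), ?_⟩
  show ev (G (Φ.symm y)) = y
  rw [← RingHom.comp_apply, h1]
  exact Φ.apply_symm_apply y

/-- An isomorphism onto a twist is a twist. -/
theorem isRelTwist_of_iso {𝒯 : RelProj.QCGrAlg X} {P : Scheme.{u}} {p : P ⟶ X}
    {chart : ∀ (U : X.Opens) (hU : IsAffineOpen U), (((p ⁻¹ᵁ U : P.Opens) : Scheme.{u}) ≅ Proj (𝒯.deg U hU))}
    {n : ℤ} {L L' : P.Modules}
    {lam : ∀ (U : X.Opens) (hU : IsAffineOpen U),
      L ⟶ (Scheme.Modules.pushforward (RelProj.emb p chart U hU)).obj (GrTwist.twist (𝒯.deg U hU) n)}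
    (h : RelProj.IsRelTwist 𝒯 p chart n L lam) (e : L' ≅ L) :
    RelProj.IsRelTwist 𝒯 p chart n L' (fun U hU => e.hom ≫ lam U hU) := by
  refine ⟨fun U hU W hW => ?_, fun U hU r W s y hy hy' => h.compat U hU r W (e.hom.app W s) y hy hy'⟩
  exact (h.bijective U hU W hW).comp ⟨fun a b hab => by
      have := congrArg (e.inv.app W) hab
      change (e.hom ≫ e.inv).app W a = (e.hom ≫ e.inv).app W b at this
      rwa [e.hom_inv_id] at this,
    fun b => ⟨e.inv.app W b, show (e.inv ≫ e.hom).app W b = b by rw [e.inv_hom_id]; rfl⟩⟩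

/-- The completion of `V(E)`: `V(E) ⊆ P(E ⊕ O)` is the complement of `P(E)`. -/
theorem exists_completion (hE : Coh.IsQCoh E) (hft : CohB1.IsFT E) {A : RelSpec.QCAlg X} {a : E ⟶ A.toModule}
    (hA : RelSpec.IsSymAlg E A a) :
    ∃ (P H : Scheme.{u}) (π : P ⟶ X) (π' : H ⟶ X) (O1 : P.Modules) (h : H ⟶ P) (c : A.spec ⟶ P),
      IsProper π ∧ IsClosedImmersion h ∧ h ≫ π = π' ∧
      (∃ φ, UBundle π (E ⊞ Coh.structureModule X) O1 φ) ∧ (∃ φ', UBundle π' E ((Scheme.Modules.pullback h).obj O1) φ') ∧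
      IsOpenImmersion c ∧ c ≫ π = A.π ∧ Set.range c = (Set.range h)ᶜ := by
  have hq := M1.isQCoh_biprod hE (M1.isQCoh_structureModule X)
  let 𝒮 := VA11.symGr hE
  let 𝒯 := VA11.symGr hq
  have hS : RelProj.IsGrSymAlg E 𝒮 (symGen hE) := VA11.isGrSymAlg_symGr hE
  have hT : RelProj.IsGrSymAlg (E ⊞ Coh.structureModule X) 𝒯 (symGen hq) := VA11.isGrSymAlg_symGr hq
  obtain ⟨ι, hι, -⟩ := hS.1 𝒯.toQCAlg (biprod.inl ≫ symGen hq)
  obtain ⟨θ, hθ, -⟩ := hT.1 𝒮.toQCAlg (biprod.fst ≫ symGen hE)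
  have hz := isPolyOver_biprod hE hS hT ι hι
  have hιθ : ι ≫ θ = 𝟙 _ := (hS.1 𝒮.toQCAlg (symGen hE)).unique
    (by rw [tcomp, reassoc_of% hι, hθ, biprod.inl_fst_assoc]) (by rw [tid, Category.comp_id])
  have hθg : RelProj.IsGradedHom θ := isGradedHom_of_app hq hT θ fun U hU m =>
    (congrArg (· ∈ 𝒮.deg U hU 1) (VA11.app_eq_of_comp hθ U m)).mpr (hS.2 U hU _)
  have hsurj := VA11.surjective_gradedHomAt hE hS hθg hθ (biprod.inl : E ⟶ _) biprod.inl_fst
  have hirr : ∀ (U : X.Opens) (hU : IsAffineOpen U),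
      (𝒮.deg U hU)₊ ≤ ((𝒯.deg U hU)₊).map (RelProj.gradedHomAt θ hθg U hU) := fun U hU =>
    irrelevant_le_of_surjective _ _ _ (hsurj U hU)
  have hθz : (θ.hom.app (op ⊤)).hom ((symGen hq).app ⊤
      ((biprod.inr : Coh.structureModule X ⟶ E ⊞ Coh.structureModule X).app ⊤ (1 : Γ(X, ⊤)))) = 0 := by
    refine (VA11.app_eq_of_comp hθ ⊤ _).trans ?_
    rw [show (biprod.fst : E ⊞ Coh.structureModule X ⟶ E).app ⊤
        ((biprod.inr : Coh.structureModule X ⟶ E ⊞ Coh.structureModule X).app ⊤ (1 : Γ(X, ⊤))) = 0 from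
      congrArg (fun g : Coh.structureModule X ⟶ E => g.app ⊤ (1 : Γ(X, ⊤))) biprod.inr_fst]
    exact map_zero ((symGen hE).app ⊤).hom
  obtain ⟨P, π, chart, hP⟩ := RelProj11.exists_isRelProj 𝒯
  obtain ⟨H, π', chart', hH⟩ := RelProj11.exists_isRelProj 𝒮
  obtain ⟨h, hh, -⟩ := RelProj11.existsUnique_isRelProjMap (hirr := hirr) hP hH
  haveI : IsClosedImmersion h := VA11.isClosedImmersion_relProjMap hE hS hθg hθ biprod.inl biprod.inl_fst hP hH hh
  obtain ⟨O1, lam, hO⟩ := RelProj11.exists_isRelTwist hP 1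
  obtain ⟨O1', lam', hO'⟩ := RelProj11.exists_isRelTwist hH 1
  have hgen := VA11.isGenDegOne_of_isGrSymAlg hq hT
  have hinv := RelProj11.isInvertible_relTwist hgen hO
  obtain ⟨e⟩ := S8287.result θ hθg hgen (fun U hU => hsurj U hU) hirr π π' chart chart' hP hH h hh 1 O1 lam hO
    O1' lam' hO'
  obtain ⟨φ, hφ⟩ := Cyc26PB.exists_uBundle_relProj hq hT hP hO hinv
  have hO'' : RelProj.IsRelTwist 𝒮 π' chart' 1 ((Scheme.Modules.pullback h).obj O1) (fun U hU => e.hom ≫ lam' U hU) :=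
    isRelTwist_of_iso hO' e
  obtain ⟨φ', hφ'⟩ := Cyc26PB.exists_uBundle_relProj hE hS hH hO'' (Twist.isInvertible_pullback h hinv)
  obtain ⟨c, hc, -⟩ := RelCone11.existsUnique_coneImm hz hP
  obtain ⟨g, hg⟩ := exists_iso_of_isSymAlg hA hS.1
  have hgi : IsIso (RelSpec.QCAlg.specMap g.hom) := ⟨RelSpec.QCAlg.specMap g.inv,
    by rw [← LimH13.SubAlg.specMap_comp, g.inv_hom_id, LimH13.SubAlg.specMap_id],
    by rw [← LimH13.SubAlg.specMap_comp, g.hom_inv_id, LimH13.SubAlg.specMap_id]⟩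
  haveI := hgi
  haveI := (RelCone11.coneImm_properties hz hP hc).1
  refine ⟨P, H, π, π', O1, h, inv (RelSpec.QCAlg.specMap g.hom) ≫ c,
    QuotProj11.isProper_of_isProjective (VA11.isProjective_of_isRelProj hq (VA11.isFT_biprod hE hft
      (M1.isQCoh_structureModule X) (M1.isCoh_structureModule X).2) hT hP),
    inferInstance, RelProj11.isRelProjMap_comp hP hH hh, ⟨φ, hφ⟩, ⟨φ', hφ'⟩, inferInstance, ?_, ?_⟩
  · rw [Category.assoc, RelCone11.coneImm_comp hz hP hc, IsIso.inv_comp_eq, RelSpec.QCAlg.specMap_π]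
  · rw [← RelCone11.range_coneImm_eq hz hP hc hH (hirr := hirr) hh hιθ hθz, Scheme.Hom.comp_base, TopCat.coe_comp,
      Set.range_comp, Set.range_eq_univ.2 (inv (RelSpec.QCAlg.specMap g.hom)).surjective, Set.image_univ]

end Groth.Agent.Cyc26Cone
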