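import Groth.Agent.Lib.Cyc26.CurveDeg
import Groth.Agent.Lib.Cyc26.PushDiv
import Groth.Agent.Lib.CurveNF.Basic

/-! # Principal divisors on proper integral curves have degree zero -/

set_option autoImplicit false
universe u

set_option backward.isDefEq.respectTransparency.types false

open CategoryTheory AlgebraicGeometry IsLocalRing

namespace Groth.Agent.Cyc26

variable {k : Type u} [Field k] {X : Scheme.{u}}

theorem ordAt_generic_eq [IsIntegral X] {x : X} (h : genericPoint X ⤳ x) (f : X.functionField) :
    Cyc.ordAt x (genericPoint X) h (X.residue _ f) = CycAlg.ordFrac (X.presheaf.stalk x) X.functionField f := by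
  let e : X.presheaf.stalk x ≃+* Cyc.LocQuot x (genericPoint X) h :=
    (RingEquiv.quotientBot _).symm.trans (Ideal.quotEquivOfEq (ker_specMap_generic h).symm)
  let e' : X.functionField ≃+* X.residueField (genericPoint X) := RingEquiv.ofBijective (X.residue (genericPoint X)).hom
    ⟨RingHom.injective (show X.functionField →+* X.residueField (genericPoint X) from (X.residue (genericPoint X)).hom),
      X.residue_surjective _⟩
  exact ordFrac_congr e e' (fun r => rfl) f

theorem residueDegree_toField (c : X ⟶ Spec (CommRingCat.of k)) (x : X) :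
    c.residueDegree x = (letI := ((X.residue x).hom.comp (Curve17.baseStalk c x).hom).toAlgebra
      Module.finrank k (X.residueField x)) := by
  letI a1 := ((X.residue x).hom.comp (Curve17.baseStalk c x).hom).toAlgebra
  letI a2 := (c.residueFieldMap x).hom.toAlgebra
  let s := c x
  let β : k →+* (Spec (CommRingCat.of k)).residueField s :=
    ((Spec (CommRingCat.of k)).residue s).hom.comp
      (((Spec (CommRingCat.of k)).presheaf.germ ⊤ s trivial).hom.comp (Scheme.ΓSpecIso (CommRingCat.of k)).inv.hom)
  have hβ : Function.Bijective β := by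
    refine ⟨RingHom.injective _, fun z => ?_⟩
    obtain ⟨a, b, rfl⟩ := VarDim.exists_evaluation_eq_div (isAffineOpen_top (Spec (CommRingCat.of k))) s trivial z
    refine ⟨(Scheme.ΓSpecIso (CommRingCat.of k)).hom a / (Scheme.ΓSpecIso (CommRingCat.of k)).hom b, ?_⟩
    have h : ∀ w, β ((Scheme.ΓSpecIso (CommRingCat.of k)).hom w) = (Spec (CommRingCat.of k)).evaluation ⊤ s trivial w :=
      fun w => by
        show (Spec (CommRingCat.of k)).residue s ((Spec (CommRingCat.of k)).presheaf.germ ⊤ s trivial
          ((Scheme.ΓSpecIso (CommRingCat.of k)).inv ((Scheme.ΓSpecIso (CommRingCat.of k)).hom w))) = _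
        rw [Iso.hom_inv_id_apply]
        rfl
    rw [map_div₀, h, h]
  let e := RingEquiv.ofBijective β hβ
  have hcomp : (algebraMap ((Spec (CommRingCat.of k)).residueField (c x)) (X.residueField x)).comp e.toRingHom =
      (RingEquiv.refl _).toRingHom.comp (algebraMap k (X.residueField x)) := by
    ext a
    show c.residueFieldMap x ((Spec (CommRingCat.of k)).evaluation ⊤ (c x) trivial ((Scheme.ΓSpecIso (CommRingCat.of k)).inv a)) =
      X.residue x (X.presheaf.germ ⊤ x trivial (c.appTop ((Scheme.ΓSpecIso (CommRingCat.of k)).inv a)))
    rw [Scheme.evaluation_naturality_apply]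
    rfl
  exact (Algebra.finrank_eq_of_equiv_equiv e (RingEquiv.refl _) hcomp).symm

/-- `deg (div f) = 0` on a proper integral curve. -/
theorem degree_zero_curve [IsIntegral X] (c : X ⟶ Spec (CommRingCat.of k)) [IsProper c]
    (hd : topologicalKrullDim X = 1) (f : X.residueField (genericPoint X)) (hf : f ≠ 0) :
    ∑ᶠ x : {x : X // x ≠ genericPoint X},
      (c.residueDegree x.1 : ℤ) * Cyc.ordAt x.1 (genericPoint X) (genericPoint_specializes x.1) f = 0 := by
  classical
  haveI : IsLocallyNoetherian X := LocallyOfFiniteType.isLocallyNoetherian c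
  haveI : QuasiCompact (X.fromSpecStalk (genericPoint X)) := by
    haveI : X.IsSeparated := ⟨by rw [← Limits.terminal.comp_from c]; infer_instance⟩
    infer_instance
  haveI : QuasiSeparated (X.fromSpecStalk (genericPoint X)) := inferInstance
  let g := X.fromSpecStalk (genericPoint X)
  have hg : g = Spec.map (CommRingCat.ofHom (RingHom.id X.functionField)) ≫ g := by
    erw [Spec.map_id, Category.id_comp]
  obtain ⟨hI, hN⟩ := CurveNF.isIntegral_and_normal (g := g) hg
  haveI : IsFinite g.fromNormalization := CurveNF.isFinite_fromNormalization (g := g) hg c (RingHom.Finite.id _)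
  set ν := g.fromNormalization with hν
  let q : g.normalization ⟶ Spec (CommRingCat.of k) := ν ≫ c
  haveI : IsLocallyNoetherian g.normalization := LocallyOfFiniteType.isLocallyNoetherian q
  have hνgen : ν (genericPoint g.normalization) = genericPoint X := CurveNF.fromNormalization_genericPoint hg
  have hres : Function.Bijective (ν.residueFieldMap (genericPoint g.normalization)).hom := by
    rw [← CurveNF.toNormalization_closedPoint (g := g)]
    refine ⟨RingHom.injective _, fun b => ?_⟩
    obtain ⟨b, rfl⟩ := Scheme.residue_surjective g.normalization _ b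
    let σ := Scheme.stalkClosedPointTo g
    have hcl : g (closedPoint X.functionField) = genericPoint X := CurveNF.apply_closedPoint hg
    have hsp : X.presheaf.stalkSpecializes (specializes_of_eq hcl) ≫ σ = 𝟙 _ := by
      apply Spec.map_injective
      rw [← cancel_mono (X.fromSpecStalk (genericPoint X)), Spec.map_comp, Category.assoc,
        Scheme.SpecMap_stalkSpecializes_fromSpecStalk]
      erw [Scheme.Spec_stalkClosedPointTo_fromSpecStalk]
      erw [Spec.map_id, Category.id_comp]
    let τ := Scheme.stalkClosedPointTo g.toNormalization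
    let z : X.functionField := τ.hom b
    have hcomp : X.presheaf.stalkSpecializes
        (specializes_of_eq ((Scheme.Hom.comp_apply g.toNormalization ν _).symm.trans
          ((congrArg (fun m => m (closedPoint X.functionField)) g.toNormalization_fromNormalization).trans hcl))) ≫
        ν.stalkMap _ ≫ τ = 𝟙 _ := by
      apply Spec.map_injective
      rw [← cancel_mono (X.fromSpecStalk (genericPoint X)), Spec.map_comp, Category.assoc,
        Scheme.SpecMap_stalkSpecializes_fromSpecStalk, Spec.map_comp, Category.assoc,
        Scheme.SpecMap_stalkMap_fromSpecStalk]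
      erw [reassoc_of% (Scheme.Spec_stalkClosedPointTo_fromSpecStalk g.toNormalization)]
      rw [g.toNormalization_fromNormalization]
      erw [Spec.map_id, Category.id_comp]
    refine ⟨X.residue _ (X.presheaf.stalkSpecializes
      (specializes_of_eq ((Scheme.Hom.comp_apply g.toNormalization ν _).symm.trans
          ((congrArg (fun m => m (closedPoint X.functionField)) g.toNormalization_fromNormalization).trans hcl))) z), ?_⟩
    refine (ConcreteCategory.congr_hom (Scheme.residue_residueFieldMap ν _) _).trans ?_
    show g.normalization.residue _ (ν.stalkMap _ _) = g.normalization.residue _ b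
    congr 1
    exact CurveNF.stalkClosedPointTo_injective (g := g) (ConcreteCategory.congr_hom hcomp z)
  have hdN : topologicalKrullDim g.normalization = 1 := by
    rw [VarDim.dim_eq_sdim_genericPoint q, VarDim.sdim_comp_eq c ν]
    letI := (ν.residueFieldMap (genericPoint g.normalization)).hom.toAlgebra
    haveI : Algebra.IsAlgebraic (X.residueField (ν (genericPoint g.normalization)))
        (g.normalization.residueField (genericPoint g.normalization)) :=
      ⟨fun b => by obtain ⟨a, rfl⟩ := hres.2 b; exact isAlgebraic_algebraMap a⟩
    rw [show VarDim.tdeg (X.residueField (ν (genericPoint g.normalization)))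
        (g.normalization.residueField (genericPoint g.normalization)) = 0 by
      rw [VarDim.tdeg, trdeg_eq_zero, map_zero], add_zero, hνgen]
    exact ((VarDim.dim_eq_sdim_genericPoint c).symm.trans hd)
  let f' : g.normalization.residueField (genericPoint g.normalization) :=
    ν.residueFieldMap _ ((X.residueFieldCongr hνgen.symm).hom f)
  have hf' : f' ≠ 0 := (map_ne_zero _).2 ((map_ne_zero _).2 hf)
  obtain ⟨φ, hφ⟩ := g.normalization.residue_surjective (genericPoint g.normalization) f'
  have key := degree_zero_normal q hdN (fun n => (hN n).2) φ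
  have hFF := ff_functionField q hdN
  let F : {n : g.normalization // n ≠ genericPoint g.normalization} → ℤ := fun n =>
    (q.residueDegree n.1 : ℤ) * Cyc.ordAt n.1 (genericPoint g.normalization) (genericPoint_specializes n.1) f'
  have hFkey : ∑ᶠ n, F n = 0 := by
    rw [← key]
    refine finsum_congr fun n => ?_
    simp only [F]
    rw [residueDegree_toField, ← hφ, ordAt_generic_eq]
  have hsupp : {n : g.normalization | ∃ h : n ≠ genericPoint g.normalization,
      Cyc.ordAt n (genericPoint g.normalization) (genericPoint_specializes n) f' ≠ 0}.Finite := by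
    haveI : CompactSpace (Spec (CommRingCat.of k)) := inferInstanceAs (CompactSpace (PrimeSpectrum k))
    haveI : CompactSpace g.normalization := QuasiCompact.compactSpace_of_compactSpace q
    let δ : g.normalization → ℤ := fun n => VarDim.sdim q n
    have hgδ : δ (genericPoint g.normalization) = 1 := by
      have h1 := (VarDim.dim_eq_sdim_genericPoint q).symm.trans hdN
      show (VarDim.sdim q (genericPoint g.normalization) : ℤ) = 1
      exact_mod_cast h1
    have h0 : ∀ n : g.normalization, n ≠ genericPoint g.normalization → δ n = 0 := fun n hn => by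
      have h1 := VarDim.sdim_lt_of_specializes q (genericPoint_specializes n) hn.symm
      simp only [δ] at hgδ ⊢
      omega
    have hdim : Cyc.IsDimFun g.normalization δ := fun a b hab hne => by
      have h1 := VarDim.sdim_lt_of_specializes q hab hne
      refine ⟨by simp only [δ]; omega, fun _ => ?_⟩
      have ha : a = genericPoint g.normalization := by
        by_contra hn
        have := h0 a hn
        simp only [δ] at this
        omega
      rw [h0 b (fun hb => hne (ha.trans hb.symm)), ha, hgδ]
      rfl
    have hfin : ∀ {U : g.normalization.Opens}, IsAffineOpen U → _ := fun {U} hU =>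
      finite_support_divFun hdim (genericPoint g.normalization) f' hU
    choose U hU hxU hsub using fun x : g.normalization => exists_isAffineOpen_mem_and_subset
      (U := (⊤ : g.normalization.Opens)) (x := x) trivial
    obtain ⟨t, ht⟩ := isCompact_univ.elim_finite_subcover (fun x => (U x : Set g.normalization)) (fun x => (U x).isOpen)
      (fun x _ => Set.mem_iUnion.2 ⟨x, hxU x⟩)
    refine (t.finite_toSet.biUnion fun u _ => hfin (hU u)).subset fun n hn => ?_
    obtain ⟨u, hu, hnu⟩ := Set.mem_iUnion₂.1 (ht (Set.mem_univ n))
    refine Set.mem_iUnion₂.2 ⟨u, hu, hnu, ?_⟩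
    obtain ⟨hne, hn⟩ := hn
    simp only [Cyc.divFun]
    rw [dif_pos ⟨genericPoint_specializes n, by rw [h0 n hne, hgδ]; rfl⟩]
    exact hn
  have hnorm : ∀ (hy : ν (genericPoint g.normalization) = genericPoint X),
      (X.residueFieldCongr hy).hom (Cyc.normGen ν (genericPoint g.normalization) f') = f := by
    intro hy
    letI := (ν.residueFieldMap (genericPoint g.normalization)).hom.toAlgebra
    have h1 : Cyc.normGen ν (genericPoint g.normalization) f' = (X.residueFieldCongr hνgen.symm).hom f := by
      show Algebra.norm _ (algebraMap _ _ ((X.residueFieldCongr hνgen.symm).hom f)) = _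
      rw [Algebra.norm_algebraMap]
      rw [show Module.finrank (X.residueField (ν (genericPoint g.normalization)))
        (g.normalization.residueField (genericPoint g.normalization)) = 1 from
        residueDegree_of_bijective ν (genericPoint g.normalization) hres, pow_one]
    rw [h1, ← CommRingCat.comp_apply, Scheme.residueFieldCongr_trans_hom, Scheme.residueFieldCongr_refl]
    rfl
  have hpoint : ∀ x : X, x ≠ genericPoint X → ∃ T : Finset g.normalization,
      (∀ n, n ∈ T ↔ ν n = x) ∧ (c.residueDegree x : ℤ) * Cyc.ordAt x (genericPoint X) (genericPoint_specializes x) f =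
        ∑ n ∈ T, (q.residueDegree n : ℤ) * Cyc.ordAt n (genericPoint g.normalization) (genericPoint_specializes n) f' := by
    intro x hx
    have hd1 : ∀ hy : ν (genericPoint g.normalization) ⤳ x,
        ringKrullDim (Cyc.LocQuot x (ν (genericPoint g.normalization)) hy) ≤ 1 := by
      intro hy
      refine (ringKrullDim_quotient_le _).trans ?_
      rw [Curve17.ringKrullDim_stalk hd (Curve17.isClosed_singleton hd.le hx)]
    obtain ⟨T, hT, hTf⟩ := normFormula_finite ν hd1 ((specializes_of_eq hνgen).trans (genericPoint_specializes x))
    refine ⟨T, fun n => (hT n).trans ⟨fun h => h.1, fun h => ⟨h, genericPoint_specializes n⟩⟩, ?_⟩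
    have hcongr : ∀ (a : X) (ha : a = genericPoint X) (hax : a ⤳ x) (φ : X.residueField a),
        Cyc.ordAt x (genericPoint X) (genericPoint_specializes x) ((X.residueFieldCongr ha).hom φ) = Cyc.ordAt x a hax φ := by
      rintro a rfl hax φ
      rw [Scheme.residueFieldCongr_refl]
      rfl
    conv_lhs => rw [← hnorm hνgen, hcongr _ hνgen ((specializes_of_eq hνgen).trans (genericPoint_specializes x)), hTf f' hf', Finset.mul_sum]
    refine Finset.sum_congr rfl fun n hn => ?_
    rw [dif_pos (genericPoint_specializes n), residueDegree_comp, Nat.cast_mul, ((hT n).1 hn).1]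
    ring
  choose T hT hTeq using hpoint
  have hne : ∀ n : g.normalization, n ≠ genericPoint g.normalization ↔ ν n ≠ genericPoint X := fun n => by
    have h : n ∈ ν ⁻¹' {genericPoint X} ↔ n ∈ ({genericPoint g.normalization} : Set _) := by
      rw [CurveNF.preimage_genericPoint hg]
    exact not_congr h.symm
  let S : Finset {n : g.normalization // n ≠ genericPoint g.normalization} :=
    hsupp.toFinset.subtype _
  let P : Finset {x : X // x ≠ genericPoint X} := S.image fun n => ⟨ν n.1, (hne n.1).1 n.2⟩
  have hSmem : ∀ n, F n ≠ 0 → n ∈ S := fun n hn => by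
    simp only [S, Finset.mem_subtype, Set.Finite.mem_toFinset]
    exact ⟨n.2, right_ne_zero_of_mul hn⟩
  rw [finsum_eq_sum_of_support_subset (s := P) _ (fun x hx => ?_)]
  · let T' : {x : X // x ≠ genericPoint X} → Finset {n : g.normalization // n ≠ genericPoint g.normalization} :=
      fun x => (T x.1 x.2).subtype _
    have hT' : ∀ x n, n ∈ T' x ↔ ν n.1 = x.1 := fun x n => by simp [T', hT x.1 x.2]
    have hsum : ∀ x : {x : X // x ≠ genericPoint X},
        (c.residueDegree x.1 : ℤ) * Cyc.ordAt x.1 (genericPoint X) (genericPoint_specializes x.1) f =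
          ∑ n ∈ T' x, F n := fun x => by
      rw [hTeq x.1 x.2]
      refine (Finset.sum_subtype_of_mem (fun n => (q.residueDegree n : ℤ) *
        Cyc.ordAt n (genericPoint g.normalization) (genericPoint_specializes n) f') fun n hn => ?_).symm
      exact (hne n).2 (((hT x.1 x.2 n).1 hn) ▸ x.2)
    rw [Finset.sum_congr rfl fun x _ => hsum x, ← Finset.sum_biUnion, ← hFkey,
      finsum_eq_sum_of_support_subset (s := P.biUnion T') F]
    · intro n hn
      rw [Finset.mem_coe, Finset.mem_biUnion]
      exact ⟨_, Finset.mem_image_of_mem _ (hSmem n hn), (hT' _ n).2 rfl⟩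
    · intro a _ b _ hab
      exact Finset.disjoint_left.2 fun n ha hb => hab (Subtype.ext (((hT' a n).1 ha).symm.trans ((hT' b n).1 hb)))
  · rw [Function.mem_support, hTeq x.1 x.2] at hx
    obtain ⟨n, hn, hne'⟩ := Finset.exists_ne_zero_of_sum_ne_zero hx
    have hnn : n ≠ genericPoint g.normalization := (hne n).2 (((hT x.1 x.2 n).1 hn) ▸ x.2)
    refine Finset.mem_coe.2 (Finset.mem_image.2 ⟨⟨n, hnn⟩, hSmem ⟨n, hnn⟩ hne', ?_⟩)
    exact Subtype.ext ((hT x.1 x.2 n).1 hn)

end Groth.Agent.Cyc26
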