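import Groth.Agent.Lib.Cyc26.DegIter
import Groth.Agent.Lib.Cyc26.C1Fund
import Groth.Agent.Lib.AmpleFin18.PushEuler
import Groth.Agent.Lib.AmpleFin18.Proj
import Groth.Agent.Lib.TensorMod.InvCrit
import Groth.Prelude.Def_ChowOps

/-! # Intersection numbers of closed subschemes via iterated first Chern classes -/

set_option autoImplicit false
set_option linter.style.haveILetI false
universe u

set_option backward.isDefEq.respectTransparency.types false

open CategoryTheory CategoryTheory.Limits AlgebraicGeometry TopologicalSpace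

namespace Groth.Agent.Cyc26

variable {k : Type u} [Field k] {X Z : Scheme.{u}} [X.Over (Spec (CommRingCat.of k))]
  [IsProper (X ↘ Spec (CommRingCat.of k))]

theorem eulerCharLE_push (ι : Z ⟶ X) [IsClosedImmersion ι] (d : ℕ) (hd : topologicalKrullDim Z ≤ (d : WithBot ℕ∞))
    {T : X.Modules} (hT : PicF.IsInvertible T) :
    FGA.eulerCharLE k X (CohB1.tensorMod T ((Scheme.Modules.pushforward ι).obj (Coh.structureModule Z))) d =
      Curv2.euler k X (CohB1.tensorMod T ((Scheme.Modules.pushforward ι).obj (Coh.structureModule Z))) := by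
  haveI := CohFound.isNoetherian_of_isProper (X ↘ Spec (CommRingCat.of k))
  letI : Z.Over (Spec (CommRingCat.of k)) := ⟨ι ≫ (X ↘ Spec (CommRingCat.of k))⟩
  haveI : IsProper (Z ↘ Spec (CommRingCat.of k)) := inferInstanceAs (IsProper (ι ≫ (X ↘ Spec (CommRingCat.of k))))
  haveI : IsLocallyNoetherian Z := LocallyOfFiniteType.isLocallyNoetherian ι
  haveI := AmpleFin18.isIso_projHom ι T (Coh.structureModule Z) hT
  let N := CohB1.tensorMod ((Scheme.Modules.pullback ι).obj T) (Coh.structureModule Z)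
  have hN : Coh.IsCoh N :=
    CurveCoh17.isCoh_tensor (Snapper.isCoh_of_isInvertible (Twist.isInvertible_pullback ι hT)) (M1.isCoh_structureModule Z)
  haveI : N.IsQuasicoherent := hN.1
  have hfin : ∀ n, Module.finrank k (Coh.HH X (CohB1.tensorMod T ((Scheme.Modules.pushforward ι).obj (Coh.structureModule Z))) n) =
      Module.finrank k (Coh.HH Z N n) := fun n =>
    ((CurveCoh17.hequiv k (asIso (AmpleFin18.projHom ι T (Coh.structureModule Z))) n).trans
      (AmpleFin18.nonempty_HH_push ι rfl N hN.1 n).some).finrank_eq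
  have h1 : FGA.eulerCharLE k X (CohB1.tensorMod T ((Scheme.Modules.pushforward ι).obj (Coh.structureModule Z))) d =
      FGA.eulerCharLE k Z N d := by
    rw [FGA.eulerCharLE, FGA.eulerCharLE]
    exact Finset.sum_congr rfl fun i _ => by rw [hfin]
  rw [h1, Snapper.eulerCharLE_eq_euler d hd hN]
  exact finsum_congr fun n => by rw [hfin]

theorem intNum_push_eq_md (ι : Z ⟶ X) [IsClosedImmersion ι] (d : ℕ) (hd : topologicalKrullDim Z ≤ (d : WithBot ℕ∞))
    {r : ℕ} {M : Fin r → X.Modules} (hM : ∀ i, PicF.IsInvertible (M i)) :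
    (FGA.intNum k X d M ((Scheme.Modules.pushforward ι).obj (Coh.structureModule Z)) : ℚ) =
      (-1 : ℚ) ^ r * NumPoly18.md k M ((Scheme.Modules.pushforward ι).obj (Coh.structureModule Z)) := by
  set F := (Scheme.Modules.pushforward ι).obj (Coh.structureModule Z)
  have h : ∀ I : Finset (Fin r),
      (FGA.eulerCharLE k X (CohB1.tensorMod (FGA.tensorList ((I.sort (· ≤ ·)).map M)) F) d : ℚ) =
        Snapper.chi k M F (NumPoly18.ind I) := fun I => by
    obtain ⟨e⟩ := NumPoly18.nonempty_tensorList_select M (fun i => decide (i ∈ I)) (List.finRange r)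
    have e' : FGA.tensorList ((List.finRange r).map fun j => CohB1.tensorPow (M j) (if decide (j ∈ I) then 1 else 0)) =
        FGA.multiTwist M (NumPoly18.ind I) := by simp [FGA.multiTwist, NumPoly18.ind]
    have hi := (e ≪≫ eqToIso e')
    rw [← NumPoly18.sort_eq_filter] at hi
    have hc : PicF.IsInvertible (FGA.tensorList ((I.sort (· ≤ ·)).map M)) :=
      Snapper.isInvertible_tensorList fun N hN => by
        obtain ⟨i, -, rfl⟩ := List.mem_map.1 hN
        exact hM i
    rw [eulerCharLE_push ι d hd hc, Snapper.chi,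
      CurveCoh17.euler_iso (M2.tensorComm _ F ≪≫ M2.tensorIso (Iso.refl F) hi)]
  rw [FGA.intNum, NumPoly18.md, NumPoly18.mixedDiff, Finset.mul_sum]
  push_cast
  refine Finset.sum_congr rfl fun I _ => ?_
  rw [h, ← mul_assoc, ← pow_add]
  congr 1
  have hI : I.card ≤ r := (Finset.card_le_univ I).trans_eq (Fintype.card_fin r)
  rw [show r + (r - I.card) = I.card + 2 * (r - I.card) by omega, pow_add, pow_mul, neg_one_sq, one_pow, mul_one]

variable {δ : X → ℤ}

theorem capDeg_iterate : ∀ (r : ℕ) (L : Fin r → X.Modules) (s : (i : Fin r) → (ξ : X) → Cyc.secFibre (L i) ξ)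
    (γ : ℕ → X → ℤ),
    (∀ (i : ℕ) (h : i < r), γ (i + 1) = Cyc.c1CapFun δ (L ⟨i, h⟩) (γ i) (s ⟨i, h⟩)) →
    capDeg k δ r L s (γ 0) = ∑ᶠ x : X, ((X ↘ Spec (CommRingCat.of k)).residueDegree x : ℤ) * γ r x := by
  intro r
  induction r with
  | zero => exact fun L s γ _ => rfl
  | succ r IH =>
    intro L s γ hγ
    rw [capDeg_succ, show Cyc.c1CapFun δ (L 0) (γ 0) (s 0) = γ 1 from (hγ 0 r.succ_pos).symm]
    exact IH _ _ (fun i => γ (i + 1)) fun i h => hγ (i + 1) (Nat.succ_lt_succ h)

theorem iterate_dim (r : ℕ) (L : Fin r → X.Modules) (s : (i : Fin r) → (ξ : X) → Cyc.secFibre (L i) ξ)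
    (γ : ℕ → X → ℤ) (hγ : ∀ (i : ℕ) (h : i < r), γ (i + 1) = Cyc.c1CapFun δ (L ⟨i, h⟩) (γ i) (s ⟨i, h⟩))
    (h0 : ∀ x, γ 0 x ≠ 0 → δ x = r) : ∀ i ≤ r, ∀ x, γ i x ≠ 0 → δ x = (r : ℤ) - i := by
  intro i
  induction i with
  | zero => intro _ x hx; simpa using h0 x hx
  | succ i IH =>
    intro hi x hx
    rw [hγ i hi] at hx
    obtain ⟨ξ, hξ⟩ : ∃ ξ, γ i ξ * Cyc.secDivFun δ (L ⟨i, hi⟩) ξ (s ⟨i, hi⟩ ξ) x ≠ 0 := by
      by_contra hc
      push Not at hc
      exact hx (finsum_eq_zero_of_forall_eq_zero hc)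
    have h1 := IH (by omega) ξ (left_ne_zero_of_mul hξ)
    have h2 := (specializes_of_secDivFun_ne_zero (right_ne_zero_of_mul hξ)).2
    push_cast
    omega

theorem sheafFun_push_structure (δ : X → ℤ) (r : ℤ) (ι : Z ⟶ X) [IsClosedImmersion ι] :
    Cyc.sheafFun δ r ((Scheme.Modules.pushforward ι).obj (Coh.structureModule Z)) = Cyc.subschemeFun δ r ι := by
  funext x
  simp only [Cyc.sheafFun, Cyc.subschemeFun]
  split_ifs with hx
  swap
  · rfl
  by_cases hr : x ∈ Set.range ι
  · obtain ⟨z, rfl⟩ := hr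
    rw [show {w : Z | ι w = ι z} = {z} from Set.ext fun w => ι.isClosedEmbedding.injective.eq_iff, finsum_mem_singleton]
    congr 2
    exact (length_stalk_push_closedImmersion ι (Coh.structureModule Z) z).trans
      (LinearEquiv.ofBijective (LinearMap.toSpanSingleton _ _ _) (structureModule_stalk_bijective z)).length_eq.symm
  · rw [show {w : Z | ι w = x} = ∅ from Set.eq_empty_iff_forall_notMem.2 fun w hw => hr ⟨w, hw⟩, finsum_mem_empty]
    haveI : Subsingleton (((Scheme.Modules.pushforward ι).obj (Coh.structureModule Z)).presheaf.stalk x) :=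
      ⟨fun a b => (M1.eq_zero_stalk_push ι _ hr a).trans (M1.eq_zero_stalk_push ι _ hr b).symm⟩
    rw [Module.length_eq_zero]
    simp

theorem intNum_eq_deg (hd' : Cyc.IsDimFun X δ) (hδ : Cyc.DeltaCompat (X ↘ Spec (CommRingCat.of k)) δ (fun _ => 0))
    (ι : Z ⟶ X) [IsClosedImmersion ι] (d : ℕ) (hd : topologicalKrullDim Z ≤ (d : WithBot ℕ∞))
    (L M : Fin d → X.Modules) (hL : ∀ i, PicF.IsInvertible (L i))
    (hM : ∀ i, Nonempty (CohB1.tensorMod (M i) (L i) ≅ Coh.structureModule X))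
    (s : (i : Fin d) → (ξ : X) → Cyc.secFibre (L i) ξ) (hs : ∀ i ξ, s i ξ ≠ 0)
    (γ : ℕ → X → ℤ) (hγ0 : γ 0 = Cyc.subschemeFun δ d ι)
    (hγs : ∀ (i : ℕ) (h : i < d), γ (i + 1) = Cyc.c1CapFun δ (L ⟨i, h⟩) (γ i) (s ⟨i, h⟩))
    (α : AlgebraicCycle X ℤ) (hα : ⇑α = γ d) :
    FGA.intNum k X d M ((Scheme.Modules.pushforward ι).obj (Coh.structureModule Z)) =
      ChowOps.deg (X ↘ Spec (CommRingCat.of k)) δ α := by
  haveI := CohFound.isNoetherian_of_isProper (X ↘ Spec (CommRingCat.of k))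
  haveI : IsLocallyNoetherian Z := LocallyOfFiniteType.isLocallyNoetherian ι
  let F := (Scheme.Modules.pushforward ι).obj (Coh.structureModule Z)
  have hM' : ∀ i, PicF.IsInvertible (M i) := fun i => Groth.Agent.M2.isInvertible_of_tensor_iso_unit _ _ (hM i).some
  have hF : Coh.IsCoh F := CohFound.isCoh_push_closedImm ι (M1.isCoh_structureModule Z)
  have hFd : topologicalKrullDim (CohB1.support F) ≤ (d : WithBot ℕ∞) := (NumPoly18.dim_support_push ι _).trans hd
  have h : (FGA.intNum k X d M F : ℚ) = (ChowOps.deg (X ↘ Spec (CommRingCat.of k)) δ α : ℚ) := by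
    rw [intNum_push_eq_md ι d hd hM', md_eq_capDeg hδ hd' d L M hL hM' hM s hs F hF hFd,
      sheafFun_push_structure, ← hγ0, capDeg_iterate d L s γ hγs]
    congr 1
    let pt : ↥(Spec (CommRingCat.of k)) := IsLocalRing.closedPoint k
    let T := (Cyc26Lim.finite_support α).toFinset
    show _ = AlgebraicCycle.map (X ↘ Spec (CommRingCat.of k)) δ (fun _ => (0 : ℤ)) α pt
    rw [map_apply_eq_sum _ δ (fun _ => (0 : ℤ)) α pt T (fun x _ => Subsingleton.elim (α := PrimeSpectrum k) _ _)
      (fun x _ hx _ => (Cyc26Lim.finite_support α).mem_toFinset.2 hx),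
      finsum_eq_sum_of_support_subset _ (s := T) fun x hx => (Cyc26Lim.finite_support α).mem_toFinset.2
        (by rw [hα]; exact right_ne_zero_of_mul hx)]
    refine Finset.sum_congr rfl fun x hx => ?_
    have hδx : δ x = 0 := by
      have := iterate_dim d L s γ hγs (fun y hy => by
        rw [hγ0] at hy
        by_contra hne
        exact hy (if_neg hne)) d le_rfl x (hα ▸ (Cyc26Lim.finite_support α).mem_toFinset.1 hx)
      simpa using this
    rw [AlgebraicCycle.mapCoeff, if_pos hδx, hα]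
    exact mul_comm _ _
  exact_mod_cast h

end Groth.Agent.Cyc26
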