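import Groth.Agent.Lib.Lattice26.Det
import Groth.Agent.Lib.Herbrand26.DimOne
import Groth.Agent.Lib.Cyc26.C1Struct
import Groth.Agent.Lib.Cyc26.Stalk
import Mathlib.RingTheory.Algebraic.Integral
import Mathlib.RingTheory.Norm.Basic
import Mathlib.Data.ENat.BigOperators

/-! # Order of a norm as a sum of local orders -/

set_option autoImplicit false
universe u

set_option backward.isDefEq.respectTransparency.types false

namespace Groth.Agent.Cyc26

theorem length_quot_eq_ord_norm (A : Type u) [CommRing A] [IsDomain A]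
    [IsNoetherianRing A] (hA : ringKrullDim A ≤ 1) (B : Type u) [CommRing B]
    [IsDomain B] [Algebra A B] (hinj : Function.Injective (algebraMap A B)) [Module.Finite A B]
    (K L : Type u) [Field K] [Field L] [Algebra A K] [IsFractionRing A K] [Algebra B L]
    [IsFractionRing B L] [Algebra K L] [Algebra A L] [IsScalarTower A B L] [IsScalarTower A K L]
    [FiniteDimensional K L] (r : B) (hr : r ≠ 0) :
    Module.length A (B ⧸ Ideal.span {r}) < ⊤ ∧
      ((Module.length A (B ⧸ Ideal.span {r})).toNat : ℤ) =
        CycAlg.ordFrac A K (Algebra.norm K (algebraMap B L r)) := by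
  haveI : IsScalarTower A B L := inferInstance
  let ι : B →ₗ[A] L := (IsScalarTower.toAlgHom A B L).toLinearMap
  have hι : Function.Injective ι := IsFractionRing.injective B L
  let M : Submodule A L := LinearMap.range ι
  haveI : Submodule.IsLattice K M := by
    refine ⟨by rw [show M = LinearMap.range ι from rfl, LinearMap.range_eq_map]; exact Module.Finite.fg_top.map _, ?_⟩
    rw [eq_top_iff]
    intro x _
    obtain ⟨b, s, hs, rfl⟩ := IsFractionRing.div_surjective (A := B) x
    haveI : Algebra.IsIntegral A B := Algebra.IsIntegral.of_finite A B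
    obtain ⟨a, ha, c, hc⟩ := (Algebra.IsIntegral.isIntegral (R := A) s).isAlgebraic.exists_nonzero_dvd hs
    have ha' : algebraMap A L a ≠ 0 := by
      rw [IsScalarTower.algebraMap_apply A B L]
      exact fun h => ha (hinj (by rw [map_zero]; exact (IsFractionRing.to_map_eq_zero_iff).1 h))
    have hs' : algebraMap B L s ≠ 0 := IsFractionRing.to_map_ne_zero_of_mem_nonZeroDivisors hs
    have e : algebraMap B L b / algebraMap B L s = (algebraMap A K a)⁻¹ • ι (b * c) := by
      rw [Algebra.smul_def, map_inv₀, ← IsScalarTower.algebraMap_apply A K L]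
      show _ = _ * algebraMap B L (b * c)
      rw [map_mul, IsScalarTower.algebraMap_apply A B L a, hc, map_mul]
      rw [IsScalarTower.algebraMap_apply A B L a, hc, map_mul] at ha'
      field_simp
      exact (mul_div_cancel_right₀ _ (right_ne_zero_of_mul ha')).symm
    rw [e]
    exact Submodule.smul_mem _ _ (Submodule.subset_span ⟨_, rfl⟩)
  let f : L →ₗ[K] L := Algebra.lmul K L (algebraMap B L r)
  have hr' : algebraMap B L r ≠ 0 := fun h => hr ((IsFractionRing.to_map_eq_zero_iff).1 h)
  have hf : LinearMap.det f ≠ 0 := by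
    show LinearMap.det (Algebra.lmul K L (algebraMap B L r)) ≠ 0
    exact Algebra.norm_ne_zero_iff.2 hr'
  have hmap : M.map (f.restrictScalars A) = ((Ideal.span {r}).restrictScalars A).map ι := by
    ext x
    constructor
    · rintro ⟨_, ⟨b, rfl⟩, rfl⟩
      exact ⟨r * b, Ideal.mul_mem_right _ _ (Ideal.mem_span_singleton_self r), map_mul (algebraMap B L) r b⟩
    · rintro ⟨y, hy, rfl⟩
      obtain ⟨b, rfl⟩ := Ideal.mem_span_singleton'.1 hy
      exact ⟨ι b, ⟨b, rfl⟩, ((map_mul (algebraMap B L) b r).trans (mul_comm _ _)).symm⟩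
  haveI := Lattice26.isLattice_map (A := A) M f hf
  have key := Lattice26.F_eq_ord hA M f hf
  have hlt := Lattice26.quotient_length_lt_top K hA M (M.map (f.restrictScalars A))
  have hle : M.map (f.restrictScalars A) ≤ M := by
    rw [hmap]; exact LinearMap.map_le_range
  have hlen : Module.length A (↥M ⧸ (M.map (f.restrictScalars A)).submoduleOf M) =
      Module.length A (B ⧸ Ideal.span {r}) := by
    have hM : M = (⊤ : Submodule A B).map ι := (Submodule.map_top ι).symm
    rw [hmap, hM, Lattice26.length_quotient_map ι hι,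
      (Submodule.Quotient.equiv (((Ideal.span {r}).restrictScalars A).submoduleOf ⊤) ((Ideal.span {r}).restrictScalars A)
        Submodule.topEquiv (by
          ext x; exact ⟨fun ⟨y, hy, e⟩ => e ▸ hy, fun hx => ⟨⟨x, trivial⟩, hx, rfl⟩⟩)).length_eq,
      (Submodule.Quotient.restrictScalarsEquiv A (Ideal.span {r})).length_eq]
  rw [hlen] at hlt
  refine ⟨hlt, ?_⟩
  rw [show Algebra.norm K (algebraMap B L r) = LinearMap.det f from rfl, ← key]
  simp only [Lattice26.F, Lattice26.dist]
  rw [inf_eq_right.2 hle, hlen, Submodule.submoduleOf_self]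
  simp

/-- A module of finite length over a semi-local algebra, measured over the base. -/
theorem length_eq_sum_locLen {A B : Type u} [CommRing A] [CommRing B] [Algebra A B] (S : Finset (PrimeSpectrum B))
    (hS : ∀ m, m ∈ S ↔ m.asIdeal.IsMaximal) (M : Type u) [AddCommGroup M] [Module B M]
    (hM : IsFiniteLength B M) : ∀ [Module A M] [IsScalarTower A B M],
    Module.length A M = ∑ m ∈ S, Module.length A (B ⧸ m.asIdeal) * Herbrand26.locLen m M := by
  classical
  induction hM with
  | @of_subsingleton M _ _ _ =>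
    intro _ _
    rw [Module.length_eq_zero]
    exact (Finset.sum_eq_zero fun m _ => by
      rw [Herbrand26.locLen_eq_zero (Module.notMem_support_iff.2 inferInstance), mul_zero]).symm
  | @of_simple_quotient M _ _ N hs _ ih =>
    intro _ _
    obtain ⟨J, hJ, ⟨e⟩⟩ := isSimpleModule_iff_quot_maximal.1 hs
    let q : PrimeSpectrum B := ⟨J, hJ.isPrime⟩
    have hzero : Function.Exact (0 : PUnit.{u+1} →ₗ[B] (M ⧸ N)) e.toLinearMap := fun n =>
      ⟨fun h => ⟨0, (e.map_eq_zero_iff.1 h).symm⟩, fun ⟨_, h⟩ => h ▸ map_zero e⟩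
    have hloc : ∀ m : PrimeSpectrum B, Herbrand26.locLen m (M ⧸ N) = Herbrand26.locLen m (B ⧸ J) := fun m => by
      rw [Herbrand26.locLen_add m 0 e.toLinearMap (fun a b _ => Subsingleton.elim a b) e.surjective hzero,
        Herbrand26.locLen_eq_zero (N := PUnit.{u+1}) (Module.notMem_support_iff.2 inferInstance), zero_add]
    have hq : ∀ m ∈ S, Herbrand26.locLen m (M ⧸ N) = if m = q then 1 else 0 := fun m hm => by
      rw [hloc]
      split_ifs with h
      · subst h; exact Herbrand26.locLen_quotient_self q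
      · refine Herbrand26.locLen_eq_zero fun hsupp => h (PrimeSpectrum.ext ?_)
        rw [Module.support_eq_zeroLocus, Ideal.annihilator_quotient, PrimeSpectrum.mem_zeroLocus] at hsupp
        exact (hJ.eq_of_le m.2.ne_top hsupp).symm
    have hsum : ∑ m ∈ S, Module.length A (B ⧸ m.asIdeal) * Herbrand26.locLen m (M ⧸ N) = Module.length A (M ⧸ N) := by
      rw [Finset.sum_eq_single q (fun m hm hne => by rw [hq m hm, if_neg hne, mul_zero])
        (fun h => absurd ((hS q).2 hJ) h), hq q ((hS q).2 hJ), if_pos rfl, mul_one]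
      exact (e.restrictScalars A).length_eq.symm
    rw [Module.length_eq_add_of_exact (N.subtype.restrictScalars A) (N.mkQ.restrictScalars A)
        (Submodule.subtype_injective _) (Submodule.mkQ_surjective _) (LinearMap.exact_subtype_mkQ N), ← hsum, ih,
      ← Finset.sum_add_distrib]
    refine Finset.sum_congr rfl fun m _ => ?_
    rw [Herbrand26.locLen_add m N.subtype N.mkQ (Submodule.subtype_injective _) (Submodule.mkQ_surjective _)
      (LinearMap.exact_subtype_mkQ N), mul_add]

theorem locLen_quotient {B : Type u} [CommRing B] (m : PrimeSpectrum B) (T : Type u) [CommRing T] [Algebra B T]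
    [IsLocalization.AtPrime T m.asIdeal] (I : Ideal B) :
    Herbrand26.locLen m (B ⧸ I) = Module.length T (T ⧸ I.map (algebraMap B T)) := by
  let g : (B ⧸ I) →ₗ[B] (T ⧸ I.map (algebraMap B T)) :=
    Submodule.mapQ I ((I.map (algebraMap B T)).restrictScalars B) (Algebra.linearMap B T)
      (fun a ha => Ideal.mem_map_of_mem _ ha)
  haveI : IsLocalizedModule m.asIdeal.primeCompl g := by
    have := IsLocalizedModule.toLocalizedQuotient' T m.asIdeal.primeCompl (Algebra.linearMap B T) I
    have hloc : Submodule.localized' T m.asIdeal.primeCompl (Algebra.linearMap B T) I =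
        I.map (algebraMap B T) := Ideal.localized'_eq_map _ _ I
    have h2 := this.of_linearEquiv (e := (Submodule.quotEquivOfEq _ _ hloc).restrictScalars B)
    convert h2 using 1
    refine LinearMap.ext fun z => ?_
    obtain ⟨z, rfl⟩ := Submodule.Quotient.mk_surjective _ z
    rfl
  let e := IsLocalizedModule.iso m.asIdeal.primeCompl g
  let σ : Localization.AtPrime m.asIdeal ≃ₐ[B] T := IsLocalization.algEquiv m.asIdeal.primeCompl _ _
  refine length_eq_of_semilinear σ.toRingEquiv.toRingHom σ.surjective e.toAddEquiv fun r z => ?_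
  obtain ⟨⟨a, s⟩, rfl⟩ := IsLocalization.mk'_surjective m.asIdeal.primeCompl r
  refine IsUnit.smul_left_cancel ((IsLocalization.map_units T s : IsUnit (algebraMap B T s))) |>.1 ?_
  show algebraMap B T (s : B) • e (IsLocalization.mk' _ a s • z) = algebraMap B T (s : B) • (σ (IsLocalization.mk' _ a s) • e z)
  rw [algebraMap_smul, algebraMap_smul, ← map_smul, ← smul_assoc, ← smul_assoc]
  have h1 : (s : B) • IsLocalization.mk' (Localization.AtPrime m.asIdeal) a s = algebraMap B _ a := by
    rw [Algebra.smul_def, mul_comm, IsLocalization.mk'_spec]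
  rw [h1, ← map_smul σ, h1, AlgEquiv.commutes, algebraMap_smul, algebraMap_smul, map_smul]

/-- The norm formula: `ord_A N(f) = Σ_m [B/m : A/𝔪] ord_{B_m} f`. -/
theorem ordFrac_norm_eq_sum (A : Type u) [CommRing A] [IsDomain A] [IsNoetherianRing A] [IsLocalRing A]
    (hA : ringKrullDim A ≤ 1) (B : Type u) [CommRing B] [IsDomain B] [Algebra A B]
    (hinj : Function.Injective (algebraMap A B)) [Module.Finite A B]
    (K L : Type u) [Field K] [Field L] [Algebra A K] [IsFractionRing A K] [Algebra B L]
    [IsFractionRing B L] [Algebra K L] [Algebra A L] [IsScalarTower A B L] [IsScalarTower A K L]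
    [FiniteDimensional K L] (S : Finset (PrimeSpectrum B)) (hS : ∀ m, m ∈ S ↔ m.asIdeal.IsMaximal)
    (ord : PrimeSpectrum B → L → ℤ)
    (hmul : ∀ m ∈ S, ∀ a b : L, a ≠ 0 → b ≠ 0 → ord m (a * b) = ord m a + ord m b)
    (hord : ∀ m ∈ S, ∀ b : B, b ≠ 0 → ord m (algebraMap B L b) =
      ((Herbrand26.locLen m (B ⧸ Ideal.span {b})).toNat : ℤ))
    (f : L) (hf : f ≠ 0) :
    CycAlg.ordFrac A K (Algebra.norm K f) =
      ∑ m ∈ S, ((Module.length A (B ⧸ m.asIdeal)).toNat : ℤ) * ord m f := by
  have key : ∀ b : B, b ≠ 0 → CycAlg.ordFrac A K (Algebra.norm K (algebraMap B L b)) =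
      ∑ m ∈ S, ((Module.length A (B ⧸ m.asIdeal)).toNat : ℤ) * ord m (algebraMap B L b) := by
    intro b hb
    obtain ⟨hlt, h⟩ := length_quot_eq_ord_norm A hA B hinj K L b hb
    haveI : IsNoetherianRing B := IsNoetherianRing.of_finite A B
    have hfl : IsFiniteLength B (B ⧸ Ideal.span {b}) := by
      refine Module.length_ne_top_iff.1 (ne_top_of_le_ne_top hlt.ne ?_)
      exact (Module.length_top (R := B) (M := B ⧸ Ideal.span {b})).ge.trans ((Submodule.length_le_length_restrictScalars A _).trans (by rw [Submodule.restrictScalars_top, Module.length_top]))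
    rw [← h, length_eq_sum_locLen S hS _ hfl, ENat.toNat_sum]
    · push_cast
      refine Finset.sum_congr rfl fun m hm => ?_
      rw [hord m hm b hb, ENat.toNat_mul, Nat.cast_mul]
    · intro m hm e
      have := Finset.single_le_sum (f := fun m : PrimeSpectrum B => Module.length A (B ⧸ m.asIdeal) *
        Herbrand26.locLen m (B ⧸ Ideal.span {b})) (fun _ _ => bot_le) hm
      rw [← length_eq_sum_locLen S hS _ hfl] at this
      exact hlt.ne (top_le_iff.1 (e ▸ this))
  obtain ⟨a, b, hb, rfl⟩ := IsFractionRing.div_surjective (A := B) f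
  have hb0 : b ≠ 0 := nonZeroDivisors.ne_zero hb
  have hbL : algebraMap B L b ≠ 0 := IsFractionRing.to_map_ne_zero_of_mem_nonZeroDivisors hb
  have ha0 : a ≠ 0 := by rintro rfl; exact hf (by rw [map_zero, zero_div])
  have h1 := Lattice26.ordFrac_mul (A := A) (K := K) hA
    (Algebra.norm_ne_zero_iff.2 hf) (Algebra.norm_ne_zero_iff.2 hbL)
  rw [← map_mul, div_mul_cancel₀ _ hbL, key a ha0, key b hb0] at h1
  have h2 : ∑ m ∈ S, ((Module.length A (B ⧸ m.asIdeal)).toNat : ℤ) * ord m (algebraMap B L a) =
      ∑ m ∈ S, ((Module.length A (B ⧸ m.asIdeal)).toNat : ℤ) * ord m (algebraMap B L a / algebraMap B L b) +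
      ∑ m ∈ S, ((Module.length A (B ⧸ m.asIdeal)).toNat : ℤ) * ord m (algebraMap B L b) := by
    rw [← Finset.sum_add_distrib]
    refine Finset.sum_congr rfl fun m hm => ?_
    rw [← mul_add, ← hmul m hm _ _ hf hbL, div_mul_cancel₀ _ hbL]
  omega

end Groth.Agent.Cyc26
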