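import Groth.Agent.Lib.Cyc26.NormSum
import Groth.Agent.Lib.Cyc26.Length
import Groth.Agent.Lib.Cyc26.PullKer
import Groth.Agent.Lib.Cyc26.NormFormula
import Groth.Agent.Lib.Descend.BaseChangeAt
import Groth.Agent.Lib.Tame26.Birat
import Mathlib.LinearAlgebra.TensorProduct.RightExactness

/-! # Residue degrees and lengths over a point of a base change -/

set_option autoImplicit false
universe u

set_option backward.isDefEq.respectTransparency.types false

open CategoryTheory CategoryTheory.Limits AlgebraicGeometry IsLocalRing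
open scoped TensorProduct

namespace Groth.Agent.Cyc26

theorem length_eq_sum_locLen_of_support {A B : Type u} [CommRing A] [CommRing B] [Algebra A B]
    (S : Finset (PrimeSpectrum B)) (hS : ∀ m ∈ S, m.asIdeal.IsMaximal) (M : Type u) [AddCommGroup M] [Module B M]
    (hM : IsFiniteLength B M) : (∀ m, m.asIdeal.IsMaximal → m ∈ Module.support B M → m ∈ S) →
    ∀ [Module A M] [IsScalarTower A B M],
    Module.length A M = ∑ m ∈ S, Module.length A (B ⧸ m.asIdeal) * Herbrand26.locLen m M := by
  classical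
  induction hM with
  | @of_subsingleton M _ _ _ =>
    intro _ _ _
    rw [Module.length_eq_zero]
    exact (Finset.sum_eq_zero fun m _ => by
      rw [Herbrand26.locLen_eq_zero (Module.notMem_support_iff.2 inferInstance), mul_zero]).symm
  | @of_simple_quotient M _ _ N hs _ ih =>
    intro hsupp _ _
    obtain ⟨J, hJ, ⟨e⟩⟩ := isSimpleModule_iff_quot_maximal.1 hs
    let q : PrimeSpectrum B := ⟨J, hJ.isPrime⟩
    have hqsupp : q ∈ Module.support B (B ⧸ J) := by
      rw [Module.support_eq_zeroLocus, Ideal.annihilator_quotient, PrimeSpectrum.mem_zeroLocus]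
    have hq1 : q ∈ Module.support B (M ⧸ N) :=
      (Module.support_subset_of_surjective e.toLinearMap e.surjective) hqsupp
    have hqS : q ∈ S := hsupp q hJ ((Module.support_subset_of_surjective N.mkQ N.mkQ_surjective) hq1)
    have hzero : Function.Exact (0 : PUnit.{u+1} →ₗ[B] (M ⧸ N)) e.toLinearMap := fun n =>
      ⟨fun h => ⟨0, (e.map_eq_zero_iff.1 h).symm⟩, fun ⟨_, h⟩ => h ▸ map_zero e⟩
    have hloc : ∀ m : PrimeSpectrum B, Herbrand26.locLen m (M ⧸ N) = Herbrand26.locLen m (B ⧸ J) := fun m => by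
      rw [Herbrand26.locLen_add m 0 e.toLinearMap (fun a b _ => Subsingleton.elim a b) e.surjective hzero,
        Herbrand26.locLen_eq_zero (N := PUnit.{u+1}) (Module.notMem_support_iff.2 inferInstance), zero_add]
    have hq : ∀ m ∈ S, Herbrand26.locLen m (M ⧸ N) = if m = q then 1 else 0 := fun m hm => by
      rw [hloc]
      split_ifs with h
      · subst h; exact Herbrand26.locLen_quotient_self q
      · refine Herbrand26.locLen_eq_zero fun hsupp => h (PrimeSpectrum.ext ?_)
        rw [Module.support_eq_zeroLocus, Ideal.annihilator_quotient, PrimeSpectrum.mem_zeroLocus] at hsupp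
        exact (hJ.eq_of_le m.2.ne_top hsupp).symm
    have hsum : ∑ m ∈ S, Module.length A (B ⧸ m.asIdeal) * Herbrand26.locLen m (M ⧸ N) = Module.length A (M ⧸ N) := by
      rw [Finset.sum_eq_single q (fun m hm hne => by rw [hq m hm, if_neg hne, mul_zero])
        (fun h => absurd hqS h), hq q hqS, if_pos rfl, mul_one]
      exact (e.restrictScalars A).length_eq.symm
    rw [Module.length_eq_add_of_exact (N.subtype.restrictScalars A) (N.mkQ.restrictScalars A)
        (Submodule.subtype_injective _) (Submodule.mkQ_surjective _) (LinearMap.exact_subtype_mkQ N), ← hsum,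
      ih (fun m hm hmN => hsupp m hm (Module.support_subset_of_injective N.subtype N.subtype_injective hmN)),
      ← Finset.sum_add_distrib]
    refine Finset.sum_congr rfl fun m _ => ?_
    rw [Herbrand26.locLen_add m N.subtype N.mkQ (Submodule.subtype_injective _) (Submodule.mkQ_surjective _)
      (LinearMap.exact_subtype_mkQ N), mul_add]

/-- The algebra behind the fibre formula. -/
theorem sum_residue_baseChange {A B C : Type u} [CommRing A] [IsLocalRing A] [CommRing B] [IsLocalRing B]
    [CommRing C] [IsLocalRing C] [Algebra A B] [Algebra A C] [IsLocalHom (algebraMap A B)]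
    [IsLocalHom (algebraMap A C)] [Module.Flat A C] [FiniteDimensional (ResidueField A) (ResidueField B)]
    (hC : IsFiniteLength C (C ⧸ (maximalIdeal A).map (algebraMap A C))) :
    ∃ S : Finset (PrimeSpectrum (C ⊗[A] B)),
      (∀ P, P ∈ S ↔ P.asIdeal.comap (algebraMap C (C ⊗[A] B)) = maximalIdeal C ∧
        P.asIdeal.comap (Algebra.TensorProduct.includeRight : B →ₐ[A] C ⊗[A] B) = maximalIdeal B) ∧
      (∀ P ∈ S, P.asIdeal.IsMaximal) ∧
      ∀ (L : PrimeSpectrum (C ⊗[A] B) → Type u) [∀ P, CommRing (L P)] [∀ P, Algebra (C ⊗[A] B) (L P)]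
        [∀ P, IsLocalization.AtPrime (L P) P.asIdeal],
      ∑ P ∈ S, (Module.length C ((C ⊗[A] B) ⧸ P.asIdeal)).toNat *
        (Module.length (L P) (L P ⧸ (((maximalIdeal B).map
          (Algebra.TensorProduct.includeRight : B →ₐ[A] C ⊗[A] B)).map (algebraMap (C ⊗[A] B) (L P))))).toNat =
      Module.finrank (ResidueField A) (ResidueField B) *
        (Module.length C (C ⧸ (maximalIdeal A).map (algebraMap A C))).toNat ∧
      ∀ P ∈ S, Module.length C ((C ⊗[A] B) ⧸ P.asIdeal) ≠ ⊤ := by
  classical
  set κ := ResidueField B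
  let T := C ⊗[A] B
  let inr : B →ₐ[A] T := Algebra.TensorProduct.includeRight
  let I : Ideal T := (maximalIdeal B).map inr
  let π : T →ₐ[C] C ⊗[A] κ := Algebra.TensorProduct.map (AlgHom.id C C) (IsScalarTower.toAlgHom A B κ)
  have hπs : Function.Surjective π := LinearMap.lTensor_surjective C residue_surjective
  have hker : RingHom.ker π = I := by
    have := Algebra.TensorProduct.lTensor_ker (A := C) (IsScalarTower.toAlgHom A B κ) residue_surjective
    show RingHom.ker (Algebra.TensorProduct.map (AlgHom.id A C) (IsScalarTower.toAlgHom A B κ)) = I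
    rw [this]
    exact congrArg (Ideal.map inr) ker_residue
  let e : (T ⧸ I) ≃ₐ[C] C ⊗[A] κ :=
    (Ideal.quotientEquivAlgOfEq C hker.symm).trans (Ideal.quotientKerAlgEquivOfSurjective hπs)
  have hκ : Module.length A κ = (Module.finrank (ResidueField A) κ : ℕ∞) := by
    rw [← Module.length_eq_finrank, ← Module.length_eq_of_surjective (R := ResidueField A) (S := A) (M := κ) residue_surjective]
  have hlen : Module.length C (T ⧸ I) = (Module.finrank (ResidueField A) κ : ℕ∞) *
      Module.length C (C ⧸ (maximalIdeal A).map (algebraMap A C)) := by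
    rw [e.toLinearEquiv.length_eq, length_baseChange A C κ, hκ,
      (Algebra.TensorProduct.quotIdealMapEquivTensorQuot C (maximalIdeal A)).toLinearEquiv.length_eq]
  have hfinC : IsFiniteLength C (T ⧸ I) := by
    refine Module.length_ne_top_iff.1 ?_
    rw [hlen]
    exact WithTop.mul_ne_top (ENat.natCast_ne_top _) (Module.length_ne_top_iff.2 hC)
  haveI : Module.Finite A κ := Module.Finite.trans (ResidueField A) κ
  haveI : Module.Finite C (T ⧸ I) := Module.Finite.of_surjective
    (e.symm.toLinearMap) e.symm.surjective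
  have hfinT : IsFiniteLength T (T ⧸ I) := by
    refine Module.length_ne_top_iff.1 (ne_top_of_le_ne_top (Module.length_ne_top_iff.2 hfinC) ?_)
    exact (Module.length_top (R := T) (M := T ⧸ I)).ge.trans
      ((Submodule.length_le_length_restrictScalars C _).trans (by rw [Submodule.restrictScalars_top, Module.length_top]))
  have hsupp : ∀ P : PrimeSpectrum T, P ∈ Module.support T (T ⧸ I) ↔ I ≤ P.asIdeal := fun P => by
    rw [Module.support_eq_zeroLocus, Ideal.annihilator_quotient, PrimeSpectrum.mem_zeroLocus]; rfl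
  haveI : Algebra.IsIntegral C (T ⧸ I) := Algebra.IsIntegral.of_finite C _
  have hmax : ∀ P : PrimeSpectrum T, I ≤ P.asIdeal →
      (P.asIdeal.comap (algebraMap C T) = maximalIdeal C ↔ P.asIdeal.IsMaximal) := by
    intro P hP
    set Q := P.asIdeal.map (Ideal.Quotient.mk I) with hQ
    have hPQ : Q.comap (Ideal.Quotient.mk I) = P.asIdeal := by
      rw [hQ, Ideal.comap_map_of_surjective _ Ideal.Quotient.mk_surjective, sup_eq_left]
      exact fun x hx => hP (Ideal.Quotient.eq_zero_iff_mem.1 (Ideal.mem_comap.1 hx))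
    haveI : Q.IsPrime := Ideal.map_isPrime_of_surjective Ideal.Quotient.mk_surjective (by rwa [Ideal.mk_ker])
    have hQC : Q.comap (algebraMap C (T ⧸ I)) = P.asIdeal.comap (algebraMap C T) := by
      rw [← hPQ, Ideal.comap_comap]; rfl
    refine ⟨fun h => ?_, fun h => ?_⟩
    · haveI : Q.IsMaximal := Ideal.isMaximal_of_isIntegral_of_isMaximal_comap Q (by rw [hQC, h]; infer_instance)
      rw [← hPQ]
      exact Ideal.comap_isMaximal_of_surjective _ Ideal.Quotient.mk_surjective
    · haveI : Q.IsMaximal := (Ideal.map_eq_top_or_isMaximal_of_surjective _ Ideal.Quotient.mk_surjective h).resolve_left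
        (Ideal.IsPrime.ne_top ‹Q.IsPrime›)
      rw [← hQC]
      haveI : (Q.comap (algebraMap C (T ⧸ I))).IsMaximal := Ideal.isMaximal_comap_of_isIntegral_of_isMaximal Q
      exact IsLocalRing.eq_maximalIdeal ‹_›
  have hIP : ∀ P : PrimeSpectrum T, I ≤ P.asIdeal ↔ P.asIdeal.comap inr = maximalIdeal B := fun P => by
    refine ⟨fun h => ((maximalIdeal.isMaximal B).eq_of_le (Ideal.IsPrime.comap inr).ne_top
      (Ideal.map_le_iff_le_comap.1 h)).symm, fun h => Ideal.map_le_iff_le_comap.2 h.ge⟩
  have hfS : {P : PrimeSpectrum T | I ≤ P.asIdeal ∧ P.asIdeal.IsMaximal}.Finite := by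
    haveI := Tame26.finite_maximalSpectrum C (T ⧸ I)
    refine (Set.finite_range fun Q : MaximalSpectrum (T ⧸ I) =>
      (⟨Q.asIdeal.comap (Ideal.Quotient.mk I), Ideal.IsPrime.comap _⟩ : PrimeSpectrum T)).subset fun P hP => ?_
    have hne : P.asIdeal.map (Ideal.Quotient.mk I) ≠ ⊤ := fun h => by
      haveI := Ideal.map_isPrime_of_surjective (f := Ideal.Quotient.mk I) Ideal.Quotient.mk_surjective
        (show RingHom.ker (Ideal.Quotient.mk I) ≤ P.asIdeal by rw [Ideal.mk_ker]; exact hP.1)
      exact Ideal.IsPrime.ne_top this h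
    refine ⟨⟨P.asIdeal.map (Ideal.Quotient.mk I), (Ideal.map_eq_top_or_isMaximal_of_surjective _
      Ideal.Quotient.mk_surjective hP.2).resolve_left hne⟩, PrimeSpectrum.ext ?_⟩
    show (P.asIdeal.map (Ideal.Quotient.mk I)).comap (Ideal.Quotient.mk I) = P.asIdeal
    rw [Ideal.comap_map_of_surjective _ Ideal.Quotient.mk_surjective, sup_eq_left]
    exact fun x hx => hP.1 (Ideal.Quotient.eq_zero_iff_mem.1 (Ideal.mem_comap.1 hx))
  refine ⟨hfS.toFinset, fun P => ?_, fun P hP => (hfS.mem_toFinset.1 hP).2, fun L => ?_⟩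
  · rw [hfS.mem_toFinset]
    exact ⟨fun h => ⟨(hmax P h.1).2 h.2, (hIP P).1 h.1⟩,
      fun h => ⟨(hIP P).2 h.2, (hmax P ((hIP P).2 h.2)).1 h.1⟩⟩
  intro _ _ _
  have key := length_eq_sum_locLen_of_support (A := C) hfS.toFinset (fun P hP => (hfS.mem_toFinset.1 hP).2) (T ⧸ I) hfinT
    (fun P h1 h2 => hfS.mem_toFinset.2 ⟨(hsupp P).1 h2, h1⟩)
  have hterm : ∀ P ∈ hfS.toFinset, Module.length C (T ⧸ P.asIdeal) * Herbrand26.locLen P (T ⧸ I) ≠ ⊤ := by
    intro P hP h
    have hle := Finset.single_le_sum (f := fun P : PrimeSpectrum T => Module.length C (T ⧸ P.asIdeal) *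
      Herbrand26.locLen P (T ⧸ I)) (fun _ _ => bot_le) hP
    rw [← key, h, top_le_iff] at hle
    exact Module.length_ne_top_iff.2 hfinC hle
  refine ⟨?_, fun P hP => ?_⟩
  · rw [← ENat.toNat_natCast (Module.finrank (ResidueField A) κ), ← ENat.toNat_mul, ← hlen, key, ENat.toNat_sum hterm]
    refine Finset.sum_congr rfl fun P _ => ?_
    rw [ENat.toNat_mul, locLen_quotient P (L P)]
  · intro h
    refine Module.length_ne_top_iff.2 hfinC (top_le_iff.1 (h.symm.le.trans ?_))
    exact Module.length_le_of_surjective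
      ((Ideal.Quotient.factorₐ C (show I ≤ P.asIdeal from (hfS.mem_toFinset.1 hP).1)).toLinearMap)
      (Ideal.Quotient.factor_surjective (hfS.mem_toFinset.1 hP).1)

/-- The transported maps of stalks are bijective. -/
theorem stalkSpecializes_bijective {X : Scheme.{u}} {a b : X} (e : a = b) :
    Function.Bijective (X.presheaf.stalkSpecializes (specializes_of_eq e)).hom := by
  haveI : IsIso (X.presheaf.stalkSpecializes (specializes_of_eq e)) :=
    ⟨X.presheaf.stalkSpecializes (specializes_of_eq e.symm), by simp, by simp⟩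
  exact ConcreteCategory.bijective_of_isIso _

theorem map_maximalIdeal_of_bijective {R S : Type u} [CommRing R] [IsLocalRing R] [CommRing S] [IsLocalRing S]
    (σ : R →+* S) (hσ : Function.Bijective σ) : (maximalIdeal R).map σ = maximalIdeal S := by
  haveI : IsLocalHom σ := ⟨fun a ha => by
    obtain ⟨b, hb⟩ := hσ.2 ha.unit⁻¹.val
    refine IsUnit.of_mul_eq_one b (hσ.1 ?_)
    rw [map_mul, hb, map_one]; exact ha.mul_val_inv⟩
  rw [← ((IsLocalRing.local_hom_TFAE σ).out 0 4 rfl rfl).1 inferInstance, Ideal.map_comap_of_surjective σ hσ.2]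

set_option maxHeartbeats 1000000 in
/-- Residue degrees times fibre multiplicities over a point of a flat base change. -/
theorem sum_fibre {P X' Y S : Scheme.{u}} {q : P ⟶ X'} {p' : P ⟶ Y} {g : X' ⟶ S} {f : Y ⟶ S}
    (hsq : IsPullback q p' g f) [Flat g] (x' : X') (y : Y) (hxy : f y = g x')
    (hC : IsFiniteLength (X'.presheaf.stalk x') (X'.presheaf.stalk x' ⧸
      (maximalIdeal (S.presheaf.stalk (g x'))).map (g.stalkMap x').hom))
    (hfin : (f.residueFieldMap y).hom.Finite) :
    ∃ Z : Finset P, (∀ z, z ∈ Z ↔ q z = x' ∧ p' z = y) ∧ (∀ z ∈ Z, FibDim14.rdeg q z = 0) ∧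
      ∑ z ∈ Z, q.residueDegree z * (Module.length (P.presheaf.stalk z) (P.presheaf.stalk z ⧸
          (maximalIdeal (Y.presheaf.stalk (p' z))).map (p'.stalkMap z).hom)).toNat =
        f.residueDegree y * (Module.length (X'.presheaf.stalk x') (X'.presheaf.stalk x' ⧸
          (maximalIdeal (S.presheaf.stalk (g x'))).map (g.stalkMap x').hom)).toNat := by
  classical
  let φ : S.presheaf.stalk (f y) ⟶ Y.presheaf.stalk y := f.stalkMap y
  let ψ : S.presheaf.stalk (f y) ⟶ X'.presheaf.stalk x' :=
    S.presheaf.stalkSpecializes (specializes_of_eq hxy.symm) ≫ g.stalkMap x'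
  letI : Algebra (S.presheaf.stalk (f y)) (Y.presheaf.stalk y) := φ.hom.toAlgebra
  letI : Algebra (S.presheaf.stalk (f y)) (X'.presheaf.stalk x') := ψ.hom.toAlgebra
  haveI : IsLocalHom (algebraMap (S.presheaf.stalk (f y)) (Y.presheaf.stalk y)) :=
    inferInstanceAs (IsLocalHom (f.stalkMap y).hom)
  have hσb := stalkSpecializes_bijective (X := S) hxy.symm
  haveI : IsLocalHom (algebraMap (S.presheaf.stalk (f y)) (X'.presheaf.stalk x')) := by
    show IsLocalHom ((g.stalkMap x').hom.comp (S.presheaf.stalkSpecializes (specializes_of_eq hxy.symm)).hom)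
    haveI : IsLocalHom (S.presheaf.stalkSpecializes (specializes_of_eq hxy.symm)).hom := ⟨fun a ha => by
      obtain ⟨b, hb⟩ := hσb.2 ha.unit⁻¹.val
      refine IsUnit.of_mul_eq_one b (hσb.1 ?_)
      rw [map_mul, hb, map_one]; exact ha.mul_val_inv⟩
    infer_instance
  haveI : Module.Flat (S.presheaf.stalk (f y)) (X'.presheaf.stalk x') :=
    RingHom.Flat.comp (RingHom.Flat.of_bijective hσb) ((Flat.iff_flat_stalkMap g).1 inferInstance x')
  haveI : FiniteDimensional (ResidueField (S.presheaf.stalk (f y))) (ResidueField (Y.presheaf.stalk y)) := RingHom.finite_algebraMap.1 hfin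
  have hI : (maximalIdeal (S.presheaf.stalk (f y))).map (algebraMap _ (X'.presheaf.stalk x')) =
      (maximalIdeal (S.presheaf.stalk (g x'))).map (g.stalkMap x').hom := by
    show Ideal.map ((g.stalkMap x').hom.comp (S.presheaf.stalkSpecializes (specializes_of_eq hxy.symm)).hom) _ = _
    rw [← Ideal.map_map, map_maximalIdeal_of_bijective _ hσb]
  obtain ⟨Q, hQ, hQmax, hsum⟩ := sum_residue_baseChange (A := S.presheaf.stalk (f y)) (B := Y.presheaf.stalk y)
    (C := X'.presheaf.stalk x') (by rw [hI]; exact hC)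
  let T := X'.presheaf.stalk x' ⊗[S.presheaf.stalk (f y)] Y.presheaf.stalk y
  let inl : X'.presheaf.stalk x' ⟶ CommRingCat.of T := CommRingCat.ofHom (Algebra.TensorProduct.includeLeftRingHom
    (R := S.presheaf.stalk (f y)) (A := X'.presheaf.stalk x') (B := Y.presheaf.stalk y))
  let inr : Y.presheaf.stalk y ⟶ CommRingCat.of T :=
    CommRingCat.ofHom ((Algebra.TensorProduct.includeRight (R := S.presheaf.stalk (f y))
      (A := X'.presheaf.stalk x') (B := Y.presheaf.stalk y)).toRingHom)
  let a := X'.fromSpecStalk x'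
  let b := Y.fromSpecStalk y
  have ha : Spec.map ψ ≫ S.fromSpecStalk (f y) = a ≫ g := by
    simp only [ψ, a, Spec.map_comp, Category.assoc, Scheme.SpecMap_stalkSpecializes_fromSpecStalk,
      Scheme.SpecMap_stalkMap_fromSpecStalk]
  have hb : Spec.map φ ≫ S.fromSpecStalk (f y) = b ≫ f := Scheme.SpecMap_stalkMap_fromSpecStalk f
  have hT : IsPullback (Spec.map inl) (Spec.map inr) (a ≫ g) (b ≫ f) := by
    have h1 : IsPullback (Spec.map inl) (Spec.map inr) (Spec.map ψ) (Spec.map φ) :=
      isPullback_SpecMap_of_isPushout ψ φ inl inr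
        (CommRingCat.isPushout_tensorProduct (S.presheaf.stalk (f y)) (X'.presheaf.stalk x') (Y.presheaf.stalk y))
    rw [← ha, ← hb]
    exact ⟨⟨by rw [h1.w_assoc]⟩, ⟨PullbackCone.isLimitOfCompMono (Spec.map ψ) (Spec.map φ) (S.fromSpecStalk (f y)) _ h1.isLimit⟩⟩
  let mp := pullback.map (a ≫ g) (b ≫ f) g f a b (𝟙 S) (Category.comp_id _) (Category.comp_id _)
  let J : Spec (CommRingCat.of T) ⟶ P := hT.isoPullback.hom ≫ mp ≫ hsq.isoPullback.inv
  have hJq : J ≫ q = Spec.map inl ≫ a := by
    simp only [J, mp, Category.assoc, IsPullback.isoPullback_inv_fst, IsPullback.isoPullback_inv_snd, pullback.lift_fst, pullback.lift_snd, IsPullback.isoPullback_hom_fst_assoc, IsPullback.isoPullback_hom_snd_assoc]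
  have hJp : J ≫ p' = Spec.map inr ≫ b := by
    simp only [J, mp, Category.assoc, IsPullback.isoPullback_inv_fst, IsPullback.isoPullback_inv_snd, pullback.lift_fst, pullback.lift_snd, IsPullback.isoPullback_hom_fst_assoc, IsPullback.isoPullback_hom_snd_assoc]
  haveI : Flat a := Descend.flat_fromSpecStalk x'
  haveI : Flat b := Descend.flat_fromSpecStalk y
  haveI : Flat mp := MorphismProperty.pullbackMap (P := @Flat) (f := a ≫ g) (g := b ≫ f) (f' := g) (g' := f)
    (i₁ := a) (i₂ := b) inferInstance inferInstance rfl rfl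
  haveI : SurjectiveOnStalks mp := MorphismProperty.pullbackMap (P := @SurjectiveOnStalks) (f := a ≫ g) (g := b ≫ f)
    (f' := g) (g' := f) (i₁ := a) (i₂ := b) inferInstance inferInstance rfl rfl
  haveI : Flat J := inferInstance
  haveI : SurjectiveOnStalks J := inferInstance
  have hJb : ∀ t, Function.Bijective (J.stalkMap t).hom := fun t => by
    letI := (J.stalkMap t).hom.toAlgebra
    haveI : Module.Flat (P.presheaf.stalk (J t)) ((Spec (CommRingCat.of T)).presheaf.stalk t) :=
      (Flat.iff_flat_stalkMap J).1 inferInstance t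
    haveI : IsLocalHom (algebraMap (P.presheaf.stalk (J t)) ((Spec (CommRingCat.of T)).presheaf.stalk t)) :=
      inferInstanceAs (IsLocalHom (J.stalkMap t).hom)
    haveI := Module.FaithfullyFlat.of_flat_of_isLocalHom (A := P.presheaf.stalk (J t))
      (B := (Spec (CommRingCat.of T)).presheaf.stalk t)
    exact ⟨FaithfulSMul.algebraMap_injective (P.presheaf.stalk (J t)) ((Spec (CommRingCat.of T)).presheaf.stalk t),
      J.stalkMap_surjective t⟩
  have hiso : ∀ t, IsIso (J.stalkMap t) := fun t => (ConcreteCategory.isIso_iff_bijective _).2 (hJb t)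
  let Ψ : ∀ t : ↥(Spec (CommRingCat.of T)), P.presheaf.stalk (J t) ≅ (Spec (CommRingCat.of T)).presheaf.stalk t :=
    fun t => @asIso _ _ _ _ (J.stalkMap t) (hiso t)
  let θ : ∀ t : ↥(Spec (CommRingCat.of T)), CommRingCat.of T ⟶ P.presheaf.stalk (J t) := fun t =>
    StructureSheaf.toStalk T t ≫ (Ψ t).inv
  have hθ : ∀ t, Spec.map (θ t) ≫ J = P.fromSpecStalk (J t) := fun t => by
    show Spec.map (StructureSheaf.toStalk T t ≫ (Ψ t).inv) ≫ J = _
    rw [Spec.map_comp, show Spec.map (StructureSheaf.toStalk T t) = (Spec (CommRingCat.of T)).fromSpecStalk t from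
      (Spec.fromSpecStalk_eq' (R := CommRingCat.of T) (x := t)).symm, Category.assoc]
    refine (congrArg (Spec.map (Ψ t).inv ≫ ·) (Scheme.SpecMap_stalkMap_fromSpecStalk J (x := t)).symm).trans ?_
    show Spec.map (Ψ t).inv ≫ Spec.map (Ψ t).hom ≫ _ = _
    rw [← Spec.map_comp_assoc, Iso.hom_inv_id, Spec.map_id, Category.id_comp]
  have hθl : ∀ t (e : q (J t) = x'), inl ≫ θ t =
      X'.presheaf.stalkSpecializes (specializes_of_eq e) ≫ q.stalkMap (J t) := fun t e => by
    refine Spec.map_injective ((cancel_mono a).1 ?_)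
    rw [Spec.map_comp, Category.assoc, ← hJq, reassoc_of% hθ t, Spec.map_comp, Category.assoc]
    show _ = _ ≫ _ ≫ X'.fromSpecStalk x'
    rw [Scheme.SpecMap_stalkSpecializes_fromSpecStalk, Scheme.SpecMap_stalkMap_fromSpecStalk]
  have hθr : ∀ t (e : p' (J t) = y), inr ≫ θ t =
      Y.presheaf.stalkSpecializes (specializes_of_eq e) ≫ p'.stalkMap (J t) := fun t e => by
    refine Spec.map_injective ((cancel_mono b).1 ?_)
    rw [Spec.map_comp, Category.assoc, ← hJp, reassoc_of% hθ t, Spec.map_comp, Category.assoc]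
    show _ = _ ≫ _ ≫ Y.fromSpecStalk y
    rw [Scheme.SpecMap_stalkSpecializes_fromSpecStalk, Scheme.SpecMap_stalkMap_fromSpecStalk]
  letI : ∀ t : PrimeSpectrum T, Algebra T (P.presheaf.stalk (J t)) := fun t => (θ t).hom.toAlgebra
  haveI : ∀ t : PrimeSpectrum T, IsLocalization.AtPrime (P.presheaf.stalk (J t)) t.asIdeal := fun t => by
    letI : Algebra T ((Spec (CommRingCat.of T)).presheaf.stalk t) := (StructureSheaf.toStalk T t).hom.toAlgebra
    haveI : IsLocalization.AtPrime ((Spec (CommRingCat.of T)).presheaf.stalk t) t.asIdeal :=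
      StructureSheaf.IsLocalization.to_stalk T t
    refine IsLocalization.isLocalization_of_algEquiv t.asIdeal.primeCompl
      (AlgEquiv.ofRingEquiv (f := (Ψ t).symm.commRingCatIsoToRingEquiv) fun z => rfl)
  obtain ⟨hsum', hne⟩ := hsum (fun t => P.presheaf.stalk (J t))
  have hJinj : Function.Injective J := by
    intro t t' he
    haveI : IsPreimmersion mp := MorphismProperty.pullbackMap (P := @IsPreimmersion) (f := a ≫ g) (g := b ≫ f)
      (f' := g) (g' := f) (i₁ := a) (i₂ := b) inferInstance inferInstance rfl rfl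
    exact J.isEmbedding.injective he
  have hclosed : ∀ t : PrimeSpectrum T, t ∈ Q ↔ q (J t) = x' ∧ p' (J t) = y := fun t => by
    rw [hQ, ← Scheme.Hom.comp_apply, ← Scheme.Hom.comp_apply, hJq, hJp]
    have key : ∀ {X₀ : Scheme.{u}} (x₀ : X₀) (ρ : X₀.presheaf.stalk x₀ ⟶ CommRingCat.of T),
        t.asIdeal.comap ρ.hom = maximalIdeal (X₀.presheaf.stalk x₀) ↔ (Spec.map ρ ≫ X₀.fromSpecStalk x₀) t = x₀ := by
      intro X₀ x₀ ρ
      refine ⟨fun h => ?_, fun h => ?_⟩
      · rw [Scheme.Hom.comp_apply, show (Spec.map ρ) t = closedPoint (X₀.presheaf.stalk x₀) from PrimeSpectrum.ext h,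
          Scheme.fromSpecStalk_closedPoint]
      · exact congrArg PrimeSpectrum.asIdeal ((X₀.fromSpecStalk x₀).isEmbedding.injective
          (h.trans Scheme.fromSpecStalk_closedPoint.symm) : (Spec.map ρ) t = closedPoint (X₀.presheaf.stalk x₀))
    exact and_congr (key x' inl) (key y inr)
  have hsurj : ∀ z, q z = x' → p' z = y → z ∈ Set.range J := fun z h1 h2 => by
    have hm : hsq.isoPullback.hom z ∈ Set.range mp := by
      rw [Scheme.Pullback.range_map]
      refine ⟨⟨closedPoint _, ?_⟩, ⟨closedPoint _, ?_⟩⟩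
      · rw [Scheme.fromSpecStalk_closedPoint, ← Scheme.Hom.comp_apply, hsq.isoPullback_hom_fst, h1]
      · rw [Scheme.fromSpecStalk_closedPoint, ← Scheme.Hom.comp_apply, hsq.isoPullback_hom_snd, h2]
    obtain ⟨w, hw⟩ := hm
    refine ⟨hT.isoPullback.inv w, ?_⟩
    simp only [J, Scheme.Hom.comp_apply]
    rw [show hT.isoPullback.hom (hT.isoPullback.inv w) = w from by
        rw [← Scheme.Hom.comp_apply, Iso.inv_hom_id]; rfl, hw, ← Scheme.Hom.comp_apply, Iso.hom_inv_id]
    rfl
  have hdeg : ∀ t ∈ Q,
      q.residueDegree (J t) = (Module.length (X'.presheaf.stalk x') (T ⧸ t.asIdeal)).toNat ∧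
      FibDim14.rdeg q (J t) = 0 := by
    intro t ht
    obtain ⟨e1, -⟩ := (hclosed t).1 ht
    haveI := hQmax t ht
    letI : Algebra (X'.residueField (q (J t))) (P.residueField (J t)) := (q.residueFieldMap (J t)).hom.toAlgebra
    let π₀ : T →+* P.residueField (J t) := (P.residue (J t)).hom.comp (θ t).hom
    have hker : RingHom.ker π₀ = t.asIdeal := by
      ext z
      rw [RingHom.mem_ker]
      exact (residue_eq_zero _ _).trans (IsLocalization.AtPrime.to_map_mem_maximal_iff (P.presheaf.stalk (J t)) t.asIdeal z)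
    have hπs : Function.Surjective π₀ := by
      intro w
      obtain ⟨w, rfl⟩ := residue_surjective w
      obtain ⟨⟨n, s⟩, rfl⟩ := IsLocalization.mk'_surjective t.asIdeal.primeCompl w
      obtain ⟨u, i, hi, hu⟩ := (hQmax t ht).exists_inv (show (s : T) ∉ t.asIdeal from s.2)
      refine ⟨n * u, ?_⟩
      have hs : P.residue (J t) (θ t (s : T)) ≠ 0 := fun h => s.2 (hker.le (RingHom.mem_ker.2 h))
      refine mul_right_cancel₀ hs ?_
      have h1 : P.residue (J t) (IsLocalization.mk' (P.presheaf.stalk (J t)) n s) * P.residue (J t) (θ t (s : T)) =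
          P.residue (J t) (θ t n) := by
        rw [← map_mul]
        exact congrArg _ (IsLocalization.mk'_spec (P.presheaf.stalk (J t)) n s)
      refine Eq.trans ?_ h1.symm
      show π₀ (n * u) * π₀ s = π₀ n
      rw [← map_mul, ← sub_eq_zero, ← map_sub, ← RingHom.mem_ker, hker,
        show n * u * (s : T) - n = -(n * i) by linear_combination n * hu]
      exact neg_mem (Ideal.mul_mem_left _ _ hi)
    let e : (T ⧸ t.asIdeal) ≃+* P.residueField (J t) :=
      (Ideal.quotEquivOfEq hker.symm).trans (RingHom.quotientKerEquivOfSurjective hπs)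
    let σ : X'.presheaf.stalk x' →+* X'.residueField (q (J t)) :=
      (X'.residue (q (J t))).hom.comp (X'.presheaf.stalkSpecializes (specializes_of_eq e1)).hom
    have hlen : Module.length (X'.presheaf.stalk x') (T ⧸ t.asIdeal) =
        Module.length (X'.residueField (q (J t))) (P.residueField (J t)) := by
      refine length_eq_of_semilinear σ (residue_surjective.comp (stalkSpecializes_bijective e1).2) e.toAddEquiv ?_
      intro c m
      obtain ⟨m, rfl⟩ := Ideal.Quotient.mk_surjective m
      show π₀ (c • m) = σ c • π₀ m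
      rw [Algebra.smul_def, Algebra.smul_def, map_mul]
      congr 1
      show P.residue (J t) ((inl ≫ θ t) c) = _
      rw [hθl t e1]
      exact (ConcreteCategory.congr_hom (Scheme.residue_residueFieldMap q (J t)) _).symm
    have hlt : Module.length (X'.residueField (q (J t))) (P.residueField (J t)) ≠ ⊤ := by
      rw [← hlen]; exact hne t ht
    haveI : IsNoetherian (X'.residueField (q (J t))) (P.residueField (J t)) :=
      (isFiniteLength_iff_isNoetherian_isArtinian.1 (Module.length_ne_top_iff.1 hlt)).1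
    refine ⟨?_, ?_⟩
    · rw [hlen, Module.length_eq_finrank]
      rfl
    · show Algebra.trdeg (X'.residueField (q (J t))) (P.residueField (J t)) = 0
      exact trdeg_eq_zero
  refine ⟨Q.map ⟨fun t => J t, hJinj⟩, fun z => ?_, fun z hz => ?_, ?_⟩
  · rw [Finset.mem_map]
    refine ⟨fun ⟨t, ht, h⟩ => h ▸ (hclosed t).1 ht, fun ⟨h1, h2⟩ => ?_⟩
    obtain ⟨t, rfl⟩ := hsurj z h1 h2
    exact ⟨t, (hclosed t).2 ⟨h1, h2⟩, rfl⟩
  · obtain ⟨t, ht, rfl⟩ := Finset.mem_map.1 hz
    exact (hdeg t ht).2
  rw [hI] at hsum'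
  rw [Finset.sum_map, show f.residueDegree y = Module.finrank (ResidueField (S.presheaf.stalk (f y)))
    (ResidueField (Y.presheaf.stalk y)) from ?_, ← hsum']
  swap
  · letI := (f.residueFieldMap y).hom.toAlgebra
    refine Algebra.finrank_eq_of_equiv_equiv (RingEquiv.refl (S.residueField (f y))) (RingEquiv.refl (Y.residueField y)) ?_
    refine RingHom.ext fun w => ?_
    obtain ⟨w, rfl⟩ := residue_surjective w
    exact (ConcreteCategory.congr_hom (Scheme.residue_residueFieldMap f y) w).symm
  refine Finset.sum_congr rfl fun t ht => ?_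
  simp only [Function.Embedding.coeFn_mk]
  rw [(hdeg t ht).1]
  obtain ⟨-, e2⟩ := (hclosed t).1 ht
  have hmI : (maximalIdeal (Y.presheaf.stalk (p' (J t)))).map (p'.stalkMap (J t)).hom =
      ((maximalIdeal (Y.presheaf.stalk y)).map (Algebra.TensorProduct.includeRight :
        Y.presheaf.stalk y →ₐ[S.presheaf.stalk (f y)] T)).map (algebraMap T (P.presheaf.stalk (J t))) := by
    rw [← map_maximalIdeal_of_bijective _ (stalkSpecializes_bijective e2), Ideal.map_map]
    refine Eq.trans ?_ (Ideal.map_map inr.hom (θ t).hom).symm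
    exact congrArg (fun χ : Y.presheaf.stalk y ⟶ P.presheaf.stalk (J t) =>
      Ideal.map χ.hom (maximalIdeal (Y.presheaf.stalk y))) (hθr t e2).symm
  exact congrArg (fun I => (Module.length (X'.presheaf.stalk x') (T ⧸ t.asIdeal)).toNat *
    (Module.length (P.presheaf.stalk (J t)) (P.presheaf.stalk (J t) ⧸ I)).toNat) hmI

end Groth.Agent.Cyc26
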