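import Groth.Agent.Lib.Cyc26.PushDiv
import Groth.Agent.Lib.Cyc26.PullDiv
import Groth.Agent.Lib.Weight4.MultRank

/-! # Finite flat pullback followed by pushforward -/

set_option autoImplicit false
universe u

set_option backward.isDefEq.respectTransparency.types false

open CategoryTheory AlgebraicGeometry

namespace Groth.Agent.Cyc26

variable {X Y : Scheme.{u}}

theorem delta_eq_of_finite (f : X ⟶ Y) [IsFinite f] {δX : X → ℤ} {δY : Y → ℤ}
    (hδ : Cyc.DeltaCompat f δX δY) (x : X) : δX x = δY (f x) := by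
  letI := (f.residueFieldMap x).hom.toAlgebra
  haveI : FiniteDimensional (Y.residueField (f x)) (X.residueField x) := RingHom.finite_algebraMap.mp
    (Weight.finite_residueFieldMap f x (f.quasiFiniteAt x))
  obtain ⟨n, hn, hd⟩ := hδ x
  have h0 : Algebra.trdeg (Y.residueField (f x)) (X.residueField x) = 0 :=
    (trdeg_eq_zero (R := Y.residueField (f x)) (A := X.residueField x))
  rw [h0] at hn
  have : n = 0 := by exact_mod_cast hn.symm
  rw [hd, this, Nat.cast_zero, add_zero]

theorem map_pullFun_finite_flat (f : X ⟶ Y) [IsFinite f] [Flat f] {δX : X → ℤ} {δY : Y → ℤ}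
    (hδ : Cyc.DeltaCompat f δX δY) (α : AlgebraicCycle Y ℤ) (α' : AlgebraicCycle X ℤ)
    (hα' : ⇑α' = Cyc.pullFun f δX δY 0 ⇑α) (y : Y) :
    AlgebraicCycle.map f δX δY α' y = (f.finrank y : ℤ) * α y := by
  classical
  have hfin : (f ⁻¹' {y}).Finite := f.finite_preimage_singleton y
  let T := hfin.toFinset
  rw [map_apply_eq_sum f δX δY α' y T (fun x hx => hfin.mem_toFinset.1 hx)
    (fun x hx _ _ => hfin.mem_toFinset.2 hx), ← Weight.fibreIntegral_wt_eq_finrank f y]
  unfold MoreMor.fibreIntegral
  haveI := hfin.to_subtype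
  rw [mul_comm, mul_finsum _ _, finsum_subtype_eq_sum (fun u => f u = y)
    (fun u => α y * (Weight.wt f u * (letI := (f.residueFieldMap u).hom.toAlgebra
      (Field.finSepDegree (Y.residueField (f u)) (X.residueField u) : ℤ)))) T
    (fun x hx => hfin.mem_toFinset.1 hx) (fun x hx _ => hfin.mem_toFinset.2 hx)]
  refine Finset.sum_congr rfl fun x hx => ?_
  have hxy : f x = y := hfin.mem_toFinset.1 hx
  have hd := delta_eq_of_finite f hδ x
  rw [Weight.fibreIntegral_term f x (f.quasiFiniteAt _), hα', Cyc.pullFun, if_pos (by rw [hd, add_zero]),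
    AlgebraicCycle.mapCoeff, if_pos hd, show α (f x) = α y from congrArg (fun z => α z) hxy]
  push_cast
  rw [← mul_assoc]
  rfl

theorem hasRelDim_zero_of_finite (f : X ⟶ Y) [IsFinite f] : Cyc.HasRelDim f 0 := by
  intro y T hT
  haveI : DiscreteTopology ↥(f.fiber y) := inferInstance
  obtain ⟨x, hx⟩ := hT.1.nonempty
  haveI hsub : Subsingleton T := ⟨fun a b => Subtype.ext (hT.1.2.subsingleton a.2 b.2)⟩
  haveI : Nonempty T := ⟨⟨x, hx⟩⟩
  haveI : Subsingleton (TopologicalSpace.IrreducibleCloseds T) := ⟨fun a b => TopologicalSpace.IrreducibleCloseds.ext (by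
    rw [(Set.subsingleton_univ.anti (Set.subset_univ (a : Set T))).eq_singleton_of_mem a.isIrreducible.nonempty.some_mem,
      (Set.subsingleton_univ.anti (Set.subset_univ (b : Set T))).eq_singleton_of_mem b.isIrreducible.nonempty.some_mem,
      Subsingleton.elim a.isIrreducible.nonempty.some b.isIrreducible.nonempty.some])⟩
  haveI : Nonempty (TopologicalSpace.IrreducibleCloseds T) := ⟨⟨Set.univ, ⟨Set.univ_nonempty, Set.subsingleton_univ.isPreirreducible⟩, isClosed_univ⟩⟩
  exact Order.krullDim_eq_zero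

end Groth.Agent.Cyc26
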