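import Groth.Agent.Lib.Cyc26.GysFun
import Groth.Agent.Lib.UCat26.FlatRel
import Mathlib.RingTheory.Flat.Equalizer

/-! # Gysin pullback to a relative effective Cartier divisor -/

set_option autoImplicit false
universe u

set_option backward.isDefEq.respectTransparency.types false

open CategoryTheory AlgebraicGeometry TopologicalSpace
open scoped Classical Pointwise

namespace Groth.Agent.Cyc26

variable {X Y D : Scheme.{u}} {δX : X → ℤ} {δY : Y → ℤ}

theorem mul_regular_quotient {A B C : Type u} [CommRing A] [CommRing B] [CommRing C] [Algebra A B] [Algebra A C]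
    [Algebra B C] [IsScalarTower A B C] [Module.Flat A C] {g : B}
    (hs : Function.Surjective (algebraMap B C)) (hker : RingHom.ker (algebraMap B C) = Ideal.span {g})
    (hg : ∀ b, g * b = 0 → b = 0) (P : Ideal A) {z : B ⧸ P.map (algebraMap A B)} (hz : g • z = 0) : z = 0 := by
  let G : B →ₗ[A] B := (LinearMap.mulLeft B g).restrictScalars A
  let F : B →ₗ[A] C := (IsScalarTower.toAlgHom A B C).toLinearMap
  have hex : Function.Exact G F := fun b => by
    constructor
    · intro hb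
      have hb' : b ∈ RingHom.ker (algebraMap B C) := hb
      rw [hker, Ideal.mem_span_singleton'] at hb'
      obtain ⟨c, hc⟩ := hb'
      exact ⟨c, (mul_comm g c).trans hc⟩
    · rintro ⟨c, rfl⟩
      show algebraMap B C (g * c) = 0
      rw [map_mul, show algebraMap B C g = 0 from by
        rw [← RingHom.mem_ker, hker]; exact Ideal.subset_span rfl, zero_mul]
  have hG : Function.Injective G := (injective_iff_map_eq_zero G).2 fun b hb => hg b hb
  have ht := LinearMap.lTensor_injective_of_exact_of_flat (M := B) F hs G hG hex (A ⧸ P)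
  let e : (B ⧸ P.map (algebraMap A B)) ≃ₗ[B] TensorProduct A B (A ⧸ P) :=
    (Algebra.TensorProduct.quotIdealMapEquivTensorQuot B P).toLinearEquiv
  have hcomm : ∀ w : TensorProduct A B (A ⧸ P), TensorProduct.comm A B (A ⧸ P) (g • w) =
      G.lTensor (A ⧸ P) (TensorProduct.comm A B (A ⧸ P) w) := by
    intro w
    induction w using TensorProduct.induction_on with
    | zero => rw [smul_zero, map_zero, map_zero]
    | tmul b m => rw [TensorProduct.smul_tmul', TensorProduct.comm_tmul, TensorProduct.comm_tmul, LinearMap.lTensor_tmul]; rfl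
    | add u v hu hv => rw [smul_add, map_add, map_add, map_add, hu, hv]
  have h0 := hcomm (e z)
  rw [← map_smul e, hz, map_zero, map_zero] at h0
  exact e.injective (((TensorProduct.comm A B (A ⧸ P)).injective
    ((ht (h0.symm.trans (map_zero _).symm)).trans (map_zero _).symm)).trans (map_zero e).symm)

variable [IsLocallyNoetherian X]

theorem length_cut_eq_sum (p : X ⟶ Y) (hd : Cyc.IsDimFun X δX) {r : ℤ}
    (hle : ∀ z, δX z ≤ δY (p z) + (r + 1)) {x : X} (hx : δX x = δY (p x) + r) (g : X.presheaf.stalk x)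
    (hgmem : ∀ ξ, p ξ = p x → ∀ h : ξ ⤳ x, ξ ≠ x → g ∉ RingHom.ker (Cyc.specMap x ξ h))
    (hreg : ∀ z : X.presheaf.stalk x ⧸
      (IsLocalRing.maximalIdeal (Y.presheaf.stalk (p x))).map (p.stalkMap x).hom, g • z = 0 → z = 0) :
    ∃ T : Finset X, (∀ ξ, ξ ∈ T ↔ p ξ = p x ∧ ξ ⤳ x ∧ ξ ≠ x) ∧
      (∀ ξ ∈ T, δX x + 1 = δX ξ ∧ δX ξ = δY (p ξ) + (r + 1)) ∧
      ((Module.length (X.presheaf.stalk x) (X.presheaf.stalk x ⧸
          ((IsLocalRing.maximalIdeal (Y.presheaf.stalk (p x))).map (p.stalkMap x).hom ⊔ Ideal.span {g}))).toNat : ℤ) =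
        ∑ ξ ∈ T, ((Module.length (X.presheaf.stalk ξ) (X.presheaf.stalk ξ ⧸ Ideal.map (p.stalkMap ξ).hom
            (IsLocalRing.maximalIdeal (Y.presheaf.stalk (p ξ))))).toNat : ℤ) *
          (if h : ξ ⤳ x then Cyc.ordAt x ξ h (Cyc.specMap x ξ h g) else 0) := by
  let I : Ideal (X.presheaf.stalk x) :=
    (IsLocalRing.maximalIdeal (Y.presheaf.stalk (p x))).map (p.stalkMap x).hom
  have hsupp : ∀ q : PrimeSpectrum (X.presheaf.stalk x), q ∈ Module.support (X.presheaf.stalk x) (X.presheaf.stalk x ⧸ I) ↔ I ≤ q.asIdeal := fun q => by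
    rw [Module.support_eq_zeroLocus, Ideal.annihilator_quotient, PrimeSpectrum.mem_zeroLocus]; rfl
  let pt : PrimeSpectrum (X.presheaf.stalk x) → X := fun q => X.fromSpecStalk x q
  have hpt : ∀ q, pt q ⤳ x := fun q => by
    have hr : pt q ∈ Set.range (X.fromSpecStalk x) := ⟨q, rfl⟩
    rw [Scheme.range_fromSpecStalk] at hr
    exact hr
  have hqker : ∀ q, q.asIdeal = RingHom.ker (Cyc.specMap x (pt q) (hpt q)) := fun q =>
    congrArg PrimeSpectrum.asIdeal ((X.fromSpecStalk x).isEmbedding.injective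
      (UCat26.fromSpecStalk_ker (hpt q)).symm : q = ⟨_, RingHom.ker_isPrime _⟩)
  have hnat : ∀ ξ (h : ξ ⤳ x) (a : (Y.presheaf.stalk (p x))), p.residueFieldMap ξ (Cyc.specMap (p x) (p ξ) (h.map p.continuous) a) =
      Cyc.specMap x ξ h (p.stalkMap x a) := fun ξ h a => by
    show p.residueFieldMap ξ (Y.residue _ (Y.presheaf.stalkSpecializes _ a)) =
      X.residue ξ (X.presheaf.stalkSpecializes h (p.stalkMap x a))
    rw [← Scheme.Hom.stalkSpecializes_stalkMap_apply p ξ x h a]
    exact ConcreteCategory.congr_hom (Scheme.residue_residueFieldMap p _) _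
  have hfib : ∀ ξ (h : ξ ⤳ x), I ≤ RingHom.ker (Cyc.specMap x ξ h) ↔ p ξ = p x := by
    intro ξ h
    refine ⟨fun hle' => ?_, fun he => Ideal.map_le_iff_le_comap.2 fun a ha => ?_⟩
    · have h2 : p x ⤳ p ξ := by
        have e1 := UCat26.fromSpecStalk_ker (h.map p.continuous)
        rw [← e1]
        conv_lhs => rw [← Scheme.fromSpecStalk_closedPoint (X := Y) (x := p x)]
        refine (UCat26.specializes_map_iff _ (Y.fromSpecStalk (p x)).isEmbedding _ _).2 ?_
        show IsLocalRing.maximalIdeal (Y.presheaf.stalk (p x)) ≤ RingHom.ker (Cyc.specMap (p x) (p ξ) _)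
        intro a ha
        have h3 := hnat ξ h a
        rw [RingHom.mem_ker.1 (hle' (Ideal.mem_map_of_mem _ ha))] at h3
        exact (map_eq_zero _).1 h3
      exact ((h.map p.continuous).antisymm h2).eq
    · show Cyc.specMap x ξ h (p.stalkMap x a) = 0
      rw [← hnat ξ h a]
      have hk : RingHom.ker (Cyc.specMap (p x) (p ξ) (h.map p.continuous)) = IsLocalRing.maximalIdeal (Y.presheaf.stalk (p x)) :=
        congrArg PrimeSpectrum.asIdeal ((Y.fromSpecStalk (p x)).isEmbedding.injective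
          ((UCat26.fromSpecStalk_ker (h.map p.continuous)).trans (he.trans Scheme.fromSpecStalk_closedPoint.symm)) :
          (⟨_, RingHom.ker_isPrime _⟩ : PrimeSpectrum (Y.presheaf.stalk (p x))) = IsLocalRing.closedPoint (Y.presheaf.stalk (p x)))
      rw [show Cyc.specMap (p x) (p ξ) (h.map p.continuous) a = 0 from hk.ge ha, map_zero]
  have hne : ∀ q : PrimeSpectrum (X.presheaf.stalk x), q.asIdeal ≠ IsLocalRing.maximalIdeal (X.presheaf.stalk x) ↔ pt q ≠ x := fun q => by
    refine ⟨fun h e => h ?_, fun h e => h ?_⟩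
    · have : q = IsLocalRing.closedPoint (X.presheaf.stalk x) :=
        (X.fromSpecStalk x).isEmbedding.injective (e.trans Scheme.fromSpecStalk_closedPoint.symm)
      rw [this]; rfl
    · show X.fromSpecStalk x q = x
      rw [show q = IsLocalRing.closedPoint (X.presheaf.stalk x) from PrimeSpectrum.ext e, Scheme.fromSpecStalk_closedPoint]
  have hprop : ∀ ξ, p ξ = p x → ξ ⤳ x → ξ ≠ x → δX x + 1 = δX ξ ∧ δX ξ = δY (p ξ) + (r + 1) := by
    intro ξ he h hne'
    have h1 := (hd ξ x h hne').1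
    have h2 := hle ξ
    rw [he] at h2 ⊢
    omega
  have hminS : ∀ q : PrimeSpectrum (X.presheaf.stalk x), q ∈ Module.support (X.presheaf.stalk x) (X.presheaf.stalk x ⧸ I) → q.asIdeal ≠ IsLocalRing.maximalIdeal (X.presheaf.stalk x) →
      ∀ q' ∈ Module.support (X.presheaf.stalk x) (X.presheaf.stalk x ⧸ I), q' ≤ q → q' = q := by
    intro q h1 h2 q' h1' hle'
    have a1 := (hfib _ (hpt q)).1 (hqker q ▸ (hsupp q).1 h1)
    have b1 := (hfib _ (hpt q')).1 (hqker q' ▸ (hsupp q').1 h1')
    obtain ⟨c1, c2⟩ := hprop _ a1 (hpt q) ((hne q).1 h2)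
    refine (X.fromSpecStalk x).isEmbedding.injective (by_contra fun hn => ?_)
    have hsp : pt q' ⤳ pt q := (UCat26.specializes_map_iff _ (X.fromSpecStalk x).isEmbedding _ _).2 hle'
    have h3 := (hd (pt q') (pt q) hsp hn).1
    have h4 := hle (pt q')
    rw [b1] at h4
    rw [a1] at c2
    omega
  haveI : IsNoetherianRing (X.presheaf.stalk x) := inferInstance
  have hfinS : {q : PrimeSpectrum (X.presheaf.stalk x) | q ∈ Module.support (X.presheaf.stalk x) (X.presheaf.stalk x ⧸ I) ∧ q.asIdeal ≠ IsLocalRing.maximalIdeal (X.presheaf.stalk x)}.Finite := by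
    refine ((Ideal.finite_minimalPrimes_of_isNoetherianRing (X.presheaf.stalk x) I).preimage
      (f := fun q : PrimeSpectrum (X.presheaf.stalk x) => q.asIdeal) (fun a _ b _ => PrimeSpectrum.ext)).subset fun q hq => ?_
    refine ⟨⟨q.2, (hsupp q).1 hq.1⟩, fun Q hQ hQle => ?_⟩
    exact (congrArg PrimeSpectrum.asIdeal (hminS q hq.1 hq.2 ⟨Q, hQ.1⟩ ((hsupp _).2 hQ.2) hQle)).ge
  let S := hfinS.toFinset
  have hmem : ∀ q ∈ S, p (pt q) = p x ∧ pt q ≠ x := fun q hq => by
    obtain ⟨h1, h2⟩ := hfinS.mem_toFinset.1 hq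
    exact ⟨(hfib _ (hpt q)).1 (hqker q ▸ (hsupp q).1 h1), (hne q).1 h2⟩
  refine ⟨S.image pt, fun ξ => ⟨fun hξ => ?_, fun ⟨he, h, hn⟩ => ?_⟩, fun ξ hξ => ?_, ?_⟩
  · obtain ⟨q, hq, rfl⟩ := Finset.mem_image.1 hξ
    exact ⟨(hmem q hq).1, hpt q, (hmem q hq).2⟩
  · refine Finset.mem_image.2 ⟨⟨_, RingHom.ker_isPrime (Cyc.specMap x ξ h)⟩,
      hfinS.mem_toFinset.2 ⟨(hsupp _).2 ((hfib ξ h).2 he), (hne _).2 ?_⟩, UCat26.fromSpecStalk_ker h⟩
    show X.fromSpecStalk x _ ≠ x
    rw [UCat26.fromSpecStalk_ker h]; exact hn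
  · obtain ⟨q, hq, rfl⟩ := Finset.mem_image.1 hξ
    exact hprop _ (hmem q hq).1 (hpt q) (hmem q hq).2
  have hnot : ∀ q ∈ S, g ∉ q.asIdeal := fun q hq => by
    rw [hqker q]
    exact hgmem _ (hmem q hq).1 (hpt q) (hmem q hq).2
  have key := Herbrand26.length_quot_eq (X.presheaf.stalk x ⧸ I) g S (fun q => hfinS.mem_toFinset) hnot
    (fun q hq => hminS q (hfinS.mem_toFinset.1 hq).1 (hfinS.mem_toFinset.1 hq).2)
  have hker : LinearMap.ker (LinearMap.lsmul (X.presheaf.stalk x) (X.presheaf.stalk x ⧸ I) g) = ⊥ := eq_bot_iff.2 fun z hz => hreg z hz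
  rw [hker, Module.length_eq_zero (M := (⊥ : Submodule (X.presheaf.stalk x) (X.presheaf.stalk x ⧸ I))), zero_add] at key
  have hlhs : Module.length (X.presheaf.stalk x) ((X.presheaf.stalk x ⧸ I) ⧸ g • (⊤ : Submodule (X.presheaf.stalk x) (X.presheaf.stalk x ⧸ I))) = Module.length (X.presheaf.stalk x) ((X.presheaf.stalk x) ⧸ (I ⊔ Ideal.span {g})) := by
    have hmk : g • (⊤ : Submodule (X.presheaf.stalk x) (X.presheaf.stalk x ⧸ I)) = Submodule.map (Submodule.mkQ I) (I ⊔ Ideal.span {g}) := by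
      rw [Submodule.map_sup, Submodule.map_span, Set.image_singleton,
        show Submodule.map I.mkQ I = ⊥ from by
          rw [eq_bot_iff, Submodule.map_le_iff_le_comap, Submodule.comap_bot, Submodule.ker_mkQ], bot_sup_eq]
      refine le_antisymm ?_ ?_
      · intro z hz
        obtain ⟨m, -, rfl⟩ := (Submodule.mem_smul_pointwise_iff_exists _ _ _).1 hz
        obtain ⟨b, rfl⟩ := Ideal.Quotient.mk_surjective m
        refine Submodule.mem_span_singleton.2 ⟨b, ?_⟩
        show Ideal.Quotient.mk I (b * g) = Ideal.Quotient.mk I (g * b)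
        rw [mul_comm]
      · rw [Submodule.span_singleton_le_iff_mem]
        exact (Submodule.mem_smul_pointwise_iff_exists _ _ _).2 ⟨Ideal.Quotient.mk I 1, trivial, by
          show Ideal.Quotient.mk I (g * 1) = Ideal.Quotient.mk I g
          rw [mul_one]⟩
    rw [hmk]
    exact (Submodule.quotientQuotientEquivQuotient I (I ⊔ Ideal.span {g}) le_sup_left).length_eq
  have hterm : ∀ q ∈ S, Ring.ord ((X.presheaf.stalk x) ⧸ q.asIdeal) (Ideal.Quotient.mk q.asIdeal g) * Herbrand26.locLen q (X.presheaf.stalk x ⧸ I) ≠ ⊤ := by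
    intro q hq h
    have hle1 := Finset.single_le_sum (f := fun q : PrimeSpectrum (X.presheaf.stalk x) =>
      Ring.ord ((X.presheaf.stalk x) ⧸ q.asIdeal) (Ideal.Quotient.mk q.asIdeal g) * Herbrand26.locLen q (X.presheaf.stalk x ⧸ I)) (fun _ _ => bot_le) hq
    have hpos : Module.length (X.presheaf.stalk x) ((X.presheaf.stalk x ⧸ I) ⧸ g • (⊤ : Submodule (X.presheaf.stalk x) (X.presheaf.stalk x ⧸ I))) ≠ ⊤ := by
      refine Herbrand26.isFiniteLength_of_support_subset fun q' hq' => by_contra fun hn => ?_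
      rw [← Submodule.ideal_span_singleton_smul, Module.support_quotient, PrimeSpectrum.zeroLocus_span] at hq'
      exact hnot q' (hfinS.mem_toFinset.2 ⟨hq'.1, hn⟩) (by simpa using hq'.2)
    rw [key] at hpos
    simp only [h, top_le_iff] at hle1
    exact hpos hle1
  rw [← hlhs, key, ENat.toNat_sum hterm, Finset.sum_image (g := pt) (fun u _ v _ e => (X.fromSpecStalk x).isEmbedding.injective e)]
  push_cast
  refine Finset.sum_congr rfl fun q hq => ?_
  obtain ⟨he, hn⟩ := hmem q hq
  rw [dif_pos (hpt q), ENat.toNat_mul, Nat.cast_mul, mul_comm,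
    (ordAt_mk hd (hpt q) (hprop _ he (hpt q) hn).1 (by rw [← hqker q]; exact hnot q hq)).1]
  have hq' : q = ⟨_, RingHom.ker_isPrime (Cyc.specMap x (pt q) (hpt q))⟩ := PrimeSpectrum.ext (hqker q)
  congr 2
  · congr 1
    conv_lhs => rw [hq']
    have hk : RingHom.ker (Cyc.specMap (p x) (p x) specializes_rfl) = IsLocalRing.maximalIdeal (Y.presheaf.stalk (p x)) :=
      congrArg PrimeSpectrum.asIdeal ((Y.fromSpecStalk (p x)).isEmbedding.injective
        ((UCat26.fromSpecStalk_ker specializes_rfl).trans Scheme.fromSpecStalk_closedPoint.symm) :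
        (⟨_, RingHom.ker_isPrime _⟩ : PrimeSpectrum (Y.presheaf.stalk (p x))) = IsLocalRing.closedPoint (Y.presheaf.stalk (p x)))
    have := length_locLen p (hpt q) he specializes_rfl
    rw [hk] at this
    exact this
  · congr 1
    exact (length_quotient_transfer (Ideal.quotEquivOfEq (hqker q)) (Ideal.Quotient.mk q.asIdeal g)).trans rfl

/-- The Gysin pullback of a flat pullback to a relative effective divisor. -/
theorem gysin_pullFun_restrict [IsLocallyNoetherian Y] (p : X ⟶ Y) [Flat p] (hdX : Cyc.IsDimFun X δX)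
    (hdY : Cyc.IsDimFun Y δY) {r : ℤ} (hle : ∀ z, δX z ≤ δY (p z) + (r + 1))
    (hc : ∀ z, (∀ w, p w = p z → w ⤳ z → w = z) → δX z = δY (p z) + (r + 1))
    {L : X.Modules} (hL : PicF.IsInvertible L) {s : L.presheaf.obj (Opposite.op ⊤)}
    (hreg : ∀ x : X, Function.Injective (fun a : X.presheaf.stalk x => a • (L.presheaf.germ ⊤ x trivial) s))
    (i : D ⟶ X) [IsClosedImmersion i] (hD : Cyc.IsZeroSchemeOf i L s) [Flat (i ≫ p)]
    (hleD : ∀ d, δX (i d) ≤ δY (p (i d)) + r) {k : ℤ} {α : AlgebraicCycle Y ℤ} (hα : α ∈ Cyc.Zk Y δY (k + 1))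
    {w : (ξ : X) → Cyc.secFibre L ξ} (d : D) :
    Cyc.c1CapFun δX L (Cyc.pullFun p δX δY (r + 1) ⇑α) (Cyc.gysinChoice L s w) (i d) =
      Cyc.pullFun (i ≫ p) (fun d => δX (i d)) δY r ⇑α d := by
  set x := i d with hxd
  set y := p x with hy
  obtain ⟨t, g, ht, hs, hker⟩ := hD.2 d
  have hgt := gen_of_span hL ht
  have hgX : ∀ b, g * b = 0 → b = 0 := fun b hb => hreg x (show b • _ = (0 : X.presheaf.stalk x) • _ by
    rw [zero_smul, hs, ← mul_smul, mul_comm b g, hb, zero_smul])
  by_cases hgood : δX x = δY y + r ∧ α y ≠ 0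
  swap
  · have hzero : Cyc.pullFun (i ≫ p) (fun d => δX (i d)) δY r (⇑α) d = 0 := by
      simp only [Cyc.pullFun]
      split_ifs with h
      · have : α ((i ≫ p) d) = 0 := by_contra fun hn => hgood ⟨h, hn⟩
        rw [this, zero_mul]
      · rfl
    rw [hzero]
    refine finsum_eq_zero_of_forall_eq_zero fun ξ => ?_
    by_contra hne
    obtain ⟨h1, h2⟩ := ne_zero_and_ne_zero_of_mul hne
    simp only [Cyc.pullFun] at h1
    split_ifs at h1 with hξ
    swap
    · exact h1 rfl
    simp only [Cyc.secDivFun] at h2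
    split_ifs at h2 with hsp
    swap
    · exact h2 rfl
    have hαξ := left_ne_zero_of_mul h1
    have hk : δY (p ξ) = k + 1 := by_contra fun hn => hαξ (hα _ hn)
    have hspy : p ξ ⤳ y := hsp.1.map p.continuous
    have h3 := hleD d
    have h4 : p ξ = y := by
      by_contra hn
      have h5 := (hdY (p ξ) y hspy hn).1
      show False
      rw [← hxd, ← hy] at h3
      omega
    exact hgood ⟨by rw [← h4]; omega, by rw [← h4]; exact hαξ⟩
  obtain ⟨hxy, hαy⟩ := hgood
  have hky : δY y = k + 1 := by_contra fun hn => hαy (hα _ hn)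
  have hξD : ∀ ξ, δX ξ = δY (p ξ) + (r + 1) → ξ ∉ Set.range i := by
    rintro ξ h ⟨d', rfl⟩
    have := hleD d'
    omega
  have hsurj := i.stalkMap_surjective d
  letI : Algebra (Y.presheaf.stalk y) (X.presheaf.stalk x) := (p.stalkMap x).hom.toAlgebra
  letI : Algebra (X.presheaf.stalk x) (D.presheaf.stalk d) := (i.stalkMap d).hom.toAlgebra
  letI : Algebra (Y.presheaf.stalk y) (D.presheaf.stalk d) := ((i ≫ p).stalkMap d).hom.toAlgebra
  haveI : IsScalarTower (Y.presheaf.stalk y) (X.presheaf.stalk x) (D.presheaf.stalk d) :=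
    IsScalarTower.of_algebraMap_eq fun a => ConcreteCategory.congr_hom (Scheme.Hom.stalkMap_comp i p d) a
  haveI : Module.Flat (Y.presheaf.stalk y) (D.presheaf.stalk d) := (Flat.iff_flat_stalkMap (i ≫ p)).1 inferInstance d
  have hgmem : ∀ ξ, p ξ = y → ∀ h : ξ ⤳ x, ξ ≠ x → g ∉ RingHom.ker (Cyc.specMap x ξ h) := by
    intro ξ he h hne hmem
    have h1 := (hdX ξ x h hne).1
    have h2 := hle ξ
    rw [he] at h2
    refine hξD ξ (by rw [he]; omega) ?_
    rw [hD.1]
    show (Submodule.Quotient.mk ((L.presheaf.germ ⊤ ξ trivial) s) : Cyc.secFibre L ξ) = 0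
    rw [← TopCat.Presheaf.germ_stalkSpecializes_apply L.presheaf (show x ∈ (⊤ : X.Opens) from trivial) h s, hs,
      stalkSpecializes_smul, Submodule.Quotient.mk_smul]
    exact smul_eq_zero_of_residue (RingHom.mem_ker.1 hmem) _
  obtain ⟨T, hT, hT', hsum⟩ := length_cut_eq_sum p hdX hle (x := x) hxy g hgmem
    (fun z hz => mul_regular_quotient (A := Y.presheaf.stalk y) (C := D.presheaf.stalk d) hsurj hker hgX _ hz)
  have hlen : Module.length (D.presheaf.stalk d) (D.presheaf.stalk d ⧸ Ideal.map ((i ≫ p).stalkMap d).hom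
      (IsLocalRing.maximalIdeal (Y.presheaf.stalk y))) =
      Module.length (X.presheaf.stalk x) (X.presheaf.stalk x ⧸
        ((IsLocalRing.maximalIdeal (Y.presheaf.stalk y)).map (p.stalkMap x).hom ⊔ Ideal.span {g})) := by
    set J := Ideal.map ((i ≫ p).stalkMap d).hom (IsLocalRing.maximalIdeal (Y.presheaf.stalk y)) with hJ
    set π := (i.stalkMap d).hom with hπ
    set I' := (IsLocalRing.maximalIdeal (Y.presheaf.stalk y)).map (p.stalkMap x).hom ⊔ Ideal.span {g}
    have hJI : J.comap π = I' := by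
      have hJ2 : J = ((IsLocalRing.maximalIdeal (Y.presheaf.stalk y)).map (p.stalkMap x).hom).map π := by
        rw [hJ, Ideal.map_map]
        exact congrArg (fun φ : Y.presheaf.stalk y →+* D.presheaf.stalk d =>
          Ideal.map φ (IsLocalRing.maximalIdeal (Y.presheaf.stalk y)))
          (congrArg CommRingCat.Hom.hom (Scheme.Hom.stalkMap_comp i p d))
      rw [hJ2, Ideal.comap_map_of_surjective π hsurj]
      show _ ⊔ RingHom.ker π = _
      rw [hker]
    let φ : (X.presheaf.stalk x ⧸ I') →+* (D.presheaf.stalk d ⧸ J) := Ideal.quotientMap J π hJI.ge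
    have hφ : Function.Bijective φ := ⟨Ideal.quotientMap_injective' hJI.le, Ideal.quotientMap_surjective hsurj⟩
    refine (length_eq_of_semilinear (σ := π) hsurj (e := (RingEquiv.ofBijective φ hφ).toAddEquiv) ?_).symm
    intro a m
    obtain ⟨m, rfl⟩ := Ideal.Quotient.mk_surjective m
    show φ (Ideal.Quotient.mk _ (a * m)) = π a • φ (Ideal.Quotient.mk _ m)
    simp [φ, Algebra.smul_def]
  have hrhs : Cyc.pullFun (i ≫ p) (fun d => δX (i d)) δY r (⇑α) d =
      α y * ∑ ξ ∈ T, ((Module.length (X.presheaf.stalk ξ) (X.presheaf.stalk ξ ⧸ Ideal.map (p.stalkMap ξ).hom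
            (IsLocalRing.maximalIdeal (Y.presheaf.stalk (p ξ))))).toNat : ℤ) *
          (if h : ξ ⤳ x then Cyc.ordAt x ξ h (Cyc.specMap x ξ h g) else 0) := by
    simp only [Cyc.pullFun]
    rw [if_pos (show δX (i d) = δY ((i ≫ p) d) + r from hxy)]
    show α y * _ = _
    rw [← hsum]
    exact congrArg _ (congrArg _ (congrArg ENat.toNat hlen))
  rw [hrhs, Cyc.c1CapFun, finsum_eq_sum_of_support_subset (s := T) _ ?_, Finset.mul_sum]
  · refine Finset.sum_congr rfl fun ξ hξ => ?_
    obtain ⟨he, h, hne⟩ := (hT ξ).1 hξ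
    obtain ⟨h1, h2⟩ := hT' ξ hξ
    have hξr := hξD ξ h2
    simp only [Cyc.pullFun, Cyc.secDivFun]
    rw [if_pos h2, dif_pos ⟨h, h1⟩, dif_pos h, gysinChoice_of_notMem hD w hξr,
      (secOrdAt_germ hL s h (by have h' := hξr; rw [hD.1] at h'; exact h') hgt hs).2, congrArg α he, mul_assoc]
  · intro ξ hne
    rw [Finset.mem_coe, hT]
    obtain ⟨h1, h2⟩ := ne_zero_and_ne_zero_of_mul hne
    simp only [Cyc.pullFun] at h1
    split_ifs at h1 with hξ
    swap
    · exact absurd rfl h1
    simp only [Cyc.secDivFun] at h2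
    split_ifs at h2 with hsp
    swap
    · exact absurd rfl h2
    have hk : δY (p ξ) = k + 1 := by_contra fun hn => left_ne_zero_of_mul h1 (hα _ hn)
    refine ⟨by_contra fun hn => ?_, hsp.1, fun e => ?_⟩
    · have h5 := (hdY (p ξ) y (hsp.1.map p.continuous) hn).1
      omega
    · subst e; omega

end Groth.Agent.Cyc26
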