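import Mathlib
import Groth.Agent.Lib.Cyc26.Limit
import Groth.Agent.Lib.Cyc26.LimitCycle
import Groth.Agent.Lib.Cyc26.RatPull
import Groth.Agent.Lib.Cyc26.DivFun
import Groth.Agent.Lib.Cyc26.C1Flat

/-! # Rational equivalence descends along limits -/

set_option autoImplicit false
universe u

open CategoryTheory CategoryTheory.Limits AlgebraicGeometry IsLocalRing

namespace Groth.Agent.Cyc26Lim

theorem residueField_range_mono {X Y Z : Scheme.{u}} (f : X ⟶ Y) (g : Y ⟶ Z) (h : X ⟶ Z) (e : f ≫ g = h)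
    (y : X) : (h.residueFieldMap y).hom.fieldRange ≤ (f.residueFieldMap y).hom.fieldRange := by
  subst e
  rintro _ ⟨a, rfl⟩
  rw [Scheme.residueFieldMap_comp]
  exact ⟨_, rfl⟩

theorem pullFun_sub {X Y : Scheme.{u}} (f : X ⟶ Y) (δX : X → ℤ) (δY : Y → ℤ) (r : ℤ) (a b : Y → ℤ) :
    Cyc.pullFun f δX δY r (a - b) = Cyc.pullFun f δX δY r a - Cyc.pullFun f δX δY r b := by
  funext x
  simp only [Cyc.pullFun, Pi.sub_apply]
  split_ifs
  · exact sub_mul _ _ _
  · exact (sub_zero 0).symm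

theorem pullFun_sum {X Y : Scheme.{u}} (f : X ⟶ Y) (δX : X → ℤ) (δY : Y → ℤ) (r : ℤ) {ι : Type u} [Fintype ι]
    (a : ι → Y → ℤ) (x : X) :
    Cyc.pullFun f δX δY r (fun y => ∑ i, a i y) x = ∑ i, Cyc.pullFun f δX δY r (a i) x := by
  simp only [Cyc.pullFun]
  split_ifs
  · rw [Finset.sum_mul]
  · rw [Finset.sum_const_zero]

theorem pullFun_divFun_good {X Y : Scheme.{u}} [IsLocallyNoetherian X] [IsLocallyNoetherian Y] (g : X ⟶ Y) [Flat g]
    {δX : X → ℤ} {δY : Y → ℤ} (hdX : Cyc.IsDimFun X δX) (hdY : Cyc.IsDimFun Y δY) {k : ℤ}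
    (hc : ∀ z, (∀ w, g w = g z → w ⤳ z → w = z) → δX z = δY (g z) + 0)
    {ξ : X} (hξ : δX ξ = k + 1) (H : Good g ξ) (h : Y.residueField (g ξ)) (hh : h ≠ 0) (x : X) :
    Cyc.pullFun g δX δY 0 (Cyc.divFun δY (g ξ) h) x = Cyc.divFun δX ξ (g.residueFieldMap ξ h) x := by
  have hη : δY (g ξ) = k + 1 := by
    have := hc ξ fun w h1 h2 => H.eq_of_specializes h1 h2
    omega
  rw [Cyc26.pullFun_divFun_general g hdX hdY hc hη h hh x]
  let ξ₀ : {ξ' : X // g ξ' = g ξ ∧ ∀ w, g w = g ξ' → w ⤳ ξ' → w = ξ'} :=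
    ⟨ξ, rfl, fun w h1 h2 => H.eq_of_specializes h1 h2⟩
  rw [finsum_eq_single _ ξ₀]
  · show ((Module.length (X.presheaf.stalk ξ) (X.presheaf.stalk ξ ⧸ Ideal.map (g.stalkMap ξ).hom
      (maximalIdeal (Y.presheaf.stalk (g ξ))))).toNat : ℤ) *
        Cyc.divFun δX ξ (g.residueFieldMap ξ ((Y.residueFieldCongr _).hom h)) x = _
    rw [H.length_eq, Scheme.residueFieldCongr_refl]
    simp
  · rintro ⟨ξ', h1, h2⟩ hne
    exact absurd (Subtype.ext (h2 ξ h1.symm (H.spec ξ' h1)).symm) hne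

theorem finite_index {X : Scheme.{u}} [CompactSpace X] {ι : Type u} (ξ : ι → X)
    (hlf : ∀ x : X, ∃ U : Set X, IsOpen U ∧ x ∈ U ∧ {i | (closure {ξ i} ∩ U).Nonempty}.Finite) : Finite ι := by
  classical
  choose U hUo hxU hfin using hlf
  obtain ⟨t, ht⟩ := CompactSpace.elim_nhds_subcover U fun x => (hUo x).mem_nhds (hxU x)
  refine Set.finite_univ_iff.1 ((t.finite_toSet.biUnion fun x _ => hfin x).subset fun i _ => ?_)
  obtain ⟨x, hx, hm⟩ := Set.mem_iUnion₂.1 (ht.ge (Set.mem_univ (ξ i)))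
  exact Set.mem_biUnion hx ⟨ξ i, subset_closure rfl, hm⟩

variable {I : Type u} [Category.{u} I] [IsCofiltered I] (D : I ⥤ Scheme.{u}) (c : Cone D) (hc : IsLimit c)
  [∀ {i j : I} (f : i ⟶ j), IsAffineHom (D.map f)]

include hc

theorem exists_stage_residue [IsLocallyNoetherian c.pt] (y : c.pt) (φ : c.pt.residueField y) :
    ∃ j : I, φ ∈ ((pr D c j).residueFieldMap y).hom.fieldRange := by
  classical
  obtain ⟨i⟩ := IsCofiltered.nonempty (C := I)
  obtain ⟨_, ⟨W, hW : IsAffineOpen W, rfl⟩, hyW, -⟩ :=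
    (D.obj i).isBasis_affineOpens.exists_subset_of_mem_open (Set.mem_univ (pr D c i y)) isOpen_univ
  haveI := isAffineHom_π_app D c hc i
  have hV : IsAffineOpen (pr D c i ⁻¹ᵁ W) := hW.preimage _
  letI : Algebra Γ(c.pt, pr D c i ⁻¹ᵁ W) (c.pt.presheaf.stalk y) :=
    c.pt.presheaf.algebra_section_stalk ⟨y, hyW⟩
  haveI := hV.isLocalization_stalk ⟨y, hyW⟩
  obtain ⟨σ, rfl⟩ := c.pt.residue_surjective y φ
  obtain ⟨a, s, rfl⟩ := IsLocalization.exists_mk'_eq (hV.primeIdealOf ⟨y, hyW⟩).asIdeal.primeCompl σ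
  have key : ∀ b : Γ(c.pt, pr D c i ⁻¹ᵁ W), ∃ j : I, c.pt.residue y (c.pt.presheaf.germ _ y hyW b) ∈
      ((pr D c j).residueFieldMap y).hom.fieldRange := by
    intro b
    obtain ⟨j, f, a', e, rfl⟩ := exists_section D c hc hW b
    have hm : pr D c j y ∈ D.map f ⁻¹ᵁ W := e hyW
    refine ⟨j, (D.obj j).residue _ ((D.obj j).presheaf.germ _ (pr D c j y) hm a'), ?_⟩
    refine (ConcreteCategory.congr_hom (Scheme.residue_residueFieldMap (pr D c j) y) _).trans ?_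
    show c.pt.residue y ((pr D c j).stalkMap y ((D.obj j).presheaf.germ _ (pr D c j y) hm a')) = _
    rw [Scheme.Hom.germ_stalkMap_apply, Scheme.Hom.appLE]
    simp only [CommRingCat.hom_comp, RingHom.comp_apply]
    exact congrArg _ (c.pt.presheaf.germ_res_apply (homOfLE e) y hyW _).symm
  obtain ⟨j₁, h₁⟩ := key a
  obtain ⟨j₂, h₂⟩ := key s
  obtain ⟨k, hk⟩ := IsCofiltered.inf_objs_exists {j₁, j₂}
  obtain ⟨t₁⟩ := hk (Finset.mem_insert_self j₁ _)
  obtain ⟨t₂⟩ := hk (Finset.mem_insert_of_mem (Finset.mem_singleton_self j₂))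
  refine ⟨k, ?_⟩
  have hu : IsUnit (algebraMap _ (c.pt.presheaf.stalk y) (s : Γ(c.pt, pr D c i ⁻¹ᵁ W))) :=
    IsLocalization.map_units _ s
  have hne : (c.pt.residue y).hom (c.pt.presheaf.germ _ y hyW s.1) ≠ 0 := (hu.map (c.pt.residue y).hom).ne_zero
  have he : (c.pt.residue y).hom (IsLocalization.mk' (c.pt.presheaf.stalk y) a s) =
      (c.pt.residue y).hom (c.pt.presheaf.germ _ y hyW a) / (c.pt.residue y).hom (c.pt.presheaf.germ _ y hyW s.1) := by
    rw [eq_div_iff hne, ← map_mul]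
    exact congrArg _ (IsLocalization.mk'_spec (c.pt.presheaf.stalk y) a s)
  exact he ▸ div_mem (residueField_range_mono _ _ _ (pr_w D c t₁) y h₁)
    (residueField_range_mono _ _ _ (pr_w D c t₂) y h₂)

theorem exists_stage_pullFun_eq_zero [∀ i, CompactSpace (D.obj i)] [IsLocallyNoetherian c.pt]
    [Quiver.IsThin I] {δ' : c.pt → ℤ} (hdX : Cyc.IsDimFun c.pt δ') {i : I} [Flat (c.π.app i)]
    {δi : D.obj i → ℤ} (δ : ∀ j : I, D.obj j → ℤ)
    (hshift : ∀ z : c.pt, (∀ w, pr D c i w = pr D c i z → w ⤳ z → w = z) → δ' z = δi (pr D c i z) + 0)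
    (b : AlgebraicCycle (D.obj i) ℤ) (h0 : Cyc.pullFun (pr D c i) δ' δi 0 ⇑b = 0) :
    ∃ (j : I) (f : j ⟶ i), Cyc.pullFun (D.map f) (δ j) δi 0 ⇑b = 0 := by
  classical
  set T := (finite_support b).toFinset
  have hemp : ∀ x ∈ T, ∀ z : c.pt, c.π.app i z ≠ x := by
    intro x hx z hz
    have hx' : b x ≠ 0 := by simpa [T] using hx
    obtain ⟨y, hy, hymax⟩ := exists_max (δ := δ') (pr D c i) z inferInstance hdX
    have hyx : pr D c i y = x := hy.trans hz
    have h1 := congrFun h0 y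
    change (if δ' y = δi (pr D c i y) + 0 then b (pr D c i y) * _ else 0) = 0 at h1
    rw [if_pos (hshift y hymax)] at h1
    rcases mul_eq_zero.1 h1 with h2 | h2
    · exact hx' (hyx ▸ h2)
    · exact length_pos (pr D c i) y hymax (Int.natCast_eq_zero.1 h2)
  choose jx fx hfx using fun x : T => exists_fibre_eq_empty D c hc x.1 (hemp x.1 x.2)
  obtain ⟨j, hj⟩ := IsCofiltered.inf_objs_exists (insert i (Finset.univ.image jx))
  obtain ⟨f⟩ := hj (Finset.mem_insert_self i _)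
  refine ⟨j, f, funext fun z => ?_⟩
  have hz : b (D.map f z) = 0 := by
    by_contra h
    have hm : D.map f z ∈ T := by simpa [T] using h
    obtain ⟨t⟩ := hj (Finset.mem_insert_of_mem (Finset.mem_image_of_mem jx (Finset.mem_univ ⟨_, hm⟩)))
    refine hfx ⟨_, hm⟩ (D.map t z) ?_
    rw [← Scheme.Hom.comp_apply, ← D.map_comp, Subsingleton.elim (t ≫ fx ⟨_, hm⟩) f]
  simp only [Cyc.pullFun, hz, zero_mul, ite_self, Pi.zero_apply]

theorem exists_stage_data [IsLocallyNoetherian c.pt] (i₀ : I) {ι : Type u} [Fintype ι] (ξ : ι → c.pt)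
    (φ : (m : ι) → c.pt.residueField (ξ m)) :
    ∃ (j : I) (_ : j ⟶ i₀) (h : (m : ι) → (D.obj j).residueField (pr D c j (ξ m))),
      (∀ m, Good (pr D c j) (ξ m)) ∧ ∀ m, (pr D c j).residueFieldMap (ξ m) (h m) = φ m := by
  classical
  choose a ha using fun m => exists_good D c hc (ξ m)
  choose b hb using fun m => exists_stage_residue D c hc (ξ m) (φ m)
  obtain ⟨j, hj⟩ := IsCofiltered.inf_objs_exists (insert i₀ (Finset.univ.image a ∪ Finset.univ.image b))
  obtain ⟨t₀⟩ := hj (Finset.mem_insert_self i₀ _)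
  have hA : ∀ m, Nonempty (j ⟶ a m) := fun m =>
    hj (Finset.mem_insert_of_mem (Finset.mem_union_left _ (Finset.mem_image_of_mem _ (Finset.mem_univ m))))
  have hB : ∀ m, Nonempty (j ⟶ b m) := fun m =>
    hj (Finset.mem_insert_of_mem (Finset.mem_union_right _ (Finset.mem_image_of_mem _ (Finset.mem_univ m))))
  have hr : ∀ m, φ m ∈ ((pr D c j).residueFieldMap (ξ m)).hom.fieldRange := fun m => by
    obtain ⟨t⟩ := hB m
    exact residueField_range_mono _ _ _ (pr_w D c t) _ (hb m)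
  choose h hh using hr
  refine ⟨j, t₀, h, fun m => ?_, hh⟩
  obtain ⟨t⟩ := hA m
  exact (ha m).of_comp (D.map t) (pr_w D c t)

end Groth.Agent.Cyc26Lim
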