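import Groth.Prelude.Def_Cyc
import Groth.Agent.Lib.Cyc26.Pull
import Groth.Agent.Lib.Weight4.MultRank
import Groth.Agent.Lib.GeomReg18.Stalk

/-! # Galois orbits and multiplicities in a finite normal base field extension -/

set_option autoImplicit false
universe u
open CategoryTheory CategoryTheory.Limits AlgebraicGeometry IsLocalRing

noncomputable section

namespace Groth.Agent.Cyc26.NormalDescent

/-- length of the closed fibre at `x`, as in `Cyc.pullFun` -/
def L {A B : Scheme.{u}} (h : A ⟶ B) (x : A) : ℕ∞ :=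
  Weight.lenFib (h.stalkMap x).hom

theorem pullFun_eq {A B : Scheme.{u}} (h : A ⟶ B) (α : B → ℤ) (x : A) :
    Cyc.pullFun h (fun _ => 0) (fun _ => 0) 0 α x = α (h x) * ((L h x).toNat : ℤ) := by
  simp [Cyc.pullFun, L, Weight.lenFib]

theorem L_comp {A B C : Scheme.{u}} (h : A ⟶ B) (g : B ⟶ C) [Flat h] (x : A) :
    L (h ≫ g) x = L g (h x) * L h x := by
  unfold L
  rw [Weight.lenFib_stalkMap_comp]
  exact Weight.lenFib_comp _ _ ((Flat.iff_flat_stalkMap h).1 inferInstance x)

theorem L_eq_one_of_unramified {A B : Scheme.{u}} (h : A ⟶ B) [FormallyUnramified h]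
    [LocallyOfFiniteType h] (x : A) : L h x = 1 :=
  Weight.lenFib_eq_one_of_map_eq _ (Weight.map_maximalIdeal_eq _
    (FormallyUnramified.stalkMap h x) (LocallyOfFiniteType.stalkMap h x))

theorem L_eq_one_of_isIso {A B : Scheme.{u}} (h : A ⟶ B) [IsIso h] (x : A) : L h x = 1 :=
  L_eq_one_of_unramified h x

/-- a morphism with a single point in a fibre: length times residue degree is the rank -/
theorem L_dvd_finrank {A B : Scheme.{u}} (q : A ⟶ B) [IsFinite q] [Flat q]
    (hinj : Function.Injective q) (x : A) :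
    (L q x).toNat ∣ q.finrank (q x) ∧ (L q x).toNat ≠ 0 := by
  have h := Weight.fibreIntegral_wt_eq_finrank q (q x)
  unfold MoreMor.fibreIntegral at h
  haveI : Subsingleton {a : A // q a = q x} := ⟨fun a b => Subtype.ext (hinj (a.2.trans b.2.symm))⟩
  rw [finsum_eq_single _ ⟨x, rfl⟩ fun b hb => absurd (Subsingleton.elim b _) hb] at h
  rw [show _ * _ = _ from Weight.fibreIntegral_term q x (q.quasiFiniteAt _)] at h
  have h' : (L q x).toNat * Weight.resDeg (q.stalkMap x).hom = q.finrank (q x) := by exact_mod_cast h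
  refine ⟨⟨_, h'.symm⟩, fun h0 => ?_⟩
  rw [h0, zero_mul] at h'
  have := Scheme.Hom.one_le_finrank_map q x
  omega

variable {k : Type u} [Field k] {k' : Type u} [Field k'] [Algebra k k'] [FiniteDimensional k k']
  {X : Scheme.{u}} (f : X ⟶ Spec (CommRingCat.of k))

abbrev g (k k' : Type u) [Field k] [Field k'] [Algebra k k'] :
    Spec (CommRingCat.of k') ⟶ Spec (CommRingCat.of k) :=
  Spec.map (CommRingCat.ofHom (algebraMap k k'))

instance : IsFinite (g k k') := by
  rw [IsFinite.SpecMap_iff, CommRingCat.hom_ofHom, RingHom.finite_algebraMap]; infer_instance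

instance : Flat (g k k') := inferInstance

theorem L_fst_dvd (x' : ↥(pullback f (g k k'))) :
    (L (pullback.fst f (g k k')) x').toNat ∣ Field.finInsepDegree k k' ∧
      (L (pullback.fst f (g k k')) x').toNat ≠ 0 := by
  let ks := separableClosure k k'
  let g1 : Spec (CommRingCat.of k') ⟶ Spec (CommRingCat.of ks) := g ks k'
  let g2 : Spec (CommRingCat.of ks) ⟶ Spec (CommRingCat.of k) := g k ks
  have hg : g1 ≫ g2 = g k k' := by
    rw [← Spec.map_comp, ← CommRingCat.ofHom_comp, ← IsScalarTower.algebraMap_eq]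
  haveI : UniversallyInjective g1 := GeomReg18.universallyInjective_spec ks k'
  haveI : Etale g2 := by
    rw [HasRingHomProperty.Spec_iff (P := @Etale), CommRingCat.hom_ofHom, RingHom.etale_algebraMap]
    haveI : Algebra.FormallyEtale k ks := Algebra.FormallyEtale.of_isSeparable k ks
    haveI : Algebra.FinitePresentation k ks := Algebra.FinitePresentation.of_finiteType.1 inferInstance
    exact ⟨inferInstance, inferInstance⟩
  let q : pullback f (g k k') ⟶ pullback f g2 :=
    pullback.lift (pullback.fst _ _) (pullback.snd _ _ ≫ g1)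
      (by rw [Category.assoc, hg]; exact pullback.condition)
  have hq1 : q ≫ pullback.fst f g2 = pullback.fst f (g k k') := pullback.lift_fst _ _ _
  have hsq : IsPullback q (pullback.snd f (g k k')) (pullback.snd f g2) g1 := by
    refine IsPullback.of_right ?_ (pullback.lift_snd _ _ _) (IsPullback.of_hasPullback f g2)
    rw [hq1, hg]
    exact IsPullback.of_hasPullback f _
  haveI : IsFinite q := MorphismProperty.of_isPullback hsq.flip (inferInstance : IsFinite g1)
  haveI : Flat q := MorphismProperty.of_isPullback hsq.flip (inferInstance : Flat g1)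
  haveI : UniversallyInjective q := MorphismProperty.of_isPullback hsq.flip (inferInstance : UniversallyInjective g1)
  obtain ⟨h1, h2⟩ := L_dvd_finrank q q.injective x'
  have hr : q.finrank (q x') = Field.finInsepDegree k k' := by
    rw [Scheme.Hom.finrank_of_isPullback _ _ _ _ hsq.flip]
    show (Spec.map (CommRingCat.ofHom (algebraMap ks k'))).finrank _ = _
    rw [Scheme.Hom.finrank_SpecMap_algebraMap, Module.rankAtStalk_eq_finrank_of_free]
    rfl
  rw [← hq1, L_comp, L_eq_one_of_unramified (pullback.fst f g2), one_mul]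
  exact ⟨hr ▸ h1, h2⟩

theorem exists_twist [Normal k k'] {x' x'' : ↥(pullback f (g k k'))}
    (h : pullback.fst f (g k k') x' = pullback.fst f (g k k') x'') :
    ∃ (σ : k' ≃ₐ[k] k') (t : pullback f (g k k') ⟶ pullback f (g k k')),
      t ≫ pullback.fst f _ = pullback.fst f _ ∧
      t ≫ pullback.snd f _ = pullback.snd f _ ≫ Spec.map (CommRingCat.ofHom σ.toAlgHom.toRingHom) ∧
      IsIso t ∧ t x' = x'' := by
  let p := pullback.fst f (g k k')
  let sn := pullback.snd f (g k k')
  obtain ⟨z, hz1, hz2⟩ := Scheme.Pullback.exists_preimage_pullback (f := p) (g := p) x' x'' h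
  let Z := pullback p p
  let a := Z.fromSpecResidueField z ≫ pullback.fst p p
  let b := Z.fromSpecResidueField z ≫ pullback.snd p p
  have hab : a ≫ p = b ≫ p := by simp [a, b, pullback.condition]
  let φa := Spec.preimage (a ≫ sn)
  let φb := Spec.preimage (b ≫ sn)
  have hkk : CommRingCat.ofHom (algebraMap k k') ≫ φa = CommRingCat.ofHom (algebraMap k k') ≫ φb := by
    refine Spec.map_injective ?_
    rw [Spec.map_comp, Spec.map_comp, Spec.map_preimage, Spec.map_preimage]
    simp only [Category.assoc, sn]
    rw [← pullback.condition, reassoc_of% hab]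
  let K := Z.residueField z
  letI : Algebra k' K := φa.hom.toAlgebra
  letI : Algebra k K := (φa.hom.comp (algebraMap k k')).toAlgebra
  haveI : IsScalarTower k k' K := IsScalarTower.of_algebraMap_eq fun _ => rfl
  let φ : k' →ₐ[k] K :=
    { φb.hom with commutes' := fun c => (congr($(hkk).hom c)).symm }
  let σ := φ.restrictNormal' k'
  have hσ : φb = CommRingCat.ofHom σ.toAlgHom.toRingHom ≫ φa := by
    ext c
    exact (AlgHom.restrictNormal_commutes φ k' c).symm
  have hsg : Spec.map (CommRingCat.ofHom σ.toAlgHom.toRingHom) ≫ g k k' = g k k' := by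
    rw [← Spec.map_comp, ← CommRingCat.ofHom_comp]
    congr 2
    exact RingHom.ext σ.commutes
  let t : pullback f (g k k') ⟶ pullback f (g k k') :=
    pullback.lift p (sn ≫ Spec.map (CommRingCat.ofHom σ.toAlgHom.toRingHom))
      (by rw [Category.assoc, hsg]; exact pullback.condition)
  have ht1 : t ≫ p = p := pullback.lift_fst _ _ _
  have ht2 : t ≫ sn = sn ≫ Spec.map (CommRingCat.ofHom σ.toAlgHom.toRingHom) := pullback.lift_snd _ _ _
  have hiso : IsIso (Spec.map (CommRingCat.ofHom σ.toAlgHom.toRingHom)) :=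
    inferInstanceAs (IsIso (Spec.map σ.toRingEquiv.toCommRingCatIso.hom))
  have hsq : IsPullback t sn sn (Spec.map (CommRingCat.ofHom σ.toAlgHom.toRingHom)) := by
    refine IsPullback.of_right ?_ ht2 (IsPullback.of_hasPullback f (g k k'))
    rw [ht1, hsg]
    exact IsPullback.of_hasPullback f _
  refine ⟨σ, t, ht1, ht2, ?_, ?_⟩
  · exact hsq.isIso_fst_of_isIso
  · have : a ≫ t = b := by
      refine pullback.hom_ext ?_ ?_
      · rw [Category.assoc]; exact (congrArg (a ≫ ·) ht1).trans hab
      · rw [Category.assoc]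
        refine (congrArg (a ≫ ·) ht2).trans ?_
        show a ≫ sn ≫ _ = b ≫ sn
        rw [← Category.assoc, ← Spec.map_preimage (a ≫ sn), ← Spec.map_preimage (b ≫ sn), ← Spec.map_comp, ← hσ]
    have h2 := congrArg (fun m : Spec K ⟶ pullback f (g k k') => m (closedPoint K)) this
    have hz := Scheme.fromSpecResidueField_apply (X := Z) z (closedPoint K)
    simp only [a, b, Scheme.Hom.comp_apply] at h2
    exact ((congrArg (fun w => t (pullback.fst p p w)) hz).trans (congrArg t hz1)).symm.trans
      (h2.trans ((congrArg (fun w => pullback.snd p p w) hz).trans hz2))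

theorem finite_image_support {A B : Scheme.{u}} (p : A ⟶ B) [IsFinite p] (D : AlgebraicCycle A ℤ) (z : B) :
    ∃ s ∈ nhds z, (s ∩ p '' Function.support (⇑D)).Finite := by
  obtain ⟨U, hU, hz, -⟩ := exists_isAffineOpen_mem_and_subset (U := ⊤) (x := z) (Set.mem_univ z)
  refine ⟨U, U.2.mem_nhds hz, ?_⟩
  have hc : IsCompact (p ⁻¹' (U : Set B)) :=
    QuasiCompact.isCompact_preimage (f := p) _ U.2 hU.isCompact
  refine ((Function.locallyFinsupp.locallyFiniteSupport D).finite_inter_support_of_isCompact hc |>.image p).subset ?_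
  rintro _ ⟨hy, x, hx, rfl⟩
  exact ⟨x, ⟨hy, hx⟩, rfl⟩

end Groth.Agent.Cyc26.NormalDescent
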