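import Groth.Agent.Lib.Cyc26.PBInst
import Groth.Agent.Lib.Cyc26.CellStrata

/-! # Cells in the fibres of a projective bundle -/

set_option autoImplicit false
set_option linter.style.haveILetI false

universe u

open CategoryTheory Limits AlgebraicGeometry TopologicalSpace Opposite

set_option backward.isDefEq.respectTransparency false

noncomputable section

namespace Groth.Agent.Cyc26PB

open Groth.Agent.VA11
open Groth.Agent.P1Split (IsBas)
open Groth.Agent.Cyc26 (PolySpec)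

section poly

variable {K : Type u} [Field K] {m : ℕ} {Z Z' : Scheme.{u}}

variable (K m) in
/-- The structure map of affine space over a field. -/
def polyBase : PolySpec m K ⟶ Spec (CommRingCat.of K) :=
  Spec.map (CommRingCat.ofHom (algebraMap K (MvPolynomial (Fin m) K)))

instance : LocallyOfFiniteType (polyBase K m) :=
  (HasRingHomProperty.Spec_iff (P := @LocallyOfFiniteType)).2 (RingHom.finiteType_algebraMap.2 inferInstance)

/-- Polynomials as global functions. -/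
def polyFun (q : MvPolynomial (Fin m) K) : Γ(PolySpec m K, ⊤) :=
  (Scheme.ΓSpecIso (CommRingCat.of (MvPolynomial (Fin m) K))).inv q

theorem polyFun_C (c : K) :
    polyFun (m := m) (MvPolynomial.C c) = (polyBase K m).appTop ((Scheme.ΓSpecIso (CommRingCat.of K)).inv c) := by
  rw [polyBase, ← ConcreteCategory.comp_apply, ← Scheme.ΓSpecIso_inv_naturality]
  rfl

theorem poly_ext {f g : Z ⟶ PolySpec m K} (h : f ≫ polyBase K m = g ≫ polyBase K m)
    (hX : ∀ l, f.appTop (polyFun (MvPolynomial.X l)) = g.appTop (polyFun (MvPolynomial.X l))) : f = g := by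
  refine ext_of_isAffine ?_
  rw [← cancel_epi (Scheme.ΓSpecIso (CommRingCat.of (MvPolynomial (Fin m) K))).inv]
  ext1
  refine MvPolynomial.ringHom_ext (fun c => ?_) fun l => hX l
  show f.appTop (polyFun (MvPolynomial.C c)) = g.appTop (polyFun (MvPolynomial.C c))
  rw [polyFun_C]
  exact ConcreteCategory.congr_hom (congrArg Scheme.Hom.appTop h) _

theorem exists_polyHom (b : Z ⟶ Spec (CommRingCat.of K)) (v : Fin m → Γ(Z, ⊤)) :
    ∃ f : Z ⟶ PolySpec m K, f ≫ polyBase K m = b ∧ ∀ l, f.appTop (polyFun (MvPolynomial.X l)) = v l := by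
  let θ : CommRingCat.of (MvPolynomial (Fin m) K) ⟶ Γ(Z, ⊤) := CommRingCat.ofHom
    (MvPolynomial.eval₂Hom ((Scheme.ΓSpecIso (CommRingCat.of K)).inv ≫ b.appTop).hom v)
  have hθ : (Scheme.ΓSpecIso (CommRingCat.of (MvPolynomial (Fin m) K))).inv ≫
      (Z.toSpecΓ ≫ Spec.map θ).appTop = θ := by
    rw [Scheme.Hom.comp_appTop, ← Category.assoc, ← Scheme.ΓSpecIso_inv_naturality, Category.assoc,
      Scheme.toSpecΓ_appTop, Iso.inv_hom_id, Category.comp_id]
  have hθ' : ∀ q, (Z.toSpecΓ ≫ Spec.map θ).appTop (polyFun q) = θ q := fun q =>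
    ConcreteCategory.congr_hom hθ q
  refine ⟨Z.toSpecΓ ≫ Spec.map θ, ?_, fun l => ?_⟩
  · refine ext_of_isAffine ?_
    rw [← cancel_epi (Scheme.ΓSpecIso (CommRingCat.of K)).inv]
    ext c
    show ((Z.toSpecΓ ≫ Spec.map θ) ≫ polyBase K m).appTop _ = b.appTop ((Scheme.ΓSpecIso (CommRingCat.of K)).inv c)
    exact (congrArg _ (polyFun_C c).symm).trans ((hθ' _).trans (MvPolynomial.eval₂Hom_C _ _ _))
  · rw [hθ']
    exact MvPolynomial.eval₂Hom_X' _ _ _

end poly

variable {X P : Scheme.{u}} {E : X.Modules} {π : P ⟶ X} {O1 : P.Modules}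
  {φ : E ⟶ (Scheme.Modules.pushforward π).obj O1} {n : ℕ} {U : X.Opens} {e : Fin (n + 1) → Γ(E, U)}

variable (φ e) in
/-- A chart in a fibre. -/
def fOpen (y : X) (j : Fin (n + 1)) : (π.fiber y).Opens := π.fiberι y ⁻¹ᵁ chartOpen φ e j

variable (φ e) in
/-- The part in chart `j` of the linear subspace spanned by the first `i + 1` coordinates. -/
def cellSet (y : X) (i j : Fin (n + 1)) : Set ↥(π.fiber y) :=
  {z | z ∈ fOpen φ e y j ∧ ∀ l, i < l → z ∉ fOpen φ e y l}

theorem chartOpen_inf (j l : Fin (n + 1)) :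
    chartOpen φ e j ⊓ chartOpen φ e l = P.basicOpen (ratio φ e j l) := gl_inf_gl _ _

theorem mem_chart_iff {W : Scheme.{u}} [IsReduced W] {r : W ⟶ P} {j l : Fin (n + 1)}
    (hr : ⊤ ≤ r ⁻¹ᵁ chartOpen φ e j) :
    (∀ w, r w ∉ chartOpen φ e l) ↔ r.appLE _ ⊤ hr (ratio φ e j l) = 0 := by
  rw [← basicOpen_eq_bot_iff, Scheme.basicOpen_appLE, ← chartOpen_inf, ← SetLike.coe_set_eq, Opens.coe_bot,
    Set.eq_empty_iff_forall_notMem]
  refine forall_congr' fun w => not_congr ⟨fun h => ⟨trivial, hr (show w ∈ (⊤ : W.Opens) from trivial), h⟩,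
    fun h => h.2.2⟩

theorem appLE_comp_top {A B : Scheme.{u}} (g : A ⟶ B) {r : B ⟶ P} {D : P.Opens} (hr : ⊤ ≤ r ⁻¹ᵁ D)
    (hgr : ⊤ ≤ (g ≫ r) ⁻¹ᵁ D) (a : Γ(P, D)) :
    (g ≫ r).appLE D ⊤ hgr a = g.appTop (r.appLE D ⊤ hr a) := by
  rw [← Scheme.Hom.appLE_comp_appLE g r D ⊤ ⊤ hr (fun _ _ => trivial), ConcreteCategory.comp_apply, appLE_top_top]

theorem appLE_congr_hom {A : Scheme.{u}} {r r' : A ⟶ P} (h : r = r') {D : P.Opens} (hr : ⊤ ≤ r ⁻¹ᵁ D)
    (hr' : ⊤ ≤ r' ⁻¹ᵁ D) (a : Γ(P, D)) : r.appLE D ⊤ hr a = r'.appLE D ⊤ hr' a := by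
  subst h; rfl

/-- The cells are immersed affine spaces with the ratios as coordinates. -/
theorem exists_cell (hB : UBundle π E O1 φ) (he : IsBas E U e) {y : X} (hy : y ∈ U) (i j : Fin (n + 1))
    (hji : j ≤ i) :
    ∃ k : PolySpec (i : ℕ) (X.residueField y) ⟶ π.fiber y, IsImmersion k ∧ Set.range k = cellSet φ e y i j ∧
      (i = Fin.last n → IsOpenImmersion k) ∧ k ≫ π.fiberToSpecResidueField y = polyBase (X.residueField y) (i : ℕ) ∧
      ∃ hk : ⊤ ≤ (k ≫ π.fiberι y) ⁻¹ᵁ chartOpen φ e j, ∀ (l : Fin n) (hl : (l : ℕ) < i),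
        (k ≫ π.fiberι y).appLE _ ⊤ hk (ratio φ e j (j.succAbove l)) = polyFun (MvPolynomial.X ⟨l, hl⟩) := by
  let κ := X.residueField y
  let A := PolySpec (i : ℕ) κ
  let fA : A ⟶ X := polyBase κ (i : ℕ) ≫ X.fromSpecResidueField y
  have hfA : ⊤ ≤ fA ⁻¹ᵁ U := fun x _ => by
    show X.fromSpecResidueField y (polyBase κ (i : ℕ) x) ∈ U
    rw [Scheme.fromSpecResidueField_apply]
    exact hy
  let co : Fin n → Γ(A, ⊤) := fun l => if h : (l : ℕ) < i then polyFun (MvPolynomial.X ⟨l, h⟩) else 0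
  let aA : Fin (n + 1) → Γ(A, ⊤) := Fin.insertNth j 1 co
  obtain ⟨r, hr, hrD, hrt⟩ := exists_of_ratio hB he j fA hfA aA (by simp [aA])
  have hle : ∀ l : Fin n, j.succAbove l ≤ i ↔ (l : ℕ) < i := fun l => by
    have h1 : (j : ℕ) ≤ i := hji
    rcases lt_or_ge (Fin.castSucc l) j with h | h
    · rw [Fin.succAbove_of_castSucc_lt j l h]
      simp only [Fin.le_def, Fin.val_castSucc] at *
      have h2 : (l : ℕ) < j := h
      omega
    · rw [Fin.succAbove_of_le_castSucc j l h]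
      simp only [Fin.le_def, Fin.val_castSucc, Fin.val_succ] at *
      omega
  let k0 : A ⟶ π.fiber y := pullback.lift r (polyBase κ (i : ℕ)) hr
  have hk0 : k0 ≫ π.fiberι y = r := pullback.lift_fst _ _ _
  have hk0' : k0 ≫ π.fiberToSpecResidueField y = polyBase κ (i : ℕ) := pullback.lift_snd _ _ _
  let V := fOpen φ e y j
  have hrange : Set.range k0 ⊆ Set.range V.ι := by
    rw [Scheme.Opens.range_ι]
    rintro _ ⟨x, rfl⟩
    show (k0 ≫ π.fiberι y) x ∈ chartOpen φ e j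
    rw [hk0]
    exact hrD (show x ∈ (⊤ : A.Opens) from trivial)
  let k' : A ⟶ V := IsOpenImmersion.lift V.ι k0 hrange
  have hk' : k' ≫ V.ι = k0 := IsOpenImmersion.lift_fac _ _ _
  let q : (V : Scheme.{u}) ⟶ P := V.ι ≫ π.fiberι y
  have hq : ⊤ ≤ q ⁻¹ᵁ chartOpen φ e j := fun x _ => x.2
  let b : (V : Scheme.{u}) ⟶ Spec (CommRingCat.of κ) := V.ι ≫ π.fiberToSpecResidueField y
  have hkb : k' ≫ b = polyBase κ (i : ℕ) := by rw [← Category.assoc, hk', hk0']
  have hkq : k' ≫ q = r := by rw [← Category.assoc, hk', hk0]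
  obtain ⟨ρ, hρb, hρX⟩ := exists_polyHom b fun l : Fin (i : ℕ) =>
    q.appLE _ ⊤ hq (ratio φ e j (j.succAbove ⟨l, by have := i.2; have := l.2; omega⟩))
  have hgt : ∀ l, r.appLE _ ⊤ hrD (ratio φ e j l) = aA l := hrt
  have hkρ : k' ≫ ρ = 𝟙 A := by
    refine poly_ext (by rw [Category.assoc, hρb, hkb, Category.id_comp]) fun l => ?_
    rw [Scheme.Hom.comp_appTop, ConcreteCategory.comp_apply, hρX,
      ← appLE_comp_top k' hq (hrD.trans_eq (by rw [hkq])), appLE_congr_hom hkq _ hrD, hgt]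
    simp [aA, co]
    rfl
  haveI : IsImmersion k' := by
    haveI : IsImmersion (k' ≫ ρ) := hkρ ▸ inferInstance
    exact IsImmersion.of_comp k' ρ
  refine ⟨k0, hk' ▸ inferInstance, Set.Subset.antisymm ?_ ?_, fun hi => ?_, hk0', hrD.trans_eq (by rw [hk0]),
    fun l hl => ?_⟩
  · rintro _ ⟨x, rfl⟩
    refine ⟨V.range_ι.le (hrange ⟨x, rfl⟩), fun l hl => ?_⟩
    show (k0 ≫ π.fiberι y) x ∉ chartOpen φ e l
    rw [hk0]
    refine (mem_chart_iff hrD).2 ?_ x
    rw [hgt]
    obtain ⟨l', rfl⟩ := Fin.exists_succAbove_eq (x := l) (y := j) (fun h => absurd hji (not_le.2 (h ▸ hl)))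
    simp only [aA, Fin.insertNth_apply_succAbove, co]
    rw [dif_neg fun h => not_le.2 hl ((hle l').2 h)]
  · rintro z ⟨hzj, hz⟩
    let z' : (V : Scheme.{u}) := ⟨z, hzj⟩
    let g := (V : Scheme.{u}).fromSpecResidueField z'
    have h1 : ⊤ ≤ ((g ≫ ρ) ≫ r) ⁻¹ᵁ chartOpen φ e j := fun w _ => hrD (show (g ≫ ρ) w ∈ (⊤ : A.Opens) from trivial)
    have h2 : ⊤ ≤ (g ≫ q) ⁻¹ᵁ chartOpen φ e j := fun w _ => hq (show g w ∈ (⊤ : Opens _) from trivial)
    have hπ : ((g ≫ ρ) ≫ r) ≫ π = (g ≫ q) ≫ π := by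
      rw [Category.assoc _ r π, hr]
      show (g ≫ ρ) ≫ polyBase κ (i : ℕ) ≫ X.fromSpecResidueField y = _
      rw [Category.assoc, ← Category.assoc ρ, hρb]
      simp only [b, q, Category.assoc]
      rw [π.fiber_fac y]
    have heq : (g ≫ ρ) ≫ r = g ≫ q := by
      refine ext_of_ratio hB he j hπ h1 h2 fun l => ?_
      rw [appLE_comp_top _ hrD, appLE_comp_top g hq, hgt]
      by_cases hlj : l = j
      · subst hlj
        simp only [aA, Fin.insertNth_apply_same, map_one, ratio, cf_self]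
      obtain ⟨l', rfl⟩ := Fin.exists_succAbove_eq hlj
      simp only [aA, Fin.insertNth_apply_succAbove, co]
      split_ifs with h
      · rw [Scheme.Hom.comp_appTop, ConcreteCategory.comp_apply, hρX]
      · rw [map_zero, ← appLE_comp_top g hq h2, eq_comm, ← mem_chart_iff h2]
        intro w hw
        refine hz _ (not_le.1 fun h' => h ((hle l').1 h')) ?_
        have hw' : g w = z' := Scheme.fromSpecResidueField_apply _ _
        show π.fiberι y z ∈ chartOpen φ e _
        rw [show (g ≫ q) w = π.fiberι y z from congrArg q hw'] at hw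
        exact hw
    let w₀ : ↥(Spec ((V : Scheme.{u}).residueField z')) := IsLocalRing.closedPoint _
    refine ⟨(g ≫ ρ) w₀, (π.fiberι y).isEmbedding.injective ?_⟩
    show (k0 ≫ π.fiberι y) _ = _
    rw [hk0]
    exact (congrArg (fun f : _ ⟶ P => f w₀) heq).trans (congrArg q (Scheme.fromSpecResidueField_apply z' w₀))
  · have hρr : ρ ≫ r = q := by
      refine ext_of_ratio hB he j ?_ (fun x _ => hrD (show ρ x ∈ (⊤ : A.Opens) from trivial)) hq fun l => ?_
      · rw [Category.assoc, hr]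
        show ρ ≫ polyBase κ (i : ℕ) ≫ X.fromSpecResidueField y = _
        rw [← Category.assoc, hρb]
        simp only [b, q, Category.assoc]
        rw [π.fiber_fac y]
      rw [appLE_comp_top _ hrD, hgt]
      by_cases hlj : l = j
      · subst hlj
        simp only [aA, Fin.insertNth_apply_same, map_one, ratio, cf_self]
      obtain ⟨l', rfl⟩ := Fin.exists_succAbove_eq hlj
      have hl' : (l' : ℕ) < i := by rw [hi]; exact l'.2
      simp only [aA, Fin.insertNth_apply_succAbove, co, dif_pos hl']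
      exact hρX ⟨l', hl'⟩
    have hρk : ρ ≫ k' = 𝟙 _ := by
      rw [← cancel_mono V.ι, Category.assoc, hk', Category.id_comp]
      refine pullback.hom_ext ?_ ?_
      · show (ρ ≫ k0) ≫ π.fiberι y = V.ι ≫ π.fiberι y
        rw [Category.assoc, hk0, hρr]
      · show (ρ ≫ k0) ≫ π.fiberToSpecResidueField y = V.ι ≫ π.fiberToSpecResidueField y
        rw [Category.assoc, hk0', hρb]
    haveI : IsIso k' := ⟨ρ, hkρ, hρk⟩
    exact hk' ▸ inferInstance
  · rw [appLE_congr_hom hk0 _ hrD, hgt]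
    simp only [aA, Fin.insertNth_apply_succAbove, co, dif_pos hl]

end Groth.Agent.Cyc26PB
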