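import Groth.Agent.Lib.VeryAmple11.Univ2
import Groth.Agent.Lib.P1Split17.Basis
import Mathlib.AlgebraicGeometry.AffineSpace

/-! # The standard charts of a projective bundle, from its universal property -/

set_option autoImplicit false
set_option linter.style.haveILetI false

universe u

open CategoryTheory Limits AlgebraicGeometry TopologicalSpace Opposite

set_option backward.isDefEq.respectTransparency false

noncomputable section

namespace Groth.Agent.Cyc26PB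

open Groth.Agent.M1 Groth.Agent.VA11
open Groth.Agent.P1Split (IsBas)

variable {X P T : Scheme.{u}}

/-- A projective bundle, by its universal property for generating sections. -/
structure UBundle (π : P ⟶ X) (E : X.Modules) (O1 : P.Modules)
    (φ : E ⟶ (Scheme.Modules.pushforward π).obj O1) : Prop where
  inv : PicF.IsInvertible O1
  gens : Gens φ
  exists_map : ∀ (T : Scheme.{u}) (f : T ⟶ X) (L : T.Modules), PicF.IsInvertible L →
    ∀ σ : E ⟶ (Scheme.Modules.pushforward f).obj L, Gens σ →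
    ∃ (r : T ⟶ P) (hr : r ≫ π = f) (τ : (Scheme.Modules.pullback r).obj O1 ≅ L),
      ∀ (U : X.Opens) (e : Γ(E, U)), τ.hom.app (r ⁻¹ᵁ (π ⁻¹ᵁ U)) (M2.pullSec r O1 (φ.app U e)) =
        mres L (show r ⁻¹ᵁ (π ⁻¹ᵁ U) ≤ f ⁻¹ᵁ U by rw [← hr]; rfl) (σ.app U e)
  unique : ∀ (T : Scheme.{u}) (f : T ⟶ X) (L : T.Modules), PicF.IsInvertible L →
    ∀ σ : E ⟶ (Scheme.Modules.pushforward f).obj L, Gens σ →
    ∀ (r₁ r₂ : T ⟶ P) (h₁ : r₁ ≫ π = f) (h₂ : r₂ ≫ π = f)
      (τ₁ : (Scheme.Modules.pullback r₁).obj O1 ≅ L) (τ₂ : (Scheme.Modules.pullback r₂).obj O1 ≅ L),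
      (∀ (U : X.Opens) (e : Γ(E, U)), τ₁.hom.app (r₁ ⁻¹ᵁ (π ⁻¹ᵁ U)) (M2.pullSec r₁ O1 (φ.app U e)) =
        mres L (show r₁ ⁻¹ᵁ (π ⁻¹ᵁ U) ≤ f ⁻¹ᵁ U by rw [← h₁]; rfl) (σ.app U e)) →
      (∀ (U : X.Opens) (e : Γ(E, U)), τ₂.hom.app (r₂ ⁻¹ᵁ (π ⁻¹ᵁ U)) (M2.pullSec r₂ O1 (φ.app U e)) =
        mres L (show r₂ ⁻¹ᵁ (π ⁻¹ᵁ U) ≤ f ⁻¹ᵁ U by rw [← h₂]; rfl) (σ.app U e)) → r₁ = r₂

section basis

variable {E : X.Modules} {m : ℕ} {U : X.Opens} {e : Fin m → Γ(E, U)} (he : IsBas E U e)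
variable {f : T ⟶ X} (hf : ⊤ ≤ f ⁻¹ᵁ U)

include he hf in
/-- Maps out of a free module are determined on a basis. -/
theorem hom_eq_of_basis {L : T.Modules} {σ σ' : E ⟶ (Scheme.Modules.pushforward f).obj L}
    (h : ∀ l, σ.app U (e l) = σ'.app U (e l)) : σ = σ' := by
  refine hom_ext_affine _ _ fun V _ y => ?_
  have hle : f ⁻¹ᵁ V ≤ f ⁻¹ᵁ (V ⊓ U) := fun x hx => ⟨hx, hf trivial⟩
  obtain ⟨c, hc⟩ := (he (V ⊓ U) inf_le_right).2 (mres E inf_le_left y)
  have key : ∀ χ : E ⟶ (Scheme.Modules.pushforward f).obj L, secs χ V y =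
      mres L hle (∑ l, f.app (V ⊓ U) (c l) • mres L (f.preimage_mono inf_le_right) (secs χ U (e l))) := fun χ => by
    have h1 : ∑ l, f.app (V ⊓ U) (c l) • mres L (f.preimage_mono inf_le_right) (secs χ U (e l)) =
        secs χ (V ⊓ U) (mres E inf_le_left y) := by
      rw [← hc]
      show _ = χ.app (V ⊓ U) (∑ l, c l • mres E inf_le_right (e l))
      rw [map_sum]
      refine Finset.sum_congr rfl fun l _ => ?_
      rw [secs_res]
      exact (secs_smul χ (V ⊓ U) (c l) (mres E inf_le_right (e l))).symm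
    rw [h1, ← secs_res χ (inf_le_left : V ⊓ U ≤ V) y, mres_mres]
    exact (mres_id L _ _).symm
  show secs σ V y = secs σ' V y
  rw [key σ, key σ']
  congr 1
  exact Finset.sum_congr rfl fun l _ => congrArg (fun z => _ • mres L _ z) (h l)

include he hf in
/-- Maps out of a free module with given values on a basis. -/
theorem exists_hom_basis (a : Fin m → Γ(T, ⊤)) :
    ∃ σ : E ⟶ (Scheme.Modules.pushforward f).obj (Coh.structureModule T), ∀ l,
      secs σ U (e l) = (show Γ(Coh.structureModule T, f ⁻¹ᵁ U) from ores le_top (a l)) := by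
  classical
  let C : ∀ V : X.Opens, Γ(E, V) → Fin m → Γ(X, V ⊓ U) := fun V y =>
    ((he (V ⊓ U) inf_le_right).2 (mres E inf_le_left y)).choose
  have hC : ∀ (V : X.Opens) (y : Γ(E, V)),
      ∑ l, C V y l • mres E (inf_le_right : V ⊓ U ≤ U) (e l) = mres E inf_le_left y := fun V y =>
    ((he (V ⊓ U) inf_le_right).2 (mres E inf_le_left y)).choose_spec
  have huniq : ∀ (V : X.Opens) (y : Γ(E, V)) (c : Fin m → Γ(X, V ⊓ U)),
      ∑ l, c l • mres E (inf_le_right : V ⊓ U ≤ U) (e l) = mres E inf_le_left y → C V y = c := fun V y c hc =>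
    (he (V ⊓ U) inf_le_right).1 ((hC V y).trans hc.symm)
  have hle : ∀ V : X.Opens, f ⁻¹ᵁ V ≤ f ⁻¹ᵁ (V ⊓ U) := fun V x hx => ⟨hx, hf trivial⟩
  let g : ∀ V : X.Opens, Γ(E, V) → Γ(T, f ⁻¹ᵁ V) := fun V y =>
    ∑ l, ores (hle V) (f.app (V ⊓ U) (C V y l)) * ores le_top (a l)
  have gadd : ∀ V y y', g V (y + y') = g V y + g V y' := fun V y y' => by
    have h : C V (y + y') = C V y + C V y' := huniq V _ _ (by
      simp only [Pi.add_apply, add_smul, Finset.sum_add_distrib, hC, map_add])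
    simp only [g, h, Pi.add_apply, map_add, add_mul, Finset.sum_add_distrib]
  have gsmul : ∀ (V : X.Opens) (r : Γ(X, V)) (y : Γ(E, V)), g V (r • y) = f.app V r * g V y := fun V r y => by
    have h : C V (r • y) = fun l => ores (inf_le_left : V ⊓ U ≤ V) r * C V y l := huniq V _ _ (by
      simp only [mul_smul, ← Finset.smul_sum, hC, mres_smul])
    simp only [g, h, map_mul, Finset.mul_sum, ← mul_assoc]
    refine Finset.sum_congr rfl fun l _ => ?_
    congr 2
    have h1 : f.app (V ⊓ U) (ores inf_le_left r) = ores (f.preimage_mono inf_le_left) (f.app V r) :=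
      ConcreteCategory.congr_hom (f.naturality (homOfLE (inf_le_left : V ⊓ U ≤ V)).op) r
    rw [h1, ores_ores]
    exact ores_id _ _
  have gnat : ∀ {V W : X.Opens} (h : W ≤ V) (y : Γ(E, V)), ores (f.preimage_mono h) (g V y) = g W (mres E h y) := by
    intro V W h y
    have hh : W ⊓ U ≤ V ⊓ U := inf_le_inf_right U h
    have hC' : C W (mres E h y) = fun l => ores hh (C V y l) := huniq W _ _ (by
      have h1 := congrArg (mres E hh) (hC V y)
      simp only [map_sum, mres_smul, mres_mres] at h1 ⊢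
      exact h1)
    simp only [g, hC', map_sum, map_mul]
    refine Finset.sum_congr rfl fun l _ => ?_
    rw [ores_ores, ores_ores]
    congr 1
    have h1 : f.app (W ⊓ U) (ores hh (C V y l)) = ores (f.preimage_mono hh) (f.app (V ⊓ U) (C V y l)) :=
      ConcreteCategory.congr_hom (f.naturality (homOfLE hh).op) (C V y l)
    rw [h1, ores_ores]
  obtain ⟨σ, hσ⟩ := exists_hom_of_affine E ((Scheme.Modules.pushforward f).obj (Coh.structureModule T))
    (fun V _ => AddMonoidHom.mk' (fun y => (show Γ(Coh.structureModule T, f ⁻¹ᵁ V) from g V y)) (gadd V))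
    (fun V _ r y => gsmul V r y) (fun _ _ h y => gnat h y)
  refine ⟨σ, fun l => ?_⟩
  have hg : g U (e l) = ores le_top (a l) := by
    have hC' : C U (e l) = fun j => if j = l then 1 else 0 := huniq U _ _ (by
      simp only [ite_smul, one_smul, zero_smul, Finset.sum_ite_eq', Finset.mem_univ, if_true])
    simp only [g, hC']
    rw [Finset.sum_eq_single l (fun j _ hj => by rw [if_neg hj, map_zero, map_zero, zero_mul])
      (fun h => absurd (Finset.mem_univ l) h), if_pos rfl, map_one, map_one, one_mul]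
  refine modules_eq_of_locally_eq (Coh.structureModule T) _
    (fun V : {V : X.affineOpens // V.1 ≤ U} => f ⁻¹ᵁ V.1.1) (fun V => f.preimage_mono V.2) (fun x hx => ?_) _ _
    fun V => ?_
  · obtain ⟨_, ⟨W, hW, rfl⟩, hxW, hWU⟩ :=
      X.isBasis_affineOpens.exists_subset_of_mem_open (show f x ∈ (U : Set X) from hx) U.2
    exact Opens.mem_iSup.2 ⟨⟨⟨W, hW⟩, hWU⟩, hxW⟩
  · rw [secs_res σ V.2]
    refine (hσ V.1.1 V.1.2 _).trans ?_
    show g V.1.1 (mres E V.2 (e l)) = ores (f.preimage_mono V.2) (ores le_top (a l))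
    rw [← gnat V.2, hg]

end basis

theorem appLE_top_top {A B : Scheme.{u}} (g : A ⟶ B) (h : ⊤ ≤ g ⁻¹ᵁ ⊤) : g.appLE ⊤ ⊤ h = g.appTop := by
  simp [Scheme.Hom.appLE, Scheme.Hom.appTop]

section bundle

variable {E : X.Modules} {π : P ⟶ X} {O1 : P.Modules} {φ : E ⟶ (Scheme.Modules.pushforward π).obj O1}
  (hB : UBundle π E O1 φ) {m : ℕ} {U : X.Opens} {e : Fin m → Γ(E, U)} (he : IsBas E U e) (i : Fin m)

variable (φ e) in
/-- The locus where the `i`-th section generates. -/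
abbrev chartOpen : P.Opens := gl (secs φ U (e i))

variable (φ e) in
/-- The ratio of the `l`-th section by the `i`-th. -/
abbrev ratio (l : Fin m) : Γ(P, chartOpen φ e i) := cf (secs φ U (e i)) (secs φ U (e l))

theorem chartOpen_le : chartOpen φ e i ≤ π ⁻¹ᵁ U := gl_le _

theorem le_preimage {r : T ⟶ P} (hr : ⊤ ≤ r ⁻¹ᵁ chartOpen φ e i) : ⊤ ≤ r ⁻¹ᵁ (π ⁻¹ᵁ U) :=
  hr.trans (r.preimage_mono (chartOpen_le i))

theorem ratio_mul_value {L : T.Modules} (r : T ⟶ P) (hr : ⊤ ≤ r ⁻¹ᵁ chartOpen φ e i)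
    (τ : (Scheme.Modules.pullback r).obj O1 ≅ L) (l : Fin m) :
    r.appLE _ ⊤ hr (ratio φ e i l) •
        mres L (le_preimage i hr) (τ.hom.app (r ⁻¹ᵁ (π ⁻¹ᵁ U)) (M2.pullSec r O1 (secs φ U (e i)))) =
      mres L (le_preimage i hr) (τ.hom.app (r ⁻¹ᵁ (π ⁻¹ᵁ U)) (M2.pullSec r O1 (secs φ U (e l)))) := by
  have h1 := congrArg (fun z => τ.hom.app _ (M2.pullSec r O1 z)) (cf_smul (secs φ U (e i)) (secs φ U (e l)))
  dsimp only at h1
  rw [M2.pullSec_smul, Scheme.Modules.Hom.app_smul, ← mres_pullSec r (gl_le (secs φ U (e i))),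
    ← mres_pullSec r (gl_le (secs φ U (e i))), app_mres, app_mres] at h1
  have h2 := congrArg (mres L hr) h1
  rw [mres_smul, mres_mres, mres_mres] at h2
  exact h2

theorem exists_triv {r : T ⟶ P} (hr : ⊤ ≤ r ⁻¹ᵁ chartOpen φ e i) :
    ∃ τ : (Scheme.Modules.pullback r).obj O1 ≅ Coh.structureModule T, ∀ l : Fin m,
      mres (Coh.structureModule T) (le_preimage i hr)
          (τ.hom.app (r ⁻¹ᵁ (π ⁻¹ᵁ U)) (M2.pullSec r O1 (secs φ U (e l)))) =
        (show Γ(Coh.structureModule T, ⊤) from r.appLE _ ⊤ hr (ratio φ e i l)) := by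
  let s := secs φ U (e i)
  let g : Γ((Scheme.Modules.pullback r).obj O1, ⊤) :=
    mres _ hr (M2.pullSec r O1 (mres O1 (gl_le s) s))
  have hg : Twist.IsGen _ ⊤ g := ((isGen_gl s).pullback r).mres hr
  have h1 : Twist.IsGen (Coh.structureModule T) ⊤ (show Γ(Coh.structureModule T, ⊤) from (1 : Γ(T, ⊤))) := by
    intro V h
    have : (fun c : Γ(T, V) => c • mres (Coh.structureModule T) h
        (show Γ(Coh.structureModule T, ⊤) from (1 : Γ(T, ⊤)))) = fun c => (show Γ(Coh.structureModule T, V) from c) :=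
      funext fun c => by
        show c * ores h (1 : Γ(T, ⊤)) = c
        rw [map_one, mul_one]
    rw [this]
    exact Function.bijective_id
  have hst : Twist.SameTransition (fun _ : PUnit.{u + 1} => (⊤ : T.Opens)) (fun _ => g)
      (fun _ => (show Γ(Coh.structureModule T, ⊤) from (1 : Γ(T, ⊤)))) := fun a b V ha hb t ht => by
    have ht1 : (1 : Γ(T, V)) = t := (hg V ha).1 (by simpa using ht)
    rw [← ht1, one_smul]
  obtain ⟨τ, hτ⟩ := Twist.exists_iso_of_gen (fun _ : PUnit.{u + 1} => (⊤ : T.Opens)) (by simp) _ _ (fun _ => hg)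
    (fun _ => h1) hst
  refine ⟨τ, fun l => ?_⟩
  have h2 : mres (Coh.structureModule T) (le_preimage i hr) (τ.hom.app (r ⁻¹ᵁ (π ⁻¹ᵁ U)) (M2.pullSec r O1 s)) =
      (show Γ(Coh.structureModule T, ⊤) from (1 : Γ(T, ⊤))) := by
    rw [← hτ PUnit.unit]
    show _ = τ.hom.app ⊤ (mres _ hr (M2.pullSec r O1 (mres O1 (gl_le s) s)))
    rw [← mres_pullSec r (gl_le s), app_mres, app_mres, mres_mres]
  rw [← ratio_mul_value i r hr τ l]
  show _ • mres _ _ (τ.hom.app _ (M2.pullSec r O1 s)) = _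
  rw [h2]
  exact mul_one (show Γ(T, ⊤) from r.appLE _ ⊤ hr (ratio φ e i l))

include hB he in
/-- Morphisms into a chart are determined by the ratios. -/
theorem ext_of_ratio {r₁ r₂ : T ⟶ P} (h : r₁ ≫ π = r₂ ≫ π) (h₁ : ⊤ ≤ r₁ ⁻¹ᵁ chartOpen φ e i)
    (h₂ : ⊤ ≤ r₂ ⁻¹ᵁ chartOpen φ e i)
    (ht : ∀ l, r₁.appLE _ ⊤ h₁ (ratio φ e i l) = r₂.appLE _ ⊤ h₂ (ratio φ e i l)) : r₁ = r₂ := by
  obtain ⟨τ₁, hτ₁⟩ := exists_triv i h₁
  obtain ⟨τ₂, hτ₂⟩ := exists_triv i h₂
  obtain ⟨ω₁, hω₁⟩ := exists_comp_unit φ r₁ τ₁ (rfl : r₁ ≫ π = r₁ ≫ π)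
  obtain ⟨ω₂, hω₂⟩ := exists_comp_unit φ r₂ τ₂ h.symm
  have hf : ⊤ ≤ (r₁ ≫ π) ⁻¹ᵁ U := le_preimage i h₁
  have e12 : ω₁ = ω₂ := hom_eq_of_basis he hf fun l => by
    rw [hω₁, hω₂]
    have h3 := ((hτ₁ l).trans (ht l)).trans (hτ₂ l).symm
    have h4 := congrArg (mres (Coh.structureModule T) (le_top : (r₁ ≫ π) ⁻¹ᵁ U ≤ ⊤)) h3
    simp only [mres_mres] at h4
    exact h4
  subst e12
  have hgen : Gens ω₁ := fun x => by
    refine ⟨U, e i, ?_⟩
    show x ∈ gl (secs ω₁ U (e i))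
    rw [secs, hω₁, gl_mres, gl_app_iso, gl_pullSec r₁ hB.inv]
    exact ⟨h₁ trivial, hf trivial⟩
  refine hB.unique T _ _ (PicLoc.isInvertible_structureModule T) ω₁ hgen r₁ r₂ rfl h.symm τ₁ τ₂
    (fun V y => ?_) (fun V y => ?_)
  · rw [hω₁, mres_mres, mres_id]
  · rw [hω₂, mres_mres, mres_id]

include hB he in
/-- Morphisms into a chart with prescribed ratios. -/
theorem exists_of_ratio (f : T ⟶ X) (hf : ⊤ ≤ f ⁻¹ᵁ U) (a : Fin m → Γ(T, ⊤)) (ha : a i = 1) :
    ∃ (r : T ⟶ P) (_ : r ≫ π = f) (h : ⊤ ≤ r ⁻¹ᵁ chartOpen φ e i), ∀ l, r.appLE _ ⊤ h (ratio φ e i l) = a l := by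
  obtain ⟨σ, hσ⟩ := exists_hom_basis he hf a
  have hone : Twist.IsGen (Coh.structureModule T) (f ⁻¹ᵁ U) (secs σ U (e i)) := by
    rw [hσ]
    intro V h
    have : (fun c : Γ(T, V) => c • mres (Coh.structureModule T) h
        (show Γ(Coh.structureModule T, f ⁻¹ᵁ U) from ores le_top (a i))) =
        fun c => (show Γ(Coh.structureModule T, V) from c) :=
      funext fun c => by
        show c * ores h (ores le_top (a i)) = c
        rw [ha, map_one, map_one, mul_one]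
    rw [this]
    exact Function.bijective_id
  have hgl : gl (secs σ U (e i)) = f ⁻¹ᵁ U :=
    le_antisymm (gl_le _) (le_gl le_rfl (by rw [mres_id]; exact hone))
  have hgen : Gens σ := fun x => ⟨U, e i, hgl.symm.le (hf (Opens.mem_top x))⟩
  obtain ⟨r, hr, τ, hτ⟩ := hB.exists_map T f _ (PicLoc.isInvertible_structureModule T) σ hgen
  have hrU : f ⁻¹ᵁ U ≤ r ⁻¹ᵁ (π ⁻¹ᵁ U) := by rw [← hr]; rfl
  have h : ⊤ ≤ r ⁻¹ᵁ chartOpen φ e i := by
    intro x _
    have h1 : gl (τ.hom.app (r ⁻¹ᵁ (π ⁻¹ᵁ U)) (M2.pullSec r O1 (secs φ U (e i)))) = r ⁻¹ᵁ chartOpen φ e i := by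
      rw [gl_app_iso, gl_pullSec r hB.inv]
    rw [← h1, secs, hτ U (e i), gl_mres]
    exact ⟨hgl.symm.le (hf trivial), hrU (hf trivial)⟩
  have hval : ∀ l, mres (Coh.structureModule T) (le_preimage i h)
      (τ.hom.app (r ⁻¹ᵁ (π ⁻¹ᵁ U)) (M2.pullSec r O1 (secs φ U (e l)))) =
      (show Γ(Coh.structureModule T, ⊤) from a l) := fun l => by
    rw [secs, hτ U (e l), mres_mres]
    have h2 := congrArg (mres (Coh.structureModule T) hf) (hσ l)
    exact h2.trans ((ores_ores _ _ _).trans (ores_id _ _))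
  refine ⟨r, hr, h, fun l => ?_⟩
  have h3 := ratio_mul_value i r h τ l
  rw [hval, hval] at h3
  refine Eq.trans ?_ h3
  show _ = r.appLE _ ⊤ h (ratio φ e i l) * a i
  rw [ha, mul_one]

include hB in
/-- The chart is an affine space over the base, with the ratios as coordinates. -/
theorem exists_chartIso {n : ℕ} {e : Fin (n + 1) → Γ(E, U)} (he : IsBas E U e) (i : Fin (n + 1)) :
    ∃ Θ : (chartOpen φ e i : Scheme.{u}) ≅ 𝔸(ULift.{u} (Fin n); (U : Scheme.{u})),
      Θ.hom ≫ (𝔸(ULift.{u} (Fin n); (U : Scheme.{u})) ↘ (U : Scheme.{u})) ≫ U.ι = (chartOpen φ e i).ι ≫ π ∧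
      ∀ j : ULift.{u} (Fin n), Θ.hom.appTop (AffineSpace.coord (U : Scheme.{u}) j) =
        (chartOpen φ e i).topIso.inv (ratio φ e i (i.succAbove j.down)) := by
  let D := chartOpen φ e i
  let A := 𝔸(ULift.{u} (Fin n); (U : Scheme.{u}))
  let fA : A ⟶ X := (A ↘ (U : Scheme.{u})) ≫ U.ι
  have hfA : ⊤ ≤ fA ⁻¹ᵁ U := fun x _ => ((A ↘ (U : Scheme.{u})) x).2
  let aA : Fin (n + 1) → Γ(A, ⊤) := Fin.insertNth i 1 fun j => AffineSpace.coord (U : Scheme.{u}) (ULift.up j)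
  obtain ⟨r, hr, hrD, hrt⟩ := exists_of_ratio hB he i fA hfA aA (by simp [aA])
  have hrange : Set.range r ⊆ Set.range D.ι := by
    rw [Scheme.Opens.range_ι]
    rintro _ ⟨x, rfl⟩
    exact hrD (Opens.mem_top x)
  let r' : A ⟶ D := IsOpenImmersion.lift D.ι r hrange
  have hr' : r' ≫ D.ι = r := IsOpenImmersion.lift_fac _ _ _
  have hDU : Set.range (D.ι ≫ π) ⊆ Set.range U.ι := by
    rw [Scheme.Opens.range_ι]
    rintro _ ⟨x, rfl⟩
    exact chartOpen_le (φ := φ) (e := e) i x.2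
  let b : (D : Scheme.{u}) ⟶ U := IsOpenImmersion.lift U.ι (D.ι ≫ π) hDU
  have hb : b ≫ U.ι = D.ι ≫ π := IsOpenImmersion.lift_fac _ _ _
  let θ : (D : Scheme.{u}) ⟶ A :=
    AffineSpace.homOfVector b fun j => D.topIso.inv (ratio φ e i (i.succAbove j.down))
  have hDD : ⊤ ≤ D.ι ⁻¹ᵁ D := fun x _ => x.2
  have hι : ∀ z, D.ι.appLE D ⊤ hDD z = D.topIso.inv z := fun z => by
    simp [Scheme.Opens.ι_appLE, Scheme.Opens.topIso]
    rfl
  have htr : ∀ j, r'.appTop (D.topIso.inv (ratio φ e i (i.succAbove j))) = AffineSpace.coord (U : Scheme.{u}) (ULift.up j) := by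
    intro j
    rw [← hι]
    have h1 : r'.appTop (D.ι.appLE D ⊤ hDD (ratio φ e i (i.succAbove j))) =
        (r' ≫ D.ι).appLE D ⊤ (le_top.trans (r'.preimage_mono hDD)) (ratio φ e i (i.succAbove j)) := by
      rw [← Scheme.Hom.appLE_comp_appLE r' D.ι D ⊤ ⊤ hDD (fun _ _ => trivial), ConcreteCategory.comp_apply,
        appLE_top_top]
    rw [h1]
    simp only [hr']
    exact (hrt (i.succAbove j)).trans (Fin.insertNth_apply_succAbove _ _ _ _)
  have h1 : r' ≫ θ = 𝟙 A := by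
    refine AffineSpace.hom_ext ?_ fun j => ?_
    · rw [Category.assoc, AffineSpace.homOfVector_over, Category.id_comp, ← cancel_mono U.ι, Category.assoc, hb,
        ← Category.assoc, hr', hr]
    · rw [Scheme.Hom.comp_appTop, ConcreteCategory.comp_apply, AffineSpace.homOfVector_appTop_coord, htr]
      rfl
  have hθπ : θ ≫ r ≫ π = D.ι ≫ π := by
    rw [hr, ← Category.assoc, AffineSpace.homOfVector_over, hb]
  have h2 : θ ≫ r' = 𝟙 _ := by
    rw [← cancel_mono D.ι, Category.assoc, hr', Category.id_comp]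
    refine ext_of_ratio hB he i (by rw [Category.assoc, hθπ]) (fun x _ => hrD (Opens.mem_top (θ x))) hDD fun l => ?_
    rw [hι, ← Scheme.Hom.appLE_comp_appLE θ r D ⊤ ⊤ hrD (fun _ _ => trivial), ConcreteCategory.comp_apply, hrt,
      appLE_top_top]
    induction l using Fin.succAboveCases i with
    | x => simp [aA, ratio, cf_self]
    | p j =>
      simp only [aA, Fin.insertNth_apply_succAbove]
      exact AffineSpace.homOfVector_appTop_coord _ _ _
  refine ⟨⟨θ, r', h2, h1⟩, ?_, fun j => AffineSpace.homOfVector_appTop_coord _ _ _⟩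
  rw [← hθπ, hr]

end bundle

end Groth.Agent.Cyc26PB
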