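import Groth.Agent.Lib.Cyc26.PBOrder
import Groth.Agent.Lib.Cyc26.DegC1
import Groth.Agent.Lib.Cyc26.C1Apps
import Groth.Agent.Lib.Cyc26.LimitCycle
import Groth.Agent.Lib.CohFound.ProperFinite

/-! # Cycles on a fibre of a projective bundle -/

set_option autoImplicit false
set_option linter.style.haveILetI false

universe u

open CategoryTheory Limits AlgebraicGeometry TopologicalSpace Opposite

set_option backward.isDefEq.respectTransparency false

noncomputable section

namespace Groth.Agent.Cyc26PB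

open Groth.Agent.Cyc26
open Groth.Agent.P1Split (IsBas)
open scoped Classical

/-- Iterated cap products with chosen sections. -/
def capIt {Z : Scheme.{u}} (δ : Z → ℤ) (L : Z.Modules) (t : ℕ → (z : Z) → Cyc.secFibre L z) (G : Z → ℤ) :
    ℕ → Z → ℤ
  | 0 => G
  | m + 1 => Cyc.c1CapFun δ L (capIt δ L t G m) (t m)

/-- The indicator function of a point. -/
def ind {Z : Scheme.{u}} (w : Z) : Z → ℤ := fun z => if z = w then 1 else 0

variable {X P : Scheme.{u}} {E : X.Modules} {π : P ⟶ X} [IsProper π] {O1 : P.Modules}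
  {φ : E ⟶ (Scheme.Modules.pushforward π).obj O1} {n : ℕ} {U : X.Opens} {e : Fin (n + 1) → Γ(E, U)}
  {δP : P → ℤ} {δ : X → ℤ}

instance (y : X) : IsProper (π.fiberToSpecResidueField y) :=
  MorphismProperty.pullback_snd _ _ inferInstance

omit [IsProper π] in
theorem delta_fiber [LocallyOfFiniteType π] (hδ : Cyc.DeltaCompat π δP δ) (y : X) (z : π.fiber y) :
    δP (π.fiberι y z) = δ y + (VarDim.sdim (π.fiberToSpecResidueField y) z : ℕ) := by
  rw [UCat26.delta_eq_add_rd π hδ, FibDim14.rd_fiberι π y z, GenLen5.apply_fiberι π y z]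
  rfl

theorem isNoetherian_fiber (y : X) : IsNoetherian (π.fiber y) :=
  CohFound.isNoetherian_of_isProper (A := X.residueField y) (π.fiberToSpecResidueField y)

theorem deltaCompat_fiber (hδ : Cyc.DeltaCompat π δP δ) (y : X) :
    Cyc.DeltaCompat (π.fiberToSpecResidueField y) (fun z => δP (π.fiberι y z)) (fun _ => δ y) := by
  obtain ⟨h1, -⟩ := exists_delta (X.residueField y) (π.fiberToSpecResidueField y)
  intro z
  obtain ⟨m, hm, hm'⟩ := h1 z
  refine ⟨m, hm, ?_⟩
  have h2 : (FibDim14.rd (π.fiberToSpecResidueField y) z : ℤ) = VarDim.sdim (π.fiberToSpecResidueField y) z :=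
    delta_eq_sdim _ h1 z
  simp only at hm' ⊢
  rw [delta_fiber hδ y z, ← h2, hm', zero_add]

variable (hB : UBundle π E O1 φ) (he : IsBas E U e) {y : X} (hy : y ∈ U)
  {h : Fin (n + 1) → ↥(π.fiber y)} (hh : FibPts φ e y h) (hd : Cyc.IsDimFun P δP) (hδ : Cyc.DeltaCompat π δP δ)

include hh hδ in
theorem delta_pts (i : Fin (n + 1)) : δP (π.fiberι y (h i)) = δ y + (i : ℕ) := by
  rw [delta_fiber hδ y, hh.sdim]

include hB he hy hh hd hδ

theorem exists_mul_pt (j : Fin (n + 1)) (α : AlgebraicCycle (π.fiber y) ℤ)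
    (hα : α ∈ Cyc.Zk (π.fiber y) (fun z => δP (π.fiberι y z)) (δ y + (j : ℕ))) :
    ∃ c : ℤ, RatFun (fun z => δP (π.fiberι y z)) (δ y + (j : ℕ)) Set.univ fun z => α z - c * ind (h j) z := by
  haveI := isNoetherian_fiber (π := π) y
  choose k hk hkr _ _ _ _ using fun i : Fin (n + 1) => exists_cell hB he hy i i le_rfl
  have hlin : ∀ i, closure (cellSet φ e y i i) ⊆ linSet φ e y i := fun i =>
    closure_minimal (fun z hz => hz.2) (isClosed_linSet y i)
  obtain ⟨β, hβ, hβs, hrat⟩ := exists_strata_cycle (K := X.residueField y) (isDimFun_fiber π y hd)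
    (fun i => cellSet φ e y i i) h
    (fun z => by
      obtain ⟨i, -, hi, -⟩ := exists_mem_cellSet hB he hy (i := Fin.last n) (z := z)
        fun l hl => absurd (Fin.le_last l) (not_le.2 hl)
      exact ⟨i, hi⟩)
    (fun i i' hne => Set.disjoint_left.2 fun z h1 h2 => by
      rcases lt_or_gt_of_ne hne with hlt | hlt
      · exact h1.2 _ hlt h2.1
      · exact h2.2 _ hlt h1.1)
    (fun i => ⟨hh.mem i, fun z hz => specializes_iff_mem_closure.1 (hh.spec i z hz.2)⟩)
    (fun i i' ⟨z, hz1, hz2⟩ => by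
      have hle : i' ≤ i := not_lt.1 fun hlt => hlin i hz1 _ hlt hz2.1
      exact fun w hw => closure_mono (Set.singleton_subset_iff.2 (hh.mem i))
        (specializes_iff_mem_closure.1 (hh.spec i w fun l hl => hw.2 l (lt_of_le_of_lt hle hl))))
    (fun i => ⟨i, ⊤, Scheme.Opens.ι (⊤ : (PolySpec (i : ℕ) (X.residueField y)).Opens) ≫ k i, inferInstance,
      Set.Subset.antisymm (by rintro _ ⟨w, rfl⟩; exact hkr i ▸ Set.mem_range_self _)
        (by rw [← hkr i]; rintro _ ⟨w, rfl⟩; exact ⟨⟨w, trivial⟩, rfl⟩)⟩)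
    _ α hα
  refine ⟨β (h j), hrat.congr fun z => ?_⟩
  simp only [ind]
  split_ifs with hz
  · rw [hz, mul_one]
  · rw [mul_zero, sub_zero, sub_eq_self]
    by_contra hne
    obtain ⟨i, rfl⟩ := hβs z hne
    have h1 : δP (π.fiberι y (h i)) = δ y + (j : ℕ) := by_contra fun h2 => hne (hβ _ h2)
    rw [delta_pts hh hδ i] at h1
    exact hz (congrArg h (Fin.ext (by omega)))

theorem capIt_sub_pt (t : ℕ → (z : π.fiber y) → Cyc.secFibre ((Scheme.Modules.pullback (π.fiberι y)).obj O1) z)
    (ht : ∀ m z, t m z ≠ 0) : ∀ m : ℕ, (hm : m ≤ n) →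
      (∃ a : AlgebraicCycle (π.fiber y) ℤ,
        ⇑a = capIt (fun z => δP (π.fiberι y z)) _ t (ind (h (Fin.last n))) m) ∧
      RatFun (fun z => δP (π.fiberι y z)) (δ y + (n - m : ℕ)) Set.univ fun z =>
        capIt (fun z => δP (π.fiberι y z)) _ t (ind (h (Fin.last n))) m z - ind (h ⟨n - m, by omega⟩) z := by
  haveI := isNoetherian_fiber (π := π) y
  have hdF := isDimFun_fiber π y hd
  let L := (Scheme.Modules.pullback (π.fiberι y)).obj O1
  let δF := fun z => δP (π.fiberι y z)
  have hL : PicF.IsInvertible L := Groth.Agent.Twist.isInvertible_pullback _ hB.inv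
  have hcyc : ∀ w : π.fiber y, ∃ a : AlgebraicCycle (π.fiber y) ℤ, ⇑a = ind w := fun w =>
    ⟨⟨ind w, Set.subset_univ _, fun x _ => ⟨Set.univ, Filter.univ_mem,
      (Set.finite_singleton w).subset fun z hz => by_contra fun hne => hz.2 (if_neg hne)⟩⟩, rfl⟩
  intro m
  induction m with
  | zero => exact fun _ => ⟨hcyc _, RatFun.zero fun z => sub_self _⟩
  | succ m ih =>
    intro hm
    obtain ⟨⟨a, ha⟩, hR⟩ := ih (by omega)
    obtain ⟨a', ha'⟩ := exists_cycle_c1Cap hL hdF a (ht m)
    refine ⟨⟨a', ha'.trans (by rw [ha]; rfl)⟩, ?_⟩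
    set i : Fin (n + 1) := ⟨n - m, by omega⟩ with hidef
    set j : Fin (n + 1) := ⟨n - (m + 1), by omega⟩ with hjdef
    have hk : δ y + ((n - m : ℕ) : ℤ) = δ y + ((n - (m + 1) : ℕ) : ℤ) + 1 := by omega
    rw [hk] at hR
    obtain ⟨c, hc⟩ := hR.exists_cycle hdF
    have h1 := c1Cap_ratEquivZero_family hdF hL (k := δ y + ((n - (m + 1) : ℕ) : ℤ))
      (hR.ratEquivZero hc) (ht m) Set.univ (fun _ _ _ _ hn => (hn trivial).elim)
    obtain ⟨σ, hσ0, hσ⟩ := exists_sec_divisor hB he hy hh hd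
      (fun l => by rw [delta_pts hh hδ, delta_pts hh hδ, Fin.val_zero, Nat.cast_zero, add_zero]) i
    obtain ⟨ψ, hψ, hψt⟩ := exists_ratio hL (secPull_ne_zero (π.fiberι y) hB.inv (h i) hσ0) (ht m (h i))
    have h2 : RatFun δF (δ y + ((n - (m + 1) : ℕ) : ℤ)) Set.univ
        (Cyc.divFun δF (h i) ((π.fiber y).residue _ ψ)) :=
      ⟨PUnit, fun _ => h i, fun _ => (π.fiber y).residue _ ψ, fun _ => by
        show δP (π.fiberι y (h i)) = _
        rw [delta_pts hh hδ]
        exact hk, fun _ => hψ, fun _ => trivial, fun _ => ⟨Set.univ, isOpen_univ, trivial, Set.toFinite _⟩,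
        fun x => (finsum_unique (fun _ : PUnit.{u + 1} => _)).symm⟩
    have h3 : ∀ z, Cyc.secDivFun δF L (h i) (secPull (π.fiberι y) O1 (h i) σ) z = ind (h j) z := fun z => by
      rw [secDivFun_pull (δ := δP) (π.fiberι y) hB.inv (h i) z hσ0, hσ]
      refine if_congr ⟨?_, fun h' => ⟨j, by simp only [hidef, hjdef]; omega, h'⟩⟩ rfl rfl
      rintro ⟨l, hl, rfl⟩
      exact congrArg h (Fin.ext (by simp only [hidef, hjdef] at hl ⊢; omega))
    refine (h1.add h2).congr fun z => ?_
    show Cyc.c1CapFun δF L ⇑c (t m) z + _ = Cyc.c1CapFun δF L (capIt δF L t (ind (h (Fin.last n))) m) (t m) z - ind (h j) z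
    have hfin : ∀ f : π.fiber y → ℤ, (Function.support f).Finite →
        (Function.support fun ξ => f ξ * Cyc.secDivFun δF L ξ (t m ξ) z).Finite := fun f hf =>
      hf.subset fun ξ hξ => left_ne_zero_of_mul hξ
    have h4 : Cyc.c1CapFun δF L ⇑c (t m) z = Cyc.c1CapFun δF L ⇑a (t m) z - Cyc.secDivFun δF L (h i) (t m (h i)) z := by
      have h5 : Cyc.secDivFun δF L (h i) (t m (h i)) z = ∑ᶠ ξ, ind (h i) ξ * Cyc.secDivFun δF L ξ (t m ξ) z := by
        rw [finsum_eq_single _ (h i) fun ξ hne => by simp [ind, hne]]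
        simp [ind]
      rw [h5]
      simp only [Cyc.c1CapFun]
      rw [← finsum_sub_distrib (hfin _ (Cyc26Lim.finite_support a))
        (hfin (ind (h i)) ((Set.finite_singleton (h i)).subset fun ξ hξ => by_contra fun hne => hξ (if_neg hne)))]
      exact finsum_congr fun ξ => by rw [hc ξ, ha, sub_mul]
    rw [h4, ha, hψt, secDivFun_smul hL δF (h i) z ψ hψ (secPull_ne_zero (π.fiberι y) hB.inv (h i) hσ0), h3]
    ring

theorem degree_capIt (t : ℕ → (z : π.fiber y) → Cyc.secFibre ((Scheme.Modules.pullback (π.fiberι y)).obj O1) z)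
    (ht : ∀ m z, t m z ≠ 0) :
    ∑ᶠ z : π.fiber y, capIt (fun z => δP (π.fiberι y z)) _ t (ind (h (Fin.last n))) n z *
      (π.residueDegree (π.fiberι y z) : ℤ) = 1 := by
  haveI := isNoetherian_fiber (π := π) y
  have hdF := isDimFun_fiber π y hd
  set δF := fun z => δP (π.fiberι y z) with hδF
  set a := π.fiberToSpecResidueField y with hadef
  obtain ⟨⟨γ, hγ⟩, hR⟩ := capIt_sub_pt hB he hy hh hd hδ t ht n le_rfl
  simp only [Nat.sub_self, Nat.cast_zero, add_zero] at hR
  have hrd : ∀ z, π.residueDegree (π.fiberι y z) = a.residueDegree z := fun z => by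
    have h1 := residueDegree_comp (π.fiberι y) π z
    rw [residueDegree_congr (π.fiber_fac y) z, residueDegree_comp,
      residueDegree_of_bijective (π.fiberι y) z (residueFieldMap_bijective (π.fiberι y) z),
      residueDegree_of_bijective (X.fromSpecResidueField y) _ (residueFieldMap_bijective (X.fromSpecResidueField y) _)] at h1
    rw [one_mul, mul_one] at h1
    exact h1.symm
  have h0 : π.residueDegree (π.fiberι y (h 0)) = 1 := by
    obtain ⟨k, hk, hkr, -, hka, -, -⟩ := exists_cell hB he hy (0 : Fin (n + 1)) 0 le_rfl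
    obtain ⟨w, hw⟩ := hkr.symm.le (hh.mem 0)
    haveI : IsIso (polyBase (X.residueField y) ((0 : Fin (n + 1)) : ℕ)) := by
      haveI : IsIso (CommRingCat.ofHom
          (algebraMap (X.residueField y) (MvPolynomial (Fin ((0 : Fin (n + 1)) : ℕ)) (X.residueField y)))) :=
        (ConcreteCategory.isIso_iff_bijective _).2
          ⟨MvPolynomial.C_injective _ _, MvPolynomial.C_surjective (Fin 0)⟩
      exact inferInstanceAs (IsIso (Spec.map _))
    have h1 := residueDegree_comp k a w
    rw [residueDegree_congr hka w, residueDegree_of_bijective _ w (residueFieldMap_bijective (polyBase _ _) w),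
      residueDegree_of_bijective k w (residueFieldMap_bijective k w), mul_one, hw] at h1
    rw [hrd]
    exact h1.symm
  obtain ⟨c, hc⟩ := hR.exists_cycle hdF
  let pt : ↥(Spec (X.residueField y)) := IsLocalRing.closedPoint _
  obtain ⟨ι, ξ, f, h1, -, -, h4⟩ := ratEquivZero_map a (δY := fun _ => δ y) hdF
    (fun p q _ hne => absurd (Subsingleton.elim (α := PrimeSpectrum (X.residueField y)) p q) hne)
    (deltaCompat_fiber hδ y) (hR.ratEquivZero hc)
  have hz : AlgebraicCycle.map a δF (fun _ => δ y) c pt = 0 := by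
    rw [h4]
    exact finsum_eq_zero_of_forall_eq_zero fun i => absurd (h1 i) (by simp)
  have hc0 : ∀ z, c z ≠ 0 → δF z = δ y := fun z hz => by
    by_contra hne
    exact hz (by rw [hc]; exact hR.eq_zero_of_dim hne)
  let T : Finset (π.fiber y) := (Cyc26Lim.finite_support γ).toFinset ∪ {h 0} ∪ (Cyc26Lim.finite_support c).toFinset
  rw [map_apply_eq_sum a δF (fun _ => δ y) c pt T
    (fun z _ => Subsingleton.elim (α := PrimeSpectrum (X.residueField y)) _ _)
    (fun z _ hz _ => Finset.mem_union_right _ ((Cyc26Lim.finite_support c).mem_toFinset.2 hz))] at hz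
  rw [finsum_eq_sum_of_support_subset _ (s := T) fun z hz => Finset.mem_union_left _ (Finset.mem_union_left _
    ((Cyc26Lim.finite_support γ).mem_toFinset.2 (by rw [hγ]; exact left_ne_zero_of_mul hz)))]
  have h5 : ∀ z ∈ T, c z * (AlgebraicCycle.mapCoeff a δF (fun _ => δ y) z : ℤ) =
      capIt δF _ t (ind (h (Fin.last n))) n z * (π.residueDegree (π.fiberι y z) : ℤ) -
        ind (h 0) z * (π.residueDegree (π.fiberι y z) : ℤ) := fun z _ => by
    rw [← sub_mul]
    have h6 : c z = capIt δF _ t (ind (h (Fin.last n))) n z - ind (h 0) z := by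
      rw [hc]
      congr 2
    by_cases hcz : c z = 0
    · rw [← h6, hcz, zero_mul, zero_mul]
    · rw [AlgebraicCycle.mapCoeff, if_pos (hc0 z hcz), h6, hrd]
  rw [Finset.sum_congr rfl h5, Finset.sum_sub_distrib, sub_eq_zero] at hz
  rw [hz, Finset.sum_eq_single_of_mem (h 0) (Finset.mem_union_left _ (Finset.mem_union_right _ (Finset.mem_singleton_self _)))
    fun z _ hne => by simp [ind, hne]]
  simp [ind, h0]

omit hh in
/-- Every cycle on a fibre is a multiple of an iterated cap product with the fundamental class. -/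
theorem exists_mul_capIt [IsIntegral (π.fiber y)]
    (t : ℕ → (z : π.fiber y) → Cyc.secFibre ((Scheme.Modules.pullback (π.fiberι y)).obj O1) z)
    (ht : ∀ m z, t m z ≠ 0) {m : ℕ} (hm : m ≤ n) (α : AlgebraicCycle (π.fiber y) ℤ)
    (hα : α ∈ Cyc.Zk (π.fiber y) (fun z => δP (π.fiberι y z)) (δ y + (n - m : ℕ))) :
    ∃ c : ℤ, RatFun (fun z => δP (π.fiberι y z)) (δ y + (n - m : ℕ)) Set.univ fun z =>
      α z - c * capIt (fun z => δP (π.fiberι y z)) _ t (ind (genericPoint (π.fiber y))) m z := by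
  obtain ⟨h, hh⟩ := exists_fibPts hB he hy
  obtain ⟨c, hc⟩ := exists_mul_pt hB he hy hh hd hδ ⟨n - m, by omega⟩ α hα
  obtain ⟨-, hR⟩ := capIt_sub_pt hB he hy hh hd hδ t ht m hm
  refine ⟨c, (hc.sub (hR.smul c)).congr fun z => ?_⟩
  rw [← hh.eq_genericPoint]
  ring

omit hh hd hδ [IsProper π] in
theorem isIntegral_fiber : IsIntegral (π.fiber y) := by
  obtain ⟨h, hh⟩ := exists_fibPts hB he hy
  exact hh.isIntegral hB he hy

omit hh hd in
theorem delta_generic [IsIntegral (π.fiber y)] : δP (π.fiberι y (genericPoint (π.fiber y))) = δ y + n := by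
  obtain ⟨h, hh⟩ := exists_fibPts hB he hy
  rw [← hh.eq_genericPoint, delta_pts hh hδ, Fin.val_last]

omit hh in
theorem degree_capIt_generic [IsIntegral (π.fiber y)]
    (t : ℕ → (z : π.fiber y) → Cyc.secFibre ((Scheme.Modules.pullback (π.fiberι y)).obj O1) z)
    (ht : ∀ m z, t m z ≠ 0) :
    ∑ᶠ z : π.fiber y, capIt (fun z => δP (π.fiberι y z)) _ t (ind (genericPoint (π.fiber y))) n z *
      (π.residueDegree (π.fiberι y z) : ℤ) = 1 := by
  obtain ⟨h, hh⟩ := exists_fibPts hB he hy
  rw [← hh.eq_genericPoint]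
  exact degree_capIt hB he hy hh hd hδ t ht

end Groth.Agent.Cyc26PB
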