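import Groth.Agent.Lib.Cyc26.ZigzagOrd
import Groth.Agent.Lib.Cyc26.C1Tensor
import Groth.Agent.Lib.Cyc26.C1Inv
import Groth.Agent.Lib.Cyc26.Frac
import Groth.Agent.Lib.Cyc26.PullDiv
import Groth.Agent.Lib.Cyc26.Closure
import Groth.Agent.Lib.Cyc26.StalkLoc
import Groth.Agent.Lib.NumPoly18.Euler

/-! # Local index of a zigzag between `O_Z` and `O_Z ⊗ A` -/

set_option autoImplicit false
set_option linter.style.haveILetI false
universe u

set_option backward.isDefEq.respectTransparency.types false

open CategoryTheory CategoryTheory.Limits AlgebraicGeometry TopologicalSpace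

namespace Groth.Agent.Cyc26

variable {X : Scheme.{u}}

/-- `G` is cyclic, generated by `g`, with annihilator the prime of `ξ` on the closure of `ξ`. -/
structure IsPtGen (ξ : X) (G : X.Modules) (g : ∀ x : X, ξ ⤳ x → G.presheaf.stalk x) : Prop where
  surj : ∀ x (h : ξ ⤳ x), ∀ m : G.presheaf.stalk x, ∃ r : X.presheaf.stalk x, r • g x h = m
  ann : ∀ x (h : ξ ⤳ x), ∀ r : X.presheaf.stalk x, r • g x h = 0 ↔ r ∈ RingHom.ker (Cyc.specMap x ξ h)
  spec : ∀ x (h : ξ ⤳ x), G.presheaf.stalkSpecializes h (g x h) = g ξ specializes_rfl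

theorem length_eq_one_of_gen {ξ : X} {G : X.Modules} {g : ∀ x : X, ξ ⤳ x → G.presheaf.stalk x} (hg : IsPtGen ξ G g) :
    Module.length (X.presheaf.stalk ξ) (G.presheaf.stalk ξ) = 1 := by
  let q := LinearMap.toSpanSingleton (X.presheaf.stalk ξ) _ (g ξ specializes_rfl)
  have hq : Function.Surjective q := fun m => hg.surj ξ specializes_rfl m
  have hk : LinearMap.ker q = IsLocalRing.maximalIdeal (X.presheaf.stalk ξ) := by
    ext r
    rw [← residue_eq_zero]
    refine (hg.ann ξ specializes_rfl r).trans ?_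
    show X.residue ξ (X.presheaf.stalkSpecializes specializes_rfl r) = 0 ↔ _
    rw [TopCat.Presheaf.stalkSpecializes_refl]
    rfl
  rw [← ((Submodule.quotEquivOfEq _ _ hk.symm).trans (q.quotKerEquivOfSurjective hq)).length_eq]
  haveI : IsSimpleModule (X.presheaf.stalk ξ) (X.presheaf.stalk ξ ⧸ IsLocalRing.maximalIdeal (X.presheaf.stalk ξ)) :=
    isSimpleModule_iff_isCoatom.2 Ideal.IsMaximal.out
  exact Module.length_eq_one _ _

theorem isPtGen_push {Z : Scheme.{u}} [IsIntegral Z] (i : Z ⟶ X) [IsClosedImmersion i] :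
    IsPtGen (i (genericPoint Z)) ((Scheme.Modules.pushforward i).obj (Coh.structureModule Z))
      (fun x _ => ((Scheme.Modules.pushforward i).obj (Coh.structureModule Z)).presheaf.germ ⊤ x trivial
        (show Γ(Coh.structureModule Z, i ⁻¹ᵁ ⊤) from M1.one ⊤)) := by
  set G := (Scheme.Modules.pushforward i).obj (Coh.structureModule Z)
  have hval : ∀ (z : Z) (r : X.presheaf.stalk (i z)),
      CohFound.pushStalk i (Coh.structureModule Z) z (r • G.presheaf.germ ⊤ (i z) trivial
        (show Γ(Coh.structureModule Z, i ⁻¹ᵁ ⊤) from M1.one ⊤)) =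
      LinearMap.toSpanSingleton (Z.presheaf.stalk z) ((Coh.structureModule Z).presheaf.stalk z)
        ((Coh.structureModule Z).presheaf.germ ⊤ z trivial (M1.one ⊤)) (i.stalkMap z r) := fun z r => by
    rw [CohFound.pushStalk_smul, CohFound.pushStalk_germ]
    rfl
  have hrange : ∀ x, i (genericPoint Z) ⤳ x → ∃ z, i z = x := fun x h =>
    h.mem_closed i.isClosedEmbedding.isClosed_range ⟨_, rfl⟩
  refine ⟨fun x h m => ?_, fun x h r => ?_,
    fun x h => TopCat.Presheaf.germ_stalkSpecializes_apply _ (U := ⊤) trivial h _⟩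
  · obtain ⟨z, rfl⟩ := hrange x h
    obtain ⟨b, hb⟩ := (structureModule_stalk_bijective z).2 (CohFound.pushStalk i (Coh.structureModule Z) z m)
    obtain ⟨r, rfl⟩ := i.stalkMap_surjective z b
    exact ⟨r, (CohFound.bijective_pushStalk i _ z).1 ((hval z r).trans hb)⟩
  · obtain ⟨z, rfl⟩ := hrange x h
    let gz := genericPoint_specializes z
    let e' : X.residueField (i (genericPoint Z)) ≃+* Z.residueField (genericPoint Z) :=
      RingEquiv.ofBijective (i.residueFieldMap (genericPoint Z)).hom (residueFieldMap_bijective i _)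
    have hsq : Cyc.specMap z (genericPoint Z) gz (i.stalkMap z r) =
        e' (Cyc.specMap (i z) (i (genericPoint Z)) h r) := by
      show Z.residue _ (Z.presheaf.stalkSpecializes gz (i.stalkMap z r)) =
        i.residueFieldMap _ (X.residue _ (X.presheaf.stalkSpecializes _ r))
      rw [← Scheme.Hom.stalkSpecializes_stalkMap_apply i _ z gz r]
      exact (ConcreteCategory.congr_hom (Scheme.residue_residueFieldMap i _) _).symm
    rw [RingHom.mem_ker, ← map_eq_zero_iff e' e'.injective, ← hsq, ← RingHom.mem_ker, ker_specMap_generic gz,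
      Ideal.mem_bot]
    constructor
    · intro h0
      refine (structureModule_stalk_bijective z).1 ?_
      exact ((hval z r).symm.trans ((congrArg (CohFound.pushStalk i (Coh.structureModule Z) z) h0).trans
        (map_zero (CohFound.pushStalk i (Coh.structureModule Z) z).hom))).trans (zero_smul (Z.presheaf.stalk z) _).symm
    · intro h0
      refine (CohFound.bijective_pushStalk i _ z).1 ?_
      rw [hval, h0, map_zero]
      exact (map_zero (CohFound.pushStalk i (Coh.structureModule Z) z).hom).symm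

/-- Tensoring the stalk of `G` with a generator of an invertible stalk. -/
theorem bijective_tstalk_gen {G A : X.Modules} {x : X} {a : A.presheaf.stalk x} (ha : Amp.Gen a) :
    Function.Bijective fun m : G.presheaf.stalk x => tstalk G A x m a := by
  let e : X.presheaf.stalk x ≃ₗ[X.presheaf.stalk x] (A.presheaf.stalk x : Type u) :=
    LinearEquiv.ofBijective (LinearMap.toSpanSingleton (X.presheaf.stalk x) _ a) ha
  let E := (TensorProduct.rid (X.presheaf.stalk x) (G.presheaf.stalk x)).symm.trans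
    ((TensorProduct.congr (LinearEquiv.refl (X.presheaf.stalk x) (G.presheaf.stalk x)) e).trans
      (Groth.Agent.M2.stalkEquiv G A x).symm)
  have hE : ∀ m, E m = tstalk G A x m a := fun m => by
    simp [E, e, tstalk]
  exact funext hE ▸ E.bijective

theorem tstalk_smul_left {G A : X.Modules} (x : X) (r : X.presheaf.stalk x) (m : G.presheaf.stalk x)
    (a : A.presheaf.stalk x) : tstalk G A x (r • m) a = r • tstalk G A x m a := by
  have := tstalk_smul (L := G) (N := A) x r 1 m a
  rwa [one_smul, mul_one] at this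

theorem tstalk_smul_right {G A : X.Modules} (x : X) (r : X.presheaf.stalk x) (m : G.presheaf.stalk x)
    (a : A.presheaf.stalk x) : tstalk G A x m (r • a) = r • tstalk G A x m a := by
  have := tstalk_smul (L := G) (N := A) x 1 r m a
  rwa [one_smul, one_mul] at this

theorem stalkLin_natural {M N : X.Modules} (φ : M ⟶ N) {ξ x : X} (h : ξ ⤳ x) (m : M.presheaf.stalk x) :
    N.presheaf.stalkSpecializes h (CurveCoh17.stalkLin φ x m) =
      CurveCoh17.stalkLin φ ξ (M.presheaf.stalkSpecializes h m) :=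
  (ConcreteCategory.congr_hom (TopCat.Presheaf.stalkSpecializes_stalkFunctor_map φ.mapPresheaf h) m).symm

theorem length_stalk_kernel {M N : X.Modules} (φ : M ⟶ N) (x : X) :
    Module.length (X.presheaf.stalk x) ((kernel φ).presheaf.stalk x) =
      Module.length (X.presheaf.stalk x) (LinearMap.ker (CurveCoh17.stalkLin φ x)) := by
  let ι := CurveCoh17.stalkLin (kernel.ι φ) x
  have hinj : Function.Injective ι := (M1.mono_iff_stalk _).1 inferInstance x
  have hr : LinearMap.range ι = LinearMap.ker (CurveCoh17.stalkLin φ x) := by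
    ext m
    constructor
    · rintro ⟨a, rfl⟩
      show CurveCoh17.stalkLin φ x (ι a) = 0
      refine (CurveCoh17.stalkLin_comp _ _ _ _).symm.trans ?_
      rw [kernel.condition]
      show (M1.stalkAb x).map (0 : kernel φ ⟶ N) a = 0
      rw [Functor.map_zero]
      rfl
    · intro hm
      have hT : (ShortComplex.mk (kernel.ι φ) φ (kernel.condition φ)).Exact :=
        ShortComplex.exact_of_f_is_kernel _ (kernelIsKernel φ)
      exact (M1.exact_iff_stalk_eq_zero _).1 hT x m hm
  rw [(LinearEquiv.ofInjective ι hinj).length_eq, hr]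

theorem length_stalk_cokernel {M N : X.Modules} (φ : M ⟶ N) (x : X) :
    Module.length (X.presheaf.stalk x) ((cokernel φ).presheaf.stalk x) =
      Module.length (X.presheaf.stalk x)
        (N.presheaf.stalk x ⧸ LinearMap.range (CurveCoh17.stalkLin φ x)) := by
  let π := CurveCoh17.stalkLin (cokernel.π φ) x
  have hs : Function.Surjective π := (M1.epi_iff_stalk _).1 inferInstance x
  have hr : LinearMap.ker π = LinearMap.range (CurveCoh17.stalkLin φ x) := by
    ext m
    constructor
    · intro hm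
      have hT : (ShortComplex.mk φ (cokernel.π φ) (cokernel.condition φ)).Exact :=
        ShortComplex.exact_of_g_is_cokernel _ (cokernelIsCokernel φ)
      exact (M1.exact_iff_stalk_eq_zero _).1 hT x m hm
    · rintro ⟨a, rfl⟩
      show π (CurveCoh17.stalkLin φ x a) = 0
      refine (CurveCoh17.stalkLin_comp _ _ _ _).symm.trans ?_
      rw [cokernel.condition]
      show (M1.stalkAb x).map (0 : M ⟶ cokernel φ) a = 0
      rw [Functor.map_zero]
      rfl
  exact ((π.quotKerEquivOfSurjective hs).symm.trans (Submodule.quotEquivOfEq _ _ hr)).length_eq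

variable [IsLocallyNoetherian X] {δ : X → ℤ}

/-- The zigzag `G ← W → G ⊗ A` measures the divisor of a rational section of `A`. -/
theorem exists_section_zigzag (hd : Cyc.IsDimFun X δ) {ξ : X} {W G A : X.Modules}
    (hA : PicF.IsInvertible A) (hC : ∀ φ : W ⟶ G, Coh.IsQCoh (cokernel φ)) {g : ∀ x : X, ξ ⤳ x → G.presheaf.stalk x}
    (hg : IsPtGen ξ G g) (φ : W ⟶ G) (ψ : W ⟶ CohB1.tensorMod G A)
    (hφ : Function.Bijective (CurveCoh17.stalkLin φ ξ)) (hψ : Function.Bijective (CurveCoh17.stalkLin ψ ξ)) :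
    ∃ v : Cyc.secFibre A ξ, v ≠ 0 ∧ ∀ (x : X) (h : ξ ⤳ x), δ x + 1 = δ ξ →
      Module.length (X.presheaf.stalk x) ((kernel φ).presheaf.stalk x) =
        Module.length (X.presheaf.stalk x) ((kernel ψ).presheaf.stalk x) ∧
      ((Module.length (X.presheaf.stalk x) ((cokernel ψ).presheaf.stalk x)).toNat : ℤ) -
        ((Module.length (X.presheaf.stalk x) ((cokernel φ).presheaf.stalk x)).toNat : ℤ) =
        Cyc.secDivFun δ A ξ v x := by
  obtain ⟨y₀, hy₀⟩ := hφ.2 (g ξ specializes_rfl)
  obtain ⟨a₀, ha₀⟩ := exists_gen hA ξ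
  obtain ⟨n, hn⟩ := (bijective_tstalk_gen (G := G) ha₀).2 (CurveCoh17.stalkLin ψ ξ y₀)
  obtain ⟨t₀, rfl⟩ := hg.surj ξ specializes_rfl n
  have hmax : ∀ r : X.presheaf.stalk ξ, r • g ξ specializes_rfl = 0 ↔ X.residue ξ r = 0 := fun r => by
    rw [hg.ann, RingHom.mem_ker]
    show X.residue ξ (X.presheaf.stalkSpecializes specializes_rfl r) = 0 ↔ _
    rw [TopCat.Presheaf.stalkSpecializes_refl]
    rfl
  have hy₀ne : y₀ ≠ 0 := fun h0 => by
    rw [h0, map_zero, ← one_smul (X.presheaf.stalk ξ) (g ξ specializes_rfl)] at hy₀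
    have h1 := (hmax 1).1 hy₀.symm
    rw [map_one] at h1
    exact one_ne_zero h1
  have ht₀ : X.residue ξ t₀ ≠ 0 := fun h0 => by
    refine hy₀ne (hψ.1 ?_)
    rw [map_zero, ← hn, (hmax t₀).2 h0]
    show tstalk G A ξ 0 a₀ = 0
    have := tstalk_smul_left (G := G) ξ 0 (g ξ specializes_rfl) a₀
    rwa [zero_smul, zero_smul] at this
  refine ⟨t₀ • fmk A ξ a₀, smul_ne_zero_of_residue ha₀ ht₀, fun x h hδ => ?_⟩
  -- a generator of `A` near `x`
  obtain ⟨ax, hax⟩ := exists_gen hA x
  have haxξ := gen_stalkSpecializes hA h hax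
  obtain ⟨c, hc⟩ := haxξ.2 a₀
  have hc' : c • A.presheaf.stalkSpecializes h ax = a₀ := hc
  let t := t₀ * c
  have hv : t₀ • fmk A ξ a₀ = t • fmk A ξ (A.presheaf.stalkSpecializes h ax) := by
    rw [mul_smul, ← hc']
    rfl
  have ht : X.residue ξ t ≠ 0 := fun h0 => smul_ne_zero_of_residue ha₀ ht₀ (by
    rw [hv]; exact smul_eq_zero_of_residue h0 _)
  have hψy : CurveCoh17.stalkLin ψ ξ y₀ =
      t • tstalk G A ξ (g ξ specializes_rfl) (A.presheaf.stalkSpecializes h ax) := by
    rw [mul_smul, ← tstalk_smul_right, hc', ← tstalk_smul_left]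
    exact hn.symm
  -- identification with the local ring of the closure
  let S := X.presheaf.stalk x
  let R := Cyc.LocQuot x ξ h
  let qG : R →ₗ[S] G.presheaf.stalk x := Submodule.liftQ _ (LinearMap.toSpanSingleton S _ (g x h))
    fun r hr => (hg.ann x h r).2 hr
  have hqG : Function.Bijective qG := by
    refine ⟨?_, fun m => ?_⟩
    · rw [← LinearMap.ker_eq_bot, Submodule.eq_bot_iff]
      intro z hz
      obtain ⟨r, rfl⟩ := Ideal.Quotient.mk_surjective z
      exact Ideal.Quotient.eq_zero_iff_mem.2 ((hg.ann x h r).1 hz)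
    · obtain ⟨r, rfl⟩ := hg.surj x h m
      exact ⟨Ideal.Quotient.mk _ r, rfl⟩
  let eG : R ≃ₗ[S] G.presheaf.stalk x := LinearEquiv.ofBijective qG hqG
  let lT : G.presheaf.stalk x →ₗ[S] (CohB1.tensorMod G A).presheaf.stalk x :=
    { toFun := fun m => tstalk G A x m ax
      map_add' := fun m m' => by simp only [tstalk, TensorProduct.add_tmul, map_add]
      map_smul' := fun r m => tstalk_smul_left x r m ax }
  let eT : R ≃ₗ[S] (CohB1.tensorMod G A).presheaf.stalk x :=
    eG.trans (LinearEquiv.ofBijective lT (bijective_tstalk_gen hax))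
  let φ' : W.presheaf.stalk x →ₗ[S] R := eG.symm.toLinearMap.comp (CurveCoh17.stalkLin φ x)
  let ψ' : W.presheaf.stalk x →ₗ[S] R := eT.symm.toLinearMap.comp (CurveCoh17.stalkLin ψ x)
  haveI := isFractionRing_locQuot h
  let σ := algebraMap R (X.residueField ξ)
  have hσ : Function.Injective σ := IsFractionRing.injective R _
  have hσmk : ∀ r : S, σ (Ideal.Quotient.mk _ r) = Cyc.specMap x ξ h r := fun r => rfl
  -- the relation at the generic point
  have key : ∀ w, σ (ψ' w) = σ (φ' w) * X.residue ξ t := by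
    intro w
    obtain ⟨r, hr⟩ := Ideal.Quotient.mk_surjective (φ' w)
    obtain ⟨s, hs⟩ := Ideal.Quotient.mk_surjective (ψ' w)
    have e1 : CurveCoh17.stalkLin φ x w = r • g x h := by
      show _ = qG (Ideal.Quotient.mk _ r)
      rw [hr]
      exact (eG.apply_symm_apply _).symm
    have e2 : CurveCoh17.stalkLin ψ x w = tstalk G A x (s • g x h) ax := by
      show _ = lT (qG (Ideal.Quotient.mk _ s))
      rw [hs]
      exact (eT.apply_symm_apply _).symm
    have e3 : W.presheaf.stalkSpecializes h w = X.presheaf.stalkSpecializes h r • y₀ := hφ.1 (by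
      rw [map_smul, hy₀, ← stalkLin_natural, e1, stalkSpecializes_smul, hg.spec])
    have e4 := stalkLin_natural ψ h w
    rw [e2, e3, map_smul, hψy, tstalk_stalkSpecializes, stalkSpecializes_smul, hg.spec, tstalk_smul_left,
      ← mul_smul] at e4
    have e5 : (X.presheaf.stalkSpecializes h s - X.presheaf.stalkSpecializes h r * t) • g ξ specializes_rfl = 0 := by
      refine (bijective_tstalk_gen haxξ).1 ?_
      show tstalk G A ξ _ _ = tstalk G A ξ 0 _
      have h0 := tstalk_smul_left (G := G) ξ 0 (g ξ specializes_rfl) (A.presheaf.stalkSpecializes h ax)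
      rw [zero_smul, zero_smul] at h0
      rw [h0, tstalk_smul_left, sub_smul, e4, sub_self]
    rw [hmax, map_sub, map_mul, sub_eq_zero] at e5
    rw [← hr, ← hs, hσmk, hσmk]
    exact e5
  obtain ⟨w₀, hw₀⟩ : ∃ w₀, φ' w₀ ≠ 0 := by
    by_contra hall
    push Not at hall
    have hz : ∀ w, CurveCoh17.stalkLin φ x w = 0 := fun w => by
      have := congrArg eG (hall w)
      rwa [map_zero, show eG (φ' w) = CurveCoh17.stalkLin φ x w from eG.apply_symm_apply _] at this
    have hmem : (⟨RingHom.ker (Cyc.specMap x ξ h), RingHom.ker_isPrime _⟩ : PrimeSpectrum S) ∈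
        Module.support S ((cokernel φ).presheaf.stalk x) := by
      rw [Module.mem_support_iff']
      refine ⟨CurveCoh17.stalkLin (cokernel.π φ) x (g x h), fun r hr h0 => hr ?_⟩
      rw [← map_smul] at h0
      have hT : (ShortComplex.mk φ (cokernel.π φ) (cokernel.condition φ)).Exact :=
        ShortComplex.exact_of_g_is_cokernel _ (cokernelIsCokernel φ)
      obtain ⟨w, hw⟩ := (M1.exact_iff_stalk_eq_zero _).1 hT x _ h0
      exact (hg.ann x h r).1 (hw.symm.trans (hz w))
    have := (mem_support_stalk_iff (hC φ) h).1 hmem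
    exact not_subsingleton ((cokernel φ).presheaf.stalk ξ)
      ⟨fun a b => (CurveCoh17.eq_zero_stalk_cokernel φ ξ hφ.2 a).trans
        (CurveCoh17.eq_zero_stalk_cokernel φ ξ hφ.2 b).symm⟩
  set b := φ' w₀ with hb
  set a := ψ' w₀ with ha
  have hbσ : σ b ≠ 0 := fun h0 => hw₀ (hσ (h0.trans (map_zero σ).symm))
  have haσ : σ a ≠ 0 := by rw [ha, key]; exact mul_ne_zero hbσ ht
  have ha0 : a ≠ 0 := fun h0 => haσ (by rw [h0, map_zero])
  have hab : ∀ w, a * φ' w = b * ψ' w := fun w => hσ (by
    rw [map_mul, map_mul, ha, key w₀, key w, ← hb]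
    ring)
  have hord : ∀ z : R, z ≠ 0 → Cyc.ordAt x ξ h (σ z) = ((Ring.ord R z).toNat : ℤ) ∧ Ring.ord R z < ⊤ := fun z hz => by
    obtain ⟨r, rfl⟩ := Ideal.Quotient.mk_surjective z
    exact ordAt_mk hd h hδ fun hr => hz (Ideal.Quotient.eq_zero_iff_mem.2 hr)
  haveI : IsDomain R := Ideal.Quotient.isDomain _
  obtain ⟨hker, hlen⟩ := length_coker_sub (A := S) Ideal.Quotient.mk_surjective φ' ψ' ha0 hw₀ w₀ rfl rfl hab
    (hord a ha0).2 (hord b hw₀).2
  constructor
  · rw [length_stalk_kernel, length_stalk_kernel,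
      show LinearMap.ker (CurveCoh17.stalkLin φ x) = LinearMap.ker φ' from (LinearEquiv.ker_comp _ _).symm, hker,
      show LinearMap.ker ψ' = LinearMap.ker (CurveCoh17.stalkLin ψ x) from LinearEquiv.ker_comp _ _]
  have hq : ∀ {N : Type u} [AddCommGroup N] [Module S N] (e : R ≃ₗ[S] N) (f : W.presheaf.stalk x →ₗ[S] N),
      Module.length S (N ⧸ LinearMap.range f) = Module.length S (R ⧸ LinearMap.range (e.symm.toLinearMap.comp f)) :=
    fun e f => (Submodule.Quotient.equiv _ _ e.symm (LinearMap.range_comp f e.symm.toLinearMap).symm).length_eq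
  rw [length_stalk_cokernel, length_stalk_cokernel, hq eG, hq eT, hlen, hv]
  have hsum : Cyc.ordAt x ξ h (σ a) = Cyc.ordAt x ξ h (σ b) + Cyc.ordAt x ξ h (X.residue ξ t) := by
    rw [ha, key, ← hb]
    exact ordFrac_mul_all hbσ ht
  rw [(hord a ha0).1, (hord b hw₀).1] at hsum
  simp only [Cyc.secDivFun]
  rw [dif_pos ⟨h, hδ⟩, secOrdAt_gen hA h hax t ht]
  linarith

end Groth.Agent.Cyc26
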