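import Groth.Agent.Lib.Cyc26.PBA
import Groth.Agent.Lib.Cyc26.ZigzagStalk
import Groth.Agent.Lib.VeryAmple11.BundleTwist

/-! # Caps supported on the vanishing loci of a filtration with invertible quotients -/

set_option autoImplicit false
set_option linter.style.haveILetI false

universe u

open CategoryTheory Limits AlgebraicGeometry TopologicalSpace

set_option backward.isDefEq.respectTransparency.types false

noncomputable section

namespace Groth.Agent.Cyc26A

open Groth.Agent.Cyc26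
open scoped Classical

section van

variable {X P : Scheme.{u}} (π : P ⟶ X) {M : X.Modules} {O1 : P.Modules}
  (ψ : (Scheme.Modules.pullback π).obj M ⟶ O1)

/-- The value of a germ downstairs. -/
def val (x : P) (m : M.presheaf.stalk (π x)) : O1.presheaf.stalk x := CurveCoh17.stalkLin ψ x (pst π M x m)

/-- The points at which all values vanish. -/
def van : Set P := {x | ∀ m : M.presheaf.stalk (π x), ¬ Amp.Gen (val π ψ x m)}

theorem val_smul (x : P) (r : X.presheaf.stalk (π x)) (m : M.presheaf.stalk (π x)) :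
    val π ψ x (r • m) = π.stalkMap x r • val π ψ x m := by
  rw [val, pst_smul, map_smul]
  rfl

theorem val_add (x : P) (m m' : M.presheaf.stalk (π x)) : val π ψ x (m + m') = val π ψ x m + val π ψ x m' := by
  rw [val, pst_add, map_add]
  rfl

theorem val_germ (x : P) {U : X.Opens} (hx : π x ∈ U) (s : Γ(M, U)) :
    val π ψ x (M.presheaf.germ U (π x) hx s) =
      O1.presheaf.germ (π ⁻¹ᵁ U) x hx (ψ.app (π ⁻¹ᵁ U) (M2.pullSec π M s)) := by
  rw [val, pst_germ, CurveCoh17.stalkLin_apply]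
  exact M1.germ_naturality ψ _ x hx _

theorem val_specializes {ξ x : P} (h : ξ ⤳ x) (m : M.presheaf.stalk (π x)) :
    val π ψ ξ (M.presheaf.stalkSpecializes (h.map π.continuous) m) = O1.presheaf.stalkSpecializes h (val π ψ x m) := by
  rw [val, val, stalkLin_natural, pst_stalkSpecializes]

theorem val_map {M' : X.Modules} (a : M' ⟶ M) (x : P) (m : M'.presheaf.stalk (π x)) :
    val π ψ x (CurveCoh17.stalkLin a (π x) m) = val π ((Scheme.Modules.pullback π).map a ≫ ψ) x m := by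
  obtain ⟨U, hU, s, rfl⟩ := M'.presheaf.exists_germ_eq m
  rw [val_germ, CurveCoh17.stalkLin_apply, M1.germ_naturality a U _ hU s, val_germ]
  rw [← VA11.map_pullSec π a s]
  rfl

variable (hinv : PicF.IsInvertible O1)
include hinv

theorem gen_val_of_specializes {ξ x : P} (h : ξ ⤳ x) {m : M.presheaf.stalk (π x)} (hm : Amp.Gen (val π ψ x m)) :
    Amp.Gen (val π ψ ξ (M.presheaf.stalkSpecializes (h.map π.continuous) m)) := by
  rw [val_specializes]
  exact gen_stalkSpecializes hinv h hm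

theorem isClosed_van : IsClosed (van π ψ) := by
  refine isOpen_compl_iff.1 (isOpen_iff_forall_mem_open.2 fun x hx => ?_)
  simp only [van, Set.mem_compl_iff, Set.mem_ofPred_eq, not_forall, not_not] at hx
  obtain ⟨m, hm⟩ := hx
  obtain ⟨U, hU, s, rfl⟩ := M.presheaf.exists_germ_eq m
  rw [val_germ] at hm
  refine ⟨VA11.gl (ψ.app (π ⁻¹ᵁ U) (M2.pullSec π M s)), fun w hw => ?_, (VA11.gl _).isOpen,
    (VA11.mem_gl_iff hinv (W := π ⁻¹ᵁ U) (show x ∈ π ⁻¹ᵁ U from hU)).2 hm⟩
  have hwU : π w ∈ U := VA11.gl_le (ψ.app (π ⁻¹ᵁ U) (M2.pullSec π M s)) hw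
  intro hv
  refine hv (M.presheaf.germ U (π w) hwU s) ?_
  rw [val_germ]
  exact (VA11.mem_gl_iff hinv (W := π ⁻¹ᵁ U) (show w ∈ π ⁻¹ᵁ U from hwU)).1 hw

theorem residue_eq_zero_of_mem_van {x : P} (hx : x ∈ van π ψ) (m : M.presheaf.stalk (π x)) :
    fmk O1 x (val π ψ x m) = 0 := by
  obtain ⟨g, hg⟩ := exists_gen hinv x
  obtain ⟨c, hc⟩ := hg.2 (val π ψ x m)
  simp only at hc
  rw [← hc, show fmk O1 x (c • g) = c • fmk O1 x g from Submodule.Quotient.mk_smul _ _ _]
  refine smul_eq_zero_of_residue ((residue_eq_zero x c).2 ?_) _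
  intro hu
  refine hx m ?_
  rw [← hc]
  exact (hg.ne_zero_smul c).2 hu

end van

section step

variable {X P : Scheme.{u}} (π : P ⟶ X) {O1 : P.Modules} (hinv : PicF.IsInvertible O1)
  {M₀ M₁ L : X.Modules} (a : M₀ ⟶ M₁) (b : M₁ ⟶ L) {hab : a ≫ b = 0}
  (hex : (ShortComplex.mk a b hab).ShortExact) (hL : PicF.IsInvertible L)
  (ψ : (Scheme.Modules.pullback π).obj M₁ ⟶ O1)

include hinv hex hL

/-- Where the smaller piece vanishes, a generating value comes from a generator of the quotient. -/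
theorem gen_quot {x : P} (hx : x ∈ van π ((Scheme.Modules.pullback π).map a ≫ ψ))
    {m : M₁.presheaf.stalk (π x)} (hm : Amp.Gen (val π ψ x m)) : Amp.Gen (CurveCoh17.stalkLin b (π x) m) := by
  obtain ⟨l, hl⟩ := exists_gen hL (π x)
  obtain ⟨c, hc⟩ := hl.2 (CurveCoh17.stalkLin b (π x) m)
  simp only at hc
  rw [← hc]
  refine (hl.ne_zero_smul c).2 ?_
  by_contra hu
  obtain ⟨-, hexact, hsurj⟩ := stalkLin_exact hex (π x)
  obtain ⟨m', hm'⟩ := hsurj l
  obtain ⟨m₀, hm₀⟩ := (hexact (m - c • m')).1 (by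
    show CurveCoh17.stalkLin b (π x) (m - c • m') = 0
    rw [_root_.map_sub, map_smul, show CurveCoh17.stalkLin b (π x) m' = l from hm', hc, sub_self])
  have h1 : val π ψ x m = π.stalkMap x c • val π ψ x m' + val π ((Scheme.Modules.pullback π).map a ≫ ψ) x m₀ := by
    rw [← val_smul, ← val_map, ← val_add, show CurveCoh17.stalkLin a (π x) m₀ = m - c • m' from hm₀,
      add_sub_cancel]
  have h2 := residue_eq_zero_of_mem_van π _ hinv hx m₀
  have h3 : fmk O1 x (val π ψ x m) = 0 := by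
    rw [h1]
    show Submodule.Quotient.mk _ = (0 : Cyc.secFibre O1 x)
    rw [Submodule.Quotient.mk_add, Submodule.Quotient.mk_smul]
    refine (congrArg₂ (· + ·) (smul_eq_zero_of_residue ((residue_eq_zero x _).2 ?_) _) h2).trans (add_zero 0)
    exact fun hs => hu (isUnit_of_map_unit (π.stalkMap x).hom c hs)
  exact smul_ne_zero_of_residue hm (a := (1 : P.presheaf.stalk x)) (by rw [map_one]; exact one_ne_zero)
    (by rw [one_smul]; exact h3)

/-- Two generating values at a point of the smaller locus compare like their images in the quotient. -/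
theorem exists_ratio_quot {x : P} (hx : x ∈ van π ((Scheme.Modules.pullback π).map a ≫ ψ))
    {m m' : M₁.presheaf.stalk (π x)} (hm : Amp.Gen (val π ψ x m)) (hm' : Amp.Gen (val π ψ x m')) :
    ∃ c : X.presheaf.stalk (π x), P.residue x (π.stalkMap x c) ≠ 0 ∧
      CurveCoh17.stalkLin b (π x) m = c • CurveCoh17.stalkLin b (π x) m' ∧
      fmk O1 x (val π ψ x m) = π.stalkMap x c • fmk O1 x (val π ψ x m') := by
  have hg' := gen_quot π hinv a b hex hL ψ hx hm'
  have hg := gen_quot π hinv a b hex hL ψ hx hm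
  obtain ⟨c, hc⟩ := hg'.2 (CurveCoh17.stalkLin b (π x) m)
  simp only at hc
  have hu : IsUnit c := (hg'.ne_zero_smul c).1 (by rw [hc]; exact hg)
  refine ⟨c, fun h => (IsLocalRing.mem_maximalIdeal _).1 ((residue_eq_zero x _).1 h) (hu.map _), hc.symm, ?_⟩
  obtain ⟨-, hexact, -⟩ := stalkLin_exact hex (π x)
  obtain ⟨m₀, hm₀⟩ := (hexact (m - c • m')).1 (by
    show CurveCoh17.stalkLin b (π x) (m - c • m') = 0
    rw [_root_.map_sub, map_smul, hc, sub_self])
  have h1 : val π ψ x m = π.stalkMap x c • val π ψ x m' + val π ((Scheme.Modules.pullback π).map a ≫ ψ) x m₀ := by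
    rw [← val_smul, ← val_map, ← val_add, show CurveCoh17.stalkLin a (π x) m₀ = m - c • m' from hm₀,
      add_sub_cancel]
  rw [h1]
  show Submodule.Quotient.mk _ = _
  rw [Submodule.Quotient.mk_add, Submodule.Quotient.mk_smul]
  exact (congrArg (_ + ·) (residue_eq_zero_of_mem_van π _ hinv hx m₀)).trans (add_zero _)

/-- Rational sections with the same divisor outside the next locus. -/
theorem exists_sections (δ : P → ℤ) (ξ : P) (hξ : ξ ∈ van π ((Scheme.Modules.pullback π).map a ≫ ψ)) :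
    ∃ (t : Cyc.secFibre O1 ξ) (v : Cyc.secFibre ((Scheme.Modules.pullback π).obj L) ξ), t ≠ 0 ∧ v ≠ 0 ∧
      ∀ x, x ∉ van π ψ → Cyc.secDivFun δ O1 ξ t x = Cyc.secDivFun δ ((Scheme.Modules.pullback π).obj L) ξ v x := by
  have hpL := Groth.Agent.Twist.isInvertible_pullback π hL
  have hne : ∀ {Z : Scheme.{u}} {N : Z.Modules} {z : Z} {g : N.presheaf.stalk z}, Amp.Gen g → fmk N z g ≠ 0 :=
    fun {Z N z g} hg h => smul_ne_zero_of_residue hg (a := (1 : Z.presheaf.stalk z))
      (by rw [map_one]; exact one_ne_zero) (by rw [one_smul]; exact h)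
  by_cases hξ' : ξ ∈ van π ψ
  · obtain ⟨g, hg⟩ := exists_gen hinv ξ
    obtain ⟨g', hg'⟩ := exists_gen hpL ξ
    refine ⟨fmk O1 ξ g, fmk _ ξ g', hne hg, hne hg', fun x hx => ?_⟩
    have h0 : ∀ (N : P.Modules) (s : Cyc.secFibre N ξ), Cyc.secDivFun δ N ξ s x = 0 := fun N s => by
      by_contra h
      exact hx ((specializes_of_secDivFun_ne_zero h).1.mem_closed (isClosed_van π ψ hinv) hξ')
    rw [h0, h0]
  simp only [van, Set.mem_ofPred_eq, not_forall, not_not] at hξ'
  obtain ⟨m, hm⟩ := hξ'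
  have hl : Amp.Gen (pst π L ξ (CurveCoh17.stalkLin b (π ξ) m)) := gen_pst π hL (gen_quot π hinv a b hex hL ψ hξ hm)
  refine ⟨fmk O1 ξ (val π ψ ξ m), fmk _ ξ (pst π L ξ (CurveCoh17.stalkLin b (π ξ) m)), hne hm, hne hl,
    fun x hx => ?_⟩
  simp only [Cyc.secDivFun]
  split_ifs with h
  swap
  · rfl
  simp only [van, Set.mem_ofPred_eq, not_forall, not_not] at hx
  obtain ⟨m', hm'⟩ := hx
  have hxv : x ∈ van π ((Scheme.Modules.pullback π).map a ≫ ψ) :=
    h.1.mem_closed (isClosed_van π _ hinv) hξ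
  have hgx : Amp.Gen (pst π L x (CurveCoh17.stalkLin b (π x) m')) :=
    gen_pst π hL (gen_quot π hinv a b hex hL ψ hxv hm')
  obtain ⟨c, hc, hcb, hcv⟩ := exists_ratio_quot π hinv a b hex hL ψ hξ hm
    (gen_val_of_specializes π ψ hinv h.1 hm')
  rw [hcv, hcb, pst_smul, val_specializes π ψ h.1, ← stalkLin_natural b (h.1.map π.continuous) m', pst_stalkSpecializes (L := L) π h.1,
    show fmk ((Scheme.Modules.pullback π).obj L) ξ (π.stalkMap ξ c •
      ((Scheme.Modules.pullback π).obj L).presheaf.stalkSpecializes h.1 (pst π L x (CurveCoh17.stalkLin b (π x) m'))) =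
      π.stalkMap ξ c • fmk _ ξ (((Scheme.Modules.pullback π).obj L).presheaf.stalkSpecializes h.1
        (pst π L x (CurveCoh17.stalkLin b (π x) m'))) from Submodule.Quotient.mk_smul _ _ _,
    secOrdAt_gen hinv h.1 hm' _ hc, secOrdAt_gen hpL h.1 hgx _ hc]

variable [IsLocallyNoetherian P] {δ : P → ℤ} (hd : Cyc.IsDimFun P δ)

/-- One step: `c₁(O(1)) - c₁(L)` moves classes supported on one locus to the next. -/
theorem exists_step (α : AlgebraicCycle P ℤ)
    (hα : ∀ ξ, α ξ ≠ 0 → ξ ∈ van π ((Scheme.Modules.pullback π).map a ≫ ψ)) :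
    ∃ β : AlgebraicCycle P ℤ, (∀ x, β x ≠ 0 → x ∈ van π ψ) ∧
      mk δ β = c1 hd hinv (mk δ α) - c1 hd (Groth.Agent.Twist.isInvertible_pullback π hL) (mk δ α) := by
  have hpL := Groth.Agent.Twist.isInvertible_pullback π hL
  obtain ⟨s₀, hs₀⟩ := exists_sec hinv
  obtain ⟨v₀, hv₀⟩ := exists_sec hpL
  let V := van π ((Scheme.Modules.pullback π).map a ≫ ψ)
  choose t v ht hv htv using fun ξ : {ξ : P // ξ ∈ V} => exists_sections π hinv a b hex hL ψ δ ξ.1 ξ.2
  let T : (ξ : P) → Cyc.secFibre O1 ξ := fun ξ => if h : ξ ∈ V then t ⟨ξ, h⟩ else s₀ ξ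
  let W : (ξ : P) → Cyc.secFibre ((Scheme.Modules.pullback π).obj L) ξ := fun ξ =>
    if h : ξ ∈ V then v ⟨ξ, h⟩ else v₀ ξ
  have hT : ∀ ξ, T ξ ≠ 0 := fun ξ => by simp only [T]; split_ifs; exacts [ht _, hs₀ ξ]
  have hW : ∀ ξ, W ξ ≠ 0 := fun ξ => by simp only [W]; split_ifs; exacts [hv _, hv₀ ξ]
  refine ⟨capCycle hd hinv hT α - capCycle hd hpL hW α, fun x hx => ?_, by
    rw [_root_.map_sub, ← c1_mk hd hinv hT α _ (capCycle_coe hd hinv hT α),
      ← c1_mk hd hpL hW α _ (capCycle_coe hd hpL hW α)]⟩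
  by_contra hxv
  apply hx
  show capCycle hd hinv hT α x - capCycle hd hpL hW α x = 0
  rw [capCycle_coe, capCycle_coe, sub_eq_zero]
  refine finsum_congr fun ξ => ?_
  by_cases h0 : α ξ = 0
  · rw [h0, zero_mul, zero_mul]
  · simp only [T, W, dif_pos (show ξ ∈ V from hα ξ h0)]
    rw [htv ⟨ξ, hα ξ h0⟩ x hxv]

end step

section filt

open Groth.Agent.Cyc26PB (UBundle)

variable {X P : Scheme.{u}} [IsLocallyNoetherian X] [IsLocallyNoetherian P] {E : X.Modules} {π : P ⟶ X}
  [IsProper π] {O1 : P.Modules} {q : (Scheme.Modules.pullback π).obj E ⟶ O1} (hP : KRR.IsProjBundle π E O1 q)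
  {n : ℕ} {δP : P → ℤ} {δ : X → ℤ} (hE : FlatMod.IsFinLocFreeOfRank (n + 1) E) (hdX : Cyc.IsDimFun X δ)
  (hd : Cyc.IsDimFun P δP) (hδ : Cyc.DeltaCompat π δP δ)
  {M : Fin (n + 1 + 1) → X.Modules} (h0 : IsZero (M 0)) (e : M (Fin.last (n + 1)) ≅ E)
  {L : Fin (n + 1) → X.Modules} (hL : ∀ i, PicF.IsInvertible (L i))
  (a : ∀ i : Fin (n + 1), M (Fin.castSucc i) ⟶ M (Fin.succ i)) (b : ∀ i : Fin (n + 1), M (Fin.succ i) ⟶ L i)
  (hab : ∀ i, a i ≫ b i = 0) (hex : ∀ i, (ShortComplex.mk (a i) (b i) (hab i)).ShortExact)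
  (t : (i : Fin (n + 1)) → (ξ : X) → Cyc.secFibre (L i) ξ) (ht : ∀ i ξ, t i ξ ≠ 0)
  (κ : Finset (Fin (n + 1)) → AlgebraicCycle X ℤ)
  (hκ : ∀ (I : Finset (Fin (n + 1))) (i : Fin (n + 1)), (∀ i' ∈ I, i' < i) →
    ⇑(κ (insert i I)) = Cyc.c1CapFun δ (L i) ⇑(κ I) (t i))

/-- Elementary symmetric expressions in the first `j` indices. -/
def esym (δ : X → ℤ) (κ : Finset (Fin (n + 1)) → AlgebraicCycle X ℤ) (j i : ℕ) : A δ :=
  ∑ I ∈ Finset.powersetCard i (Finset.univ.filter fun x : Fin (n + 1) => (x : ℕ) < j), mk δ (κ I)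

omit [IsLocallyNoetherian X] in
theorem esym_zero (j : ℕ) : esym δ κ j 0 = mk δ (κ ∅) := by
  simp [esym]

omit [IsLocallyNoetherian X] in
theorem esym_eq_zero {j i : ℕ} (h : j < i) (hj : j ≤ n + 1) : esym δ κ j i = 0 := by
  rw [esym, Finset.powersetCard_eq_empty.2 ?_, Finset.sum_empty]
  refine lt_of_le_of_lt (Finset.card_le_card_of_injOn (fun x : Fin (n + 1) => (x : ℕ))
    (t := Finset.range j) (fun x hx => Finset.mem_range.2 (Finset.mem_filter.1 hx).2)
    Fin.val_injective.injOn) (by rwa [Finset.card_range])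

include hκ ht in
theorem esym_succ (j : ℕ) (hj : j < n + 1) (i : ℕ) :
    esym δ κ (j + 1) (i + 1) = esym δ κ j (i + 1) + c1 hdX (hL ⟨j, hj⟩) (esym δ κ j i) := by
  let x : Fin (n + 1) := ⟨j, hj⟩
  let S := Finset.univ.filter fun y : Fin (n + 1) => (y : ℕ) < j
  have hx : x ∉ S := fun h => lt_irrefl _ (Finset.mem_filter.1 h).2
  have hS : (Finset.univ.filter fun y : Fin (n + 1) => (y : ℕ) < j + 1) = insert x S := by
    ext y
    simp only [S, x, Finset.mem_filter, Finset.mem_univ, true_and, Finset.mem_insert, Fin.ext_iff]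
    omega
  have hsub : ∀ I ∈ S.powersetCard i, x ∉ I := fun I hI hxI => hx ((Finset.mem_powersetCard.1 hI).1 hxI)
  simp only [esym]
  rw [hS, Finset.powersetCard_succ_insert hx, Finset.sum_union, Finset.sum_image, map_sum]
  · refine congrArg (_ + ·) (Finset.sum_congr rfl fun I hI => ?_)
    exact (c1_mk hdX (hL x) (ht x) _ _ (hκ I x fun y hy =>
      Fin.lt_def.2 (Finset.mem_filter.1 ((Finset.mem_powersetCard.1 hI).1 hy)).2)).symm
  · intro I hI J hJ hIJ
    rw [← Finset.erase_insert (hsub I hI), ← Finset.erase_insert (hsub J hJ)]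
    exact congrArg (Finset.erase · x) hIJ
  · refine Finset.disjoint_left.2 fun I hI hI' => ?_
    obtain ⟨J, -, rfl⟩ := Finset.mem_image.1 hI'
    exact hx ((Finset.mem_powersetCard.1 hI).1 (Finset.mem_insert_self x J))

include hE hdX hd hδ h0 e hL hab hex in
/-- The Chern relation for a filtered module, for classes given by the recursion of elementary symmetric functions. -/
theorem chernRel_filt_rec (hB : UBundle π E O1 ((Scheme.Modules.pullbackPushforwardAdjunction π).homEquiv E O1 q))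
    (ee : ℕ → ℕ → A δ) (a₀ : A δ) (hee0 : ∀ j, ee j 0 = a₀) (heez : ∀ j i, j < i → j ≤ n + 1 → ee j i = 0)
    (hees : ∀ (j : ℕ) (hj : j < n + 1) (i : ℕ), ee (j + 1) (i + 1) = ee j (i + 1) + c1 hdX (hL ⟨j, hj⟩) (ee j i)) :
    chernRel hB hE hdX hd hδ (fun i => ee (n + 1) (i : ℕ)) = 0 := by
  let ψ : ∀ j : Fin (n + 1 + 1), (Scheme.Modules.pullback π).obj (M j) ⟶ O1 :=
    Fin.reverseInduction ((Scheme.Modules.pullback π).map e.hom ≫ q)
      (fun i f => (Scheme.Modules.pullback π).map (a i) ≫ f)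
  have hψ : ∀ i : Fin (n + 1), ψ i.castSucc = (Scheme.Modules.pullback π).map (a i) ≫ ψ i.succ := fun i =>
    Fin.reverseInduction_castSucc ..
  have hψl : ψ (Fin.last (n + 1)) = (Scheme.Modules.pullback π).map e.hom ≫ q := Fin.reverseInduction_last ..
  let pb := pullB hB hE hdX hd hδ
  have key : ∀ j : ℕ, (hj : j ≤ n + 1) → ∃ β : AlgebraicCycle P ℤ,
      (∀ x, β x ≠ 0 → x ∈ van π (ψ ⟨j, by omega⟩)) ∧
      mk δP β = ∑ i ∈ Finset.range (j + 1), (-1 : ℤ) ^ i • c1p hd hB.inv (j - i) (pb (ee j i)) := by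
    intro j
    induction j with
    | zero =>
      intro _
      obtain ⟨α₀, hα₀⟩ := mk_surjective δ a₀
      refine ⟨pullCycle π hd (shift_bundle hB hE hd hδ) α₀, fun x _ m => ?_, ?_⟩
      · have hm : m = 0 := by
          obtain ⟨U, hU, s, rfl⟩ := (M 0).presheaf.exists_germ_eq m
          have hs : (𝟙 (M 0) : M 0 ⟶ M 0).app U s = (0 : M 0 ⟶ M 0).app U s :=
            congrArg (fun χ : M 0 ⟶ M 0 => χ.app U s) (h0.eq_of_src _ _)
          simp only [Scheme.Modules.Hom.id_app, Scheme.Modules.Hom.zero_app] at hs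
          rw [show s = 0 from hs]
          exact map_zero _
        subst hm
        intro hg
        have h2 : val π (ψ ⟨0, by omega⟩) x 0 = 0 := by
          have h3 := val_smul π (ψ ⟨0, by omega⟩) x 0 0
          rwa [smul_zero, map_zero, zero_smul] at h3
        rw [h2] at hg
        exact one_ne_zero (hg.1 (a₁ := (1 : P.presheaf.stalk x)) (a₂ := 0) (by simp))
      · rw [Finset.sum_range_one, pow_zero, one_zsmul, hee0, ← hα₀]
        exact (pullB_mk hB hE hdX hd hδ _ _ (pullCycle_coe π hd _ _)).symm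
    | succ j ih =>
      intro hj
      obtain ⟨β, hβ, hβm⟩ := ih (by omega)
      let x : Fin (n + 1) := ⟨j, by omega⟩
      obtain ⟨β', hβ', hm'⟩ := exists_step π hB.inv (a x) (b x) (hex x) (hL x) (ψ x.succ) hd β
        (fun z hz => by rw [← hψ x]; exact hβ z hz)
      refine ⟨β', hβ', ?_⟩
      have hp : ∀ i, c1 hd (Groth.Agent.Twist.isInvertible_pullback π (hL x))
          (c1p hd hB.inv (j - i) (pb (ee j i))) = c1p hd hB.inv (j - i) (pb (c1 hdX (hL x) (ee j i))) :=
        fun i => by rw [c1p_comm, ← pullB_c1]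
      rw [hm', hβm, map_sum, map_sum]
      simp only [map_zsmul, hp, ← c1p_succ]
      rw [Finset.sum_range_succ' (fun i => (-1 : ℤ) ^ i • c1p hd hB.inv (j + 1 - i) (pb (ee (j + 1) i))) (j + 1),
        hee0]
      have hsucc : ∀ i, pb (ee (j + 1) (i + 1)) = pb (ee j (i + 1)) + pb (c1 hdX (hL x) (ee j i)) :=
        fun i => by rw [hees j (by omega) i, map_add]
      simp only [hsucc, map_add, zsmul_add, Finset.sum_add_distrib, Nat.add_sub_add_right]
      rw [Finset.sum_range_succ' (fun i => (-1 : ℤ) ^ i • c1p hd hB.inv (j - i + 1) (pb (ee j i))) j,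
        Finset.sum_range_succ (fun i => (-1 : ℤ) ^ (i + 1) • c1p hd hB.inv (j - i) (pb (ee j (i + 1)))) j,
        heez j (j + 1) (by omega) (by omega), map_zero, map_zero, zsmul_zero, add_zero, hee0]
      have e1 : ∀ i ∈ Finset.range j, (-1 : ℤ) ^ (i + 1) • c1p hd hB.inv (j - (i + 1) + 1) (pb (ee j (i + 1))) =
          (-1 : ℤ) ^ (i + 1) • c1p hd hB.inv (j - i) (pb (ee j (i + 1))) := fun i hi => by
        have h := Finset.mem_range.1 hi
        rw [show j - (i + 1) + 1 = j - i by omega]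
      rw [Finset.sum_congr rfl e1]
      simp only [pow_succ, mul_neg, mul_one, neg_zsmul, Finset.sum_neg_distrib, pow_zero, Nat.sub_zero]
      abel
  obtain ⟨β, hβ, hβm⟩ := key (n + 1) le_rfl
  have hz : β = 0 := by
    ext x
    by_contra hne
    have hx := hβ x hne
    obtain ⟨U, m, hm⟩ := hB.gens x
    have hxU : π x ∈ U := VA11.gl_le (VA11.secs ((Scheme.Modules.pullbackPushforwardAdjunction π).homEquiv E O1 q) U m) hm
    have hg := (VA11.mem_gl_iff hB.inv (W := π ⁻¹ᵁ U) (show x ∈ π ⁻¹ᵁ U from hxU)).1 hm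
    refine hx (CurveCoh17.stalkLin e.inv (π x) (E.presheaf.germ U (π x) hxU m)) ?_
    show Amp.Gen (val π (ψ (Fin.last (n + 1))) x _)
    rw [hψl, val_map, show (Scheme.Modules.pullback π).map e.inv ≫ (Scheme.Modules.pullback π).map e.hom ≫ q = q by
      rw [← Category.assoc, ← Functor.map_comp, e.inv_hom_id, CategoryTheory.Functor.map_id, Category.id_comp],
      val_germ]
    have hφ : VA11.secs ((Scheme.Modules.pullbackPushforwardAdjunction π).homEquiv E O1 q) U m =
        q.app (π ⁻¹ᵁ U) (M2.pullSec π E m) :=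
      congrArg (fun χ : E ⟶ (Scheme.Modules.pushforward π).obj O1 => χ.app U m)
        ((Scheme.Modules.pullbackPushforwardAdjunction π).homEquiv_unit _ _ _)
    rw [← hφ]
    exact hg
  rw [hz, map_zero] at hβm
  have h3 : chernRel hB hE hdX hd hδ (fun i => ee (n + 1) (i : ℕ)) =
      (-1 : ℤ) ^ (n + 1) • ∑ i ∈ Finset.range (n + 1 + 1),
        (-1 : ℤ) ^ i • c1p hd hB.inv (n + 1 - i) (pb (ee (n + 1) i)) := by
    rw [chernRel, Finset.smul_sum, ← Fin.sum_univ_eq_sum_range]
    refine Fintype.sum_equiv Fin.revPerm _ _ fun i => ?_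
    simp only [Fin.revPerm_apply, Fin.val_rev, smul_smul, ← pow_add]
    have hi := i.2
    rw [show n + 1 - (n + 1 + 1 - ((i : ℕ) + 1)) = (i : ℕ) by omega]
    congr 1
    rw [show n + 1 + (n + 1 + 1 - ((i : ℕ) + 1)) = (i : ℕ) + 2 * (n + 1 - (i : ℕ)) by omega, pow_add, pow_mul]
    simp
  rw [h3, ← hβm, zsmul_zero]

include hP hE hdX hd hδ h0 e hL hab hex ht hκ in
/-- The Chern relation for a filtered module. -/
theorem chernRel_filt : chernRel (Cyc26PB.uBundle_projBundle hP) hE hdX hd hδ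
    (fun i => esym δ κ (n + 1) (i : ℕ)) = 0 :=
  chernRel_filt_rec hE hdX hd hδ h0 e hL a b hab hex (Cyc26PB.uBundle_projBundle hP) (esym δ κ) (mk δ (κ ∅))
    (fun j => esym_zero κ j) (fun _ _ h hj => esym_eq_zero κ h hj) fun j hj i => esym_succ hdX hL t ht κ hκ j hj i

end filt

end Groth.Agent.Cyc26A
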