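import Groth.Agent.Lib.Cyc26.PBGlobal

/-! # The projective bundle formula -/

set_option autoImplicit false
set_option linter.style.haveILetI false

universe u

open CategoryTheory Limits AlgebraicGeometry TopologicalSpace Opposite

set_option backward.isDefEq.respectTransparency false

noncomputable section

namespace Groth.Agent.Cyc26PB

open Groth.Agent.Cyc26
open scoped Classical

variable {X P : Scheme.{u}} [IsLocallyNoetherian X] [IsLocallyNoetherian P] {E : X.Modules} {π : P ⟶ X} [IsProper π]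
  {O1 : P.Modules} {φ : E ⟶ (Scheme.Modules.pushforward π).obj O1} {n : ℕ} {δP : P → ℤ} {δ : X → ℤ}
  (hB : UBundle π E O1 φ) (hE : FlatMod.IsFinLocFreeOfRank (n + 1) E) (hdX : Cyc.IsDimFun X δ)
  (hd : Cyc.IsDimFun P δP) (hδ : Cyc.DeltaCompat π δP δ)

include hB hE hd hδ

omit [IsLocallyNoetherian X] in
theorem exists_cycle_term {t : ℕ → (x : P) → Cyc.secFibre O1 x} (ht : ∀ m x, t m x ≠ 0) {k : ℤ}
    {a : AlgebraicCycle X ℤ} (ha : a ∈ Cyc.Zk X δ k) (m : ℕ) : ∃ b : AlgebraicCycle P ℤ,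
      ⇑b = capIt δP O1 t (Cyc.pullFun π δP δ (n : ℤ) ⇑a) m ∧ b ∈ Cyc.Zk P δP (k + n - m) := by
  obtain ⟨g, hg⟩ := exists_cycle_pullFun π hd (fun z hz => delta_maximal hB hE hd hδ z hz) a
  obtain ⟨b, hb, hb'⟩ := exists_cycle_capIt hd hB.inv ht (a := g) m
  exact ⟨b, by rw [hb, hg], hb' _ (by simpa using pullFun_mem_Zk π ha hg)⟩

include hdX

omit [IsLocallyNoetherian X] in
/-- Push forward of `c₁^m ∩ π^*`. -/
theorem map_capIt_pull {t : ℕ → (x : P) → Cyc.secFibre O1 x} (ht : ∀ m x, t m x ≠ 0) {k : ℤ}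
    {a : AlgebraicCycle X ℤ} (ha : a ∈ Cyc.Zk X δ k) (m : ℕ) (hm : m ≤ n) (b : AlgebraicCycle P ℤ)
    (hb : ⇑b = capIt δP O1 t (Cyc.pullFun π δP δ (n : ℤ) ⇑a) m) (y : X) :
    AlgebraicCycle.map π δP δ b y = if m = n then a y else 0 := by
  haveI := isIntegral_fibre hB hE
  obtain ⟨b', hb', hbk⟩ := exists_cycle_term hB hE hd hδ ht ha m
  have hbk : ∀ x, b x ≠ 0 → δP x = k + n - m := fun x hx => by_contra fun h => hx (by rw [hb, ← hb', hbk x h])
  have hy : ∀ η, a η ≠ 0 → η ⤳ y → δ y ≤ k ∧ (δ y = k → η = y) := fun η hη hsp => by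
    have h1 : δ η = k := by_contra fun h => hη (ha η h)
    rcases eq_or_ne η y with rfl | hne
    · exact ⟨h1.le, fun _ => rfl⟩
    · have h2 := (hdX η y hsp hne).1
      exact ⟨by omega, fun h => absurd h (by omega)⟩
  by_cases hmy : m = n ∧ δ y = k
  swap
  · rw [map_apply_eq_sum π δP δ b y ∅ (by simp) fun x hx hne heq => ?_, Finset.sum_empty]
    · split_ifs with hmn
      · exact (ha y fun h => hmy ⟨hmn, h⟩).symm
      · rfl
    · obtain ⟨ξ, hξ, hsp⟩ := exists_of_capIt_ne_zero m (show capIt δP O1 t _ m x ≠ 0 by rw [← hb]; exact hne)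
      simp only [Cyc.pullFun] at hξ
      split_ifs at hξ
      · have h1 := (hy (π ξ) (left_ne_zero_of_mul hξ) (hx ▸ hsp.map π.continuous)).1
        rw [hbk x hne, hx] at heq
        exact absurd ⟨by omega, by omega⟩ hmy
      · exact absurd rfl hξ
  obtain ⟨rfl, hyk⟩ := hmy
  rw [if_pos rfl]
  haveI := isNoetherian_fiber (π := π) y
  obtain ⟨U, e, hyU, he⟩ := P1Split.exists_isBas_nhd hE y
  have htF : ∀ m z, fibSec π t y m z ≠ 0 := fun m z => secPull_ne_zero _ hB.inv z (ht m _)
  have hdeg := degree_capIt_generic hB he hyU hd hδ (fibSec π t y) htF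
  have hfib := capIt_pull_fiber hB hE hd hδ ht ⇑a y (fun η hη hsp => (hy η hη hsp).2 hyk) m
  obtain ⟨G, hG⟩ : ∃ G : AlgebraicCycle (π.fiber y) ℤ, ⇑G = ind (genericPoint (π.fiber y)) :=
    ⟨⟨_, Set.subset_univ _, fun x _ => ⟨Set.univ, Filter.univ_mem,
      (Set.finite_singleton _).subset fun z hz => by_contra fun hne => hz.2 (if_neg hne)⟩⟩, rfl⟩
  obtain ⟨bF, hbF, -⟩ := exists_cycle_capIt (isDimFun_fiber π y hd)
    (Groth.Agent.Twist.isInvertible_pullback _ hB.inv) htF (a := G) m
  rw [hG] at hbF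
  let T : Finset (π.fiber y) := (Cyc26Lim.finite_support bF).toFinset
  have hT : ∀ z, capIt (fun w => δP (π.fiberι y w)) _ (fibSec π t y) (ind (genericPoint (π.fiber y))) m z ≠ 0 →
      z ∈ T := fun z hz => (Cyc26Lim.finite_support bF).mem_toFinset.2 (by rwa [← hbF] at hz)
  rw [map_apply_eq_sum π δP δ b y (T.image (π.fiberι y)) (fun x hx => ?_) (fun x hx hne _ => ?_),
    Finset.sum_image fun z _ w _ h => (π.fiberι y).isEmbedding.injective h]
  · rw [finsum_eq_sum_of_support_subset _ (s := T) fun z hz => hT z (left_ne_zero_of_mul hz)] at hdeg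
    conv_rhs => rw [← mul_one (a y), ← hdeg, Finset.mul_sum]
    refine Finset.sum_congr rfl fun z _ => ?_
    by_cases h0 : b (π.fiberι y z) = 0
    · rw [h0, zero_mul, ← mul_assoc, ← hfib, ← hb, h0, zero_mul]
    · rw [AlgebraicCycle.mapCoeff, if_pos (show δP (π.fiberι y z) = δ (π (π.fiberι y z)) by
        rw [hbk _ h0, GenLen5.apply_fiberι π y z, hyk]; ring), hb, hfib, mul_assoc]
  · obtain ⟨z, -, rfl⟩ := Finset.mem_image.1 hx
    exact GenLen5.apply_fiberι π y z
  · obtain ⟨z, rfl⟩ := (π.range_fiberι y).symm.le hx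
    refine Finset.mem_image_of_mem _ (hT z ?_)
    rw [hb, hfib] at hne
    exact right_ne_zero_of_mul hne

/-- The classes `c₁^i ∩ π^*` span. -/
theorem exists_span {t : Fin (n + 1) → ℕ → (x : P) → Cyc.secFibre O1 x} (ht : ∀ i m x, t i m x ≠ 0) (k : ℤ) :
    ∀ q : ℕ, q ≤ n + 1 → ∀ β : AlgebraicCycle P ℤ, β ∈ Cyc.Zk P δP (k + n) →
      (∀ x, β x ≠ 0 → δ (π x) < k + q) →
      ∃ a : Fin (n + 1) → AlgebraicCycle X ℤ, (∀ i : Fin (n + 1), a i ∈ Cyc.Zk X δ (k + ((i : ℕ) : ℤ))) ∧
        (∀ i : Fin (n + 1), q ≤ i → a i = 0) ∧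
        RatFun δP (k + n) Set.univ fun x =>
          β x - ∑ i : Fin (n + 1), capIt δP O1 (t i) (Cyc.pullFun π δP δ (n : ℤ) ⇑(a i)) (i : ℕ) x := by
  haveI := isIntegral_fibre hB hE
  intro q
  induction q with
  | zero =>
    intro _ β hβ hsupp
    refine ⟨fun _ => 0, fun i => fun x _ => rfl, fun i _ => rfl, RatFun.zero fun x => ?_⟩
    have h0 : β x = 0 := by
      by_contra h
      have h1 : δP x = k + n := by_contra fun h' => h (hβ x h')
      have := delta_le hB hE hd hδ x
      have := hsupp x h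
      omega
    rw [h0, Finset.sum_eq_zero fun i _ => capIt_zero (fun z => ?_) _ _, sub_zero]
    simp [Cyc.pullFun]
  | succ q ih =>
    intro hq β hβ hsupp
    let iq : Fin (n + 1) := ⟨q, by omega⟩
    have hδβ : ∀ x, β x ≠ 0 → δP x = k + n := fun x hx => by_contra fun h => hx (hβ x h)
    have hcpt : ∀ y : X, ∃ W : X.Opens, y ∈ W ∧ (π ⁻¹' (W : Set X) ∩ Function.support ⇑β).Finite := fun y => by
      obtain ⟨W, hW, hyW, -⟩ := exists_isAffineOpen_mem_and_subset (U := (⊤ : X.Opens)) (x := y) trivial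
      exact ⟨W, hyW, β.locallyFiniteSupport.finite_inter_support_of_isCompact (π.isCompact_preimage hW.isCompact)⟩
    let J : Type u := {y : X // δ y = k + q ∧ ∃ x, π x = y ∧ β x ≠ 0}
    have htF : ∀ (y : X) m z, fibSec π (t iq) y m z ≠ 0 := fun y m z => secPull_ne_zero _ hB.inv z (ht iq m _)
    have hJ : ∀ j : J, ∃ (c : ℤ) (G : P → ℤ), RatFun δP (k + n) (π ⁻¹' closure {j.1}) G ∧
        ∀ z, G (π.fiberι j.1 z) = β (π.fiberι j.1 z) - c * capIt (fun w => δP (π.fiberι j.1 w)) _
          (fibSec π (t iq) j.1) (ind (genericPoint (π.fiber j.1))) q z := by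
      rintro ⟨y, hy, -⟩
      obtain ⟨U, e, hyU, he⟩ := P1Split.exists_isBas_nhd hE y
      obtain ⟨W, hyW, hWfin⟩ := hcpt y
      have hfin : (Function.support fun z : π.fiber y => β (π.fiberι y z)).Finite :=
        (hWfin.preimage (π.fiberι y).isEmbedding.injective.injOn).subset fun z hz =>
          ⟨show π (π.fiberι y z) ∈ W by rw [GenLen5.apply_fiberι π y z]; exact hyW, hz⟩
      let βF : AlgebraicCycle (π.fiber y) ℤ := ⟨fun z => β (π.fiberι y z), Set.subset_univ _,
        fun z _ => ⟨Set.univ, Filter.univ_mem, hfin.subset fun w hw => hw.2⟩⟩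
      have hkn : δ y + ((n - q : ℕ) : ℤ) = k + n := by omega
      obtain ⟨c, hc⟩ := exists_mul_capIt hB he hyU hd hδ (fibSec π (t iq) y) (htF y) (m := q) (by omega) βF
        (fun z hz => by_contra fun h => hz ((hδβ _ h).trans hkn.symm))
      rw [hkn] at hc
      obtain ⟨G, hG, hGe⟩ := exists_ratFun_of_fibre π y hc
      exact ⟨c, G, hG, hGe⟩
    choose c G hG hGe using hJ
    let aq : X → ℤ := fun y => if h : δ y = k + q ∧ ∃ x, π x = y ∧ β x ≠ 0 then c ⟨y, h⟩ else 0
    have haq : ∀ y : X, ∃ W ∈ nhds y, (W ∩ Function.support aq).Finite := fun y => by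
      obtain ⟨W, hyW, hWfin⟩ := hcpt y
      refine ⟨W, W.isOpen.mem_nhds hyW, (hWfin.image π).subset ?_⟩
      rintro w ⟨hw, hne⟩
      simp only [aq, Function.mem_support] at hne
      split_ifs at hne with h
      · obtain ⟨x, hx, hx0⟩ := h.2
        exact ⟨x, ⟨show π x ∈ W by rw [hx]; exact hw, hx0⟩, hx⟩
      · exact absurd rfl hne
    let A : AlgebraicCycle X ℤ := ⟨aq, Set.subset_univ _, fun y _ => haq y⟩
    have hA : A ∈ Cyc.Zk X δ (k + q) := fun y hy => by
      show aq y = 0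
      simp only [aq]
      rw [dif_neg fun h => hy h.1]
    obtain ⟨γ, hγ, hγk⟩ := exists_cycle_term hB hE hd hδ (ht iq) hA q
    have hkn' : k + (q : ℤ) + n - q = k + n := by ring
    rw [hkn'] at hγk
    have hfam : RatFun δP (k + n) Set.univ fun x => ∑ᶠ j : J, G j x := by
      refine RatFun.finsumSets (fun j => π ⁻¹' closure {j.1})
        (fun j => isClosed_closure.preimage π.continuous) (fun x => ?_) _
        (fun j => (hG j).mono (S' := Set.univ ∩ π ⁻¹' closure {j.1}) fun y hy => ⟨trivial, hy⟩)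
      obtain ⟨W, hxW, hWfin⟩ := hcpt (π x)
      refine ⟨π ⁻¹' W, W.isOpen.preimage π.continuous, hxW,
        ((hWfin.image π).preimage Subtype.val_injective.injOn).subset ?_⟩
      rintro j ⟨w, hw, hwW⟩
      obtain ⟨x', hx', hx'0⟩ := j.2.2
      exact ⟨x', ⟨show π x' ∈ W by rw [hx']; exact (specializes_iff_mem_closure.2 hw).mem_open W.isOpen hwW, hx'0⟩,
        hx'⟩
    obtain ⟨cf, hcf⟩ := hfam.exists_cycle hd
    have hzk : β - γ - cf ∈ Cyc.Zk P δP (k + n) := fun x hx => by
      show β x - γ x - cf x = 0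
      rw [hβ x hx, hγk x hx, hcf, hfam.eq_zero_of_dim hx]
      ring
    have hsupp' : ∀ x, (β - γ - cf) x ≠ 0 → δ (π x) < k + q := fun x hx => by
      by_contra hlt
      apply hx
      show β x - γ x - cf x = 0
      rw [hcf]
      have hAη : ∀ η, A η ≠ 0 → η ⤳ π x → η = π x := fun η hη hsp => by
        by_contra hne
        have h1 : δ η = k + q := by_contra fun h => hη (hA η h)
        have := (hdX η _ hsp hne).1
        omega
      have hAz : A (π x) = 0 → γ x = 0 := fun h0 => by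
        by_contra hne
        obtain ⟨ξ, hξ, hsp⟩ := exists_of_capIt_ne_zero q
          (show capIt δP O1 (t iq) (Cyc.pullFun π δP δ (n : ℤ) ⇑A) q x ≠ 0 by rw [← hγ]; exact hne)
        simp only [Cyc.pullFun] at hξ
        split_ifs at hξ
        · exact left_ne_zero_of_mul hξ ((congrArg A (hAη _ (left_ne_zero_of_mul hξ) (hsp.map π.continuous))).trans h0)
        · exact hξ rfl
      have hG0 : ∀ j : J, j.1 ≠ π x → G j x = 0 := fun j hj => by
        by_contra hne
        have hmem : π x ∈ closure {j.1} := by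
          by_contra h
          exact hne ((hG j).eq_zero_off (isClosed_closure.preimage π.continuous) subset_rfl h)
        have := (hdX _ _ (specializes_iff_mem_closure.2 hmem) hj).1
        have := j.2.1
        omega
      by_cases hxJ : δ (π x) = k + q ∧ ∃ x', π x' = π x ∧ β x' ≠ 0
      · obtain ⟨z, hz⟩ := (π.range_fiberι (π x)).symm.le (show π x = π x from rfl)
        rw [finsum_eq_single _ (⟨π x, hxJ⟩ : J) fun j hj => hG0 j fun e => hj (Subtype.ext e)]
        have h1 := hGe ⟨π x, hxJ⟩ z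
        have h2 := capIt_pull_fiber hB hE hd hδ (ht iq) ⇑A (π x) hAη q z
        simp only [hz] at h1 h2
        rw [h1, hγ, h2, show A (π x) = c ⟨π x, hxJ⟩ from dif_pos hxJ]
        ring
      · have hb0 : β x = 0 := by
          by_contra h
          have := hsupp x h
          exact hxJ ⟨by push_cast at this; omega, x, rfl, h⟩
        rw [hb0, hAz (dif_neg hxJ), finsum_eq_zero_of_forall_eq_zero fun j => hG0 j fun e => hxJ (e ▸ j.2)]
        ring
    obtain ⟨a', ha', ha'0, hrat⟩ := ih (by omega) (β - γ - cf) hzk hsupp'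
    refine ⟨Function.update a' iq A, fun i => ?_, fun i hi => ?_, (hrat.add hfam).congr fun x => ?_⟩
    · rcases eq_or_ne i iq with rfl | hne
      · rw [Function.update_self]
        exact hA
      · rw [Function.update_of_ne hne]
        exact ha' i
    · have hne : i ≠ iq := fun h => by
        rw [h] at hi
        simp only [iq] at hi
        omega
      rw [Function.update_of_ne hne]
      exact ha'0 i (by omega)
    · show β x - γ x - cf x - _ + _ = _
      rw [hcf, Finset.sum_eq_add_sum_sdiff_singleton_of_mem (Finset.mem_univ iq),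
        Finset.sum_eq_add_sum_sdiff_singleton_of_mem (Finset.mem_univ iq), Function.update_self,
        ha'0 iq le_rfl, capIt_zero (fun z => by simp [Cyc.pullFun]), hγ]
      rw [Finset.sum_congr rfl (fun i hi => by
        rw [Function.update_of_ne (by simpa using hi)] : ∀ i ∈ Finset.univ \ {iq},
          capIt δP O1 (t i) (Cyc.pullFun π δP δ (n : ℤ) ⇑(Function.update a' iq A i)) (i : ℕ) x =
            capIt δP O1 (t i) (Cyc.pullFun π δP δ (n : ℤ) ⇑(a' i)) (i : ℕ) x)]
      ring

/-- The classes `c₁^i ∩ π^*` are independent. -/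
theorem ratEquivZero_of_sum {t : Fin (n + 1) → ℕ → (x : P) → Cyc.secFibre O1 x} (ht : ∀ i m x, t i m x ≠ 0) {k : ℤ}
    {a : Fin (n + 1) → AlgebraicCycle X ℤ} (ha : ∀ i : Fin (n + 1), a i ∈ Cyc.Zk X δ (k + ((i : ℕ) : ℤ)))
    {β : AlgebraicCycle P ℤ} (h0 : Cyc.RatEquivZero δP (k + n) β)
    (hβ : ∀ x, β x = ∑ i : Fin (n + 1), capIt δP O1 (t i) (Cyc.pullFun π δP δ (n : ℤ) ⇑(a i)) (i : ℕ) x) :
    ∀ i : Fin (n + 1), Cyc.RatEquivZero δ (k + ((i : ℕ) : ℤ)) (a i) := by
  suffices H : ∀ s : ℕ, s ≤ n → Cyc.RatEquivZero δ (k + ((n - s : ℕ) : ℤ)) (a ⟨n - s, by omega⟩) from fun i => by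
    have h := H (n - i) (by omega)
    have e : (⟨n - (n - (i : ℕ)), by omega⟩ : Fin (n + 1)) = i := Fin.ext (show n - (n - (i : ℕ)) = (i : ℕ) by omega)
    rwa [e, show n - (n - (i : ℕ)) = (i : ℕ) by omega] at h
  intro s
  induction s using Nat.strong_induction_on with
  | _ s IH =>
    intro hs
    let l : Fin (n + 1) := ⟨n - s, by omega⟩
    let u : (x : P) → Cyc.secFibre O1 x := t l 0
    let T : Fin (n + 1) → ℕ → (x : P) → Cyc.secFibre O1 x := fun i m => if m < (i : ℕ) then t i m else u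
    have hT : ∀ i m x, T i m x ≠ 0 := fun i m x => by simp only [T]; split_ifs <;> apply ht
    choose γ hγ hγk using fun i : Fin (n + 1) => exists_cycle_term hB hE hd hδ (ht i) (ha i) (i : ℕ)
    choose B hB' _ using fun i : Fin (n + 1) => exists_cycle_term hB hE hd hδ (hT i) (ha i) ((i : ℕ) + s)
    have hBγ : ∀ i, ⇑(B i) = capIt δP O1 (fun _ => u) ⇑(γ i) s := fun i => by
      rw [hB' i, capIt_add, hγ i]
      congr 1
      · funext p
        simp [T]
      · exact capIt_congr fun p hp => by simp [T, hp]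
    obtain ⟨D, hD, -⟩ := exists_cycle_capIt hd hB.inv (fun _ => ht l 0) (a := β) s
    have hD0 : Cyc.RatEquivZero δP (k + n - s) D :=
      capIt_ratEquivZero hd hB.inv (fun _ => ht l 0) s _ (by rwa [sub_add_cancel]) D hD
    have hDsum : ∀ x, D x = ∑ i, B i x := fun x => by
      rw [hD, capIt_sum hd hB.inv (fun _ => ht l 0) Finset.univ γ (fun ξ => ?_) s x]
      · exact Finset.sum_congr rfl fun i _ => by rw [hBγ i]
      · rw [hβ]
        exact Finset.sum_congr rfl fun i _ => by rw [hγ i]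
    have hM0 := ratEquivZero_map π hd hdX hδ hD0
    have hkl : k + ((n - s : ℕ) : ℤ) = k + n - s := by omega
    have hgt : ∀ i : Fin (n + 1), l < i → Cyc.RatEquivZero δ (k + n - s) (AlgebraicCycle.map π δP δ (B i)) := by
      intro i hi
      have hi' : n - s < (i : ℕ) := hi
      have h1 := IH (n - i) (by omega) (by omega)
      have e : (⟨n - (n - (i : ℕ)), by omega⟩ : Fin (n + 1)) = i := Fin.ext (show n - (n - (i : ℕ)) = (i : ℕ) by omega)
      rw [e, show n - (n - (i : ℕ)) = (i : ℕ) by omega] at h1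
      haveI := flat_bundle hB hE
      obtain ⟨g, hg⟩ := exists_cycle_pullFun π hd (fun z hz => delta_maximal hB hE hd hδ z hz) (a i)
      have h2 := ratEquivZero_pullFun π hd hdX (fun z hz => delta_maximal hB hE hd hδ z hz) h1 g hg
      refine ratEquivZero_map π hd hdX hδ (capIt_ratEquivZero hd hB.inv (hT i) (a := g) ((i : ℕ) + s) _ ?_ (B i) (by rw [hB' i, hg]))
      rwa [show k + (n : ℤ) - s + (((i : ℕ) + s : ℕ) : ℤ) = k + ((i : ℕ) : ℤ) + n by push_cast; ring]
    have hM : ∀ y, AlgebraicCycle.map π δP δ D y =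
        a l y + ∑ i ∈ Finset.univ.filter (l < ·), AlgebraicCycle.map π δP δ (B i) y := fun y => by
      rw [map_sum_apply π δP δ Finset.univ B hDsum y, Finset.sum_filter]
      rw [show a l y = ∑ i : Fin (n + 1), if i = l then a i y else 0 by simp, ← Finset.sum_add_distrib]
      refine Finset.sum_congr rfl fun i _ => ?_
      by_cases hi : l < i
      · rw [if_neg (ne_of_gt hi), if_pos hi, zero_add]
      · have hi' : (i : ℕ) ≤ n - s := not_lt.1 hi
        rw [if_neg hi, add_zero, map_capIt_pull hB hE hdX hd hδ (hT i) (ha i) ((i : ℕ) + s) (by omega) (B i) (hB' i) y]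
        exact if_congr ⟨fun h => Fin.ext (by simp only [l]; omega), fun h => by subst h; simp only [l]; omega⟩ rfl rfl
    have hrest : RatFun δ (k + n - s) Set.univ fun y =>
        ∑ i ∈ Finset.univ.filter (l < ·), AlgebraicCycle.map π δP δ (B i) y := by
      refine Finset.induction_on' (Finset.univ.filter (l < ·)) (RatFun.zero fun y => Finset.sum_empty)
        fun {i S} hi _ hiS hS => ((ratEquivZero_iff.1 (hgt i (Finset.mem_filter.1 hi).2)).add hS).congr fun y =>
          (Finset.sum_insert (f := fun j => AlgebraicCycle.map π δP δ (B j) y) hiS).symm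
    rw [hkl]
    exact ((ratEquivZero_iff.1 hM0).sub hrest).ratEquivZero fun y => by rw [hM y]; exact (add_sub_cancel_right _ _).symm

end Groth.Agent.Cyc26PB
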