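import Groth.Agent.Lib.Cyc26.DivFun
import Groth.Agent.Lib.Cyc26.C1Struct

/-! # Elementary operations on rational equivalences -/

set_option autoImplicit false
universe u

set_option backward.isDefEq.respectTransparency.types false

open CategoryTheory AlgebraicGeometry TopologicalSpace

namespace Groth.Agent.Cyc26

variable {X : Scheme.{u}} {δ : X → ℤ} {k : ℤ}

theorem ratEquivZero_congr {α β : AlgebraicCycle X ℤ} (h : ∀ x, α x = β x) (hα : Cyc.RatEquivZero δ k α) :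
    Cyc.RatEquivZero δ k β := by
  obtain ⟨ι, ξ, f, h1, h2, h3, h4⟩ := hα
  exact ⟨ι, ξ, f, h1, h2, h3, fun x => (h x).symm.trans (h4 x)⟩

theorem ratEquivZero_of_eq_zero {α : AlgebraicCycle X ℤ} (h : ∀ x, α x = 0) : Cyc.RatEquivZero δ k α := by
  refine ⟨PEmpty, fun i => i.elim, fun i => i.elim, fun i => i.elim, fun i => i.elim,
    fun x => ⟨Set.univ, isOpen_univ, trivial, Set.toFinite _⟩, fun x => ?_⟩
  rw [h, finsum_eq_zero_of_forall_eq_zero fun i : PEmpty => i.elim]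

theorem finite_support_family {ι : Type u} {ξ : ι → X} (f : (i : ι) → X.residueField (ξ i))
    (hlf : ∀ x : X, ∃ U : Set X, IsOpen U ∧ x ∈ U ∧ {i | (closure {ξ i} ∩ U).Nonempty}.Finite) (x : X) :
    (Function.support fun i => Cyc.divFun δ (ξ i) (f i) x).Finite := by
  obtain ⟨U, -, hxU, hfin⟩ := hlf x
  exact hfin.subset fun i hi => ⟨x, specializes_iff_mem_closure.1 (specializes_of_divFun_ne_zero hi).1, hxU⟩

theorem divFun_inv (ξ : X) {g : X.residueField ξ} (hg : g ≠ 0) (x : X) :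
    Cyc.divFun δ ξ g⁻¹ x = - Cyc.divFun δ ξ g x := by
  simp only [Cyc.divFun]
  split_ifs with h
  · have := ordFrac_zpow (R := Cyc.LocQuot x ξ h.1) hg (-1)
    rw [zpow_neg_one] at this
    simp only [Cyc.ordAt]
    rw [this]; ring
  · exact neg_zero.symm

theorem ratEquivZero_add {α β γ : AlgebraicCycle X ℤ} (hα : Cyc.RatEquivZero δ k α) (hβ : Cyc.RatEquivZero δ k β)
    (h : ∀ x, γ x = α x + β x) : Cyc.RatEquivZero δ k γ := by
  obtain ⟨ι, ξ, f, a1, a2, a3, a4⟩ := hα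
  obtain ⟨κ, ζ, g, b1, b2, b3, b4⟩ := hβ
  let ξ' : ι ⊕ κ → X := Sum.elim ξ ζ
  let f' : (i : ι ⊕ κ) → X.residueField (ξ' i) := fun i => match i with
    | Sum.inl a => f a
    | Sum.inr b => g b
  have hlf : ∀ x : X, ∃ U : Set X, IsOpen U ∧ x ∈ U ∧ {i | (closure {ξ' i} ∩ U).Nonempty}.Finite := fun x => by
    obtain ⟨U, hU, hxU, hfU⟩ := a3 x
    obtain ⟨V, hV, hxV, hfV⟩ := b3 x
    refine ⟨U ∩ V, hU.inter hV, ⟨hxU, hxV⟩, ((hfU.image Sum.inl).union (hfV.image Sum.inr)).subset ?_⟩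
    rintro (i | i) ⟨y, hy, hy'⟩
    · exact Or.inl ⟨i, ⟨y, hy, hy'.1⟩, rfl⟩
    · exact Or.inr ⟨i, ⟨y, hy, hy'.2⟩, rfl⟩
  refine ⟨ι ⊕ κ, ξ', f', fun i => by rcases i with a | b; exacts [a1 a, b1 b],
    fun i => by rcases i with a | b; exacts [a2 a, b2 b], hlf, fun x => ?_⟩
  rw [h, a4, b4]
  classical
  obtain ⟨s, hs⟩ : ∃ s : Finset ι, Function.support (fun i => Cyc.divFun δ (ξ i) (f i) x) ⊆ s :=
    ⟨(finite_support_family (δ := δ) f a3 x).toFinset, by simp⟩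
  obtain ⟨t, ht⟩ : ∃ t : Finset κ, Function.support (fun i => Cyc.divFun δ (ζ i) (g i) x) ⊆ t :=
    ⟨(finite_support_family (δ := δ) g b3 x).toFinset, by simp⟩
  rw [finsum_eq_sum_of_support_subset _ hs, finsum_eq_sum_of_support_subset _ ht,
    finsum_eq_sum_of_support_subset (s := s.disjSum t) (fun i => Cyc.divFun δ (ξ' i) (f' i) x) ?_, Finset.sum_disjSum]
  · rfl
  · rintro (i | i) hi
    · exact Finset.inl_mem_disjSum.2 (hs hi)
    · exact Finset.inr_mem_disjSum.2 (ht hi)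

theorem ratEquivZero_neg {α β : AlgebraicCycle X ℤ} (hα : Cyc.RatEquivZero δ k α) (h : ∀ x, β x = - α x) :
    Cyc.RatEquivZero δ k β := by
  obtain ⟨ι, ξ, f, a1, a2, a3, a4⟩ := hα
  refine ⟨ι, ξ, fun i => (f i)⁻¹, a1, fun i => inv_ne_zero (a2 i), a3, fun x => ?_⟩
  rw [h, a4, ← finsum_neg_distrib]
  exact finsum_congr fun i => (divFun_inv _ (a2 i) x).symm

theorem ratEquiv_symm {α β : AlgebraicCycle X ℤ} (h : Cyc.RatEquiv δ k α β) : Cyc.RatEquiv δ k β α :=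
  ratEquivZero_neg h fun x => (neg_sub (α x) (β x)).symm

theorem ratEquiv_trans {α β γ : AlgebraicCycle X ℤ} (h : Cyc.RatEquiv δ k α β) (h' : Cyc.RatEquiv δ k β γ) :
    Cyc.RatEquiv δ k α γ :=
  ratEquivZero_add h h' fun x => (sub_add_sub_cancel (α x) (β x) (γ x)).symm

theorem ratEquiv_refl (α : AlgebraicCycle X ℤ) : Cyc.RatEquiv δ k α α :=
  ratEquivZero_of_eq_zero fun x => sub_self (α x)

theorem ratEquiv_of_coe_eq {α β : AlgebraicCycle X ℤ} (h : ⇑α = ⇑β) : Cyc.RatEquiv δ k α β :=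
  ratEquivZero_of_eq_zero fun x => sub_eq_zero.2 (congrFun h x)

theorem ratEquivZero_of_ratEquiv {α β : AlgebraicCycle X ℤ} (h : Cyc.RatEquiv δ k α β)
    (hβ : Cyc.RatEquivZero δ k β) : Cyc.RatEquivZero δ k α :=
  ratEquivZero_add h hβ fun x => (sub_add_cancel (α x) (β x)).symm

end Groth.Agent.Cyc26
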