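import Groth.Agent.Lib.Cyc26.PBFibre
import Groth.Agent.Lib.Cyc26.C1Flat
import Groth.Agent.Lib.Cyc26.RatAlg
import Groth.Agent.Lib.PicNormal14.AffOpen

/-! # Iterated cap products with pulled back cycles on a projective bundle -/

set_option autoImplicit false
set_option linter.style.haveILetI false

universe u

open CategoryTheory Limits AlgebraicGeometry TopologicalSpace Opposite

set_option backward.isDefEq.respectTransparency false

noncomputable section

namespace Groth.Agent.Cyc26PB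

open Groth.Agent.Cyc26
open Groth.Agent.P1Split (IsBas)
open scoped Classical

section cap

variable {Z : Scheme.{u}} {δ : Z → ℤ} {L : Z.Modules} {t : ℕ → (z : Z) → Cyc.secFibre L z} {G : Z → ℤ}

theorem capIt_of_rec {γ : ℕ → Z → ℤ} (hs : ∀ m, γ (m + 1) = Cyc.c1CapFun δ L (γ m) (t m)) :
    ∀ m, γ m = capIt δ L t (γ 0) m
  | 0 => rfl
  | m + 1 => by rw [hs, capIt_of_rec hs m]; rfl

theorem capIt_congr {t' : ℕ → (z : Z) → Cyc.secFibre L z} : ∀ {m : ℕ}, (∀ p < m, t p = t' p) →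
    capIt δ L t G m = capIt δ L t' G m
  | 0, _ => rfl
  | m + 1, h => by
    show Cyc.c1CapFun δ L _ (t m) = Cyc.c1CapFun δ L _ (t' m)
    rw [capIt_congr fun p hp => h p (by omega), h m (by omega)]

theorem capIt_add (i : ℕ) : ∀ m : ℕ,
    capIt δ L t G (i + m) = capIt δ L (fun p => t (i + p)) (capIt δ L t G i) m
  | 0 => rfl
  | m + 1 => by
    show Cyc.c1CapFun δ L (capIt δ L t G (i + m)) (t (i + m)) = _
    rw [capIt_add i m]
    rfl

theorem capIt_smul (c : ℤ) : ∀ m : ℕ, capIt δ L t (fun z => c * G z) m = fun z => c * capIt δ L t G m z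
  | 0 => rfl
  | m + 1 => funext fun z => by
    show Cyc.c1CapFun δ L (capIt δ L t (fun z => c * G z) m) (t m) z = _
    rw [capIt_smul c m, c1CapFun_smul]
    rfl

theorem capIt_zero (h : ∀ z, G z = 0) (m : ℕ) (z : Z) : capIt δ L t G m z = 0 := by
  have h1 : G = fun z => (0 : ℤ) * G z := funext fun w => by rw [h w, mul_zero]
  rw [h1, capIt_smul]
  exact zero_mul _

theorem exists_of_capIt_ne_zero : ∀ (m : ℕ) {x : Z}, capIt δ L t G m x ≠ 0 → ∃ ξ, G ξ ≠ 0 ∧ ξ ⤳ x
  | 0, x, h => ⟨x, h, specializes_rfl⟩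
  | m + 1, x, h => by
    obtain ⟨ξ, hξ⟩ : ∃ ξ, capIt δ L t G m ξ * Cyc.secDivFun δ L ξ (t m ξ) x ≠ 0 := by
      by_contra hc
      push Not at hc
      exact h (finsum_eq_zero_of_forall_eq_zero hc)
    obtain ⟨η, h1, h2⟩ := exists_of_capIt_ne_zero m (left_ne_zero_of_mul hξ)
    exact ⟨η, h1, h2.trans (specializes_of_secDivFun_ne_zero (right_ne_zero_of_mul hξ)).1⟩

variable [IsLocallyNoetherian Z]

theorem exists_cycle_capIt (hd : Cyc.IsDimFun Z δ) (hL : PicF.IsInvertible L) (ht : ∀ m z, t m z ≠ 0)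
    {a : AlgebraicCycle Z ℤ} : ∀ m : ℕ, ∃ b : AlgebraicCycle Z ℤ, ⇑b = capIt δ L t ⇑a m ∧
      ∀ d : ℤ, a ∈ Cyc.Zk Z δ (d + m) → b ∈ Cyc.Zk Z δ d
  | 0 => ⟨a, rfl, fun d h => by simpa using h⟩
  | m + 1 => by
    obtain ⟨b, hb, hb'⟩ := exists_cycle_capIt hd hL ht m
    obtain ⟨b', hb''⟩ := exists_cycle_c1Cap hL hd b (ht m)
    exact ⟨b', hb''.trans (by rw [hb]; rfl), fun d h => c1Cap_mem_Zk (hb' (d + 1) (by
      rwa [show d + 1 + (m : ℤ) = d + ((m + 1 : ℕ) : ℤ) by push_cast; ring])) hb''⟩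

theorem capIt_ratEquivZero (hd : Cyc.IsDimFun Z δ) (hL : PicF.IsInvertible L) (ht : ∀ m z, t m z ≠ 0)
    {a : AlgebraicCycle Z ℤ} : ∀ (m : ℕ) (d : ℤ), Cyc.RatEquivZero δ (d + m) a →
      ∀ b : AlgebraicCycle Z ℤ, ⇑b = capIt δ L t ⇑a m → Cyc.RatEquivZero δ d b
  | 0, d, h, b, hb => ratEquivZero_congr (fun x => (congrFun hb x).symm) (by simpa using h)
  | m + 1, d, h, b, hb => by
    obtain ⟨b', hb', -⟩ := exists_cycle_capIt hd hL ht (a := a) m
    refine c1Cap_ratEquivZero hd hL (capIt_ratEquivZero hd hL ht m (d + 1) ?_ b' hb') (ht m)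
      (hb.trans (by rw [hb']; rfl))
    rwa [show d + 1 + (m : ℤ) = d + ((m + 1 : ℕ) : ℤ) by push_cast; ring]

omit [IsLocallyNoetherian Z] in
theorem c1CapFun_sum {I : Type} (s : Finset I) (a : I → AlgebraicCycle Z ℤ) {H : Z → ℤ}
    (hH : ∀ ξ, H ξ = ∑ i ∈ s, a i ξ) (v : (z : Z) → Cyc.secFibre L z) (x : Z) :
    Cyc.c1CapFun δ L H v x = ∑ i ∈ s, Cyc.c1CapFun δ L ⇑(a i) v x := by
  obtain ⟨V, hV, hxV, -⟩ := exists_isAffineOpen_mem_and_subset (U := (⊤ : Z.Opens)) (x := x) trivial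
  let I' : Finset Z := s.biUnion fun i => (finite_support_inter (a i) hV).toFinset
  have hI : ∀ i ∈ s, ∀ ξ ∈ V, a i ξ ≠ 0 → ξ ∈ I' := fun i hi ξ h1 h2 =>
    Finset.mem_biUnion.2 ⟨i, hi, (finite_support_inter (a i) hV).mem_toFinset.2 ⟨h1, h2⟩⟩
  rw [c1CapFun_eq_sum δ H v hxV I' fun ξ h1 h2 => by
    rw [hH] at h2
    obtain ⟨i, hi, hi'⟩ := Finset.exists_ne_zero_of_sum_ne_zero h2
    exact hI i hi ξ h1 hi', Finset.sum_congr rfl fun i hi => c1CapFun_eq_sum δ (⇑(a i)) v hxV I' (hI i hi),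
    Finset.sum_comm]
  exact Finset.sum_congr rfl fun ξ _ => by rw [hH, Finset.sum_mul]

theorem capIt_sum (hd : Cyc.IsDimFun Z δ) (hL : PicF.IsInvertible L) (ht : ∀ m z, t m z ≠ 0) {I : Type} (s : Finset I)
    (a : I → AlgebraicCycle Z ℤ) {H : Z → ℤ} (hH : ∀ ξ, H ξ = ∑ i ∈ s, a i ξ) :
    ∀ (m : ℕ) (x : Z), capIt δ L t H m x = ∑ i ∈ s, capIt δ L t ⇑(a i) m x
  | 0, x => hH x
  | m + 1, x => by
    choose b hb _ using fun i => exists_cycle_capIt hd hL ht (a := a i) m
    show Cyc.c1CapFun δ L (capIt δ L t H m) (t m) x = _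
    rw [c1CapFun_sum s b (fun ξ => (capIt_sum hd hL ht s a hH m ξ).trans (Finset.sum_congr rfl fun i _ =>
      by rw [hb i])) (t m) x]
    exact Finset.sum_congr rfl fun i _ => by rw [hb i]; rfl

end cap

/-- A finite sum of cycles, pointwise. -/
theorem cycle_sum_apply {Z : Scheme.{u}} {I : Type} (a : I → AlgebraicCycle Z ℤ) (s : Finset I) (x : Z) :
    (∑ i ∈ s, a i) x = ∑ i ∈ s, a i x := by
  refine Finset.induction_on s rfl fun i s hi ih => ?_
  rw [Finset.sum_insert hi, Finset.sum_insert (f := fun j => a j x) hi, ← ih]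
  rfl

/-- Push forward is additive, pointwise. -/
theorem map_sum_apply {X Y : Scheme.{u}} (p : X ⟶ Y) [QuasiCompact p] (δX : X → ℤ) (δY : Y → ℤ) {I : Type}
    (s : Finset I) (a : I → AlgebraicCycle X ℤ) {H : AlgebraicCycle X ℤ} (hH : ∀ x, H x = ∑ i ∈ s, a i x) (y : Y) :
    AlgebraicCycle.map p δX δY H y = ∑ i ∈ s, AlgebraicCycle.map p δX δY (a i) y := by
  obtain ⟨W, hW, hyW, -⟩ := exists_isAffineOpen_mem_and_subset (U := (⊤ : Y.Opens)) (x := y) trivial
  have hfin : (⋃ i ∈ s, {x : X | p x = y ∧ a i x ≠ 0}).Finite := s.finite_toSet.biUnion fun i _ =>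
    ((a i).locallyFiniteSupport.finite_inter_support_of_isCompact (p.isCompact_preimage hW.isCompact)).subset
      fun x hx => ⟨show p x ∈ W from hx.1.symm ▸ hyW, hx.2⟩
  have hm : ∀ x ∈ hfin.toFinset, p x = y := fun x hx => by
    obtain ⟨i, -, hi⟩ := Set.mem_iUnion₂.1 (hfin.mem_toFinset.1 hx)
    exact hi.1
  rw [map_apply_eq_sum p δX δY H y hfin.toFinset hm fun x hx hne _ => ?_,
    Finset.sum_congr rfl fun i hi => map_apply_eq_sum p δX δY (a i) y hfin.toFinset hm fun x hx hne _ =>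
      hfin.mem_toFinset.2 (Set.mem_iUnion₂.2 ⟨i, hi, hx, hne⟩), Finset.sum_comm]
  · exact Finset.sum_congr rfl fun x _ => by rw [hH, Finset.sum_mul]
  · rw [hH] at hne
    obtain ⟨i, hi, hi'⟩ := Finset.exists_ne_zero_of_sum_ne_zero hne
    exact hfin.mem_toFinset.2 (Set.mem_iUnion₂.2 ⟨i, hi, hx, hi'⟩)

variable {X P : Scheme.{u}} {E : X.Modules} {π : P ⟶ X} [IsProper π] {O1 : P.Modules}
  {φ : E ⟶ (Scheme.Modules.pushforward π).obj O1} {n : ℕ} {δP : P → ℤ} {δ : X → ℤ}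

/-- Sections restricted to a fibre. -/
abbrev fibSec (π : P ⟶ X) {O1 : P.Modules} (t : ℕ → (x : P) → Cyc.secFibre O1 x) (y : X) :
    ℕ → (z : π.fiber y) → Cyc.secFibre ((Scheme.Modules.pullback (π.fiberι y)).obj O1) z :=
  fun m z => secPull (π.fiberι y) O1 z (t m (π.fiberι y z))

omit [IsProper π] in
/-- Restriction of an iterated cap product to a fibre over a maximal point of the support. -/
theorem capIt_fiber (hinv : PicF.IsInvertible O1) {t : ℕ → (x : P) → Cyc.secFibre O1 x} (ht : ∀ m x, t m x ≠ 0)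
    {G : P → ℤ} {y : X} (hG : ∀ x, G x ≠ 0 → π x ⤳ y → π x = y) : ∀ (m : ℕ) (z : π.fiber y),
    capIt δP O1 t G m (π.fiberι y z) =
      capIt (fun w => δP (π.fiberι y w)) _ (fibSec π t y) (fun w => G (π.fiberι y w)) m z
  | 0, z => rfl
  | m + 1, z => by
    show (∑ᶠ ξ : P, capIt δP O1 t G m ξ * Cyc.secDivFun δP O1 ξ (t m ξ) (π.fiberι y z)) = _
    have hsupp : Function.support (fun ξ : P => capIt δP O1 t G m ξ *
        Cyc.secDivFun δP O1 ξ (t m ξ) (π.fiberι y z)) ⊆ Set.range (π.fiberι y) := fun ξ hξ => by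
      obtain ⟨η, hη, hηξ⟩ := exists_of_capIt_ne_zero m (left_ne_zero_of_mul hξ)
      have h2 : π ξ ⤳ y := by
        have := (specializes_of_secDivFun_ne_zero (right_ne_zero_of_mul hξ)).1.map π.continuous
        rwa [GenLen5.apply_fiberι π y z] at this
      rw [π.range_fiberι y]
      have h3 : y ⤳ π ξ := hG η hη ((hηξ.map π.continuous).trans h2) ▸ hηξ.map π.continuous
      exact (h2.antisymm h3).eq
    rw [← finsum_mem_univ (fun ξ : P => capIt δP O1 t G m ξ * Cyc.secDivFun δP O1 ξ (t m ξ) (π.fiberι y z)),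
      ← finsum_mem_inter_support, Set.univ_inter, ← Set.inter_eq_right.2 hsupp, finsum_mem_inter_support,
      finsum_mem_range (π.fiberι y).isEmbedding.injective]
    exact finsum_congr fun ξ => by
      rw [capIt_fiber hinv ht hG m ξ, ← secDivFun_pull (δ := δP) (π.fiberι y) hinv ξ z (ht m (π.fiberι y ξ))]

section bundle

variable (hB : UBundle π E O1 φ) (hE : FlatMod.IsFinLocFreeOfRank (n + 1) E) (hd : Cyc.IsDimFun P δP)
  (hδ : Cyc.DeltaCompat π δP δ)

include hB hE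

omit [IsProper π] in
theorem flat_bundle : Flat π := by
  choose U e hyU he using fun y => P1Split.exists_isBas_nhd hE y
  refine IsZariskiLocalAtSource.of_iSup_eq_top (fun p : X × Fin (n + 1) => chartOpen φ (e p.1) p.2)
    (eq_top_iff.2 fun x _ => Opens.mem_iSup.2 ?_) fun p => ?_
  · obtain ⟨i, hi⟩ := Opens.mem_iSup.1 ((iSup_chartOpen hB (he (π x))).ge (show π x ∈ U (π x) from hyU _))
    exact ⟨(π x, i), hi⟩
  · obtain ⟨Θ, hΘ, -⟩ := exists_chartIso hB (he p.1) p.2
    haveI := Groth.Agent.PicNormal14.flat_affineSpace (ULift.{u} (Fin n)) (U p.1 : Scheme.{u})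
    rw [← hΘ]
    infer_instance

omit [IsProper π] in
theorem isIntegral_fibre (y : X) : IsIntegral (π.fiber y) := by
  obtain ⟨U, e, hy, he⟩ := P1Split.exists_isBas_nhd hE y
  exact isIntegral_fiber hB he hy

include hδ in
theorem delta_fgen [∀ y, IsIntegral (π.fiber y)] (y : X) : δP (fgen π y) = δ y + n := by
  obtain ⟨U, e, hy, he⟩ := P1Split.exists_isBas_nhd hE y
  exact delta_generic hB he hy hδ

include hd hδ

theorem delta_le (x : P) : δP x ≤ δ (π x) + n := by
  haveI := isIntegral_fibre hB hE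
  rcases eq_or_ne (fgen π (π x)) x with h | h
  · exact le_of_eq ((congrArg δP h).symm.trans (delta_fgen hB hE hδ _))
  · have h1 := (hd _ x (fgen_specializes π rfl) h).1
    rw [delta_fgen hB hE hδ] at h1
    omega

theorem delta_maximal (z : P) (hz : ∀ w, π w = π z → w ⤳ z → w = z) : δP z = δ (π z) + n := by
  haveI := isIntegral_fibre hB hE
  exact (congrArg δP (eq_fgen_of_maximal π hz)).trans (delta_fgen hB hE hδ _)

theorem pullFun_fiber [∀ y, IsIntegral (π.fiber y)] (a : X → ℤ) (y : X) (z : π.fiber y) :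
    Cyc.pullFun π δP δ (n : ℤ) a (π.fiberι y z) = a y * ind (genericPoint (π.fiber y)) z := by
  simp only [Cyc.pullFun, ind]
  have hy : π (π.fiberι y z) = y := GenLen5.apply_fiberι π y z
  by_cases hz : z = genericPoint (π.fiber y)
  · subst hz
    have h1 := length_fgen π y
    simp only [fgen] at h1
    have h2 := delta_fgen hB hE hδ y
    simp only [fgen] at h2
    rw [if_pos (by rw [h2, hy]), h1, hy, if_pos rfl]
    simp
  · rw [if_neg hz, if_neg, mul_zero]
    intro h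
    have h1 := (hd _ (π.fiberι y z) ((genericPoint_specializes z).map (π.fiberι y).continuous)
      fun h' => hz ((π.fiberι y).isEmbedding.injective h').symm).1
    have h2 := delta_fgen hB hE hδ y
    simp only [fgen] at h2
    rw [hy] at h
    omega

/-- Iterated cap products with pulled back cycles on fibres over maximal points of the support. -/
theorem capIt_pull_fiber [∀ y, IsIntegral (π.fiber y)] {t : ℕ → (x : P) → Cyc.secFibre O1 x}
    (ht : ∀ m x, t m x ≠ 0) (a : X → ℤ) (y : X) (ha : ∀ η, a η ≠ 0 → η ⤳ y → η = y) (m : ℕ) (z : π.fiber y) :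
    capIt δP O1 t (Cyc.pullFun π δP δ (n : ℤ) a) m (π.fiberι y z) =
      a y * capIt (fun w => δP (π.fiberι y w)) _ (fibSec π t y) (ind (genericPoint (π.fiber y))) m z := by
  rw [capIt_fiber hB.inv ht (fun x hx hsp => ha (π x) ?_ hsp) m z,
    show (fun w => Cyc.pullFun π δP δ (n : ℤ) a (π.fiberι y w)) =
      fun w => a y * ind (genericPoint (π.fiber y)) w from funext (pullFun_fiber hB hE hd hδ a y), capIt_smul]
  intro h0
  exact hx (by simp only [Cyc.pullFun, h0, zero_mul, ite_self])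

end bundle

end Groth.Agent.Cyc26PB
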