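import Groth.Agent.Lib.Cyc26.PBChart
import Groth.Agent.Lib.TensorMod.Invertible
import Groth.Agent.Lib.VeryAmple11.Ops
import Groth.Agent.Lib.VeryAmple11.BundleTwist
import Groth.Prelude.Def_KRR

/-! # Both renderings of projective bundles have the universal property -/

set_option autoImplicit false
set_option linter.style.haveILetI false

universe u

open CategoryTheory Limits AlgebraicGeometry TopologicalSpace Opposite

set_option backward.isDefEq.respectTransparency false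

noncomputable section

namespace Groth.Agent.Cyc26PB

open Groth.Agent.M1 Groth.Agent.VA11
open Groth.Agent.P1Split (IsBas)

variable {X P : Scheme.{u}}

theorem exists_uBundle_relProj {E : X.Modules} (hE : Coh.IsQCoh E) {𝒮 : RelProj.QCGrAlg X} {j : E ⟶ 𝒮.toModule}
    (hj : RelProj.IsGrSymAlg E 𝒮 j) {p : P ⟶ X}
    {chart : ∀ (U : X.Opens) (hU : IsAffineOpen U), ((p ⁻¹ᵁ U : P.Opens) : Scheme.{u}) ≅ Proj (𝒮.deg U hU)}
    (hP : RelProj.IsRelProj 𝒮 p chart) {O1 : P.Modules}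
    {lam : ∀ (U : X.Opens) (hU : IsAffineOpen U),
      O1 ⟶ (Scheme.Modules.pushforward (RelProj.emb p chart U hU)).obj (GrTwist.twist (𝒮.deg U hU) 1)}
    (hO : RelProj.IsRelTwist 𝒮 p chart 1 O1 lam) (hinv : PicF.IsInvertible O1) :
    ∃ φ, UBundle p E O1 φ := by
  obtain ⟨φ, hφ⟩ := exists_can hE hj hP hO
  exact ⟨φ, hinv, gens_can hE hj hO hφ, fun T f L _ σ hσ => exists_morphism_can hE hj hP hO hφ hσ,
    fun T f L _ σ _ r₁ r₂ h₁ h₂ τ₁ τ₂ e₁ e₂ => eq_of_can hE hj hP hO hφ h₁ h₂ τ₁ τ₂ σ (fun U _ e => e₁ U e)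
      fun U _ e => e₂ U e⟩

theorem uBundle_projBundle {E : X.Modules} {π : P ⟶ X} {O1 : P.Modules}
    {q : (Scheme.Modules.pullback π).obj E ⟶ O1} (h : KRR.IsProjBundle π E O1 q) :
    UBundle π E O1 ((Scheme.Modules.pullbackPushforwardAdjunction π).homEquiv E O1 q) := by
  have hinv : PicF.IsInvertible O1 := (M2.isInvertible_iff_isFinLocFreeOfRank_one O1).2 h.invertible
  let φ := (Scheme.Modules.pullbackPushforwardAdjunction π).homEquiv E O1 q
  have hφ : ∀ (U : X.Opens) (y : Γ(E, U)), φ.app U y = q.app (π ⁻¹ᵁ U) (M2.pullSec π E y) := fun U y =>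
    congrArg (fun χ : E ⟶ (Scheme.Modules.pushforward π).obj O1 => χ.app U y)
      ((Scheme.Modules.pullbackPushforwardAdjunction π).homEquiv_unit _ _ _)
  have key : ∀ {T : Scheme.{u}} (f : T ⟶ X) {L : T.Modules} (σ : E ⟶ (Scheme.Modules.pushforward f).obj L)
      (r : T ⟶ P) (hr : r ≫ π = f) (τ : (Scheme.Modules.pullback r).obj O1 ≅ L),
      ((Scheme.Modules.pullbackCongr hr).inv.app E ≫ (Scheme.Modules.pullbackComp r π).inv.app E ≫
          (Scheme.Modules.pullback r).map q ≫ τ.hom =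
        ((Scheme.Modules.pullbackPushforwardAdjunction f).homEquiv E L).symm σ) ↔
      ∀ (U : X.Opens) (y : Γ(E, U)), τ.hom.app (r ⁻¹ᵁ (π ⁻¹ᵁ U)) (M2.pullSec r O1 (φ.app U y)) =
        mres L (show r ⁻¹ᵁ (π ⁻¹ᵁ U) ≤ f ⁻¹ᵁ U by rw [← hr]; rfl) (σ.app U y) := by
    intro T f L σ r hr τ
    subst hr
    have hs : ∀ (U : X.Opens) (y : Γ(E, U)),
        (((Scheme.Modules.pullbackPushforwardAdjunction (r ≫ π)).homEquiv E L).symm σ).app ((r ≫ π) ⁻¹ᵁ U)
          (M2.pullSec (r ≫ π) E y) = σ.app U y := fun U y =>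
      congrArg (fun χ : E ⟶ (Scheme.Modules.pushforward (r ≫ π)).obj L => χ.app U y)
        ((((Scheme.Modules.pullbackPushforwardAdjunction (r ≫ π)).homEquiv_unit _ _ _)).symm.trans
          (Equiv.apply_symm_apply _ σ))
    have hl : ∀ (U : X.Opens) (y : Γ(E, U)),
        ((Scheme.Modules.pullbackCongr (rfl : r ≫ π = r ≫ π)).inv.app E ≫ (Scheme.Modules.pullbackComp r π).inv.app E ≫
          (Scheme.Modules.pullback r).map q ≫ τ.hom).app ((r ≫ π) ⁻¹ᵁ U) (M2.pullSec (r ≫ π) E y) =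
        τ.hom.app (r ⁻¹ᵁ (π ⁻¹ᵁ U)) (M2.pullSec r O1 (φ.app U y)) := fun U y => by
      rw [hφ]
      simp only [Scheme.Modules.pullbackCongr, eqToIso_refl, Iso.refl_inv, NatTrans.id_app, Category.id_comp,
        Scheme.Modules.Hom.comp_app, ConcreteCategory.comp_apply, pullbackComp_inv_pullSec]
      exact congrArg (fun z => τ.hom.app _ z) (map_pullSec r q (M2.pullSec π E y))
    refine ⟨fun heq U y => ?_, fun heq => hom_ext_pullSec (r ≫ π) _ _ fun U _ y => ?_⟩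
    · rw [← hl, heq, hs]
      exact (mres_id L _ _).symm
    · rw [hl, heq, hs]
      exact mres_id L _ _
  have hgens : Gens φ := by
    haveI := h.epi
    exact gens_of_epi hinv q
  refine ⟨hinv, hgens, fun T f L hL σ hσ => ?_, fun T f L hL σ hσ r₁ r₂ h₁ h₂ τ₁ τ₂ e₁ e₂ => ?_⟩
  · obtain ⟨r, ⟨hr, τ, hτ⟩, -⟩ := h.univ T f L ((M2.isInvertible_iff_isFinLocFreeOfRank_one L).1 hL) _
      (epi_of_gens hL hσ)
    exact ⟨r, hr, τ, (key f σ r hr τ).1 hτ⟩
  · obtain ⟨r, -, hu⟩ := h.univ T f L ((M2.isInvertible_iff_isFinLocFreeOfRank_one L).1 hL) _ (epi_of_gens hL hσ)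
    exact (hu r₁ ⟨h₁, τ₁, (key f σ r₁ h₁ τ₁).2 e₁⟩).trans (hu r₂ ⟨h₂, τ₂, (key f σ r₂ h₂ τ₂).2 e₂⟩).symm

theorem iSup_chartOpen {E : X.Modules} {π : P ⟶ X} {O1 : P.Modules}
    {φ : E ⟶ (Scheme.Modules.pushforward π).obj O1} (hB : UBundle π E O1 φ) {m : ℕ} {U : X.Opens}
    {e : Fin m → Γ(E, U)} (he : IsBas E U e) : ⨆ i, chartOpen φ e i = π ⁻¹ᵁ U := by
  refine le_antisymm (iSup_le fun i => chartOpen_le i) fun x hx => Opens.mem_iSup.2 ?_
  by_contra hne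
  push Not at hne
  obtain ⟨V, y, hy⟩ := hB.gens x
  have hxW : π x ∈ V ⊓ U := ⟨gl_le (secs φ V y) hy, hx⟩
  obtain ⟨c, hc⟩ := (he (V ⊓ U) inf_le_right).2 (mres E inf_le_left y)
  have hgen : Amp.Gen (Amp.gm O1 x (U := π ⁻¹ᵁ (V ⊓ U)) hxW (secs φ (V ⊓ U) (mres E inf_le_left y))) := by
    refine (mem_gl_iff hB.inv (W := π ⁻¹ᵁ (V ⊓ U)) hxW).1 ?_
    rw [← secs_res, gl_mres]
    exact ⟨hy, hxW⟩
  obtain ⟨g₀, hg₀⟩ := Amp.exists_stalk_gen hB.inv x
  have hbad : ∀ l, ∃ a ∈ IsLocalRing.maximalIdeal (P.presheaf.stalk x),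
      Amp.gm O1 x (U := π ⁻¹ᵁ U) hx (secs φ U (e l)) = a • g₀ := fun l => by
    obtain ⟨a, ha⟩ := hg₀.2 (Amp.gm O1 x (U := π ⁻¹ᵁ U) hx (secs φ U (e l)))
    refine ⟨a, ?_, ha.symm⟩
    by_contra hau
    refine hne l ((mem_gl_iff hB.inv (W := π ⁻¹ᵁ U) hx).2 ?_)
    rw [← ha]
    exact (hg₀.ne_zero_smul a).2 (by simpa using hau)
  choose a ha hae using hbad
  have hsum : Amp.gm O1 x (U := π ⁻¹ᵁ (V ⊓ U)) hxW (secs φ (V ⊓ U) (mres E inf_le_left y)) =
      (∑ l, P.presheaf.germ (π ⁻¹ᵁ (V ⊓ U)) x hxW (π.app (V ⊓ U) (c l)) * a l) • g₀ := by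
    rw [← hc]
    show O1.presheaf.germ _ x hxW (φ.app (V ⊓ U) (∑ l, c l • mres E inf_le_right (e l))) = _
    rw [map_sum, map_sum, Finset.sum_smul]
    refine Finset.sum_congr rfl fun l _ => ?_
    rw [mul_smul, ← hae]
    refine (congrArg (O1.presheaf.germ _ x hxW) (secs_smul φ (V ⊓ U) (c l) (mres E inf_le_right (e l)))).trans ?_
    rw [germ_smul, ← secs_res]
    congr 1
    exact germ_mres O1 _ _ _
  rw [hsum] at hgen
  exact (IsLocalRing.mem_maximalIdeal _).1 (Ideal.sum_mem _ fun l _ => Ideal.mul_mem_left _ _ (ha l))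
    ((hg₀.ne_zero_smul _).1 hgen)

end Groth.Agent.Cyc26PB
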