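import Groth.Agent.Lib.Cyc26.PBTop
import Groth.Agent.Lib.Cyc26.C1Gen
import Mathlib.Algebra.MvPolynomial.Division

/-! # The divisor of a coordinate on a linear subspace -/

set_option autoImplicit false
set_option linter.style.haveILetI false

universe u

open CategoryTheory Limits AlgebraicGeometry TopologicalSpace Opposite

set_option backward.isDefEq.respectTransparency false

noncomputable section

namespace Groth.Agent.Cyc26PB

open Groth.Agent.VA11 Groth.Agent.Cyc26
open Groth.Agent.P1Split (IsBas)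
open Groth.Agent.M1 (mres)
open scoped Classical

section poly

variable {K : Type u} [Field K] {m : ℕ}

theorem divFun_coord (δ : PolySpec m K → ℤ) (hd : Cyc.IsDimFun (PolySpec m K) δ) (l : Fin m) {p : PolySpec m K}
    (hp : δ p + 1 = δ (genericPoint (PolySpec m K)))
    (hl : p ∉ (PolySpec m K).basicOpen (polyFun (MvPolynomial.X l))) :
    Cyc.divFun δ (genericPoint (PolySpec m K)) ((PolySpec m K).residue _
      ((PolySpec m K).presheaf.germ ⊤ _ trivial (polyFun (MvPolynomial.X l)))) p = 1 := by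
  let A : Type u := MvPolynomial (Fin m) K
  have hbo : ∀ (r : PolySpec m K) (f : A), r ∈ (PolySpec m K).basicOpen (polyFun f) ↔ f ∉ r.asIdeal := fun r f => by
    rw [polyFun, basicOpen_eq_of_affine]
    rfl
  have hX : (MvPolynomial.X l : A) ∈ p.asIdeal := by
    by_contra h
    exact hl ((hbo _ _).2 h)
  have hpr : (Ideal.span {(MvPolynomial.X l : A)}).IsPrime :=
    (Ideal.span_singleton_prime (MvPolynomial.X_ne_zero l)).2 MvPolynomial.X_prime
  let q : PolySpec m K := (⟨_, hpr⟩ : PrimeSpectrum A)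
  have hqp : q ⤳ p :=
    (PrimeSpectrum.le_iff_specializes (R := A) q p).1 ((Ideal.span_singleton_le_iff_mem _).2 hX)
  have hq : q ≠ genericPoint (PolySpec m K) := fun h => by
    have h1 : genericPoint (PolySpec m K) = (⟨⊥, Ideal.isPrime_bot⟩ : PrimeSpectrum A) :=
      genericPoint_eq_bot_of_affine _
    rw [h1] at h
    exact MvPolynomial.X_ne_zero l (Ideal.span_singleton_eq_bot.1 (congrArg PrimeSpectrum.asIdeal h))
  have hpne : genericPoint (PolySpec m K) ≠ p := fun h => by rw [← h] at hp; omega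
  obtain rfl : q = p := by
    by_contra hne
    have h1 := (hd _ _ (genericPoint_specializes q) (Ne.symm hq)).1
    have h2 := (hd _ _ hqp hne).1
    omega
  let a : (PolySpec m K).presheaf.stalk q := (PolySpec m K).presheaf.germ ⊤ q trivial (polyFun (MvPolynomial.X l))
  have ha : (PolySpec m K).residue _ ((PolySpec m K).presheaf.germ ⊤ (genericPoint (PolySpec m K)) trivial
      (polyFun (MvPolynomial.X l))) = Cyc.specMap q (genericPoint (PolySpec m K)) (genericPoint_specializes q) a :=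
    (congrArg ((PolySpec m K).residue _)
      (TopCat.Presheaf.germ_stalkSpecializes_apply (PolySpec m K).presheaf _ _ _)).symm
  simp only [Cyc.divFun]
  rw [dif_pos ⟨genericPoint_specializes q, hp⟩, ha]
  have hane : a ≠ 0 := fun h => by
    rw [← map_zero ((PolySpec m K).presheaf.germ ⊤ q trivial).hom] at h
    exact MvPolynomial.X_ne_zero l ((Scheme.ΓSpecIso _).symm.commRingCatIsoToRingEquiv.injective
      ((germ_injective_of_isIntegral _ q (U := ⊤) trivial h).trans (map_zero _).symm))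
  rw [ordAt_specMap_generic hd (genericPoint_specializes q) hp hane]
  letI : Algebra A ((PolySpec m K).presheaf.stalk q) :=
    inferInstanceAs (Algebra A ((Spec.structureSheaf A).presheaf.stalk (show PrimeSpectrum A from q)))
  haveI : IsLocalization.AtPrime ((PolySpec m K).presheaf.stalk q) q.asIdeal :=
    StructureSheaf.IsLocalization.to_stalk A q
  have hmax : Ideal.span {a} = IsLocalRing.maximalIdeal ((PolySpec m K).presheaf.stalk q) := by
    rw [← IsLocalization.AtPrime.map_eq_maximalIdeal q.asIdeal ((PolySpec m K).presheaf.stalk q)]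
    show _ = Ideal.map _ (Ideal.span {(MvPolynomial.X l : A)})
    rw [Ideal.map_span, Set.image_singleton]
    rfl
  have hlen : Module.length ((PolySpec m K).presheaf.stalk q)
      ((PolySpec m K).presheaf.stalk q ⧸ Ideal.span {a}) = 1 := by
    rw [Module.length_eq_one_iff, isSimpleModule_iff_isCoatom, hmax]
    exact Ideal.isMaximal_def.1 inferInstance
  rw [hlen]
  rfl

end poly

variable {X P : Scheme.{u}} {E : X.Modules} {π : P ⟶ X} {O1 : P.Modules}
  {φ : E ⟶ (Scheme.Modules.pushforward π).obj O1} {n : ℕ} {U : X.Opens} {e : Fin (n + 1) → Γ(E, U)}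
  (hB : UBundle π E O1 φ) (he : IsBas E U e) {y : X} (hy : y ∈ U)
  {h : Fin (n + 1) → ↥(π.fiber y)} (hh : FibPts φ e y h)

include hB he hy hh

/-- The divisor of the `i`-th section on the `i`-th linear subspace is the previous one. -/
theorem exists_sec_divisor {δP : P → ℤ} (hd : Cyc.IsDimFun P δP)
    (hdim : ∀ j : Fin (n + 1), δP (π.fiberι y (h j)) = δP (π.fiberι y (h 0)) + (j : ℕ)) (i : Fin (n + 1)) :
    ∃ σ : Cyc.secFibre O1 (π.fiberι y (h i)), σ ≠ 0 ∧ ∀ z : π.fiber y,
      Cyc.secDivFun δP O1 (π.fiberι y (h i)) σ (π.fiberι y z) =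
        if ∃ j : Fin (n + 1), (j : ℕ) + 1 = i ∧ z = h j then 1 else 0 := by
  have hgl : ∀ j, (Twist.IsGen O1 (chartOpen φ e j) (mres O1 (gl_le _) (secs φ U (e j)))) := fun j => isGen_gl _
  have hfr : ∀ j, Groth.Agent.M2.IsGenerator (mres O1 (gl_le _) (secs φ U (e j)) : Γ(O1, chartOpen φ e j)) :=
    fun j => hgl j
  have hξ : π.fiberι y (h i) ∈ chartOpen φ e i := (hh.mem i).1
  let g := Amp.gm O1 (π.fiberι y (h i)) hξ (mres O1 (gl_le _) (secs φ U (e i)))
  have hg : Amp.Gen g := Amp.gen_of_isGenerator (hfr i) hξ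
  have hdF : Cyc.IsDimFun (π.fiber y) fun z => δP (π.fiberι y z) := isDimFun_fiber π y hd
  have hg0 : fmk O1 _ g ≠ 0 := fun h0 => smul_ne_zero_of_residue hg
    (a := (1 : P.presheaf.stalk (π.fiberι y (h i)))) (by rw [map_one]; exact one_ne_zero) (by rw [one_smul]; exact h0)
  have hone : ∀ a b : P, Cyc.divFun δP a 1 b = 0 := fun a b => by
    simp only [Cyc.divFun]
    split_ifs with h
    · exact ordFrac_one
    · rfl
  refine ⟨fmk O1 _ g, hg0, fun z => ?_⟩
  by_cases hsp : h i ⤳ z ∧ δP (π.fiberι y z) + 1 = δP (π.fiberι y (h i))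
  swap
  · rw [if_neg]
    · by_contra hne
      have h1 := specializes_of_secDivFun_ne_zero hne
      exact hsp ⟨(π.fiberι y).isEmbedding.isInducing.specializes_iff.1 h1.1, h1.2⟩
    · rintro ⟨j, hji, rfl⟩
      refine hsp ⟨hh.spec i _ fun l hl => (hh.mem j).2 l (lt_trans (Fin.lt_def.2 (by omega)) hl), ?_⟩
      rw [hdim j, hdim i, ← hji]
      push_cast
      ring
  obtain ⟨hsz, hdz⟩ := hsp
  have hz : z ∈ linSet φ e y i := hh.closure_subset i (specializes_iff_mem_closure.1 hsz)
  by_cases hzi : z ∈ fOpen φ e y i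
  · have h1 : fmk O1 _ g = (1 : P.presheaf.stalk (π.fiberι y (h i))) • fmk O1 _ g := (one_smul _ _).symm
    rw [h1, secDivFun_frame hB.inv (hfr i) hξ 1 (by rw [map_one]; exact one_ne_zero) δP _ hzi, map_one, hone, if_neg]
    rintro ⟨j, hji, rfl⟩
    exact (hh.mem j).2 i (Fin.lt_def.2 (by omega)) hzi
  have hi0 : 0 < (i : ℕ) := by
    by_contra h0
    obtain ⟨j, hji, hzj, -⟩ := exists_mem_cellSet hB he hy hz
    have h2 : j = i := le_antisymm hji (Fin.le_def.2 (by omega))
    exact hzi (h2 ▸ hzj.1)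
  obtain ⟨j, hji⟩ : ∃ j : Fin (n + 1), (j : ℕ) + 1 = i := ⟨⟨(i : ℕ) - 1, by omega⟩, by simp only; omega⟩
  have hzj : z ∈ linSet φ e y j := fun l hl => by
    rcases eq_or_lt_of_le (show i ≤ l from Fin.le_def.2 (by have h3 : (j : ℕ) < l := hl; omega)) with rfl | h4
    · exact hzi
    · exact hz l h4
  obtain rfl : z = h j := by
    by_contra hne
    have := (hdF _ _ (hh.spec j z hzj) (Ne.symm hne)).1
    simp only at this
    rw [hdim j] at this
    rw [hdim i] at hdz
    omega
  rw [if_pos ⟨j, hji, rfl⟩]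
  have hij : j ≤ i := Fin.le_def.2 (by omega)
  obtain ⟨k, hk, hkr, -, -, hkq, hkc⟩ := exists_cell hB he hy i j hij
  have hhi : h i ∈ cellSet φ e y i j := ⟨hsz.mem_open (fOpen φ e y j).isOpen (hh.mem j).1, (hh.mem i).2⟩
  have hhj : h j ∈ cellSet φ e y i j := ⟨(hh.mem j).1, hz⟩
  rw [← hkr] at hhi hhj
  obtain ⟨ξ, hkξ⟩ := hhi
  obtain ⟨p, hkp⟩ := hhj
  obtain ⟨l, hl⟩ := Fin.exists_succAbove_eq (x := i) (y := j) (fun h => by rw [h] at hji; omega)
  have hli : (l : ℕ) < i := by
    rw [← hl] at hji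
    rcases lt_or_ge (Fin.castSucc l) j with h | h
    · rw [Fin.succAbove_of_castSucc_lt j l h] at hji
      have h2 : (l : ℕ) < j := h
      simp only [Fin.val_castSucc] at hji
      omega
    · rw [Fin.succAbove_of_le_castSucc j l h] at hji
      simp only [Fin.val_succ] at hji
      rw [← hl, Fin.succAbove_of_le_castSucc j l h, Fin.val_succ]
      omega
  let r := k ≫ π.fiberι y
  haveI : IsPreimmersion r := inferInstance
  have hξj : π.fiberι y (h i) ∈ chartOpen φ e j := hkξ ▸ hkq (show ξ ∈ (⊤ : Opens _) from trivial)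
  let ψ := P.presheaf.germ (chartOpen φ e j) _ hξj (ratio φ e j i)
  have hgψ : g = ψ • Amp.gm O1 (π.fiberι y (h i)) hξj (mres O1 (gl_le _) (secs φ U (e j))) := by
    show O1.presheaf.germ _ _ hξ _ = ψ • O1.presheaf.germ _ _ hξj _
    rw [← M1.germ_smul, cf_smul, M1.germ_mres, M1.germ_mres]
  have hψ : P.residue _ ψ ≠ 0 := by
    rw [Ne, residue_eq_zero]
    intro hm
    refine (IsLocalRing.mem_maximalIdeal _).1 hm ?_
    have h3 : π.fiberι y (h i) ∈ P.basicOpen (ratio φ e j i) := by
      rw [← chartOpen_inf]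
      exact ⟨hξj, hξ⟩
    exact (P.mem_basicOpen _ _ hξj).1 h3
  have hgen : ξ = genericPoint (PolySpec (i : ℕ) (X.residueField y)) := by
    refine ((genericPoint_specializes ξ).antisymm ?_).symm.eq
    rw [← k.isEmbedding.isInducing.specializes_iff, hkξ]
    exact hh.spec i _ (hkr.le (Set.mem_range_self _)).2
  have hdA : Cyc.IsDimFun _ fun w => δP (r w) := isDimFun_immersion k hdF
  have hpbo : p ∉ (PolySpec (i : ℕ) (X.residueField y)).basicOpen (polyFun (MvPolynomial.X ⟨l, hli⟩)) := by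
    rw [← hkc l hli, Scheme.basicOpen_appLE, ← chartOpen_inf, hl]
    rintro ⟨-, -, hpi⟩
    exact hzi (hkp ▸ hpi)
  have hstep : ∀ (w : P) (hw : w = r ξ) (hwj : w ∈ chartOpen φ e j),
      Cyc.divFun δP w (P.residue _ (P.presheaf.germ (chartOpen φ e j) w hwj (ratio φ e j i))) (r p) = 1 := by
    rintro _ rfl hwj
    rw [← divFun_preimmersion r δP ξ p, ← ConcreteCategory.comp_apply, Scheme.residue_residueFieldMap,
      ConcreteCategory.comp_apply, Scheme.Hom.germ_stalkMap_apply]
    subst hgen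
    have h4 : (PolySpec (i : ℕ) (X.residueField y)).presheaf.germ (r ⁻¹ᵁ chartOpen φ e j) _ hwj
          (r.app _ (ratio φ e j i)) =
        (PolySpec (i : ℕ) (X.residueField y)).presheaf.germ ⊤ _ trivial (polyFun (MvPolynomial.X ⟨l, hli⟩)) := by
      rw [← hkc l hli, hl, Scheme.Hom.appLE, ConcreteCategory.comp_apply, TopCat.Presheaf.germ_res_apply]
    rw [h4]
    refine divFun_coord _ hdA ⟨l, hli⟩ ?_ hpbo
    show δP (π.fiberι y (k p)) + 1 = δP (π.fiberι y (k (genericPoint _)))
    rw [hkp, hkξ, hdz]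
  rw [hgψ, show fmk O1 _ (ψ • Amp.gm O1 _ hξj (mres O1 (gl_le _) (secs φ U (e j)))) =
    ψ • fmk O1 _ (Amp.gm O1 _ hξj (mres O1 (gl_le _) (secs φ U (e j)))) from Submodule.Quotient.mk_smul _ _ _,
    secDivFun_frame hB.inv (hfr j) hξj ψ hψ δP _ (hh.mem j).1]
  have h5 := hstep _ (congrArg (π.fiberι y) hkξ).symm hξj
  rwa [show r p = π.fiberι y (h j) from congrArg (π.fiberι y) hkp] at h5

end Groth.Agent.Cyc26PB
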