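import Groth.Agent.Lib.Cyc26.PBCell
import Groth.Agent.Lib.RegImm26.InterVar

/-! # The linear subspaces in a fibre of a projective bundle -/

set_option autoImplicit false
set_option linter.style.haveILetI false

universe u

open CategoryTheory Limits AlgebraicGeometry TopologicalSpace Opposite

set_option backward.isDefEq.respectTransparency false

noncomputable section

namespace Groth.Agent.Cyc26PB

open Groth.Agent.P1Split (IsBas)
open Groth.Agent.Cyc26 (PolySpec)

variable {X P : Scheme.{u}} {E : X.Modules} {π : P ⟶ X} {O1 : P.Modules}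
  {φ : E ⟶ (Scheme.Modules.pushforward π).obj O1} {n : ℕ} {U : X.Opens} {e : Fin (n + 1) → Γ(E, U)}

variable (φ e) in
/-- The linear subspace spanned by the first `i + 1` coordinates in a fibre. -/
def linSet (y : X) (i : Fin (n + 1)) : Set ↥(π.fiber y) := {z | ∀ l, i < l → z ∉ fOpen φ e y l}

theorem isClosed_linSet (y : X) (i : Fin (n + 1)) : IsClosed (linSet φ e y i) := by
  simp only [linSet, Set.ofPred_forall]
  exact isClosed_iInter fun l => isClosed_iInter fun _ => (fOpen φ e y l).isOpen.isClosed_compl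

variable (φ e) in
/-- Generic points of the standard linear subspaces of a fibre. -/
structure FibPts (y : X) (h : Fin (n + 1) → ↥(π.fiber y)) : Prop where
  mem : ∀ i, h i ∈ cellSet φ e y i i
  spec : ∀ i, ∀ z ∈ linSet φ e y i, h i ⤳ z
  sdim : ∀ i : Fin (n + 1), VarDim.sdim (π.fiberToSpecResidueField y) (h i) = (i : ℕ)

theorem FibPts.eq_top {y : X} {h : Fin (n + 1) → ↥(π.fiber y)} (hh : FibPts φ e y h) (z : π.fiber y) :
    h (Fin.last n) ⤳ z :=
  hh.spec _ z fun l hl => absurd (Fin.le_last l) (not_le.2 hl)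

theorem FibPts.eq_genericPoint {y : X} {h : Fin (n + 1) → ↥(π.fiber y)} (hh : FibPts φ e y h)
    [IsIntegral (π.fiber y)] : h (Fin.last n) = genericPoint (π.fiber y) :=
  ((hh.eq_top _).antisymm (genericPoint_specializes _)).eq

theorem FibPts.closure_subset {y : X} {h : Fin (n + 1) → ↥(π.fiber y)} (hh : FibPts φ e y h) (i : Fin (n + 1)) :
    closure {h i} ⊆ linSet φ e y i :=
  closure_minimal (Set.singleton_subset_iff.2 (hh.mem i).2) (isClosed_linSet y i)

variable (hB : UBundle π E O1 φ) (he : IsBas E U e) {y : X} (hy : y ∈ U)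

include hB he hy

theorem exists_chart (z : π.fiber y) : ∃ j, z ∈ fOpen φ e y j := by
  have h : π.fiberι y z ∈ π ⁻¹ᵁ U := by
    show π (π.fiberι y z) ∈ U
    rwa [GenLen5.apply_fiberι π y z]
  rw [← iSup_chartOpen hB he] at h
  obtain ⟨j, hj⟩ := Opens.mem_iSup.1 h
  exact ⟨j, hj⟩

theorem exists_mem_cellSet {i : Fin (n + 1)} {z : π.fiber y} (hz : z ∈ linSet φ e y i) :
    ∃ j, j ≤ i ∧ z ∈ cellSet φ e y j j ∧ z ∈ cellSet φ e y i j := by
  classical
  obtain ⟨j₀, hj₀⟩ := exists_chart hB he hy z
  let s := Finset.univ.filter fun j => z ∈ fOpen φ e y j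
  have hs : s.Nonempty := ⟨j₀, Finset.mem_filter.2 ⟨Finset.mem_univ _, hj₀⟩⟩
  have hj := (Finset.mem_filter.1 (s.max'_mem hs)).2
  refine ⟨s.max' hs, not_lt.1 fun h => hz _ h hj, ⟨hj, fun l hl hlz => ?_⟩, hj, hz⟩
  exact absurd (s.le_max' l (Finset.mem_filter.2 ⟨Finset.mem_univ _, hlz⟩)) (not_le.2 hl)

theorem exists_fibPts : ∃ h : Fin (n + 1) → ↥(π.fiber y), FibPts φ e y h := by
  choose k hk hrange hlast hbase hk' hcoord using fun i : Fin (n + 1) => exists_cell hB he hy i i le_rfl
  refine ⟨fun i => k i (genericPoint _), fun i => hrange i ▸ Set.mem_range_self _, fun i z hz => ?_, fun i => ?_⟩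
  · obtain ⟨j, hji, -, hzj⟩ := exists_mem_cellSet hB he hy hz
    obtain ⟨q, hq, hqr, -, hqb, hqk, hqc⟩ := exists_cell hB he hy i j hji
    rw [← hqr] at hzj
    obtain ⟨w, rfl⟩ := hzj
    refine Specializes.trans ?_ ((genericPoint_specializes w).map q.continuous)
    suffices hmem : q (genericPoint _) ∈ fOpen φ e y i by
      have h : q (genericPoint _) ∈ cellSet φ e y i i :=
        ⟨hmem, fun l hl => (hqr.le (Set.mem_range_self _)).2 l hl⟩
      rw [← hrange i] at h
      obtain ⟨v, hv⟩ := h
      rw [← hv]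
      exact (genericPoint_specializes v).map (k i).continuous
    rcases eq_or_ne j i with rfl | hne
    · exact (hqr.le (Set.mem_range_self _)).1
    by_contra hg
    obtain ⟨l, hl⟩ := Fin.exists_succAbove_eq (Ne.symm hne)
    have hli : (l : ℕ) < i := by
      have h1 : (j : ℕ) < i := lt_of_le_of_ne hji fun h => hne (Fin.ext h)
      rw [← hl] at h1 ⊢
      rcases lt_or_ge (Fin.castSucc l) j with h | h
      · rw [Fin.succAbove_of_castSucc_lt j l h] at h1 ⊢
        simp only [Fin.val_castSucc] at h1 ⊢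
        have h2 : (l : ℕ) < j := h
        omega
      · rw [Fin.succAbove_of_le_castSucc j l h] at h1 ⊢
        simp only [Fin.val_succ] at h1 ⊢
        omega
    have h0 : polyFun (K := X.residueField y) (MvPolynomial.X ⟨l, hli⟩ : MvPolynomial (Fin (i : ℕ)) _) = 0 := by
      rw [← hqc l hli, ← mem_chart_iff hqk, hl]
      exact fun w' hw' => hg (((genericPoint_specializes w').map q.continuous).mem_open (fOpen φ e y i).isOpen hw')
    exact MvPolynomial.X_ne_zero _ ((Scheme.ΓSpecIso _).symm.commRingCatIsoToRingEquiv.injective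
      (h0.trans (map_zero _).symm))
  · haveI := hk i
    rw [← VarDim.sdim_comp_of_surjective _ (k i), hbase i]
    exact RegImm26.sdim_genericPoint _ (Cyc26.topologicalKrullDim_polySpec _ _)

variable {h : Fin (n + 1) → ↥(π.fiber y)} (hh : FibPts φ e y h)

include hh

theorem FibPts.isIntegral : IsIntegral (π.fiber y) := by
  haveI : IrreducibleSpace (π.fiber y) := by
    haveI : Nonempty (π.fiber y) := ⟨h 0⟩
    haveI : PreirreducibleSpace (π.fiber y) := ⟨by
      rintro u v hu hv ⟨a, -, ha⟩ ⟨b, -, hb⟩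
      exact ⟨h (Fin.last n), trivial, (hh.eq_top a).mem_open hu ha,
        (hh.eq_top b).mem_open hv hb⟩⟩
    exact ⟨inferInstance⟩
  haveI : ∀ z : π.fiber y, _root_.IsReduced ((π.fiber y).presheaf.stalk z) := fun z => by
    obtain ⟨j, -, -, hzj⟩ := exists_mem_cellSet hB he hy (i := Fin.last n) (z := z)
      fun l hl => absurd (Fin.le_last l) (not_le.2 hl)
    obtain ⟨q, -, hqr, hql, -, -, -⟩ := exists_cell hB he hy (Fin.last n) j (Fin.le_last j)
    haveI := hql rfl
    rw [← hqr] at hzj
    obtain ⟨w, rfl⟩ := hzj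
    exact isReduced_of_injective (q.stalkMap w).hom
      ((asIso (q.stalkMap w)).commRingCatIsoToRingEquiv.injective)
  haveI : AlgebraicGeometry.IsReduced (π.fiber y) := isReduced_of_isReduced_stalk _
  exact isIntegral_of_irreducibleSpace_of_isReduced _

end Groth.Agent.Cyc26PB
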