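import Groth.Agent.Lib.Cyc26.SplitBase
import Groth.Agent.Lib.DVRTriv4.Main
import Groth.Agent.Lib.AmpleFib.PnVA
import Groth.Agent.Lib.Twist.Triv
import Groth.Agent.Lib.Algz3.Embed
import Groth.Agent.S3572
import Groth.Agent.S3573
import Groth.Prelude.Def_ProjUP

/-! # Projective space over a field as a projective bundle over the point -/

set_option autoImplicit false
set_option linter.style.haveILetI false

universe u

open CategoryTheory Limits AlgebraicGeometry TopologicalSpace Opposite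

set_option backward.isDefEq.respectTransparency false

noncomputable section

namespace Groth.Agent.Cyc26Pn

open Groth.Agent.M1 Groth.Agent.VA11
open Groth.Agent.P1Split (IsBas)

variable (n : ℕ) (k : Type u) [Field k]

theorem opens_eq (U : (Spec (CommRingCat.of k)).Opens) : U = ⊥ ∨ U = ⊤ := by
  by_cases h : ∃ x, x ∈ U
  · obtain ⟨x, hx⟩ := h
    exact Or.inr (top_le_iff.1 fun y _ => by
      rw [Subsingleton.elim (α := PrimeSpectrum k) y x]
      exact hx)
  · exact Or.inl (le_bot_iff.1 fun x hx => absurd ⟨x, hx⟩ h)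

/-- The free module of rank `n + 1` on the point. -/
abbrev EPn : (Spec (CommRingCat.of k)).Modules := FlatMod.freeMod (Spec (CommRingCat.of k)) (n + 1)

/-- Its tautological map to the direct image of `O(1)`. -/
def phiPn : EPn n k ⟶
    (Scheme.Modules.pushforward (CohB1.ProjSpace.toSpec n k)).obj (Twist.twistProjSpace n k 1) :=
  Sigma.desc fun i => secHom
    (show Γ((Scheme.Modules.pushforward (CohB1.ProjSpace.toSpec n k)).obj (Twist.twistProjSpace n k 1), ⊤) from
      ProjUP.coord n k i)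

/-- The standard basis. -/
abbrev basPn (i : Fin (n + 1)) : Γ(EPn n k, ⊤) :=
  (Sigma.ι (fun _ : Fin (n + 1) => Coh.structureModule (Spec (CommRingCat.of k))) i).app ⊤ (M1.one ⊤)

theorem phiPn_bas (i : Fin (n + 1)) : (phiPn n k).app ⊤ (basPn n k i) = ProjUP.coord n k i := by
  have h : Sigma.ι (fun _ : Fin (n + 1) => Coh.structureModule (Spec (CommRingCat.of k))) i ≫ phiPn n k =
      secHom (show Γ((Scheme.Modules.pushforward (CohB1.ProjSpace.toSpec n k)).obj (Twist.twistProjSpace n k 1), ⊤) from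
      ProjUP.coord n k i) := Sigma.ι_desc _ _
  exact (congrArg (fun χ : Coh.structureModule (Spec (CommRingCat.of k)) ⟶
    (Scheme.Modules.pushforward (CohB1.ProjSpace.toSpec n k)).obj (Twist.twistProjSpace n k 1) =>
      χ.app ⊤ (M1.one ⊤)) h).trans (secHom_app_one _)

theorem isInvertible_one : PicF.IsInvertible (Twist.twistProjSpace n k 1) :=
  Groth.Agent.Twist.isInvertible_twistProjSpace n k 1

theorem mem_gl_coord (x : CohB1.ProjSpace n k) :
    ∃ i, x ∈ gl (show Γ(Twist.twistProjSpace n k 1, ⊤) from ProjUP.coord n k i) := by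
  have hP : PicF.IsInvertible ((Scheme.Modules.pullback (𝟙 (CohB1.ProjSpace n k))).obj (Twist.twistProjSpace n k 1)) :=
    PicLoc.isInvertible_pullback _ (isInvertible_one n k)
  obtain ⟨l, hl⟩ := Opens.mem_iSup.1 ((ProjSpace.iSup_basicOpen n k).ge (Opens.mem_top x))
  refine ⟨l, ?_⟩
  have h1 : x ∈ gl (M2.pullSec (𝟙 (CohB1.ProjSpace n k)) (Twist.twistProjSpace n k 1)
      (show Γ(Twist.twistProjSpace n k 1, ⊤) from ProjUP.coord n k l)) :=
    (AmpleFib.gl_coordSec (𝟙 (CohB1.ProjSpace n k)) (Iso.refl _) hP l).ge hl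
  rw [gl_pullSec _ (isInvertible_one n k)] at h1
  exact h1

theorem gl_eq_of_eq {X : Scheme.{u}} {L : X.Modules} {W : X.Opens} {s t : Γ(L, W)} (h : s = t) : gl s = gl t := by
  rw [h]

theorem gens_phiPn : Gens (phiPn n k) := fun x => by
  obtain ⟨i, hi⟩ := mem_gl_coord n k x
  exact ⟨⊤, basPn n k i, (gl_eq_of_eq (L := Twist.twistProjSpace n k 1) (W := (⊤ : (CohB1.ProjSpace n k).Opens))
    (phiPn_bas n k i)).ge hi⟩

theorem span_germ {T : Scheme.{u}} {L : T.Modules} {ι : Type*} [Fintype ι] (x : T) (a : ι → Γ(T, ⊤))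
    (s : ι → Γ(L, ⊤)) :
    (L.presheaf.germ ⊤ x (Opens.mem_top x) (∑ l, a l • s l) : L.presheaf.stalk x) ∈
      Submodule.span (T.presheaf.stalk x) (Set.range fun l => (L.presheaf.germ ⊤ x (Opens.mem_top x) (s l) : L.presheaf.stalk x)) := by
  rw [map_sum]
  refine Submodule.sum_mem _ fun l _ => ?_
  rw [germ_smul]
  exact Submodule.smul_mem _ _ (Submodule.subset_span ⟨l, rfl⟩)

theorem uBundle_of_univ {P : Scheme.{u}} (π : P ⟶ Spec (CommRingCat.of k)) (O1 : P.Modules)
    (φ : EPn n k ⟶ (Scheme.Modules.pushforward π).obj O1) (cd : Fin (n + 1) → ProjUP.Γm O1)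
    (hφ : ∀ i, φ.app ⊤ (basPn n k i) = cd i) (hinv : PicF.IsInvertible O1) (hgens : Gens φ)
    (hex : ∀ {T : Scheme.{u}} (f : T ⟶ Spec (CommRingCat.of k)) (L : T.Modules), PicF.IsInvertible L →
      ∀ s : Fin (n + 1) → ProjUP.Γm L, ProjUP.GeneratedBy L s →
      ∃ (r : T ⟶ P) (_ : r ≫ π = f) (τ : (Scheme.Modules.pullback r).obj O1 ≅ L),
        ∀ i, τ.hom.app ⊤ (ProjUP.pullSec r O1 (cd i)) = s i)
    (huq : ∀ {T : Scheme.{u}} (r r' : T ⟶ P), r ≫ π = r' ≫ π →
      ∀ τ : (Scheme.Modules.pullback r).obj O1 ≅ (Scheme.Modules.pullback r').obj O1,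
      (∀ i, τ.hom.app ⊤ (ProjUP.pullSec r O1 (cd i)) = ProjUP.pullSec r' O1 (cd i)) → r = r') :
    Cyc26PB.UBundle π (EPn n k) O1 φ where
  inv := hinv
  gens := hgens
  exists_map T f L hL σ hσ := by
    let e := basPn n k
    have he : IsBas (EPn n k) ⊤ e := DVRTriv4.isBas_freeMod _ _
    let s : Fin (n + 1) → ProjUP.Γm L := fun i => secs σ ⊤ (e i)
    have hs : ProjUP.GeneratedBy L s := by
      intro x
      obtain ⟨U, m, hx⟩ := hσ x
      have hU : U = ⊤ := (opens_eq k U).resolve_left (by rintro rfl; exact gl_le _ hx)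
      subst hU
      obtain ⟨c, hc⟩ := (he ⊤ le_rfl).2 m
      have hm : secs σ ⊤ m = ∑ l, (show Γ(T, ⊤) from f.app ⊤ (c l)) • (show Γ(L, ⊤) from s l) := by
        rw [← hc]
        simp only [secs, map_sum, mres_id]
        exact Finset.sum_congr rfl fun l _ => secs_smul σ ⊤ (c l) (e l)
      rw [mem_gl_iff hL (Opens.mem_top x)] at hx
      refine top_le_iff.1 fun a _ => ?_
      obtain ⟨b, rfl⟩ := hx.2 a
      refine Submodule.smul_mem _ b ?_
      rw [hm]
      exact span_germ x (fun l => (show Γ(T, ⊤) from f.app ⊤ (c l))) s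
    obtain ⟨r, hr, τ, hτ⟩ := hex f L hL s hs
    refine ⟨r, hr, τ, ?_⟩
    obtain ⟨ω, hω⟩ := exists_comp_unit φ r τ hr
    have hωσ : ω = σ := Cyc26PB.hom_eq_of_basis he (f := f) le_rfl fun l => by
      rw [hω, hφ]
      refine (mres_id L _ _).trans ?_
      exact hτ l
    intro U y
    rw [← hωσ, hω, mres_mres, mres_id]
  unique T f L hL σ hσ r₁ r₂ h₁ h₂ τ₁ τ₂ e₁ e₂ := by
    refine huq r₁ r₂ (by rw [h₁, h₂]) (τ₁ ≪≫ τ₂.symm) fun i => ?_
    have a₁ := e₁ ⊤ (basPn n k i)
    have a₂ := e₂ ⊤ (basPn n k i)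
    rw [hφ] at a₁ a₂
    have h := a₁.trans (a₂.trans rfl).symm
    exact (congrArg (fun z => τ₂.inv.app ⊤ z) h).trans (Algz3.inv_hom_app τ₂ ⊤ _)

theorem uBundle_Pn :
    Cyc26PB.UBundle (CohB1.ProjSpace.toSpec n k) (EPn n k) (Twist.twistProjSpace n k 1) (phiPn n k) :=
  uBundle_of_univ n k (CohB1.ProjSpace.toSpec n k) (Twist.twistProjSpace n k 1) (phiPn n k) (ProjUP.coord n k)
    (phiPn_bas n k) (isInvertible_one n k) (gens_phiPn n k)
    (fun f L hL s hs => S3572.result n f L hL s hs) (fun r r' h τ hτ => S3573.result n r r' h τ hτ)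

theorem isFinLocFree_E : FlatMod.IsFinLocFreeOfRank (n + 1) (EPn n k) := M2.isFinLocFreeOfRank_freeMod _ _

end Groth.Agent.Cyc26Pn
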