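import Groth.Agent.Lib.Cyc26.PnBundle
import Groth.Agent.Lib.Cyc26.PBA
import Groth.Agent.Lib.Cyc26.Completion
import Groth.Agent.Lib.Cyc26.MVExact
import Groth.Agent.Lib.Cyc26.DegIterApps
import Groth.Agent.Lib.Cyc26.C1Fund
import Groth.Agent.Lib.PicTan20.Degree
import Groth.Agent.S12640

/-! # Chow groups of projective space and the degree -/

set_option autoImplicit false
set_option linter.style.haveILetI false

universe u

open CategoryTheory Limits AlgebraicGeometry TopologicalSpace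

set_option backward.isDefEq.respectTransparency.types false

noncomputable section

namespace Groth.Agent.Cyc26Pn

open Groth.Agent.Cyc26 Groth.Agent.Cyc26A
open scoped Classical

variable (k : Type u) [Field k]

theorem isDimFun_point : Cyc.IsDimFun (Spec (CommRingCat.of k)) (fun _ => (0 : ℤ)) :=
  fun a b _ hne => absurd (Subsingleton.elim (α := PrimeSpectrum k) a b) hne

theorem isSetup_point : Cyc.IsSetup (Spec (CommRingCat.of k)) (fun _ => (0 : ℤ)) :=
  ⟨inferInstance, Cyc26.isUniversallyCatenary_stalk_field k, isDimFun_point k⟩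

/-- The fundamental cycle of the point. -/
def ptCyc : AlgebraicCycle (Spec (CommRingCat.of k)) ℤ :=
  ⟨fun _ => 1, Set.subset_univ _, fun _ _ => ⟨Set.univ, Filter.univ_mem,
    (Set.finite_singleton (IsLocalRing.closedPoint k)).subset fun z _ => Subsingleton.elim (α := PrimeSpectrum k) z _⟩⟩

theorem ptCyc_mem : ptCyc k ∈ Cyc.Zk (Spec (CommRingCat.of k)) (fun _ => (0 : ℤ)) 0 := fun _ h => absurd rfl h

theorem eq_smul_ptCyc (a : AlgebraicCycle (Spec (CommRingCat.of k)) ℤ) :
    a = a (IsLocalRing.closedPoint k) • ptCyc k := by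
  ext x
  rw [Subsingleton.elim (α := PrimeSpectrum k) x (IsLocalRing.closedPoint k)]
  simp [ptCyc]

/-- The degree of a class on the point. -/
def ptDeg : A (fun _ : ↥(Spec (CommRingCat.of k)) => (0 : ℤ)) →+ ℤ :=
  QuotientAddGroup.lift _ (AddMonoidHom.mk' (fun α => α (IsLocalRing.closedPoint k)) fun _ _ => rfl) fun α hα => by
    obtain ⟨ι, ξ, f, hξ, -, -, hz⟩ := hα 0
    haveI : IsEmpty ι := ⟨fun i => absurd (hξ i) (by norm_num)⟩
    have h := hz (IsLocalRing.closedPoint k)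
    rw [finsum_of_isEmpty, part_apply, if_pos rfl] at h
    exact h

variable {k}

section deg

variable {X : Scheme.{u}} [IsLocallyNoetherian X] (f : X ⟶ Spec (CommRingCat.of k)) [IsProper f] {δ : X → ℤ}
  (hd : Cyc.IsDimFun X δ) (hδ : Cyc.DeltaCompat f δ (fun _ => 0))

/-- The degree of a class. -/
def degA : A δ →+ ℤ := (ptDeg k).comp (push f hd (isDimFun_point k) hδ)

theorem degA_mk (α : AlgebraicCycle X ℤ) : degA f hd hδ (mk δ α) = ChowOps.deg f δ α := rfl

end deg

theorem degA_push {X Y : Scheme.{u}} {δX : X → ℤ} {δY : Y → ℤ} [IsLocallyNoetherian X] [IsLocallyNoetherian Y]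
    (hX : Cyc.IsSetup X δX) (hY : Cyc.IsSetup Y δY) (g : X ⟶ Y) [IsProper g] (f : Y ⟶ Spec (CommRingCat.of k))
    [IsProper f] {e : X ⟶ Spec (CommRingCat.of k)} [IsProper e] (he : g ≫ f = e) (hg : Cyc.DeltaCompat g δX δY)
    (hf : Cyc.DeltaCompat f δY (fun _ => 0)) (hec : Cyc.DeltaCompat e δX (fun _ => 0)) (a : A δX) :
    degA f hY.2.2 hf (push g hX.2.2 hY.2.2 hg a) = degA e hX.2.2 hec a :=
  congrArg (ptDeg k) (push_push hX hY (isSetup_point k) g f he hg hf hec a)

variable {n : ℕ}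

local notation "ℙ" => CohB1.ProjSpace n k

instance isProper_Pn : IsProper (CohB1.ProjSpace.toSpec n k) := ProjSpace.isProper_toSpec n k

instance isLocallyNoetherian_Pn : IsLocallyNoetherian (CohB1.ProjSpace n k) :=
  LocallyOfFiniteType.isLocallyNoetherian (CohB1.ProjSpace.toSpec n k)

theorem isSetup_Pn {δ : ℙ → ℤ} (hδ : Cyc.DeltaCompat (CohB1.ProjSpace.toSpec n k) δ (fun _ => 0)) :
    Cyc.IsSetup ℙ δ :=
  Cyc26Split.isSetup_of_lft _ (isSetup_point k) hδ

variable {δ : CohB1.ProjSpace n k → ℤ} (hδ : Cyc.DeltaCompat (CohB1.ProjSpace.toSpec n k) δ (fun _ => 0))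

/-- The fundamental cycle of projective space. -/
def fundPn : AlgebraicCycle ℙ ℤ :=
  pullCycle (CohB1.ProjSpace.toSpec n k) (isSetup_Pn hδ).2.2
    (shift_bundle (uBundle_Pn n k) (isFinLocFree_E n k) (isSetup_Pn hδ).2.2 hδ) (ptCyc k)

include hδ in
theorem fundPn_coe : ⇑(fundPn hδ) = Cyc.subschemeFun δ (n : ℤ) (𝟙 ℙ) := by
  rw [fundPn, pullCycle_coe, Cyc26.subschemeFun_id]
  funext x
  simp only [Cyc.pullFun, Cyc.sheafFun, zero_add]
  split_ifs with hx
  swap
  · rfl
  have hf : IsField ((Spec (CommRingCat.of k)).presheaf.stalk (CohB1.ProjSpace.toSpec n k x)) := by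
    haveI : IsIntegral (Spec (CommRingCat.of k)) := inferInstance
    rw [Subsingleton.elim (α := PrimeSpectrum k) (CohB1.ProjSpace.toSpec n k x) (genericPoint (Spec (CommRingCat.of k)))]
    exact Field.toIsField (Spec (CommRingCat.of k)).functionField
  rw [IsLocalRing.isField_iff_maximalIdeal_eq.1 hf, Ideal.map_bot, (Submodule.quotEquivOfEqBot _ rfl).length_eq,
    ((LinearEquiv.ofBijective (LinearMap.toSpanSingleton _ _ _)
      (Cyc26.structureModule_stalk_bijective x)).length_eq).symm]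
  show 1 * _ = _
  rw [one_mul]

/-- The class of a linear subspace of dimension `n - j`. -/
def hPow (j : ℕ) : A δ :=
  c1p (isSetup_Pn hδ).2.2 (isInvertible_one n k) j (mk δ (fundPn hδ))

/-- Projective space has cyclic Chow groups. -/
theorem exists_eq_smul (m : ℕ) (hm : m ≤ n) (β : AlgebraicCycle ℙ ℤ) (hβ : β ∈ Cyc.Zk ℙ δ m) :
    ∃ c : ℤ, mk δ β = c • hPow hδ (n - m) := by
  have hP := isSetup_Pn hδ
  have hB := uBundle_Pn n k
  have hE := isFinLocFree_E n k
  obtain ⟨s, hs⟩ := exists_sec hB.inv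
  have hc := shift_bundle hB hE hP.2.2 hδ
  obtain ⟨a, ha, -, hrat⟩ := Cyc26PB.exists_span hB hE (isDimFun_point k) hP.2.2 hδ (t := fun _ _ => s)
    (fun _ _ => hs) ((m : ℤ) - n) (n + 1) le_rfl β (by simpa using hβ)
    (fun x _ => by show (0 : ℤ) < _; push_cast; omega)
  let γ : AlgebraicCycle ℙ ℤ := ∑ i : Fin (n + 1), capPow hP.2.2 hB.inv (fun _ => hs) (i : ℕ)
    (pullCycle (CohB1.ProjSpace.toSpec n k) hP.2.2 hc (a i))
  have hrz : Cyc.RatEquivZero δ ((m : ℤ) - n + n) (β - γ) := hrat.ratEquivZero fun x => by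
    show β x - γ x = _
    simp only [γ, Cyc26PB.cycle_sum_apply, capPow_coe, pullCycle_coe]
  have h0 : mk δ β = mk δ γ := by
    rw [← sub_eq_zero, ← _root_.map_sub]
    exact mk_eq_zero_of_ratEquivZero hrz
  refine ⟨a ⟨n - m, by omega⟩ (IsLocalRing.closedPoint k), ?_⟩
  rw [h0, map_sum, Finset.sum_eq_single (⟨n - m, by omega⟩ : Fin (n + 1))]
  · rw [hPow, fundPn, mk_capPow, ← map_zsmul, ← map_zsmul, ← map_zsmul, ← eq_smul_ptCyc]
  · intro i _ hi
    have : a i = 0 := by
      ext x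
      refine ha i x fun h => hi (Fin.ext ?_)
      have h' : (0 : ℤ) = (m : ℤ) - n + (i : ℕ) := h
      show (i : ℕ) = n - m
      omega
    rw [this, map_zero, map_zero, map_zero]
  · exact fun h => absurd (Finset.mem_univ _) h

theorem c1p_add {Z : Scheme.{u}} [IsLocallyNoetherian Z] {δ : Z → ℤ} (hd : Cyc.IsDimFun Z δ) {L : Z.Modules}
    (hL : PicF.IsInvertible L) (i j : ℕ) (a : A δ) : c1p hd hL i (c1p hd hL j a) = c1p hd hL (i + j) a := by
  induction i with
  | zero => rw [zero_add]; rfl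
  | succ i ih => rw [c1p_succ, ih, add_right_comm, c1p_succ]

theorem twist_inverse (n : ℕ) :
    Nonempty (CohB1.tensorMod (Twist.twistProjSpace n k (-1)) (Twist.twistProjSpace n k 1) ≅
      Coh.structureModule (CohB1.ProjSpace n k)) :=
  ⟨(Groth.Agent.Twist.nonempty_tensor_iso (CohB1.polyGrading n k) (-1) 1
      (Groth.Agent.Twist.iSup_basicOpen_one n k)).some ≪≫
    eqToIso (by norm_num) ≪≫ (Groth.Agent.Twist.nonempty_twist_zero_iso (CohB1.polyGrading n k)).some⟩

include hδ in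
/-- Intersection numbers with the hyperplane bundle as degrees. -/
theorem degA_c1p_of_closed {Z : Scheme.{u}} (ι : Z ⟶ ℙ) [IsClosedImmersion ι] (m : ℕ)
    (hdim : topologicalKrullDim Z ≤ (m : WithBot ℕ∞)) (α : AlgebraicCycle ℙ ℤ)
    (hα : ⇑α = Cyc.subschemeFun δ (m : ℤ) ι) :
    degA (CohB1.ProjSpace.toSpec n k) (isSetup_Pn hδ).2.2 hδ
      (c1p (isSetup_Pn hδ).2.2 (isInvertible_one n k) m (mk δ α)) =
    FGA.intNum k ℙ m (fun _ : Fin m => Twist.twistProjSpace n k (-1))
      ((Scheme.Modules.pushforward ι).obj (Coh.structureModule Z)) := by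
  have hP := isSetup_Pn hδ
  have hinv := isInvertible_one n k
  obtain ⟨s, hs⟩ := exists_sec hinv
  haveI : IsProper (CohB1.ProjSpace n k ↘ Spec (CommRingCat.of k)) := isProper_Pn
  rw [← mk_capPow hP.2.2 hinv (fun _ => hs), degA_mk]
  exact (Cyc26.intNum_eq_deg hP.2.2 hδ ι m hdim (fun _ => _) (fun _ => Twist.twistProjSpace n k (-1))
    (fun _ => hinv) (fun _ => twist_inverse n) (fun _ => s) (fun _ => hs)
    (Cyc26PB.capIt δ (Twist.twistProjSpace n k 1) (fun _ => s) ⇑α) hα (fun i _ => rfl) _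
    (capPow_coe _ _ _ _ _)).symm

include hδ in
/-- `deg (h^n ∩ [P^n]) = 1`. -/
theorem degA_hPow [IsAlgClosed k] [CharZero k] :
    degA (CohB1.ProjSpace.toSpec n k) (isSetup_Pn hδ).2.2 hδ (hPow hδ n) = 1 := by
  rw [hPow, degA_c1p_of_closed hδ (𝟙 ℙ) n (S10829.result k n).le (fundPn hδ) (fundPn_coe hδ)]
  refine Eq.trans ?_ ((S12640.result k n 1 one_pos).trans (one_pow n))
  refine Finset.sum_congr rfl fun I _ => ?_
  exact congrArg _ (PicTan20.eulerCharLE_congr (M2.tensorIso (Iso.refl _)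
    ((Scheme.Modules.pushforwardId _).app (Coh.structureModule ℙ))) _)

include hδ in
theorem degA_c1p_hPow [IsAlgClosed k] [CharZero k] (m : ℕ) (hm : m ≤ n) (c : ℤ) :
    degA (CohB1.ProjSpace.toSpec n k) (isSetup_Pn hδ).2.2 hδ
      (c1p (isSetup_Pn hδ).2.2 (isInvertible_one n k) m (c • hPow hδ (n - m))) = c := by
  rw [map_zsmul, map_zsmul, hPow, c1p_add, show m + (n - m) = n by omega, ← hPow, degA_hPow hδ, smul_eq_mul,
    mul_one]

end Groth.Agent.Cyc26Pn
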