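import Groth.Agent.Lib.Cyc26.Frac
import Groth.Agent.Lib.TensorMod.PullStalk

/-! # Cycles of pullbacks of modules -/

set_option autoImplicit false
universe u

set_option backward.isDefEq.respectTransparency.types false

open CategoryTheory AlgebraicGeometry TopologicalSpace TensorProduct

namespace Groth.Agent.Cyc26

variable {X Y : Scheme.{u}}

theorem length_stalk_pullback (f : X ⟶ Y) [Flat f] (F : Y.Modules) (x : X) :
    Module.length (X.presheaf.stalk x) (((Scheme.Modules.pullback f).obj F).presheaf.stalk x) =
      Module.length (Y.presheaf.stalk (f x)) (F.presheaf.stalk (f x)) *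
        Module.length (X.presheaf.stalk x) (X.presheaf.stalk x ⧸ Ideal.map (f.stalkMap x).hom
          (IsLocalRing.maximalIdeal (Y.presheaf.stalk (f x)))) := by
  letI : Algebra (Y.presheaf.stalk (f x)) (X.presheaf.stalk x) := (f.stalkMap x).hom.toAlgebra
  haveI : Module.Flat (Y.presheaf.stalk (f x)) (X.presheaf.stalk x) := (Flat.iff_flat_stalkMap f).1 inferInstance x
  haveI : IsLocalHom (algebraMap (Y.presheaf.stalk (f x)) (X.presheaf.stalk x)) :=
    inferInstanceAs (IsLocalHom (f.stalkMap x).hom)
  rw [← (M2.pullStalkEquiv f x F).length_eq]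
  refine (length_baseChange (Y.presheaf.stalk (f x)) (X.presheaf.stalk x) (F.presheaf.stalk (f x))).trans ?_
  congr 1
  exact ((Algebra.TensorProduct.quotIdealMapEquivTensorQuot (X.presheaf.stalk x)
    (IsLocalRing.maximalIdeal (Y.presheaf.stalk (f x)))).toLinearEquiv.length_eq).symm

theorem nontrivial_of_stalk_pullback (f : X ⟶ Y) [Flat f] (F : Y.Modules) (x : X)
    (h : Nontrivial (((Scheme.Modules.pullback f).obj F).presheaf.stalk x)) :
    Nontrivial (F.presheaf.stalk (f x)) := by
  by_contra hn
  rw [not_nontrivial_iff_subsingleton, ← Module.length_eq_zero_iff (R := Y.presheaf.stalk (f x))] at hn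
  have h2 := length_stalk_pullback f F x
  rw [hn, zero_mul, Module.length_eq_zero_iff] at h2
  exact not_nontrivial_iff_subsingleton.2 h2 h

theorem pullFun_sheafFun (f : X ⟶ Y) [Flat f] {δX : X → ℤ} {δY : Y → ℤ} {c : ℤ}
    (hle : ∀ x, δX x ≤ δY (f x) + c) (k : ℤ) (F : Y.Modules)
    (hdim : ∀ y : Y, Nontrivial (F.presheaf.stalk y) → δY y ≤ k) :
    (∀ x : X, Nontrivial (((Scheme.Modules.pullback f).obj F).presheaf.stalk x) → δX x ≤ k + c) ∧
      Cyc.pullFun f δX δY c (Cyc.sheafFun δY k F) =
        Cyc.sheafFun δX (k + c) ((Scheme.Modules.pullback f).obj F) := by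
  refine ⟨fun x hx => ?_, funext fun x => ?_⟩
  · have := hdim _ (nontrivial_of_stalk_pullback f F x hx)
    have := hle x
    omega
  · have := hle x
    simp only [Cyc.pullFun, Cyc.sheafFun]
    by_cases h1 : δX x = k + c
    · rw [if_pos h1]
      by_cases h2 : δY (f x) = k
      · rw [if_pos (show δX x = δY (f x) + c by omega), if_pos h2, length_stalk_pullback f F x, ENat.toNat_mul]
        push_cast; ring
      · rw [if_neg (show ¬ δX x = δY (f x) + c by omega)]
        have h3 : ¬ Nontrivial (F.presheaf.stalk (f x)) := fun h => by have := hdim _ h; omega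
        rw [not_nontrivial_iff_subsingleton, ← Module.length_eq_zero_iff (R := Y.presheaf.stalk (f x))] at h3
        rw [length_stalk_pullback f F x, h3, zero_mul]
        simp
    · rw [if_neg h1]
      split_ifs with h2 h3
      · omega
      · rw [zero_mul]
      · rfl

end Groth.Agent.Cyc26
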