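import Groth.Agent.Lib.Cyc26.Split
import Groth.Agent.Lib.Cyc26.PBFilt
import Mathlib.RingTheory.MvPolynomial.Symmetric.Defs
import Mathlib.RingTheory.NonUnitalSubsemiring.Basic

/-! # Chern roots: polynomials in commuting first Chern classes -/

set_option autoImplicit false
set_option linter.style.haveILetI false

universe u

open CategoryTheory Limits AlgebraicGeometry TopologicalSpace

set_option backward.isDefEq.respectTransparency.types false

noncomputable section

namespace Groth.Agent.Cyc26A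

open Groth.Agent.Cyc26
open scoped Classical

section op

variable {X : Scheme.{u}} [IsLocallyNoetherian X] {δ : X → ℤ} (hd : Cyc.IsDimFun X δ) {ι : Type} {L : ι → X.Modules}
  (hL : ∀ i, PicF.IsInvertible (L i))

/-- `c₁(L i)` as an endomorphism. -/
def c1E (i : ι) : AddMonoid.End (A δ) := c1 hd (hL i)

/-- Polynomials in `c₁(L i)` acting on classes. -/
def op : MvPolynomial ι ℤ →+* AddMonoid.End (A δ) :=
  letI : CommRing ↥(Subring.closure (Set.range (c1E hd hL))) :=
    Subring.closureCommRingOfComm (by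
      rintro _ ⟨i, rfl⟩ _ ⟨j, rfl⟩
      exact AddMonoidHom.ext fun a => c1_comm hd (hL i) (hL j) a)
  (Subring.closure (Set.range (c1E hd hL))).subtype.comp
    (MvPolynomial.eval₂Hom (Int.castRingHom _) fun i => ⟨c1E hd hL i, Subring.subset_closure ⟨i, rfl⟩⟩)

theorem op_X (i : ι) (a : A δ) : op hd hL (MvPolynomial.X i) a = c1 hd (hL i) a := by
  simp [op, c1E]
  rfl

theorem op_mul (p q : MvPolynomial ι ℤ) (a : A δ) : op hd hL (p * q) a = op hd hL p (op hd hL q a) := by
  rw [map_mul]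
  rfl

theorem op_one (a : A δ) : op hd hL 1 a = a := by
  rw [map_one]
  rfl

theorem op_zero (a : A δ) : op hd hL 0 a = 0 := by
  rw [map_zero]
  rfl

theorem op_add (p q : MvPolynomial ι ℤ) (a : A δ) : op hd hL (p + q) a = op hd hL p a + op hd hL q a := by
  rw [map_add]
  rfl

theorem op_zsmul (c : ℤ) (p : MvPolynomial ι ℤ) (a : A δ) : op hd hL (c • p) a = c • op hd hL p a := by
  rw [map_zsmul]
  rfl

theorem op_sum {κ : Type} (s : Finset κ) (p : κ → MvPolynomial ι ℤ) (a : A δ) :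
    op hd hL (∑ x ∈ s, p x) a = ∑ x ∈ s, op hd hL (p x) a := by
  induction s using Finset.induction_on with
  | empty => simpa using op_zero hd hL a
  | insert x s hx ih => rw [Finset.sum_insert hx, Finset.sum_insert hx, op_add, ih]

/-- Substituting roots. -/
theorem op_comp {κ : Type} {M : κ → X.Modules} (hM : ∀ i, PicF.IsInvertible (M i)) (g : κ → MvPolynomial ι ℤ)
    (h : ∀ (i : κ) (a : A δ), c1 hd (hM i) a = op hd hL (g i) a) (p : MvPolynomial κ ℤ) (a : A δ) :
    op hd hM p a = op hd hL (MvPolynomial.aeval g p) a := by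
  have e : op hd hM = (op hd hL).comp (MvPolynomial.aeval g).toRingHom := by
    refine MvPolynomial.ringHom_ext (fun c => ?_) fun i => ?_
    · simp
    · exact AddMonoidHom.ext fun b => (op_X hd hM i b).trans ((h i b).trans (by simp; rfl))
  rw [e]
  rfl

end op

section filt

open Groth.Agent.Cyc26PB (UBundle)

variable {X P : Scheme.{u}} [IsLocallyNoetherian X] [IsLocallyNoetherian P] {E : X.Modules} {π : P ⟶ X}
  [IsProper π] {O1 : P.Modules} {φ : E ⟶ (Scheme.Modules.pushforward π).obj O1} (hB : UBundle π E O1 φ)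
  {n : ℕ} {δP : P → ℤ} {δ : X → ℤ} (hE : FlatMod.IsFinLocFreeOfRank (n + 1) E) (hdX : Cyc.IsDimFun X δ)
  (hd : Cyc.IsDimFun P δP) (hδ : Cyc.DeltaCompat π δP δ)

/-- Elementary symmetric polynomials in the first `j` variables. -/
def esymUpto (r j i : ℕ) : MvPolynomial (Fin r) ℤ :=
  ∑ I ∈ Finset.powersetCard i (Finset.univ.filter fun x : Fin r => (x : ℕ) < j), ∏ x ∈ I, MvPolynomial.X x

theorem esymUpto_top (r i : ℕ) : esymUpto r r i = MvPolynomial.esymm (Fin r) ℤ i := by
  rw [esymUpto, MvPolynomial.esymm, Finset.filter_true_of_mem fun x _ => x.2]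

theorem esymUpto_succ (r j : ℕ) (hj : j < r) (i : ℕ) :
    esymUpto r (j + 1) (i + 1) = esymUpto r j (i + 1) + MvPolynomial.X ⟨j, hj⟩ * esymUpto r j i := by
  let x : Fin r := ⟨j, hj⟩
  let S := Finset.univ.filter fun y : Fin r => (y : ℕ) < j
  have hx : x ∉ S := fun h => lt_irrefl _ (Finset.mem_filter.1 h).2
  have hS : (Finset.univ.filter fun y : Fin r => (y : ℕ) < j + 1) = insert x S := by
    ext y
    simp only [S, x, Finset.mem_filter, Finset.mem_univ, true_and, Finset.mem_insert, Fin.ext_iff]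
    omega
  have hsub : ∀ I ∈ S.powersetCard i, x ∉ I := fun I hI hxI => hx ((Finset.mem_powersetCard.1 hI).1 hxI)
  simp only [esymUpto]
  rw [hS, Finset.powersetCard_succ_insert hx, Finset.sum_union, Finset.sum_image, Finset.mul_sum]
  · exact congrArg (_ + ·) (Finset.sum_congr rfl fun I hI => Finset.prod_insert (hsub I hI))
  · intro I hI J hJ hIJ
    rw [← Finset.erase_insert (hsub I hI), ← Finset.erase_insert (hsub J hJ)]
    exact congrArg (Finset.erase · x) hIJ
  · refine Finset.disjoint_left.2 fun I hI hI' => ?_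
    obtain ⟨J, -, rfl⟩ := Finset.mem_image.1 hI'
    exact hx ((Finset.mem_powersetCard.1 hI).1 (Finset.mem_insert_self x J))

theorem esymUpto_zero (r j : ℕ) : esymUpto r j 0 = 1 := by
  simp [esymUpto]

theorem esymUpto_eq_zero {r j i : ℕ} (h : j < i) : esymUpto r j i = 0 := by
  rw [esymUpto, Finset.powersetCard_eq_empty.2 ?_, Finset.sum_empty]
  refine lt_of_le_of_lt (Finset.card_le_card_of_injOn (fun x : Fin r => (x : ℕ))
    (t := Finset.range j) (fun x hx => Finset.mem_range.2 (Finset.mem_filter.1 hx).2)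
    Fin.val_injective.injOn) (by rwa [Finset.card_range])

/-- The Chern relation of a filtered module, in Chern roots. -/
theorem chernRel_roots {M : Fin (n + 1 + 1) → X.Modules} (h0 : IsZero (M 0)) (e : M (Fin.last (n + 1)) ≅ E)
    {L : Fin (n + 1) → X.Modules} (hL : ∀ i, PicF.IsInvertible (L i))
    (a : ∀ i : Fin (n + 1), M (Fin.castSucc i) ⟶ M (Fin.succ i)) (b : ∀ i : Fin (n + 1), M (Fin.succ i) ⟶ L i)
    (hab : ∀ i, a i ≫ b i = 0) (hex : ∀ i, (ShortComplex.mk (a i) (b i) (hab i)).ShortExact) (a₀ : A δ) :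
    chernRel hB hE hdX hd hδ (fun i => op hdX hL (MvPolynomial.esymm (Fin (n + 1)) ℤ (i : ℕ)) a₀) = 0 := by
  obtain ⟨q, rfl⟩ := ((Scheme.Modules.pullbackPushforwardAdjunction π).homEquiv E O1).surjective φ
  simp only [← esymUpto_top]
  exact chernRel_filt_rec hE hdX hd hδ h0 e hL a b hab hex hB (fun j i => op hdX hL (esymUpto (n + 1) j i) a₀) a₀
    (fun j => by rw [esymUpto_zero, op_one]) (fun j i h _ => by rw [esymUpto_eq_zero h, op_zero])
    fun j hj i => by rw [esymUpto_succ (n + 1) j hj i, op_add, op_mul, op_X]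

end filt

section split

open Groth.Agent.Cyc26PB (UBundle)

/-- A filtration with given quotients. -/
def FiltL {X : Scheme.{u}} (E : X.Modules) {r : ℕ} (L : Fin r → X.Modules) : Prop :=
  ∃ (M : Fin (r + 1) → X.Modules) (a : ∀ j : Fin r, M (Fin.castSucc j) ⟶ M (Fin.succ j))
    (b : ∀ j : Fin r, M (Fin.succ j) ⟶ L j),
    IsZero (M 0) ∧ Nonempty (M (Fin.last r) ≅ E) ∧ ∀ j, ∃ h : a j ≫ b j = 0, (ShortComplex.mk (a j) (b j) h).ShortExact

variable {X Y : Scheme.{u}} {δ : X → ℤ} {δY : Y → ℤ} (f : Y ⟶ X) [Flat f] [LocallyOfFiniteType f] {c : ℕ}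

/-- Pulled back Chern classes are the elementary symmetric functions of the roots. -/
theorem pull_chern (hX : Cyc.IsSetup X δ) (hY : Cyc.IsSetup Y δY) (hf : Cyc.DeltaCompat f δY δ)
    (hc : Cyc.HasRelDim f c) [IsLocallyNoetherian X] [IsLocallyNoetherian Y] (hs : Shift f δY δ (c : ℤ))
    {r : ℕ} {E : X.Modules} (hE : FlatMod.IsFinLocFreeOfRank r E) {P : Scheme.{u}} {π : P ⟶ X} {O1 : P.Modules}
    {q : (Scheme.Modules.pullback π).obj E ⟶ O1} (hP : KRR.IsProjBundle π E O1 q) [IsProper π] {δP : P → ℤ}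
    (hPs : Cyc.IsSetup P δP) (hπ : Cyc.DeltaCompat π δP δ) {L : Fin r → Y.Modules}
    (hL : ∀ i, PicF.IsInvertible (L i)) (hF : FiltL ((Scheme.Modules.pullback f).obj E) L) {k : ℤ}
    {α : AlgebraicCycle X ℤ} {γ : Fin (r + 1) → AlgebraicCycle X ℤ} (hγ : Cyc.IsChernCap π δ δP O1 r k α γ)
    (j : Fin (r + 1)) :
    pull f hY.2.2 hX.2.2 hs (mk δ (γ j)) =
      op hY.2.2 hL (MvPolynomial.esymm (Fin r) ℤ (j : ℕ)) (pull f hY.2.2 hX.2.2 hs (mk δ α)) := by
  rcases r with _ | n
  · obtain rfl : j = 0 := Fin.ext (by omega)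
    rw [hγ.1, Fin.val_zero, MvPolynomial.esymm_zero, op_one]
  haveI := hPs.1
  have hB := Cyc26PB.uBundle_projBundle hP
  haveI := Cyc26PB.flat_bundle hB hE
  have hsq : IsPullback (pullback.fst π f) (pullback.snd π f) π f := IsPullback.of_hasPullback π f
  haveI : IsProper (pullback.snd π f) := MorphismProperty.of_isPullback hsq ‹_›
  haveI : Flat (pullback.fst π f) := MorphismProperty.of_isPullback hsq.flip ‹_›
  haveI : LocallyOfFiniteType (pullback.fst π f) := MorphismProperty.of_isPullback hsq.flip ‹_›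
  obtain ⟨δR, hR⟩ := P1S26.exists_deltaCompat (pullback.snd π f) δY
  have hRs := Cyc26Split.isSetup_of_lft _ hY hR
  haveI := hRs.1
  have hf' := deltaCompat_fst hπ hR hsq hf
  have hs' : Shift (pullback.fst π f) δR δP (c : ℤ) := fun z hz =>
    Cyc26.shift_of_hasRelDim _ (FibDim14.hasRelDim_baseChange hsq.flip hc) hf' z hz
  obtain ⟨φ', hB'⟩ := Cyc26PB.exists_uBundle_baseChange hB hsq
  have hE' := M2.isFinLocFreeOfRank_pullback f hE
  obtain ⟨M, a, b, h0, ⟨e⟩, hex⟩ := hF
  exact congrFun (chern_unique hB' hE' hY.2.2 hRs.2.2 hR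
    (x := fun j => pull f hY.2.2 hX.2.2 hs (mk δ (γ j)))
    (y := fun j => op hY.2.2 hL (MvPolynomial.esymm (Fin (n + 1)) ℤ (j : ℕ)) (pull f hY.2.2 hX.2.2 hs (mk δ α)))
    (by rw [hγ.1, Fin.val_zero, MvPolynomial.esymm_zero, op_one])
    (chernRel_pull hB hE hB' hE' hX.2.2 hY.2.2 hPs.2.2 hRs.2.2 hπ hR hsq hs hs' _
      (chernRel_of_isChernCap hB hE hX.2.2 hPs.2.2 hπ hγ))
    (chernRel_roots hB' hE' hY.2.2 hRs.2.2 hR h0 e hL a b (fun i => (hex i).1) (fun i => (hex i).2) _)) j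

/-- A pulled back class vanishing upstairs vanishes. -/
theorem ratEquiv_of_pull {d : ℕ} {P : Scheme.{u}} {π : P ⟶ X} (hT : Cyc26Split.Tower π δ d) [Flat π]
    [IsLocallyNoetherian X] [IsLocallyNoetherian P] (hX : Cyc.IsSetup X δ) {δP : P → ℤ} (hP : Cyc.IsSetup P δP)
    (hπ : Cyc.DeltaCompat π δP δ) (hs : Shift π δP δ (d : ℤ)) {k : ℤ} {α β : AlgebraicCycle X ℤ}
    (hα : α ∈ Cyc.Zk X δ k) (hβ : β ∈ Cyc.Zk X δ k)
    (h : pull π hP.2.2 hX.2.2 hs (mk δ α) = pull π hP.2.2 hX.2.2 hs (mk δ β)) : Cyc.RatEquiv δ k α β := by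
  have hid : Cyc.DeltaCompat (𝟙 X) δ δ := fun x => ⟨0, by
    rw [Nat.cast_zero]
    exact FibDim14.rdeg_eq_zero (𝟙 X) x, by simp⟩
  have hsub : α - β ∈ Cyc.Zk X δ k := fun x hx => by
    show α x - β x = 0
    rw [hα x hx, hβ x hx, sub_zero]
  refine hT.inj X (𝟙 X) δ hX hid P π (𝟙 P) (IsPullback.of_horiz_isIso ⟨by simp⟩) δP hP hπ k (α - β) hsub _
    (pullCycle_coe π hP.2.2 hs (α - β)) ?_
  refine ratEquivZero_of_mk (Cyc26.pullFun_mem_Zk π hsub (pullCycle_coe π hP.2.2 hs _)) ?_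
  rw [← pull_mk π hP.2.2 hX.2.2 hs (α - β) _ (pullCycle_coe π hP.2.2 hs _), _root_.map_sub, _root_.map_sub, h, sub_self]

end split

end Groth.Agent.Cyc26A
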