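import Groth.Agent.Lib.Cyc26.Special
import Groth.Agent.Lib.Cyc26.FibreSum
import Groth.Agent.Lib.Cyc26.PullDiv
import Groth.Agent.Lib.Cyc26.Frac
import Groth.Agent.Lib.Cyc26.RatPull
import Groth.Agent.Lib.Cyc26.ChernFun

/-! # Specialisation of cycles commutes with flat pull-back -/

set_option autoImplicit false
set_option linter.style.haveILetI false
universe u

set_option backward.isDefEq.respectTransparency.types false

open CategoryTheory Limits AlgebraicGeometry IsLocalRing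
open scoped Classical

namespace Groth.Agent.Cyc26Sp

open Groth.Agent

/-- Fibre multiplicities may be computed in a closed-in-stalks subscheme. -/
theorem length_square {A' A X' X : Scheme.{u}} (i' : A' ⟶ X') (i : A ⟶ X) (φ : A' ⟶ A) (f : X' ⟶ X)
    [SurjectiveOnStalks i'] [SurjectiveOnStalks i] (w : φ ≫ i = i' ≫ f) (z : A')
    (hker : RingHom.ker (i'.stalkMap z).hom ≤ (maximalIdeal (X.presheaf.stalk (f (i' z)))).map (f.stalkMap (i' z)).hom) :
    Module.length (A'.presheaf.stalk z)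
        (A'.presheaf.stalk z ⧸ Ideal.map (φ.stalkMap z).hom (maximalIdeal (A.presheaf.stalk (φ z)))) =
      Module.length (X'.presheaf.stalk (i' z))
        (X'.presheaf.stalk (i' z) ⧸ Ideal.map (f.stalkMap (i' z)).hom (maximalIdeal (X.presheaf.stalk (f (i' z))))) := by
  have hs : Function.Surjective (i'.stalkMap z).hom := i'.stalkMap_surjective z
  have hsi : Function.Surjective (i.stalkMap (φ z)).hom := i.stalkMap_surjective (φ z)
  have e : i (φ z) = f (i' z) := by rw [← Scheme.Hom.comp_apply, w, Scheme.Hom.comp_apply]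
  have hA : (maximalIdeal (X.presheaf.stalk (i (φ z)))).map (i.stalkMap (φ z)).hom =
      maximalIdeal (A.presheaf.stalk (φ z)) := by
    rw [← ((IsLocalRing.local_hom_TFAE (i.stalkMap (φ z)).hom).out 0 4 rfl rfl).1 inferInstance,
      Ideal.map_comap_of_surjective _ hsi]
  have hsq : (φ ≫ i).stalkMap z = X.presheaf.stalkSpecializes (specializes_of_eq e.symm) ≫ (i' ≫ f).stalkMap z :=
    Scheme.Hom.stalkMap_congr_hom (φ ≫ i) (i' ≫ f) w z
  have hI : Ideal.map (φ.stalkMap z).hom (maximalIdeal (A.presheaf.stalk (φ z))) =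
      (Ideal.map (f.stalkMap (i' z)).hom (maximalIdeal (X.presheaf.stalk (f (i' z))))).map (i'.stalkMap z).hom := by
    rw [← hA, Ideal.map_map, Ideal.map_map, ← CommRingCat.hom_comp, ← Scheme.Hom.stalkMap_comp]
    refine (congrArg (fun h : X.presheaf.stalk (i (φ z)) ⟶ A'.presheaf.stalk z =>
      Ideal.map h.hom (maximalIdeal (X.presheaf.stalk (i (φ z))))) hsq).trans ?_
    rw [CommRingCat.hom_comp, ← Ideal.map_map,
      Cyc26.map_maximalIdeal_of_bijective _ (Cyc26.stalkSpecializes_bijective e.symm), Scheme.Hom.stalkMap_comp]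
    rfl
  rw [hI]
  set J := Ideal.map (f.stalkMap (i' z)).hom (maximalIdeal (X.presheaf.stalk (f (i' z))))
  letI : Algebra (X'.presheaf.stalk (i' z)) (A'.presheaf.stalk z) := (i'.stalkMap z).hom.toAlgebra
  let m : X'.presheaf.stalk (i' z) →ₗ[X'.presheaf.stalk (i' z)] A'.presheaf.stalk z ⧸ J.map (i'.stalkMap z).hom :=
    { toFun := fun a => Ideal.Quotient.mk _ (i'.stalkMap z a)
      map_add' := fun a b => by rw [map_add, map_add]
      map_smul' := fun a b => by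
        rw [smul_eq_mul, map_mul, map_mul, RingHom.id_apply, Algebra.smul_def]
        rfl }
  have hm : Function.Surjective m := fun x => by
    obtain ⟨y, rfl⟩ := Ideal.Quotient.mk_surjective x
    obtain ⟨a, rfl⟩ := hs y
    exact ⟨a, rfl⟩
  have hk : LinearMap.ker m = J := by
    ext a
    rw [LinearMap.mem_ker]
    show Ideal.Quotient.mk (J.map (i'.stalkMap z).hom) (i'.stalkMap z a) = 0 ↔ _
    rw [Ideal.Quotient.eq_zero_iff_mem, ← Ideal.mem_comap, Ideal.comap_map_of_surjective _ hs,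
      ← RingHom.ker_eq_comap_bot, sup_eq_left.2 hker]
  rw [← Module.length_eq_of_surjective (S := X'.presheaf.stalk (i' z)) (R := A'.presheaf.stalk z) hs]
  exact (((Submodule.quotEquivOfEq _ _ hk.symm).trans (m.quotKerEquivOfSurjective hm)).length_eq).symm

/-- The maximal ideal of a further image is contained in that of the first image. -/
theorem map_stalkMap_comp_le {A B C : Scheme.{u}} (g : A ⟶ B) (h : B ⟶ C) (z : A) :
    Ideal.map ((g ≫ h).stalkMap z).hom (maximalIdeal (C.presheaf.stalk ((g ≫ h) z))) ≤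
      Ideal.map (g.stalkMap z).hom (maximalIdeal (B.presheaf.stalk (g z))) := by
  rw [Scheme.Hom.stalkMap_comp]
  refine Ideal.map_le_iff_le_comap.2 fun c hc => ?_
  show g.stalkMap z (h.stalkMap (g z) c) ∈ Ideal.map (g.stalkMap z).hom (maximalIdeal (B.presheaf.stalk (g z)))
  exact Ideal.mem_map_of_mem _ (map_nonunit (h.stalkMap (g z)).hom c hc)

variable {R : Type u} [CommRing R] [IsDomain R] [IsDiscreteValuationRing R]
  {X' X : Scheme.{u}} (b : X ⟶ Spec (CommRingCat.of R)) [LocallyOfFiniteType b] (f : X' ⟶ X)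

/-- The fibre multiplicity of a flat map seen inside a fibre over the base. -/
theorem length_fibre_map (s : ↥(Spec (CommRingCat.of R))) (φ : (f ≫ b).fiber s ⟶ b.fiber s)
    (hφ : φ ≫ b.fiberι s = (f ≫ b).fiberι s ≫ f) (z : (f ≫ b).fiber s) :
    Module.length (((f ≫ b).fiber s).presheaf.stalk z) (((f ≫ b).fiber s).presheaf.stalk z ⧸
        Ideal.map (φ.stalkMap z).hom (maximalIdeal ((b.fiber s).presheaf.stalk (φ z)))) =
      Module.length (X'.presheaf.stalk ((f ≫ b).fiberι s z)) (X'.presheaf.stalk ((f ≫ b).fiberι s z) ⧸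
        Ideal.map (f.stalkMap ((f ≫ b).fiberι s z)).hom (maximalIdeal (X.presheaf.stalk (f ((f ≫ b).fiberι s z))))) := by
  refine length_square _ _ φ f hφ z ?_
  obtain ⟨e, he⟩ := EGA43Top.exists_ringEquiv_fiber_stalk (f ≫ b) s z
  intro a ha
  rw [RingHom.mem_ker, ← he a, ← map_zero e, e.injective.eq_iff, Ideal.Quotient.eq_zero_iff_mem] at ha
  exact map_stalkMap_comp_le f b _ ha

/-- The uniformizer is not in the prime of a point of the generic fibre. -/
theorem notMem_ker_specMap {x ξ : X} (h : ξ ⤳ x) (hne : b ξ ≠ b x) (g : X.presheaf.stalk x)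
    (hg : Ideal.span {g} = Ideal.map (b.stalkMap x).hom (maximalIdeal ((Spec (CommRingCat.of R)).presheaf.stalk (b x)))) :
    g ∉ RingHom.ker (Cyc.specMap x ξ h) := by
  intro hmem
  apply hne
  have hle : maximalIdeal ((Spec (CommRingCat.of R)).presheaf.stalk (b x)) ≤
      RingHom.ker (Cyc.specMap (b x) (b ξ) (h.map b.continuous)) := by
    intro a ha
    have h1 : b.stalkMap x a ∈ RingHom.ker (Cyc.specMap x ξ h) :=
      (Ideal.span_singleton_le_iff_mem _).2 hmem (hg.ge (Ideal.mem_map_of_mem _ ha))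
    rw [RingHom.mem_ker, ← Cyc26.specMap_residueFieldMap b h, map_eq_zero] at h1
    exact h1
  have h2 := UCat26.fromSpecStalk_ker (h.map b.continuous)
  rw [← h2]
  refine (congrArg _ (PrimeSpectrum.ext ?_ : (⟨_, RingHom.ker_isPrime _⟩ : PrimeSpectrum _) =
    closedPoint ((Spec (CommRingCat.of R)).presheaf.stalk (b x)))).trans Scheme.fromSpecStalk_closedPoint
  exact ((IsLocalRing.maximalIdeal.isMaximal _).eq_of_le (RingHom.ker_isPrime _).ne_top hle).symm

set_option maxHeartbeats 1600000 in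
/-- Specialisation commutes with flat pull-back. -/
theorem spFun_pullFun [IsLocallyNoetherian X] [IsLocallyNoetherian X'] [Flat f] [LocallyOfFiniteType f]
    (e : ℕ) (he : Cyc.HasRelDim f e)
    (φη : (f ≫ b).fiber (genericPoint ↥(Spec (CommRingCat.of R))) ⟶ b.fiber (genericPoint ↥(Spec (CommRingCat.of R))))
    (φs : (f ≫ b).fiber (closedPoint R) ⟶ b.fiber (closedPoint R))
    (hφη : φη ≫ b.fiberι _ = (f ≫ b).fiberι _ ≫ f) (hφs : φs ≫ b.fiberι _ = (f ≫ b).fiberι _ ≫ f)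
    {δ'η : ↥((f ≫ b).fiber (genericPoint ↥(Spec (CommRingCat.of R)))) → ℤ}
    {δ's : ↥((f ≫ b).fiber (closedPoint R)) → ℤ}
    {δη : ↥(b.fiber (genericPoint ↥(Spec (CommRingCat.of R)))) → ℤ} {δs : ↥(b.fiber (closedPoint R)) → ℤ}
    (h1 : Cyc.DeltaCompat ((f ≫ b).fiberToSpecResidueField (genericPoint ↥(Spec (CommRingCat.of R)))) δ'η (fun _ => 0))
    (h2 : Cyc.DeltaCompat ((f ≫ b).fiberToSpecResidueField (closedPoint R)) δ's (fun _ => 0))
    (h3 : Cyc.DeltaCompat (b.fiberToSpecResidueField (genericPoint ↥(Spec (CommRingCat.of R)))) δη (fun _ => 0))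
    (h4 : Cyc.DeltaCompat (b.fiberToSpecResidueField (closedPoint R)) δs (fun _ => 0))
    (r : ℤ) (α : AlgebraicCycle (b.fiber (genericPoint ↥(Spec (CommRingCat.of R)))) ℤ)
    (hα : α ∈ Cyc.Zk _ δη r) :
    Cyc.spFun (f ≫ b) (genericPoint ↥(Spec (CommRingCat.of R))) (closedPoint R) δ'η δ's (r + e)
        (Cyc.pullFun φη δ'η δη e ⇑α) =
      Cyc.pullFun φs δ's δs e (Cyc.spFun b (genericPoint ↥(Spec (CommRingCat.of R))) (closedPoint R) δη δs r ⇑α) := by
  have hδg : δR R (genericPoint ↥(Spec (CommRingCat.of R))) = 1 := if_neg (generic_ne_closed R)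
  have hδc : δR R (closedPoint R) = 0 := if_pos rfl
  have hX : ∀ ζ, δX R b (b.fiberι _ ζ) = 1 + δη ζ := fun ζ => by rw [δX_fiberι R b _ h3, hδg]
  have hXs : ∀ z, δX R b (b.fiberι _ z) = δs z := fun z => by rw [δX_fiberι R b _ h4, hδc, zero_add]
  have hX' : ∀ ζ, δX R (f ≫ b) ((f ≫ b).fiberι _ ζ) = 1 + δ'η ζ := fun ζ => by rw [δX_fiberι R (f ≫ b) _ h1, hδg]
  have hXs' : ∀ z, δX R (f ≫ b) ((f ≫ b).fiberι _ z) = δ's z := fun z => by
    rw [δX_fiberι R (f ≫ b) _ h2, hδc, zero_add]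
  have hd := isDimFun_δX R b
  have hd' := isDimFun_δX R (f ≫ b)
  have hf : Cyc.DeltaCompat f (δX R (f ≫ b)) (δX R b) :=
    Cyc26A.deltaCompat_of_comp f b rfl (deltaCompat_δX R (f ≫ b)) (deltaCompat_δX R b)
  have hc : ∀ z, (∀ w, f w = f z → w ⤳ z → w = z) → δX R (f ≫ b) z = δX R b (f z) + e := fun z hz =>
    Cyc26.shift_of_hasRelDim f he hf z hz
  have hle : ∀ z, δX R (f ≫ b) z ≤ δX R b (f z) + e := fun z => by
    obtain ⟨w, hw1, hw2, hw3⟩ := Cyc26.exists_maximal_fibre hd' f z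
    have hw4 := hc w hw3
    rw [hw2] at hw4
    have := UCat26.delta_le_of_specializes hd' hw1
    omega
  have hqη : ∀ ζ', f ((f ≫ b).fiberι _ ζ') = b.fiberι _ (φη ζ') := fun ζ' => by
    rw [← Scheme.Hom.comp_apply, ← hφη, Scheme.Hom.comp_apply]
  have hqs : ∀ z, f ((f ≫ b).fiberι _ z) = b.fiberι _ (φs z) := fun z => by
    rw [← Scheme.Hom.comp_apply, ← hφs, Scheme.Hom.comp_apply]
  funext x'
  set x := (f ≫ b).fiberι (closedPoint R) x' with hxdef
  have hbx : (f ≫ b) x = closedPoint R := ((f ≫ b).range_fiberι _).le ⟨x', rfl⟩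
  have hby : b (f x) = closedPoint R := hbx
  have hfy : f x = b.fiberι _ (φs x') := hqs x'
  simp only [Cyc.spFun, Cyc.pullFun]
  rw [length_fibre_map b f (closedPoint R) φs hφs x']
  by_cases hx' : δ's x' = r + e
  swap
  · rw [if_neg hx']
    split_ifs with ha hb
    · omega
    all_goals simp
  rw [if_pos hx']
  have hxk : δX R (f ≫ b) x = r + e := (hXs' x').trans hx'
  -- a point of the cycle specialising to the image
  have hdim : ∀ ζ, α ζ ≠ 0 → b.fiberι _ ζ ⤳ b.fiberι _ (φs x') → δs (φs x') ≤ r := fun ζ hζ hsp => by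
    have hr : δη ζ = r := by_contra fun hn => hζ (hα ζ hn)
    have hne : b.fiberι (genericPoint ↥(Spec (CommRingCat.of R))) ζ ≠ b.fiberι _ (φs x') := fun e => by
      have h5 := congrArg b e
      rw [show b (b.fiberι _ ζ) = genericPoint ↥(Spec (CommRingCat.of R)) from (b.range_fiberι _).le ⟨ζ, rfl⟩,
        show b (b.fiberι _ (φs x')) = closedPoint R from (b.range_fiberι _).le ⟨(φs x'), rfl⟩] at h5
      exact generic_ne_closed R h5
    have h6 := (hd _ _ hsp hne).1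
    rw [hX, hXs, hr] at h6
    omega
  have hyle : r ≤ δs (φs x') := by
    have h5 := hle x
    rw [hxk, hfy, hXs] at h5
    omega
  by_cases hy : δs (φs x') = r
  swap
  · rw [if_neg (by omega)]
    refine finsum_eq_zero_of_forall_eq_zero fun ζ' => ?_
    by_contra hne
    have h5 := left_ne_zero_of_mul hne
    split_ifs at h5 with h6
    swap
    · exact h5 rfl
    have h7 := hdim _ (left_ne_zero_of_mul h5) (by rw [← hqη, ← hfy]; exact ζ'.2.2.map f.continuous)
    omega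
  rw [if_pos (by omega), if_pos hy]
  -- finitely many points of the cycle matter
  obtain ⟨U, hU, hyU, -⟩ := exists_isAffineOpen_mem_and_subset (U := (⊤ : X.Opens)) (x := f x) trivial
  have hfin : ((b.fiberι (genericPoint ↥(Spec (CommRingCat.of R))) ⁻¹' (U : Set X)) ∩ Function.support ⇑α).Finite :=
    α.locallyFiniteSupport.finite_inter_support_of_isCompact
      ((b.fiberι (genericPoint ↥(Spec (CommRingCat.of R)))).isCompact_preimage hU.isCompact)
  let A := hfin.toFinset.filter fun ζ => δη ζ = r ∧ b.fiberι _ ζ ⤳ f x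
  have hA : ∀ ζ, δη ζ = r → b.fiberι _ ζ ⤳ f x → α ζ ≠ 0 → ζ ∈ A := fun ζ ha hb hc' => by
    refine Finset.mem_filter.2 ⟨hfin.mem_toFinset.2 ⟨?_, hc'⟩, ha, hb⟩
    exact hb.mem_open U.2 hyU
  have hA' : ∀ ζ ∈ A, δη ζ = r ∧ b.fiberι _ ζ ⤳ f x := fun ζ h => (Finset.mem_filter.1 h).2
  obtain ⟨g, hg, -, -⟩ := exists_uniformizer R b (f x) hby
  have hg' : Ideal.span {f.stalkMap x g} =
      Ideal.map ((f ≫ b).stalkMap x).hom (maximalIdeal ((Spec (CommRingCat.of R)).presheaf.stalk ((f ≫ b) x))) := by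
    rw [← Set.image_singleton, ← Ideal.map_span, hg, Ideal.map_map, Scheme.Hom.stalkMap_comp]
    rfl
  -- the key identity for one point of the cycle
  have hkey : ∀ ζ : {ζ // ζ ∈ A}, _ := fun ζ =>
    Cyc26.length_mul_eq_sum f hd' hd hle (k := r) (η := b.fiberι _ ζ.1) (by rw [hX, (hA' ζ.1 ζ.2).1, add_comm])
      (x := x) (hA' ζ.1 ζ.2).2 (by rw [hfy, hXs, hy]) hxk hc
  choose T hT hTd hTsum using hkey
  have hLR : ∀ (ξ : X) (h : ξ ⤳ f x), b ξ ≠ closedPoint R → δX R b (f x) + 1 = δX R b ξ →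
      Cyc.ordAt (f x) ξ h (Cyc.specMap (f x) ξ h g) = ((Module.length (X.presheaf.stalk (f x))
        (Cyc.LocQuot (f x) ξ h ⧸ (maximalIdeal ((Spec (CommRingCat.of R)).presheaf.stalk (b (f x)))).map
          ((Ideal.Quotient.mk (RingHom.ker (Cyc.specMap (f x) ξ h))).comp (b.stalkMap (f x)).hom))).toNat : ℤ) := by
    intro ξ h hne hdd
    rw [(Cyc26.ordAt_mk hd h hdd (notMem_ker_specMap b h (by rw [hby]; exact hne) g hg)).1]
    congr 2
    rw [Ring.ord, ← Ideal.map_map, ← hg, Ideal.map_span, Set.image_singleton]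
    exact (Module.length_eq_of_surjective Ideal.Quotient.mk_surjective).symm
  have hLR' : ∀ (ξ : X') (h : ξ ⤳ x), (f ≫ b) ξ ≠ closedPoint R → δX R (f ≫ b) x + 1 = δX R (f ≫ b) ξ →
      Cyc.ordAt x ξ h (Cyc.specMap x ξ h (f.stalkMap x g)) = ((Module.length (X'.presheaf.stalk x)
        (Cyc.LocQuot x ξ h ⧸ (maximalIdeal ((Spec (CommRingCat.of R)).presheaf.stalk ((f ≫ b) x))).map
          ((Ideal.Quotient.mk (RingHom.ker (Cyc.specMap x ξ h))).comp ((f ≫ b).stalkMap x).hom))).toNat : ℤ) := by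
    intro ξ h hne hdd
    rw [(Cyc26.ordAt_mk hd' h hdd (notMem_ker_specMap (f ≫ b) h (by rw [hbx]; exact hne) _ hg')).1]
    congr 2
    rw [Ring.ord, ← Ideal.map_map, ← hg', Ideal.map_span, Set.image_singleton]
    exact (Module.length_eq_of_surjective Ideal.Quotient.mk_surjective).symm
  have hgen : ∀ ζ, b (b.fiberι (genericPoint ↥(Spec (CommRingCat.of R))) ζ) ≠ closedPoint R := fun ζ => by
    rw [show b (b.fiberι _ ζ) = genericPoint ↥(Spec (CommRingCat.of R)) from (b.range_fiberι _).le ⟨ζ, rfl⟩]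
    exact generic_ne_closed R
  -- the cycle on the total space
  let a' : X → ℤ := Function.extend (fun ζ => b.fiberι (genericPoint ↥(Spec (CommRingCat.of R))) ζ) ⇑α 0
  have ha' : ∀ ζ, a' (b.fiberι _ ζ) = α ζ := fun ζ =>
    (b.fiberι (genericPoint ↥(Spec (CommRingCat.of R)))).isEmbedding.injective.extend_apply _ _ ζ
  let L : X' → ℤ := fun ξ => ((Module.length (X'.presheaf.stalk ξ) (X'.presheaf.stalk ξ ⧸ Ideal.map (f.stalkMap ξ).hom
    (maximalIdeal (X.presheaf.stalk (f ξ))))).toNat : ℤ)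
  let O : X' → ℤ := fun ξ => if h : ξ ⤳ x then Cyc.ordAt x ξ h (Cyc.specMap x ξ h (f.stalkMap x g)) else 0
  let U' : Finset X' := A.attach.biUnion T
  have hdisj : (↑A.attach : Set {ζ // ζ ∈ A}).PairwiseDisjoint T := fun u _ v _ huv =>
    Finset.disjoint_left.2 fun ξ hu hv => huv (Subtype.ext ((b.fiberι _).isEmbedding.injective
      (((hT u ξ).1 hu).1.symm.trans ((hT v ξ).1 hv).1)))
  have hrhs : (∑ᶠ ζ : {ζ // δη ζ = r ∧ b.fiberι _ ζ ⤳ b.fiberι _ (φs x')},
      α ζ.1 * ((Module.length (X.presheaf.stalk (b.fiberι _ (φs x'))) (Cyc.LocQuot (b.fiberι _ (φs x')) (b.fiberι _ ζ.1) ζ.2.2 ⧸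
        (maximalIdeal ((Spec (CommRingCat.of R)).presheaf.stalk (b (b.fiberι _ (φs x'))))).map
          ((Ideal.Quotient.mk (RingHom.ker (Cyc.specMap (b.fiberι _ (φs x')) (b.fiberι _ ζ.1) ζ.2.2))).comp
            (b.stalkMap (b.fiberι _ (φs x'))).hom))).toNat : ℤ)) * L x =
      ∑ ξ ∈ U', a' (f ξ) * L ξ * O ξ := by
    have key : ∀ (w : X), w = f x → (∑ᶠ ζ : {ζ // δη ζ = r ∧ b.fiberι _ ζ ⤳ w},
        α ζ.1 * ((Module.length (X.presheaf.stalk w) (Cyc.LocQuot w (b.fiberι _ ζ.1) ζ.2.2 ⧸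
          (maximalIdeal ((Spec (CommRingCat.of R)).presheaf.stalk (b w))).map
            ((Ideal.Quotient.mk (RingHom.ker (Cyc.specMap w (b.fiberι _ ζ.1) ζ.2.2))).comp
              (b.stalkMap w).hom))).toNat : ℤ)) * L x = ∑ ξ ∈ U', a' (f ξ) * L ξ * O ξ := by
      rintro w rfl
      let S : Finset {ζ // δη ζ = r ∧ b.fiberι _ ζ ⤳ f x} := A.attach.map
        ⟨fun ζ => ⟨ζ.1, hA' ζ.1 ζ.2⟩, fun u v huv => Subtype.ext (by simpa using huv)⟩
      rw [finsum_eq_sum_of_support_subset (s := S) _ fun ζ hζ => Finset.mem_map.2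
          ⟨⟨ζ.1, hA ζ.1 ζ.2.1 ζ.2.2 (left_ne_zero_of_mul hζ)⟩, Finset.mem_attach _ _, rfl⟩,
        Finset.sum_map, Finset.sum_biUnion hdisj, Finset.sum_mul]
      refine Finset.sum_congr rfl fun ζ _ => ?_
      have hdd : δX R b (f x) + 1 = δX R b (b.fiberι _ ζ.1) := by
        rw [hfy, hXs, hy, hX, (hA' ζ.1 ζ.2).1, add_comm]
      simp only [Function.Embedding.coeFn_mk]
      rw [← hLR _ (hA' ζ.1 ζ.2).2 (hgen ζ.1) hdd, mul_assoc, hTsum ζ g
        (notMem_ker_specMap b (hA' ζ.1 ζ.2).2 (by rw [hby]; exact hgen ζ.1) g hg), Finset.mul_sum]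
      refine Finset.sum_congr rfl fun ξ hξ => ?_
      rw [show a' (f ξ) = α ζ.1 by rw [((hT ζ ξ).1 hξ).1, ha'], mul_assoc]
    exact key _ hfy.symm
  rw [hrhs]
  let P := fun ζ' : ↥((f ≫ b).fiber (genericPoint ↥(Spec (CommRingCat.of R)))) =>
    δ'η ζ' = r + e ∧ (f ≫ b).fiberι _ ζ' ⤳ x
  have hPmem : ∀ ξ ∈ U', ∃ ζ' : {ζ' // P ζ'}, (f ≫ b).fiberι _ ζ'.1 = ξ := fun ξ hξ => by
    obtain ⟨ζ, -, hξ⟩ := Finset.mem_biUnion.1 hξ
    obtain ⟨hf1, hf2, hf3⟩ := (hT ζ ξ).1 hξ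
    obtain ⟨ζ', rfl⟩ := ((f ≫ b).range_fiberι _).ge (show (f ≫ b) ξ = genericPoint ↥(Spec (CommRingCat.of R)) by
      rw [Scheme.Hom.comp_apply, hf1]; exact (b.range_fiberι _).le ⟨ζ.1, rfl⟩)
    have h5 := hTd ζ _ hξ
    rw [hX', hxk] at h5
    exact ⟨⟨ζ', by omega, hf3⟩, rfl⟩
  let S' : Finset {ζ' // P ζ'} := U'.preimage (fun ζ' => (f ≫ b).fiberι _ ζ'.1)
    (fun _ _ _ _ h => Subtype.ext (((f ≫ b).fiberι _).isEmbedding.injective h))
  rw [finsum_eq_sum_of_support_subset (s := S')]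
  swap
  · intro ζ' hζ
    have h5 := left_ne_zero_of_mul hζ
    rw [Finset.mem_coe]
    refine Finset.mem_preimage.2 ?_
    split_ifs at h5 with h6
    swap
    · exact absurd rfl h5
    have hsp : b.fiberι _ (φη ζ'.1) ⤳ f x := by rw [← hqη]; exact ζ'.2.2.map f.continuous
    have h8 : δη (φη ζ'.1) = r := by
      have := ζ'.2.1
      omega
    have hmem := hA _ h8 hsp (left_ne_zero_of_mul h5)
    refine Finset.mem_biUnion.2 ⟨⟨_, hmem⟩, Finset.mem_attach _ _, (hT _ _).2 ⟨hqη _, fun w hw1 hw2 => ?_, ζ'.2.2⟩⟩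
    by_contra hne
    have h9 := (hd' w _ hw2 hne).1
    have h10 := hle w
    rw [hw1, hqη, hX, h8] at h10
    rw [hX', ζ'.2.1] at h9
    omega
  refine Finset.sum_bij (fun ζ' _ => (f ≫ b).fiberι _ ζ'.1) (fun ζ' hζ => by simpa [S'] using hζ)
    (fun u _ v _ h => Subtype.ext (((f ≫ b).fiberι _).isEmbedding.injective h)) (fun ξ hξ => ?_) fun ζ' hζ => ?_
  · obtain ⟨ζ', rfl⟩ := hPmem ξ hξ
    exact ⟨ζ', Finset.mem_preimage.2 hξ, rfl⟩
  obtain ⟨ζ, -, hξ⟩ := Finset.mem_biUnion.1 (show (f ≫ b).fiberι _ ζ'.1 ∈ U' by simpa [S'] using hζ)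
  obtain ⟨hf1, -, -⟩ := (hT ζ _).1 hξ
  have hζe : φη ζ'.1 = ζ.1 := (b.fiberι _).isEmbedding.injective ((hqη _).symm.trans hf1)
  have hcond : δ'η ζ'.1 = δη (φη ζ'.1) + e := by rw [hζe, (hA' ζ.1 ζ.2).1, ζ'.2.1]
  rw [if_pos hcond, length_fibre_map b f _ φη hφη ζ'.1,
    show a' (f ((f ≫ b).fiberι _ ζ'.1)) = α (φη ζ'.1) by rw [hqη, ha']]
  show _ = α (φη ζ'.1) * L ((f ≫ b).fiberι _ ζ'.1) * O ((f ≫ b).fiberι _ ζ'.1)
  congr 1
  simp only [O]
  rw [dif_pos ζ'.2.2, hLR' _ ζ'.2.2 ?_ (hTd ζ _ hξ)]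
  rw [show (f ≫ b) ((f ≫ b).fiberι _ ζ'.1) = genericPoint ↥(Spec (CommRingCat.of R)) from
    ((f ≫ b).range_fiberι _).le ⟨ζ'.1, rfl⟩]
  exact generic_ne_closed R

end Groth.Agent.Cyc26Sp
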