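import Groth.Agent.Lib.Cyc26.SpecialPull
import Groth.Agent.Lib.Cyc26.PushDiv
import Groth.Agent.Lib.Bivar12.Envelope

/-! # Specialisation of cycles commutes with proper push-forward -/

set_option autoImplicit false
set_option linter.style.haveILetI false
universe u

set_option backward.isDefEq.respectTransparency.types false

open CategoryTheory Limits AlgebraicGeometry IsLocalRing
open scoped Classical

namespace Groth.Agent.Cyc26Sp

open Groth.Agent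

variable {R : Type u} [CommRing R] [IsDomain R] [IsDiscreteValuationRing R]

/-- The multiplicity used in specialisation. -/
noncomputable def spLen {X : Scheme.{u}} (a : X ⟶ Spec (CommRingCat.of R)) (x ξ : X) (h : ξ ⤳ x) : ℤ :=
  ((Module.length (X.presheaf.stalk x)
    (Cyc.LocQuot x ξ h ⧸ (maximalIdeal ((Spec (CommRingCat.of R)).presheaf.stalk (a x))).map
      ((Ideal.Quotient.mk (RingHom.ker (Cyc.specMap x ξ h))).comp (a.stalkMap x).hom))).toNat : ℤ)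

theorem ordAt_eq_spLen {X : Scheme.{u}} [IsLocallyNoetherian X] (a : X ⟶ Spec (CommRingCat.of R))
    [LocallyOfFiniteType a] {x ξ : X} (h : ξ ⤳ x) (hne : a ξ ≠ a x) (hd : δX R a x + 1 = δX R a ξ)
    (g : X.presheaf.stalk x)
    (hg : Ideal.span {g} = Ideal.map (a.stalkMap x).hom (maximalIdeal ((Spec (CommRingCat.of R)).presheaf.stalk (a x)))) :
    Cyc.ordAt x ξ h (Cyc.specMap x ξ h g) = spLen a x ξ h := by
  rw [(Cyc26.ordAt_mk (isDimFun_δX R a) h hd (notMem_ker_specMap a h hne g hg)).1, spLen]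
  congr 2
  rw [Ring.ord, ← Ideal.map_map, ← hg, Ideal.map_span, Set.image_singleton]
  exact (Module.length_eq_of_surjective Ideal.Quotient.mk_surjective).symm

variable {X Y : Scheme.{u}} (b : Y ⟶ Spec (CommRingCat.of R)) [LocallyOfFiniteType b] (f : X ⟶ Y)

theorem deltaCompat_total [LocallyOfFiniteType f] : Cyc.DeltaCompat f (δX R (f ≫ b)) (δX R b) :=
  Cyc26A.deltaCompat_of_comp f b rfl (deltaCompat_δX R (f ≫ b)) (deltaCompat_δX R b)

/-- The uniformizer of the base pulls back to the uniformizer. -/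
theorem ordAt_pull [IsLocallyNoetherian X] [LocallyOfFiniteType f] {y : Y} (g : Y.presheaf.stalk y)
    (hg : Ideal.span {g} = Ideal.map (b.stalkMap y).hom (maximalIdeal ((Spec (CommRingCat.of R)).presheaf.stalk (b y))))
    {x ξ : X} (hx : f x = y) (h : ξ ⤳ x) (hy : f ξ ⤳ y) (hne : b (f ξ) ≠ b y)
    (hd : δX R (f ≫ b) x + 1 = δX R (f ≫ b) ξ) :
    Cyc.ordAt x ξ h (f.residueFieldMap ξ (Cyc.specMap y (f ξ) hy g)) = spLen (f ≫ b) x ξ h := by
  subst hx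
  rw [Cyc26.specMap_residueFieldMap f h g]
  refine ordAt_eq_spLen (f ≫ b) h (by simpa using hne) hd _ ?_
  rw [← Set.image_singleton, ← Ideal.map_span, hg, Ideal.map_map, Scheme.Hom.stalkMap_comp]
  rfl

/-- The degree formula for one point of the cycle. -/
theorem spLen_mul_degree [IsProper f] [IsLocallyNoetherian X] [IsLocallyNoetherian Y] {y : Y} {ξ : X}
    (hb : b (f ξ) ≠ b y) (hby : b y = closedPoint R) (hy : f ξ ⤳ y) (heq : δX R b (f ξ) = δX R (f ≫ b) ξ)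
    (hd : δX R b y + 1 = δX R b (f ξ)) :
    ∃ T : Finset X, (∀ x, x ∈ T ↔ f x = y ∧ ξ ⤳ x) ∧
      (∀ x ∈ T, δX R (f ≫ b) x = δX R b y) ∧
      spLen b y (f ξ) hy * (f.residueDegree ξ : ℤ) =
        ∑ x ∈ T, (if h : ξ ⤳ x then spLen (f ≫ b) x ξ h else 0) * (f.residueDegree x : ℤ) := by
  obtain ⟨g, hg, -, -⟩ := exists_uniformizer R b y hby
  obtain ⟨T, hT, hTf⟩ := Cyc26.normFormula_proper f (isDimFun_δX R (f ≫ b)) (isDimFun_δX R b) (deltaCompat_total b f)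
    heq hd hy
  have hk := (Cyc26.finite_closure_inter_fibre (isDimFun_δX R (f ≫ b)) f (deltaCompat_total b f)
    (ξ := ξ) (y := y) (by omega) (fun e => hb (congrArg b e))).2
  have hc0 : Cyc.specMap y (f ξ) hy g ≠ 0 := notMem_ker_specMap b hy hb g hg
  let K := Y.residueField (f ξ)
  letI : Algebra K (X.residueField ξ) := (f.residueFieldMap ξ).hom.toAlgebra
  have hN : Cyc.normGen f ξ (f.residueFieldMap ξ (Cyc.specMap y (f ξ) hy g)) =
      Cyc.specMap y (f ξ) hy g ^ f.residueDegree ξ := by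
    show Algebra.norm K (algebraMap K (X.residueField ξ) (Cyc.specMap y (f ξ) hy g)) = _
    rw [Algebra.norm_algebraMap]
    rfl
  have h1 := hTf (f.residueFieldMap ξ (Cyc.specMap y (f ξ) hy g))
    ((map_ne_zero_iff _ (f.residueFieldMap ξ).hom.injective).2 hc0)
  rw [hN] at h1
  simp only [Cyc.ordAt] at h1
  rw [Cyc26.ordFrac_pow hc0] at h1
  refine ⟨T, hT, fun x hx => hk x ((hT x).1 hx).1 ((hT x).1 hx).2, ?_⟩
  rw [← ordAt_eq_spLen b hy hb hd g hg, Cyc.ordAt, mul_comm, h1]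
  refine Finset.sum_congr rfl fun x hx => ?_
  obtain ⟨hfx, hsp⟩ := (hT x).1 hx
  rw [dif_pos hsp, dif_pos hsp, mul_comm, ← ordAt_pull b f g hg hfx hsp hy hb (by rw [hk x hfx hsp, hd, heq]),
    Cyc.ordAt]

theorem residueDegree_fibre (p : ↥(Spec (CommRingCat.of R))) (φ : (f ≫ b).fiber p ⟶ b.fiber p)
    (hφ : φ ≫ b.fiberι p = (f ≫ b).fiberι p ≫ f) (z : (f ≫ b).fiber p) :
    φ.residueDegree z = f.residueDegree ((f ≫ b).fiberι p z) := by
  haveI : SurjectiveOnStalks ((Spec (CommRingCat.of R)).fromSpecResidueField p) := inferInstance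
  have h := Cyc26.residueDegree_congr hφ z
  rw [Cyc26.residueDegree_comp, Cyc26.residueDegree_comp,
    Bivar12.residueDegree_eq_one_of_surjectiveOnStalks' (b.fiberι p),
    Bivar12.residueDegree_eq_one_of_surjectiveOnStalks' ((f ≫ b).fiberι p)] at h
  simpa using h

set_option maxHeartbeats 1600000 in
/-- Specialisation commutes with proper push-forward. -/
theorem spFun_map [IsProper f] [IsLocallyNoetherian X] [IsLocallyNoetherian Y]
    (φη : (f ≫ b).fiber (genericPoint ↥(Spec (CommRingCat.of R))) ⟶ b.fiber (genericPoint ↥(Spec (CommRingCat.of R))))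
    (φs : (f ≫ b).fiber (closedPoint R) ⟶ b.fiber (closedPoint R)) {_iη : QuasiCompact φη} {_is : QuasiCompact φs}
    (hφη : φη ≫ b.fiberι _ = (f ≫ b).fiberι _ ≫ f) (hφs : φs ≫ b.fiberι _ = (f ≫ b).fiberι _ ≫ f)
    {δXη : ↥((f ≫ b).fiber (genericPoint ↥(Spec (CommRingCat.of R)))) → ℤ}
    {δXs : ↥((f ≫ b).fiber (closedPoint R)) → ℤ}
    {δYη : ↥(b.fiber (genericPoint ↥(Spec (CommRingCat.of R)))) → ℤ} {δYs : ↥(b.fiber (closedPoint R)) → ℤ}
    (h1 : Cyc.DeltaCompat ((f ≫ b).fiberToSpecResidueField (genericPoint ↥(Spec (CommRingCat.of R)))) δXη (fun _ => 0))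
    (h2 : Cyc.DeltaCompat ((f ≫ b).fiberToSpecResidueField (closedPoint R)) δXs (fun _ => 0))
    (h3 : Cyc.DeltaCompat (b.fiberToSpecResidueField (genericPoint ↥(Spec (CommRingCat.of R)))) δYη (fun _ => 0))
    (h4 : Cyc.DeltaCompat (b.fiberToSpecResidueField (closedPoint R)) δYs (fun _ => 0))
    (r : ℤ) (α : AlgebraicCycle ((f ≫ b).fiber (genericPoint ↥(Spec (CommRingCat.of R)))) ℤ)
    (hα : α ∈ Cyc.Zk _ δXη r) (β : AlgebraicCycle ((f ≫ b).fiber (closedPoint R)) ℤ)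
    (hβ : ⇑β = Cyc.spFun (f ≫ b) (genericPoint ↥(Spec (CommRingCat.of R))) (closedPoint R) δXη δXs r ⇑α) :
    Cyc.spFun b (genericPoint ↥(Spec (CommRingCat.of R))) (closedPoint R) δYη δYs r
        ⇑(AlgebraicCycle.map φη δXη δYη α) =
      ⇑(AlgebraicCycle.map φs δXs δYs β) := by
  let η := genericPoint ↥(Spec (CommRingCat.of R))
  let s := closedPoint R
  have hδg : δR R η = 1 := if_neg (generic_ne_closed R)
  have hδc : δR R s = 0 := if_pos rfl
  have hY : ∀ ζ, δX R b (b.fiberι η ζ) = 1 + δYη ζ := fun ζ => by rw [δX_fiberι R b _ h3, hδg]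
  have hYs : ∀ z, δX R b (b.fiberι s z) = δYs z := fun z => by rw [δX_fiberι R b _ h4, hδc, zero_add]
  have hX : ∀ ζ, δX R (f ≫ b) ((f ≫ b).fiberι η ζ) = 1 + δXη ζ := fun ζ => by rw [δX_fiberι R (f ≫ b) _ h1, hδg]
  have hXs : ∀ z, δX R (f ≫ b) ((f ≫ b).fiberι s z) = δXs z := fun z => by
    rw [δX_fiberι R (f ≫ b) _ h2, hδc, zero_add]
  have hfη : ∀ ζ, f ((f ≫ b).fiberι η ζ) = b.fiberι η (φη ζ) := fun ζ => by
    rw [← Scheme.Hom.comp_apply, ← hφη, Scheme.Hom.comp_apply]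
  have hfs : ∀ z, f ((f ≫ b).fiberι s z) = b.fiberι s (φs z) := fun z => by
    rw [← Scheme.Hom.comp_apply, ← hφs, Scheme.Hom.comp_apply]
  funext z
  set y := b.fiberι s z with hydef
  have hby : b y = s := (b.range_fiberι _).le ⟨z, rfl⟩
  simp only [Cyc.spFun]
  by_cases hz : δYs z = r
  swap
  · rw [if_neg hz, Cyc26.map_apply_eq_sum φs δXs δYs β z ∅ (by simp) (fun x hx hne hd => absurd ?_ hne)]
    · rfl
    · rw [hβ]
      simp only [Cyc.spFun]
      rw [if_neg (by rw [hd, hx]; exact hz)]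
  rw [if_pos hz]
  obtain ⟨U, hU, hyU, -⟩ := exists_isAffineOpen_mem_and_subset (U := (⊤ : Y.Opens)) (x := y) trivial
  have hfin : (((f ≫ b).fiberι η ⁻¹' (f ⁻¹' (U : Set Y))) ∩ Function.support ⇑α).Finite :=
    α.locallyFiniteSupport.finite_inter_support_of_isCompact
      (((f ≫ b).fiberι η).isCompact_preimage (f.isCompact_preimage hU.isCompact))
  let A := hfin.toFinset.filter fun ζ => δYη (φη ζ) = r ∧ δXη ζ = r ∧ b.fiberι η (φη ζ) ⤳ y
  have hA : ∀ ζ, δYη (φη ζ) = r → δXη ζ = r → b.fiberι η (φη ζ) ⤳ y → α ζ ≠ 0 → ζ ∈ A := fun ζ ha hb hc hd => by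
    refine Finset.mem_filter.2 ⟨hfin.mem_toFinset.2 ⟨?_, hd⟩, ha, hb, hc⟩
    show f ((f ≫ b).fiberι η ζ) ∈ (U : Set Y)
    rw [hfη]
    exact hc.mem_open U.2 hyU
  have hA' : ∀ ζ ∈ A, δYη (φη ζ) = r ∧ δXη ζ = r ∧ b.fiberι η (φη ζ) ⤳ y := fun ζ h => (Finset.mem_filter.1 h).2
  clear_value A
  have hbη : ∀ ζ, b (b.fiberι η (φη ζ)) ≠ b y := fun ζ => by
    rw [hby, show b (b.fiberι η (φη ζ)) = η from (b.range_fiberι _).le ⟨φη ζ, rfl⟩]
    exact generic_ne_closed R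
  have hkey : ∀ ζ : {ζ // ζ ∈ A}, _ := fun ζ =>
    spLen_mul_degree b f (ξ := (f ≫ b).fiberι η ζ.1) (y := y) (by rw [hfη]; exact hbη ζ.1) hby
      (by rw [hfη]; exact (hA' _ ζ.2).2.2) (by rw [hfη, hY, hX, (hA' _ ζ.2).1, (hA' _ ζ.2).2.1])
      (by rw [hfη, hY, hydef, hYs, hz, (hA' _ ζ.2).1, add_comm])
  choose T hT hTd hTsum using hkey
  -- the generic side
  let B := A.image φη
  let S : Finset {ζ' // δYη ζ' = r ∧ b.fiberι η ζ' ⤳ y} := B.attach.image fun ζ' => ⟨ζ'.1, by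
    obtain ⟨ζ, hζ, e⟩ := Finset.mem_image.1 ζ'.2
    rw [← e]
    exact ⟨(hA' ζ hζ).1, (hA' ζ hζ).2.2⟩⟩
  have hmap : ∀ ζ' : {ζ' // δYη ζ' = r ∧ b.fiberι η ζ' ⤳ y}, AlgebraicCycle.map φη δXη δYη α ζ'.1 =
      ∑ ζ ∈ A.filter (fun ζ => φη ζ = ζ'.1), α ζ * (φη.residueDegree ζ : ℤ) := fun ζ' => by
    rw [Cyc26.map_apply_eq_sum φη δXη δYη α ζ'.1 (A.filter fun ζ => φη ζ = ζ'.1)
      (fun x hx => (Finset.mem_filter.1 hx).2) (fun x hx hne hd => Finset.mem_filter.2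
        ⟨hA x (hx ▸ ζ'.2.1) (by rw [hd, hx, ζ'.2.1]) (hx ▸ ζ'.2.2) hne, hx⟩)]
    refine Finset.sum_congr rfl fun x hx => ?_
    obtain ⟨hxA, -⟩ := Finset.mem_filter.1 hx
    rw [AlgebraicCycle.mapCoeff, if_pos ((hA' x hxA).2.1.trans (hA' x hxA).1.symm)]
  let M : X → ↥((f ≫ b).fiber η) → ℤ := fun x ζ =>
    if h : (f ≫ b).fiberι η ζ ⤳ x then spLen (f ≫ b) x ((f ≫ b).fiberι η ζ) h else 0
  have hgen : (∑ᶠ ζ' : {ζ' // δYη ζ' = r ∧ b.fiberι η ζ' ⤳ y},
      AlgebraicCycle.map φη δXη δYη α ζ'.1 * spLen b y (b.fiberι η ζ'.1) ζ'.2.2) =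
      ∑ ζ ∈ A.attach, α ζ.1 * ∑ x ∈ T ζ, M x ζ.1 * (f.residueDegree x : ℤ) := by
    rw [finsum_eq_sum_of_support_subset (s := S) _ fun ζ' hζ => ?_]
    swap
    · have h5 := left_ne_zero_of_mul hζ
      rw [hmap] at h5
      obtain ⟨ζ, hζA, -⟩ := Finset.exists_ne_zero_of_sum_ne_zero h5
      obtain ⟨hζA, e⟩ := Finset.mem_filter.1 hζA
      exact Finset.mem_image.2 ⟨⟨ζ'.1, Finset.mem_image.2 ⟨ζ, hζA, e⟩⟩, Finset.mem_attach _ _, rfl⟩
    have e1 : ∀ ζ' ∈ S, AlgebraicCycle.map φη δXη δYη α ζ'.1 * spLen b y (b.fiberι η ζ'.1) ζ'.2.2 =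
        ∑ ζ ∈ A.attach.filter (fun ζ => φη ζ.1 = ζ'.1), α ζ.1 * ∑ x ∈ T ζ, M x ζ.1 * (f.residueDegree x : ℤ) := by
      intro ζ' _
      rw [hmap, Finset.sum_mul, Finset.sum_filter, Finset.sum_filter, ← Finset.sum_attach A]
      refine Finset.sum_congr rfl fun ζ _ => ?_
      by_cases he : φη ζ.1 = ζ'.1
      · rw [if_pos he, if_pos he, mul_assoc, ← hTsum ζ, residueDegree_fibre b f η φη hφη]
        have hp : ∀ (w : Y) (hw : w ⤳ y), w = f ((f ≫ b).fiberι η ζ.1) → spLen b y w hw =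
            spLen b y (f ((f ≫ b).fiberι η ζ.1)) (by rw [hfη]; exact (hA' _ ζ.2).2.2) := by
          rintro _ hw rfl; rfl
        rw [hp _ ζ'.2.2 (by rw [hfη, he]), mul_comm (spLen b y _ _)]
      · rw [if_neg he, if_neg he]
    rw [Finset.sum_congr rfl e1]
    let G : {ζ // ζ ∈ A} → {ζ' // δYη ζ' = r ∧ b.fiberι η ζ' ⤳ y} :=
      fun ζ => ⟨φη ζ.1, (hA' _ ζ.2).1, (hA' _ ζ.2).2.2⟩
    have hG : ∀ ζ ∈ A.attach, G ζ ∈ S := fun ζ _ =>
      Finset.mem_image.2 ⟨⟨φη ζ.1, Finset.mem_image_of_mem _ ζ.2⟩, Finset.mem_attach _ _, rfl⟩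
    refine Eq.trans (Finset.sum_congr rfl fun ζ' _ => ?_) (Finset.sum_fiberwise_of_maps_to hG _)
    refine Finset.sum_congr (Finset.filter_congr fun ζ _ => ?_) fun _ _ => rfl
    exact ⟨fun h => Subtype.ext h, fun h => congrArg Subtype.val h⟩
  refine hgen.trans ?_
  -- the special side
  let V : Finset X := A.attach.biUnion T
  let Ts : Finset ↥((f ≫ b).fiber s) := V.preimage (fun x' => (f ≫ b).fiberι s x')
    ((f ≫ b).fiberι s).isEmbedding.injective.injOn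
  have hV : ∀ x ∈ V, f x = y ∧ δX R (f ≫ b) x = r := fun x hx => by
    obtain ⟨ζ, -, hxT⟩ := Finset.mem_biUnion.1 hx
    exact ⟨((hT ζ x).1 hxT).1, by rw [hTd ζ x hxT, hydef, hYs, hz]⟩
  have hTs : ∀ x' ∈ Ts, φs x' = z ∧ δXs x' = r := fun x' hx' => by
    obtain ⟨e1, e2⟩ := hV _ (Finset.mem_preimage.1 hx')
    refine ⟨(b.fiberι s).isEmbedding.injective ((hfs x').symm.trans e1), ?_⟩
    rw [← hXs, e2]
  have hβval : ∀ x', φs x' = z → δXs x' = r → β x' = ∑ ζ ∈ A.attach, α ζ.1 * M ((f ≫ b).fiberι s x') ζ.1 := by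
    intro x' hx' hd'
    rw [hβ]
    simp only [Cyc.spFun]
    rw [if_pos hd']
    let Q := fun ζ : ↥((f ≫ b).fiber η) => δXη ζ = r ∧ (f ≫ b).fiberι η ζ ⤳ (f ≫ b).fiberι s x'
    have hQ : ∀ ζ, Q ζ → α ζ ≠ 0 → ζ ∈ A := fun ζ hq hne => by
      have hsp : b.fiberι η (φη ζ) ⤳ y := by
        have h6 := hq.2.map f.continuous
        rwa [hfη, hfs, hx'] at h6
      have h7 : δYη (φη ζ) ≤ r := by
        have h6 := Cyc26.delta_image_le f (deltaCompat_total b f) ((f ≫ b).fiberι η ζ)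
        rw [hfη, hY, hX, hq.1] at h6
        omega
      have h8 := (isDimFun_δX R b _ _ hsp fun e => hbη ζ (congrArg b e)).1
      rw [hY, hydef, hYs, hz] at h8
      exact hA ζ (by omega) hq.1 hsp hne
    rw [finsum_eq_sum_of_support_subset (s := (A.filter Q).subtype Q) _ fun ζ hζ => Finset.mem_subtype.2
      (Finset.mem_filter.2 ⟨hQ ζ.1 ζ.2 (left_ne_zero_of_mul hζ), ζ.2⟩)]
    rw [Finset.sum_attach A (fun ζ => α ζ * M ((f ≫ b).fiberι s x') ζ)]
    refine Finset.sum_bij_ne_zero (fun ζ _ _ => ζ.1)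
      (fun ζ hζ _ => (Finset.mem_filter.1 (Finset.mem_subtype.1 hζ)).1)
      (fun u _ _ v _ _ e => Subtype.ext e) (fun ζ hζ hne => ?_) fun ζ _ _ => ?_
    · have hsp : (f ≫ b).fiberι η ζ ⤳ (f ≫ b).fiberι s x' := by
        by_contra hn
        exact hne (by simp only [M, dif_neg hn, mul_zero])
      refine ⟨⟨ζ, (hA' ζ hζ).2.1, hsp⟩, Finset.mem_subtype.2 (Finset.mem_filter.2 ⟨hζ, (hA' ζ hζ).2.1, hsp⟩), ?_, rfl⟩
      simp only [M, dif_pos hsp] at hne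
      exact hne
    · simp only [M, dif_pos ζ.2.2]
      rfl
  rw [Cyc26.map_apply_eq_sum φs δXs δYs β z Ts (fun x hx => (hTs x hx).1) (fun x hx hne hd => ?_)]
  swap
  · have hr : δXs x = r := by rw [hd, hx, hz]
    rw [hβval x hx hr] at hne
    obtain ⟨ζ, hζ, hne'⟩ := Finset.exists_ne_zero_of_sum_ne_zero hne
    have hsp : (f ≫ b).fiberι η ζ.1 ⤳ (f ≫ b).fiberι s x := by
      by_contra hn
      exact hne' (by simp only [M, dif_neg hn, mul_zero])
    exact Finset.mem_preimage.2 (Finset.mem_biUnion.2 ⟨ζ, hζ, (hT ζ _).2 ⟨by rw [hfs, hx], hsp⟩⟩)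
  have e2 : ∀ x' ∈ Ts, β x' * (AlgebraicCycle.mapCoeff φs δXs δYs x' : ℤ) =
      ∑ ζ ∈ A.attach, α ζ.1 * (M ((f ≫ b).fiberι s x') ζ.1 * (f.residueDegree ((f ≫ b).fiberι s x') : ℤ)) := by
    intro x' hx'
    obtain ⟨hx, hd⟩ := hTs x' hx'
    rw [hβval x' hx hd, AlgebraicCycle.mapCoeff, if_pos (by rw [hd, hx, hz]), residueDegree_fibre b f s φs hφs,
      Finset.sum_mul]
    exact Finset.sum_congr rfl fun ζ _ => mul_assoc _ _ _
  rw [Finset.sum_congr rfl e2, Finset.sum_comm]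
  refine Finset.sum_congr rfl fun ζ _ => ?_
  rw [← Finset.mul_sum]
  congr 1
  rw [Finset.sum_preimage (fun x' => (f ≫ b).fiberι s x') V _ (fun x => M x ζ.1 * (f.residueDegree x : ℤ))
    (fun x hx hn => absurd (((f ≫ b).range_fiberι s).ge (show (f ≫ b) x = s by
      rw [Scheme.Hom.comp_apply, (hV x hx).1, hby])) hn)]
  refine Finset.sum_subset (Finset.subset_biUnion_of_mem T (Finset.mem_attach _ ζ)) fun x hx hn => ?_
  have : ¬ (f ≫ b).fiberι η ζ.1 ⤳ x := fun h => hn ((hT ζ x).2 ⟨(hV x hx).1, h⟩)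
  simp only [M, dif_neg this, zero_mul]

end Groth.Agent.Cyc26Sp
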