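import Groth.Prelude.Def_Cyc
import Groth.Agent.Lib.FibGenSch4
import Groth.Agent.Lib.FibDim14.BaseChange
import Groth.Agent.Lib.EffCartier.Dense
import Groth.Agent.Lib.BlowUp26.Basic
import Groth.Agent.S9739

/-! # Universal equidimensionality of flat families with equidimensional maximal fibres -/

set_option autoImplicit false
set_option backward.isDefEq.respectTransparency.types false
universe u
open CategoryTheory CategoryTheory.Limits AlgebraicGeometry Groth.Agent.FibDim14 TopologicalSpace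

noncomputable section

namespace Groth.Agent.Cyc26.UnivEquidim

/-- a maximal point -/
def IsMaxPt {B : Scheme.{u}} (b : B) : Prop := ∀ y, y ⤳ b → y = b

theorem exists_isMaxPt {B : Scheme.{u}} (b : B) : ∃ η, η ⤳ b ∧ IsMaxPt η := by
  obtain ⟨η, hη, hmax⟩ := VarDim.exists_generic_of_mem_irreducibleComponents (irreducibleComponent_mem_irreducibleComponents b)
  exact ⟨η, specializes_iff_mem_closure.2 (hη ▸ mem_irreducibleComponent), hmax⟩

theorem fibreDimAt_eq_of_maximal {W B : Scheme.{u}} (h : W ⟶ B) [Flat h] [LocallyOfFinitePresentation h] (r : ℕ)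
    (hη : ∀ w, IsMaxPt (h w) → FlatMor.fibreDimAt h w = r) (w : W) : FlatMor.fibreDimAt h w = r := by
  obtain ⟨x, -, -, hmax, hd⟩ := FibGen4.exists_isMaxFib h w
  rw [← hd]
  obtain ⟨η, hηx, hηmax⟩ := exists_isMaxPt (h x)
  obtain ⟨x', hx', rfl⟩ := Flat.generalizingMap h hηx
  rw [← hη x' hηmax]
  refine (Groth.Agent.S9739.result h x x' hx' ⟨closure {h.asFiber x}, ?_, rfl⟩).symm
  refine (VarDim.maximal_iff_mem_irreducibleComponents (X := h.fiber (h x)) (h.asFiber x)).1 ?_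
  refine (isMaxFib_fiberι h (h x) (h.asFiber x)).1 ?_
  rw [h.fiberι_asFiber]
  exact hmax

theorem univ_conclusion {W B B' : Scheme.{u}} (h : W ⟶ B) [Flat h] [LocallyOfFinitePresentation h] (r : ℕ)
    (hη : ∀ w, IsMaxPt (h w) → FlatMor.fibreDimAt h w = r) (g : B' ⟶ B) :
    (∀ w : ↥(pullback h g), FlatMor.fibreDimAt (pullback.snd h g) w = r) ∧
      ∀ C ∈ irreducibleComponents ↥(pullback h g),
        closure ((pullback.snd h g).base '' C) ∈ irreducibleComponents ↥B' := by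
  refine ⟨fun w => ?_, fun C hC => ?_⟩
  · rw [fibreDimAt_baseChange (IsPullback.of_hasPullback h g) w]
    exact fibreDimAt_eq_of_maximal h r hη _
  · obtain ⟨ξ, rfl, hmax⟩ := VarDim.exists_generic_of_mem_irreducibleComponents hC
    rw [closure_image_closure (pullback.snd h g).continuous, Set.image_singleton]
    refine (VarDim.maximal_iff_mem_irreducibleComponents (X := B') _).1 fun y hy => ?_
    obtain ⟨ξ', hξ', rfl⟩ := Flat.generalizingMap (pullback.snd h g) hy
    rw [hmax ξ' hξ']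

variable {X S Z : Scheme.{u}} (p : X ⟶ S) [LocallyOfFiniteType p] {z : X} {r : ℕ}

/-- the closure of a point lying over a maximal point has equidimensional maximal fibres -/
theorem fibreDimAt_closure (ι : Z ⟶ X) [IsClosedImmersion ι] (hZ : Set.range ι.base = closure {z})
    (hr : topologicalKrullDim ↥(closure ({p.asFiber z} : Set ↥(p.fiber (p.base z)))) = r)
    (a : Z) (ha : IsMaxPt ((ι ≫ p) a)) : FlatMor.fibreDimAt (ι ≫ p) a = r := by
  obtain ⟨z', hz'⟩ : z ∈ Set.range ι := hZ.symm ▸ subset_closure rfl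
  have hspec : ∀ b : Z, z' ⤳ b := fun b => ι.isEmbedding.isInducing.specializes_iff.1
    (hz'.symm ▸ specializes_iff_mem_closure.2 (hZ ▸ Set.mem_range_self b))
  have hy : (ι ≫ p) z' = (ι ≫ p) a := ha _ ((hspec a).map (ι ≫ p).continuous)
  obtain ⟨x', -, hx'2, hx'3, hx'4⟩ := FibGen4.exists_isMaxFib (ι ≫ p) a
  obtain rfl : z' = x' := hx'3 z' (hspec x') (hy.trans hx'2.symm)
  rw [← hx'4, FibGen4.fibreDimAt_eq_rd_of_isMaxFib (ι ≫ p) hx'3, rd_comp, rd_of_surjectiveOnStalks ι, hz', add_zero,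
    ← hr, VarDim.dim_closure_singleton (toPt p (p z)), ← rd_fiberι, p.fiberι_asFiber]

theorem fibreDimAt_comp_of_surjOn {W A B : Scheme.{u}} (i : W ⟶ A) [IsClosedImmersion i] (s : A ⟶ B) (w : W)
    (hsurj : ∀ a, s a = s (i w) → a ∈ Set.range i) :
    FlatMor.fibreDimAt (i ≫ s) w = FlatMor.fibreDimAt s (i w) := by
  rw [fibreDimAt_eq_localDim_preimage, fibreDimAt_eq_localDim_preimage]
  refine localDim_of_range (e := fun a : ((i ≫ s) ⁻¹' {(i ≫ s) w} : Set W) => i a.1)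
    (i.isEmbedding.comp Topology.IsEmbedding.subtypeVal) ?_ _ rfl _
  ext a
  constructor
  · rintro ⟨⟨w', hw'⟩, rfl⟩
    exact hw'
  · intro ha
    obtain ⟨w', rfl⟩ := hsurj a ha
    exact ⟨⟨w', ha⟩, rfl⟩

/-- a scheme dominated by a scheme over the fraction field of a principal ideal domain is flat over it -/
theorem flat_of_dominant {R : Type u} [CommRing R] [IsDomain R] [IsPrincipalIdealRing R] {W P : Scheme.{u}}
    (q : W ⟶ Spec (CommRingCat.of R)) (j : P ⟶ W) [IsSchemeTheoreticallyDominant j] [QuasiCompact j]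
    (k : P ⟶ Spec (CommRingCat.of (FractionRing R)))
    (hk : j ≫ q = k ≫ Spec.map (CommRingCat.ofHom (algebraMap R (FractionRing R)))) : Flat q := by
  suffices key : ∀ (A : CommRingCat.{u}) (v : Spec A ⟶ W) [IsOpenImmersion v], Flat (v ≫ q) from
    IsZariskiLocalAtSource.of_openCover W.affineCover fun i => @key _ (W.affineCover.f i) (W.affineCover.map_prop i)
  intro A v _
  obtain ⟨φ, hφ⟩ := Spec.map_surjective (v ≫ q)
  rw [← hφ, HasRingHomProperty.Spec_iff (P := @Flat)]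
  let j' := pullback.snd j v
  haveI : QuasiCompact j' := MorphismProperty.pullback_snd _ _ inferInstance
  haveI : IsSchemeTheoreticallyDominant j' :=
    IsSchemeTheoreticallyDominant.of_isPullback (IsPullback.of_hasPullback j v)
  let ψ : A ⟶ Γ(pullback j v, ⊤) := (Scheme.ΓSpecIso A).inv ≫ j'.appTop
  let β : CommRingCat.of (FractionRing R) ⟶ Γ(pullback j v, ⊤) :=
    (Scheme.ΓSpecIso _).inv ≫ (pullback.fst j v ≫ k).appTop
  have hψ : Function.Injective ψ.hom :=
    (j'.app_injective ⊤).comp (Scheme.ΓSpecIso A).symm.commRingCatIsoToRingEquiv.injective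
  have hfac : CommRingCat.ofHom (algebraMap R (FractionRing R)) ≫ β = φ ≫ ψ := by
    have e : (pullback.fst j v ≫ k) ≫ Spec.map (CommRingCat.ofHom (algebraMap R (FractionRing R))) = j' ≫ Spec.map φ := by
      rw [hφ, Category.assoc, ← hk, pullback.condition_assoc]
    have e' := congrArg (fun m => (Scheme.ΓSpecIso (CommRingCat.of R)).inv ≫ Scheme.Hom.appTop m) e
    simpa only [β, ψ, Scheme.Hom.comp_appTop, ← Category.assoc, Scheme.ΓSpecIso_inv_naturality] using e'
  letI := φ.hom.toAlgebra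
  show Module.Flat R A
  rw [Module.Flat.flat_iff_torsion_eq_bot_of_isBezout, eq_bot_iff]
  rintro t ⟨⟨a, ha⟩, hat⟩
  refine hψ (?_ : ψ.hom t = ψ.hom 0)
  rw [map_zero]
  have hunit : IsUnit ((CommRingCat.ofHom (algebraMap R (FractionRing R)) ≫ β).hom a) :=
    (IsLocalization.map_units (FractionRing R) (⟨a, ha⟩ : nonZeroDivisors R)).map β.hom
  rw [hfac] at hunit
  refine (IsUnit.mul_right_eq_zero hunit).1 ?_
  show ψ.hom (φ.hom a) * ψ.hom t = 0
  rw [← map_mul, show φ.hom a * t = 0 from hat, map_zero]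

theorem not_mem_support_of_killed {P : Scheme.{u}} (E 𝒥 : P.IdealSheafData) {a : P} (ha : a ∉ E.support)
    (h : ∀ (V : P.affineOpens) (g : Γ(P, V.1)), g ∈ 𝒥.ideal V →
      BlowUp.KilledByPowerNear E (Coh.structureModule P) V g) : a ∈ 𝒥.support := by
  obtain ⟨V, hV, haV, -⟩ := exists_isAffineOpen_mem_and_subset (U := ⊤) (x := a) (Set.mem_univ a)
  rw [Scheme.IdealSheafData.mem_support_iff_of_mem (U := ⟨V, hV⟩) haV, Scheme.mem_zeroLocus_iff] at ha ⊢
  push Not at ha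
  obtain ⟨e, he, hae⟩ := ha
  intro g hg hag
  obtain ⟨n, hn⟩ := h ⟨V, hV⟩ g hg
  have h0 : e ^ n * g = 0 := hn (e ^ n) (by rw [Scheme.IdealSheafData.ideal_pow]; exact Ideal.pow_mem_pow he n)
  have hmem : a ∈ P.basicOpen (e ^ n * g) := by
    rw [Scheme.basicOpen_mul]
    refine ⟨?_, hag⟩
    rcases Nat.eq_zero_or_pos n with rfl | hn0
    · rw [pow_zero, Scheme.basicOpen_of_isUnit _ isUnit_one]; exact haV
    · rwa [Scheme.basicOpen_pow _ _ hn0]
  rw [h0, Scheme.basicOpen_zero] at hmem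
  exact hmem

theorem isMaxPt_blowUp {S' : Scheme.{u}} {b : S' ⟶ S} {𝓘 : S.IdealSheafData} (hb : BlowUp.IsBlowUp b 𝓘) {s : S'}
    (hs : IsMaxPt s) : s ∈ EffCartier.cmpl (𝓘.comap b) ∧ IsMaxPt (b s) := by
  obtain ⟨y, hy, hys⟩ := EffCartier.exists_specializes_cmpl hb.1 s
  have hmem : s ∈ EffCartier.cmpl (𝓘.comap b) := hs y hys ▸ hy
  refine ⟨hmem, fun y' hy' => ?_⟩
  haveI := EffCartier.isIso_blowUp_restrict hb
  have hmem' : s ∈ b ⁻¹ᵁ EffCartier.cmpl 𝓘 := by rw [BlowUp26.preimage_cmpl_eq]; exact hmem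
  have hy'U : y' ∈ EffCartier.cmpl 𝓘 := hy'.mem_open (EffCartier.cmpl 𝓘).2 hmem'
  let e := (b ∣_ EffCartier.cmpl 𝓘) ≫ (EffCartier.cmpl 𝓘).ι
  obtain ⟨w, hw⟩ := (b ∣_ EffCartier.cmpl 𝓘).homeomorph.surjective ⟨y', hy'U⟩
  have hew : e w = y' := congrArg Subtype.val hw
  have hes : e (⟨s, hmem'⟩ : (b ⁻¹ᵁ EffCartier.cmpl 𝓘).toScheme) = b s := by
    show ((b ∣_ EffCartier.cmpl 𝓘) ≫ (EffCartier.cmpl 𝓘).ι) _ = _
    rw [morphismRestrict_ι]
    rfl
  have hsp : w ⤳ (⟨s, hmem'⟩ : (b ⁻¹ᵁ EffCartier.cmpl 𝓘).toScheme) :=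
    e.isOpenEmbedding.isInducing.specializes_iff.1 (by rw [hew, hes]; exact hy')
  have hws : w = ⟨s, hmem'⟩ := Subtype.ext (hs _ (hsp.map (b ⁻¹ᵁ EffCartier.cmpl 𝓘).ι.continuous))
  rw [← hew, hws, hes]

end Groth.Agent.Cyc26.UnivEquidim
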