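import Mathlib.RingTheory.Length
import Mathlib.RingTheory.OrderOfVanishing.Basic

/-! # The index of two comparisons of the same module with a cyclic module -/

set_option autoImplicit false
universe u v

namespace Groth.Agent.Cyc26

variable {A : Type u} [CommRing A] {R : Type v} [CommRing R] [Algebra A R] {W : Type*} [AddCommGroup W] [Module A W]

theorem length_quot_range_smul (φ : W →ₗ[A] R) (a : R) (ha : Function.Injective fun r : R => a * r) :
    Module.length A (R ⧸ LinearMap.range ((LinearMap.mulLeft A a).comp φ)) =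
      Module.length A (R ⧸ LinearMap.range φ) + Module.length A (R ⧸ LinearMap.range (LinearMap.mulLeft A a)) := by
  let N := LinearMap.range φ
  let M := LinearMap.range ((LinearMap.mulLeft A a).comp φ)
  let P := LinearMap.range (LinearMap.mulLeft A a)
  let f : (R ⧸ N) →ₗ[A] R ⧸ M := N.liftQ (M.mkQ.comp (LinearMap.mulLeft A a)) fun x hx => by
    obtain ⟨w, rfl⟩ := hx
    exact (Submodule.Quotient.mk_eq_zero M).2 ⟨w, rfl⟩
  let g : (R ⧸ M) →ₗ[A] R ⧸ P := M.liftQ P.mkQ fun x hx => by
    obtain ⟨w, rfl⟩ := hx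
    exact (Submodule.Quotient.mk_eq_zero P).2 ⟨φ w, rfl⟩
  refine Module.length_eq_add_of_exact f g ?_ ?_ ?_
  · rw [← LinearMap.ker_eq_bot, Submodule.eq_bot_iff]
    rintro x hx
    obtain ⟨r, rfl⟩ := Submodule.mkQ_surjective N x
    obtain ⟨w, hw⟩ := (Submodule.Quotient.mk_eq_zero M).1 hx
    exact (Submodule.Quotient.mk_eq_zero N).2 ⟨w, ha hw⟩
  · intro x
    obtain ⟨r, rfl⟩ := Submodule.mkQ_surjective P x
    exact ⟨M.mkQ r, rfl⟩
  · intro x
    constructor
    · intro hx
      obtain ⟨r, rfl⟩ := Submodule.mkQ_surjective M x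
      obtain ⟨s, hs⟩ := (Submodule.Quotient.mk_eq_zero P).1 hx
      exact ⟨N.mkQ s, congrArg M.mkQ hs⟩
    · rintro ⟨y, rfl⟩
      obtain ⟨s, rfl⟩ := Submodule.mkQ_surjective N y
      exact (Submodule.Quotient.mk_eq_zero P).2 ⟨s, rfl⟩

/-- If `a • φ = b • ψ` then `φ`, `ψ` have the same kernel and `len coker ψ - len coker φ = ord a - ord b`. -/
theorem length_coker_sub (hA : Function.Surjective (algebraMap A R)) [IsDomain R] (φ ψ : W →ₗ[A] R) {a b : R}
    (ha : a ≠ 0) (hb : b ≠ 0) (w₀ : W) (hφ : φ w₀ = b) (hψ : ψ w₀ = a) (hab : ∀ w, a * φ w = b * ψ w)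
    (hfa : Ring.ord R a < ⊤) (hfb : Ring.ord R b < ⊤) :
    LinearMap.ker φ = LinearMap.ker ψ ∧
      ((Module.length A (R ⧸ LinearMap.range ψ)).toNat : ℤ) - ((Module.length A (R ⧸ LinearMap.range φ)).toNat : ℤ) =
        ((Ring.ord R a).toNat : ℤ) - ((Ring.ord R b).toNat : ℤ) := by
  refine ⟨?_, ?_⟩
  · ext w
    have h := hab w
    simp only [LinearMap.mem_ker]
    constructor <;> intro h0 <;> rw [h0, mul_zero] at h
    · exact (mul_eq_zero.1 h.symm).resolve_left hb
    · exact (mul_eq_zero.1 h).resolve_left ha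
  have hord : ∀ c : R, Module.length A (R ⧸ LinearMap.range (LinearMap.mulLeft A c)) = Ring.ord R c := fun c => by
    have e0 : LinearMap.range (LinearMap.mulLeft A c) = (Ideal.span {c} : Submodule R R).restrictScalars A := by
      ext x
      simp [Ideal.mem_span_singleton', mul_comm, eq_comm]
    rw [Ring.ord, ← Module.length_eq_of_surjective (M := R ⧸ (Ideal.span {c} : Submodule R R)) hA]
    exact ((Submodule.quotEquivOfEq _ _ e0).trans
      (Submodule.Quotient.restrictScalarsEquiv A (Ideal.span {c} : Submodule R R))).length_eq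
  have e : (LinearMap.mulLeft A a).comp φ = (LinearMap.mulLeft A b).comp ψ := LinearMap.ext hab
  have h1 := length_quot_range_smul φ a (mul_right_injective₀ ha)
  have h2 := length_quot_range_smul ψ b (mul_right_injective₀ hb)
  rw [e, h2, hord, hord] at h1
  have hfφ : Module.length A (R ⧸ LinearMap.range φ) ≠ ⊤ := ne_top_of_le_ne_top hfb.ne (by
    rw [← hord b]
    refine Module.length_le_of_surjective (Submodule.factor ?_) (Submodule.factor_surjective ?_)
    all_goals
      rintro _ ⟨r, rfl⟩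
      obtain ⟨t, rfl⟩ := hA r
      refine ⟨t • w₀, ?_⟩
      rw [map_smul, hφ, Algebra.smul_def, LinearMap.mulLeft_apply, mul_comm])
  have hfψ : Module.length A (R ⧸ LinearMap.range ψ) ≠ ⊤ := ne_top_of_le_ne_top hfa.ne (by
    rw [← hord a]
    refine Module.length_le_of_surjective (Submodule.factor ?_) (Submodule.factor_surjective ?_)
    all_goals
      rintro _ ⟨r, rfl⟩
      obtain ⟨t, rfl⟩ := hA r
      refine ⟨t • w₀, ?_⟩
      rw [map_smul, hψ, Algebra.smul_def, LinearMap.mulLeft_apply, mul_comm])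
  have h3 := congrArg ENat.toNat h1
  rw [ENat.toNat_add hfψ hfb.ne, ENat.toNat_add hfφ hfa.ne] at h3
  omega

end Groth.Agent.Cyc26
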